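import Cfsg.Agent.Lib.Blocks.Orth
import Cfsg.Agent.Lib.CharNormal.Clifford
import Cfsg.Agent.Lib.CharNormal.Kernel
import Cfsg.Agent.Lib.CharBlocks.Degree

/-!
# Blocks of subgroups and covering of blocks

* `resCA`, `resZ`, `rclass`: restriction of central elements to a subgroup; the central character
  of `ξ` at `rclass M H g` is `inducedCentralChar H ξ g`;
* `centralChar_eq_icc_of_over`, `over_iff_icc_eq`: Clifford theory through central characters;
* `exists_conj_sameBlock_of_congr`: Passman's criterion;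
* `blockOf_eq_singleton`, `sameBlock_iff_eq`: blocks of defect zero;
* `over_iff_of_sameBlock`, `trivialOn_of_sameBlock`: a block has one orbit of constituents on a
  normal `p'`-subgroup;
* `sameBlock_of_congr_on_normal`: normal subgroups with `p`-group quotient.
-/

set_option autoImplicit false

noncomputable section

namespace CfsgLib.Blocks

open Cfsg CfsgLib.CharNormal
open scoped ComplexConjugate

section comp

variable {G H : Type*} [Group G] [Group H]

theorem centralChar_comp_mulEquiv (e : H ≃* G) (χ : G → ℂ) (h : H) :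
    centralChar (χ ∘ e) h = centralChar χ (e h) := by
  have hidx : (Subgroup.centralizer ({h} : Set H)).index =
      (Subgroup.centralizer ({e h} : Set G)).index := by
    rw [← Subgroup.index_comap_of_surjective _ (f := e.toMonoidHom) e.surjective]
    congr 1
    ext x
    simp only [Subgroup.mem_comap, Subgroup.mem_centralizer_singleton_iff, MulEquiv.coe_toMonoidHom]
    rw [← map_mul, ← map_mul, e.injective.eq_iff]
  rw [centralChar, centralChar, hidx]
  simp

theorem sameBlock_comp_mulEquiv (M : Ideal AlgInt) (e : H ≃* G) {χ ψ : G → ℂ}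
    (h : SameBlock M χ ψ) : SameBlock M (χ ∘ e) (ψ ∘ e) := fun x => by
  rw [centralChar_comp_mulEquiv, centralChar_comp_mulEquiv]
  exact h (e x)

end comp

section restrict

variable {G : Type*} [Group G] [Fintype G] (H : Subgroup G) [Fintype H]

/-- Restriction of coefficients to a subgroup. -/
def resCA : CA G →ₗ[ℂ] CA H where
  toFun a := ofFun fun h => a.coeff (h : G)
  map_add' a b := by
    apply MonoidAlgebra.coeff_injective
    ext h
    simp
  map_smul' c a := by
    apply MonoidAlgebra.coeff_injective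
    ext h
    simp

omit [Fintype G] in
@[simp] theorem coeff_resCA (a : CA G) (h : H) : (resCA H a).coeff h = a.coeff (h : G) := rfl

theorem omega_resCA_classSum (ξ : H → ℂ) (g : G) :
    omega ξ (resCA H (classSum g)) = inducedCentralChar H ξ g := by
  classical
  rw [omega, charLin_apply, inducedCentralChar, finsum_mem_eq_finite_toFinset_sum _ (Set.toFinite _),
    Finset.sum_div]
  simp only [coeff_resCA, classSum_coeff, ite_mul, one_mul, zero_mul, ite_div, zero_div]
  rw [← Finset.sum_filter]
  exact Finset.sum_congr (by ext; simp) (fun _ _ => rfl)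

omit [Fintype H] in
theorem eq_sum_classSum [Fintype (ConjClasses G)] {a : CA G}
    (ha : a ∈ Subsemiring.center (CA G)) :
    a = ∑ C : ConjClasses G, a.coeff C.out • classSum C.out := by
  classical
  apply MonoidAlgebra.coeff_injective
  ext x
  rw [MonoidAlgebra.coeff_sum, Finsupp.finsetSum_apply, Finset.sum_eq_single (ConjClasses.mk x)]
  · rw [MonoidAlgebra.coeff_smul_apply, classSum_coeff]
    have hc : IsConj (ConjClasses.mk x).out x :=
      ConjClasses.mk_eq_mk_iff_isConj.mp (Quotient.out_eq _)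
    obtain ⟨c, hc'⟩ := isConj_iff.mp hc
    rw [if_pos hc, smul_eq_mul, mul_one]
    conv_lhs => rw [← hc']
    exact (mem_center_iff a).mp ha _ c
  · intro C _ hne
    rw [MonoidAlgebra.coeff_smul_apply, classSum_coeff, if_neg, smul_zero]
    exact fun h => hne ((Quotient.out_eq C).symm.trans (ConjClasses.mk_eq_mk_iff_isConj.mpr h))
  · simp

theorem omega_resCA [Fintype (ConjClasses G)] (ξ : H → ℂ) {a : CA G}
    (ha : a ∈ Subsemiring.center (CA G)) :
    omega ξ (resCA H a) = ∑ C : ConjClasses G, a.coeff C.out * inducedCentralChar H ξ C.out := by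
  conv_lhs => rw [eq_sum_classSum ha]
  rw [map_sum, omega, map_sum, Finset.sum_div]
  refine Finset.sum_congr rfl (fun C _ => ?_)
  rw [map_smul, map_smul, smul_eq_mul, mul_div_assoc, ← omega, omega_resCA_classSum]

/-- Two functions with the same induced central characters agree on restricted central elements. -/
theorem omega_resCA_congr {ξ η : H → ℂ}
    (h : ∀ g : G, inducedCentralChar H ξ g = inducedCentralChar H η g) {a : CA G}
    (ha : a ∈ Subsemiring.center (CA G)) : omega ξ (resCA H a) = omega η (resCA H a) := by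
  have : Finite (ConjClasses G) := Finite.of_surjective _ ConjClasses.mk_surjective
  have := Fintype.ofFinite (ConjClasses G)
  simp only [omega_resCA H _ ha, h]

variable (M : Ideal AlgInt) [M.IsMaximal]

/-- Restriction of integral central elements to a subgroup. -/
def resZ (a : Zint M G) : Zint M H :=
  ⟨resCA H (a : CA G), mem_Zint_iff.mpr ⟨fun h => (mem_Zint_iff.mp a.2).1 _, fun g h => by
    simpa using (mem_Zint_iff.mp a.2).2 (g : G) (h : G)⟩⟩

@[simp] theorem coe_resZ (a : Zint M G) : ((resZ H M a : Zint M H) : CA H) = resCA H (a : CA G) :=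
  rfl

/-- The part of a class sum of `G` lying in `H`. -/
def rclass (g : G) : Zint M H := resZ H M (zclass M g)

theorem coe_zomega_rclass (ξ : IrrCharacter H) (g : G) :
    ((zomega ξ (rclass H M g) : locRing M) : ℂ) = inducedCentralChar H (ξ : H → ℂ) g := by
  rw [coe_zomega, rclass, coe_resZ, coe_zclass, omega_resCA_classSum]

theorem icc_mem_locRing (ξ : IrrCharacter H) (g : G) :
    inducedCentralChar H (ξ : H → ℂ) g ∈ locRing M := by
  rw [← coe_zomega_rclass H M ξ g]
  exact SetLike.coe_mem _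

theorem bomega_rclass_eq_iff (ξ η : IrrCharacter H) (g : G) :
    bomega ξ (rclass H M g) = bomega η (rclass H M g) ↔
      MemLocalIdeal M
        (inducedCentralChar H (ξ : H → ℂ) g - inducedCentralChar H (η : H → ℂ) g) := by
  rw [bomega_apply, bomega_apply, ← memLocalIdeal_sub_iff, coe_zomega_rclass, coe_zomega_rclass]

theorem bomega_rclass_eq_iff' (ξ : IrrCharacter H) (χ : IrrCharacter G) (g : G) :
    bomega χ (zclass M g) = bomega ξ (rclass H M g) ↔
      MemLocalIdeal M
        (centralChar (χ : G → ℂ) g - inducedCentralChar H (ξ : H → ℂ) g) := by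
  rw [bomega_apply, bomega_apply, ← memLocalIdeal_sub_iff, coe_zomega_rclass, coe_zomega_zclass]

theorem zomega_resZ [Fintype (ConjClasses G)] (ξ : IrrCharacter H) (a : Zint M G) :
    zomega ξ (resZ H M a) = ∑ C : ConjClasses G,
      (⟨(a : CA G).coeff C.out, (mem_Zint_iff.mp a.2).1 _⟩ : locRing M) *
        zomega ξ (rclass H M C.out) := by
  apply Subtype.ext
  rw [coe_zomega, coe_resZ, omega_resCA H _ (Zint_center a), AddSubmonoidClass.coe_finsetSum]
  simp only [Subring.coe_mul, coe_zomega_rclass]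

theorem bomega_resZ_congr {ξ η : IrrCharacter H}
    (h : ∀ g, bomega ξ (rclass H M g) = bomega η (rclass H M g)) (a : Zint M G) :
    bomega ξ (resZ H M a) = bomega η (resZ H M a) := by
  have : Finite (ConjClasses G) := Finite.of_surjective _ ConjClasses.mk_surjective
  have := Fintype.ofFinite (ConjClasses G)
  simp only [bomega_apply] at h ⊢
  simp only [zomega_resZ, map_sum, map_mul, h]

/-- If the central characters of `ξ` and `χ` are linked on class sums, they are linked on the
whole integral centre. -/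
theorem bomega_resZ_eq {ξ : IrrCharacter H} {χ : IrrCharacter G}
    (h : ∀ g, bomega χ (zclass M g) = bomega ξ (rclass H M g)) (a : Zint M G) :
    bomega ξ (resZ H M a) = bomega χ a := by
  have : Finite (ConjClasses G) := Finite.of_surjective _ ConjClasses.mk_surjective
  have := Fintype.ofFinite (ConjClasses G)
  conv_rhs => rw [Zint_eq_sum a, map_sum]
  simp only [map_mul, bomega_scal, h]
  simp only [bomega_apply, zomega_resZ, map_sum, map_mul]

variable {M}

/-- The induced central character is congruent on a block. -/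
theorem icc_congr_of_sameBlock {ξ η : IrrCharacter H}
    (h : SameBlock M (ξ : H → ℂ) (η : H → ℂ)) (g : G) :
    MemLocalIdeal M
      (inducedCentralChar H (ξ : H → ℂ) g - inducedCentralChar H (η : H → ℂ) g) := by
  rw [← bomega_rclass_eq_iff H M, (sameBlock_iff ξ η).mp h]

end restrict

section saturated

variable {M : Ideal AlgInt} [M.IsMaximal] {G : Type*} [Group G] [Fintype G]

/-- The idempotent of a union of blocks is integral. -/
theorem blockElt_mem_Zint_of_saturated {A : Set (IrrCharacter G)}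
    (hA : ∀ χ ∈ A, blockOf M (χ : G → ℂ) ⊆ A) : blockElt A ∈ Zint M G := by
  classical
  let e : Zint M G := 1 - ∏ η ∈ Finset.univ.filter (· ∈ A), (1 - idem (isPBlock_blockOf (M := M) η))
  have : blockElt A = (e : CA G) := by
    refine eq_of_omega_eq (blockElt_mem_center A) (Zint_center e) (fun φ => ?_)
    rw [omega_blockElt, ← coe_zomega, map_sub, map_one, map_prod]
    split_ifs with hφ
    · rw [Finset.prod_eq_zero (i := φ) (by simp [hφ]) (by
        rw [map_sub, map_one, zomega_idem, if_pos (mem_blockOf_self φ), sub_self]), sub_zero]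
      rfl
    · rw [Finset.prod_eq_one (fun η hη => by
        rw [map_sub, map_one, zomega_idem, if_neg (fun hc => hφ (hA η (Finset.mem_filter.mp hη).2 hc)),
          sub_zero]), sub_self]
      rfl
  rw [this]
  exact e.2

end saturated

section normal

variable {G : Type*} [Group G] [Fintype G] {N : Subgroup G} [hN : N.Normal]

omit [Fintype G] in
theorem icc_eq_zero_of_notMem (ξ : N → ℂ) {g : G} (hg : g ∉ N) :
    inducedCentralChar N ξ g = 0 := by
  rw [inducedCentralChar, finsum_mem_eq_zero_of_forall_eq_zero]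
  intro h hh
  obtain ⟨c, hc⟩ := isConj_iff.mp (Set.mem_ofPred_eq.mp hh).symm
  exact absurd (hc ▸ hN.conj_mem _ h.2 c) hg

variable [Fintype N]

omit hN in
theorem sum_eq_sum_subgroup (f : G → ℂ) (hf : ∀ g ∉ N, f g = 0) :
    ∑ g : G, f g = ∑ n : N, f n := by
  classical
  rw [← Finset.sum_subset (Finset.subset_univ (Finset.univ.filter (· ∈ N)))
    (fun x _ hx => hf x (by simpa using hx))]
  exact Finset.sum_subtype _ (fun x => by simp) f

/-- On central elements supported on `N`, a character and its constituents on `N` agree. -/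
theorem omega_eq_omega_resCA_of_over {χ : G → ℂ} (hχ : IsIrrCharacter G χ) {θ : IrrCharacter N}
    (h : classInner (fun n : N => χ n) (θ : N → ℂ) ≠ 0) {a : CA G}
    (ha : a ∈ Subsemiring.center (CA G)) (hsupp : ∀ g ∉ N, a.coeff g = 0) :
    omega χ a = omega (θ : N → ℂ) (resCA N a) := by
  classical
  have hca := (mem_center_iff a).mp ha
  have horb : ∀ ψ ∈ orbit N θ, ∑ n : N, a.coeff (n : G) * (ψ : N → ℂ) n =
      ∑ n : N, a.coeff (n : G) * (θ : N → ℂ) n := by
    intro ψ hψ
    obtain ⟨g, hg⟩ := (mem_orbit N).mp hψ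
    rw [← hg]
    refine Fintype.sum_equiv (MulAut.conjNormal g : MulAut N).toEquiv _ _ (fun n => ?_)
    rw [conjFun_eq_comp, Function.comp_apply, MulEquiv.toEquiv_eq_coe, EquivLike.coe_coe,
      MulAut.conjNormal_apply, hca]
  have h1 : charLin χ a = classInner (fun n : N => χ n) (θ : N → ℂ) * (orbit N θ).card *
      charLin (θ : N → ℂ) (resCA N a) := by
    rw [charLin_apply, sum_eq_sum_subgroup _ (fun g hg => by rw [hsupp g hg, zero_mul]), charLin_apply]
    have hr := res_eq_smul_sum_orbit N hχ θ h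
    calc ∑ n : N, a.coeff (n : G) * χ n
        = classInner (fun n : N => χ n) (θ : N → ℂ) *
            ∑ ψ ∈ orbit N θ, ∑ n : N, a.coeff (n : G) * (ψ : N → ℂ) n := by
          rw [Finset.sum_comm, Finset.mul_sum]
          refine Finset.sum_congr rfl (fun n _ => ?_)
          rw [show χ n = _ from congrFun hr n, Pi.smul_apply, Finset.sum_apply, smul_eq_mul,
            ← Finset.mul_sum]
          ring
      _ = _ := by
          rw [Finset.sum_congr rfl horb, Finset.sum_const, nsmul_eq_mul]
          simp only [coeff_resCA]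
          ring
  have h2 := degree_eq_mul_card_orbit N hχ θ h
  have h3 : classInner (fun n : N => χ n) (θ : N → ℂ) * (orbit N θ).card ≠ 0 :=
    mul_ne_zero h (by
      exact_mod_cast (Finset.card_pos.mpr ⟨θ, self_mem_orbit N θ⟩).ne')
  rw [omega, omega, h1, h2, mul_div_mul_left _ _ h3]

omit [Fintype N] in
theorem classSum_supp {n : G} (hn : n ∈ N) : ∀ g ∉ N, (classSum n).coeff g = 0 := by
  classical
  intro g hg
  rw [classSum_coeff, if_neg]
  intro hc
  obtain ⟨c, rfl⟩ := isConj_iff.mp hc
  exact hg (hN.conj_mem _ hn c)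

/-- The central character on classes inside `N` is read off any constituent. -/
theorem centralChar_eq_icc_of_over {χ : G → ℂ} (hχ : IsIrrCharacter G χ) {θ : IrrCharacter N}
    (h : classInner (fun n : N => χ n) (θ : N → ℂ) ≠ 0) {n : G} (hn : n ∈ N) :
    centralChar χ n = inducedCentralChar N (θ : N → ℂ) n := by
  rw [← omega_classSum (CfsgLib.Char.isClassFunction_of_isIrr hχ), ← omega_resCA_classSum,
    omega_eq_omega_resCA_of_over hχ h (classSum_mem_center n) (classSum_supp hn)]

omit [Fintype G] in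
theorem exists_over {χ : G → ℂ} (hχ : IsIrrCharacter G χ) :
    ∃ θ : IrrCharacter N, classInner (fun n : N => χ n) (θ : N → ℂ) ≠ 0 :=
  let ⟨θ, hθ, h⟩ := CfsgLib.Char.exists_constituent
    (CfsgLib.Char.isCharacter_res N (CfsgLib.Char.isCharacter_of_isIrr hχ))
    (fun h0 => CfsgLib.Char.irr_one_ne_zero hχ (congrFun h0 1))
  ⟨⟨θ, hθ⟩, h⟩

/-- The extension by zero of an invariant central element. -/
theorem exists_central_ext {f : N → ℂ} (hf : ∀ g : G, conjFun N g f = f) :
    ∃ a : CA G, a ∈ Subsemiring.center (CA G) ∧ (∀ g ∉ N, a.coeff g = 0) ∧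
      (∀ n : N, a.coeff (n : G) = f n) ∧ resCA N a = ofFun f := by
  classical
  refine ⟨ofFun fun g => if h : g ∈ N then f ⟨g, h⟩ else 0, ?_, fun g hg => by simp [hg],
    fun n => by simp, ?_⟩
  · rw [mem_center_iff]
    intro g c
    simp only [coeff_ofFun]
    by_cases hg : g ∈ N
    · rw [dif_pos hg, dif_pos (hN.conj_mem g hg c)]
      exact congrFun (hf c) ⟨g, hg⟩
    · rw [dif_neg hg, dif_neg]
      intro h'
      exact hg (by simpa [mul_assoc] using hN.conj_mem _ h' c⁻¹)
  · apply MonoidAlgebra.coeff_injective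
    ext n
    simp

/-- `θ` lies under `χ` exactly when the central characters agree on the classes inside `N`. -/
theorem over_iff_icc_eq {χ : G → ℂ} (hχ : IsIrrCharacter G χ) (θ : IrrCharacter N) :
    classInner (fun n : N => χ n) (θ : N → ℂ) ≠ 0 ↔
      ∀ n : N, centralChar χ (n : G) = inducedCentralChar N (θ : N → ℂ) (n : G) := by
  classical
  refine ⟨fun h n => centralChar_eq_icc_of_over hχ h n.2, fun h => ?_⟩
  obtain ⟨ψ, hψ⟩ := exists_over (N := N) hχ
  have hicc : ∀ g : G,
      inducedCentralChar N (θ : N → ℂ) g = inducedCentralChar N (ψ : N → ℂ) g := by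
    intro g
    by_cases hg : g ∈ N
    · rw [← h ⟨g, hg⟩, centralChar_eq_icc_of_over hχ hψ hg]
    · rw [icc_eq_zero_of_notMem _ hg, icc_eq_zero_of_notMem _ hg]
  set f : N → ℂ := fun n => ∑ φ ∈ orbit N ψ, conj ((φ : N → ℂ) n) with hf
  have hfinv : ∀ g : G, conjFun N g f = f := by
    intro g
    funext n
    simp only [hf, conjFun_apply]
    refine Finset.sum_bij (fun φ _ => conjIrr N g φ) ?_ ?_ ?_ ?_
    · intro φ hφ
      obtain ⟨c, hc⟩ := (mem_orbit N).mp hφ
      exact (mem_orbit N).mpr ⟨c * g, by rw [conjIrr_coe, ← hc, conjFun_conjFun]⟩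
    · intro φ₁ _ φ₂ _ he
      exact Subtype.ext (conjFun_injective N g (congrArg Subtype.val he))
    · intro φ hφ
      refine ⟨conjIrr N g⁻¹ φ, ?_, Subtype.ext (conjFun_conjFun_inv N g _)⟩
      obtain ⟨c, hc⟩ := (mem_orbit N).mp hφ
      exact (mem_orbit N).mpr ⟨c * g⁻¹, by rw [conjIrr_coe, ← hc, conjFun_conjFun]⟩
    · intro φ _
      rfl
  obtain ⟨a, hac, -, -, hres⟩ := exists_central_ext hfinv
  have hval : ∀ η : IrrCharacter N, omega (η : N → ℂ) (ofFun f) =
      if η ∈ orbit N ψ then (Nat.card N : ℂ) / (η : N → ℂ) 1 else 0 := by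
    intro η
    have : charLin (η : N → ℂ) (ofFun f) =
        (Nat.card N : ℂ) * classInner (η : N → ℂ) (∑ φ ∈ orbit N ψ, (φ : N → ℂ)) := by
      rw [charLin_apply, CfsgLib.Char.card_mul_classInner]
      refine Finset.sum_congr rfl (fun n _ => ?_)
      rw [coeff_ofFun, Finset.sum_apply, map_sum, mul_comm]
    rw [omega, this, CfsgLib.Char.classInner_sum_right]
    simp only [CfsgLib.Char.classInner_irrCharacter, Finset.sum_ite_eq]
    split_ifs <;> simp
  have heq := omega_resCA_congr N hicc hac
  rw [hres, hval, hval, if_pos (self_mem_orbit N ψ)] at heq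
  split_ifs at heq with hθ
  · obtain ⟨g, hg⟩ := (mem_orbit N).mp hθ
    rw [← hg, classInner_res_conjFun N (CfsgLib.Char.isClassFunction_of_isIrr hχ)]
    exact hψ
  · exact absurd heq.symm (div_ne_zero CfsgLib.Char.card_ne_zero' (CfsgLib.Char.irr_one_ne_zero ψ.2))

variable {M : Ideal AlgInt} [M.IsMaximal]

omit [Fintype G] [Fintype N] [M.IsMaximal] in
theorem sameBlock_conjFun {θ φ : N → ℂ} (h : SameBlock M θ φ) (g : G) :
    SameBlock M (conjFun N g θ) (conjFun N g φ) := by
  rw [conjFun_eq_comp, conjFun_eq_comp]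
  exact sameBlock_comp_mulEquiv M _ h

theorem blockCoeff_conjFun {A : Set (IrrCharacter N)}
    (hA : ∀ g : G, ∀ φ ∈ A, conjIrr N g φ ∈ A) (g : G) :
    conjFun N g (blockCoeff A) = blockCoeff A := by
  classical
  funext n
  rw [conjFun_apply, blockCoeff_eq, blockCoeff_eq]
  congr 1
  refine Finset.sum_bij' (fun φ _ => conjIrr N g φ) (fun φ _ => conjIrr N g⁻¹ φ) (by simp) (by simp)
    (fun φ _ => Subtype.ext (conjFun_inv_conjFun N g _))
    (fun φ _ => Subtype.ext (conjFun_conjFun_inv N g _)) (fun φ _ => ?_)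
  have hiff : conjIrr N g φ ∈ A ↔ φ ∈ A := by
    refine ⟨fun h => ?_, hA g φ⟩
    have := hA g⁻¹ _ h
    have e : conjIrr N g⁻¹ (conjIrr N g φ) = φ := Subtype.ext (conjFun_inv_conjFun N g _)
    rwa [e] at this
  by_cases hφ : φ ∈ A
  · rw [if_pos hφ, if_pos (hiff.mpr hφ), conjIrr_coe, conjFun_apply_one]
    rfl
  · rw [if_neg hφ, if_neg (fun h => hφ (hiff.mp h))]

/-- **Passman's criterion.** If the central characters of `χ` and `θ'` are congruent on the classes
inside `N`, the block of `θ'` contains a conjugate of every constituent of `χ`. -/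
theorem exists_conj_sameBlock_of_congr {χ : G → ℂ} (hχ : IsIrrCharacter G χ) {θ θ' : IrrCharacter N}
    (hθ : classInner (fun n : N => χ n) (θ : N → ℂ) ≠ 0)
    (h : ∀ n : N, MemLocalIdeal M
      (centralChar χ (n : G) - inducedCentralChar N (θ' : N → ℂ) (n : G))) :
    ∃ g : G, SameBlock M (conjFun N g (θ : N → ℂ)) (θ' : N → ℂ) := by
  classical
  set A : Set (IrrCharacter N) :=
    {φ | ∃ g : G, SameBlock M (conjFun N g (θ : N → ℂ)) (φ : N → ℂ)} with hAdef
  have hsat : ∀ φ ∈ A, blockOf M (φ : N → ℂ) ⊆ A := by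
    rintro φ ⟨g, hg⟩ η hη
    exact ⟨g, (sameBlock_iff (conjIrr N g θ) η).mpr
      (((sameBlock_iff (conjIrr N g θ) φ).mp hg).trans ((mem_blockOf_iff φ η).mp hη))⟩
  have hinv : ∀ g : G, ∀ φ ∈ A, conjIrr N g φ ∈ A := by
    rintro g φ ⟨c, hc⟩
    refine ⟨c * g, ?_⟩
    rw [← conjFun_conjFun, conjIrr_coe]
    exact sameBlock_conjFun hc g
  let e : Zint M N := ⟨blockElt A, blockElt_mem_Zint_of_saturated hsat⟩
  obtain ⟨a, hac, hsupp, hcoe, hres⟩ := exists_central_ext (blockCoeff_conjFun hinv)
  let aZ : Zint M G := ⟨a, mem_Zint_iff.mpr ⟨fun g => by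
    by_cases hg : g ∈ N
    · rw [hcoe ⟨g, hg⟩]; exact (mem_Zint_iff.mp e.2).1 _
    · rw [hsupp g hg]; exact Subring.zero_mem _, (mem_center_iff a).mp hac⟩⟩
  have hcongr : ∀ g, bomega θ (rclass N M g) = bomega θ' (rclass N M g) := by
    intro g
    rw [bomega_rclass_eq_iff]
    by_cases hg : g ∈ N
    · rw [← centralChar_eq_icc_of_over hχ hθ hg]
      exact h ⟨g, hg⟩
    · rw [icc_eq_zero_of_notMem _ hg, icc_eq_zero_of_notMem _ hg, sub_zero]
      exact (res_eq_zero_iff M 0).mp (map_zero _)
  have hb := bomega_resZ_congr N M hcongr aZ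
  have hz : resZ N M aZ = e := Subtype.ext hres
  rw [hz] at hb
  have hval : ∀ η : IrrCharacter N, bomega η e = if η ∈ A then 1 else 0 := by
    intro η
    have : zomega η e = if η ∈ A then 1 else 0 := Subtype.ext (by
      rw [coe_zomega, omega_blockElt]; split_ifs <;> rfl)
    rw [bomega_apply, this]
    split_ifs <;> simp
  have hθA : θ ∈ A := ⟨1, by rw [conjFun_one]; exact sameBlock_refl θ⟩
  rw [hval, hval, if_pos hθA] at hb
  by_contra hne
  rw [if_neg (show θ' ∉ A from hne)] at hb
  exact one_ne_zero hb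

end normal

section defectZero

variable {M : Ideal AlgInt} [M.IsMaximal] {G : Type*} [Group G] [Fintype G] {p : ℕ}

theorem natCast_inv_mem_locRing (hM : IsPModular p M) {m : ℕ} (hm : ¬ p ∣ m) :
    (m : ℂ)⁻¹ ∈ locRing M :=
  ⟨1, (m : AlgInt), fun h => hm ((natCast_mem_iff hM m).mp h), by simp⟩

/-- A character of defect zero is alone in its block. -/
theorem blockOf_eq_singleton (hM : IsPModular p M) (χ : IrrCharacter G)
    (h : ¬ p ∣ Nat.card G / charDegree (χ : G → ℂ)) : blockOf M (χ : G → ℂ) = {χ} := by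
  classical
  refine Set.Subset.antisymm (blockOf_subset_of_integral (fun g => ?_) (Set.mem_singleton χ))
    (Set.singleton_subset_iff.mpr (mem_blockOf_self χ))
  obtain ⟨m, hm⟩ := CfsgLib.CharBlocks.charDegree_dvd_card χ.2
  have hpos := CfsgLib.CharBlocks.charDegree_pos χ.2
  rw [hm, Nat.mul_div_cancel_left _ hpos] at h
  rw [blockCoeff_eq]
  simp only [Set.mem_singleton_iff, Finset.sum_ite_eq', Finset.mem_univ, if_true]
  rw [← CfsgLib.CharBlocks.coe_charDegree_irr χ, hm, Nat.cast_mul, mul_inv, ← mul_assoc,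
    mul_right_comm _ (m : ℂ)⁻¹, inv_mul_cancel₀ (by exact_mod_cast hpos.ne'), one_mul]
  refine Subring.mul_mem _ (natCast_inv_mem_locRing hM h) (algInt_le_locRing M ?_)
  rw [← CfsgLib.Char.char_inv (CfsgLib.Char.isCharacter_of_isIrr χ.2)]
  exact CfsgLib.Char.char_isIntegral (CfsgLib.Char.isCharacter_of_isIrr χ.2) _

/-- In a `p'`-group blocks are singletons. -/
theorem sameBlock_iff_eq (hM : IsPModular p M) (hG : ¬ p ∣ Nat.card G) (χ ψ : IrrCharacter G) :
    SameBlock M (χ : G → ℂ) (ψ : G → ℂ) ↔ χ = ψ := by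
  refine ⟨fun h => ?_, fun h => h ▸ sameBlock_refl χ⟩
  have hmem : ψ ∈ blockOf M (χ : G → ℂ) := h
  rw [blockOf_eq_singleton hM χ (fun hd => hG (hd.trans (Nat.div_dvd_of_dvd
    (CfsgLib.CharBlocks.charDegree_dvd_card χ.2))))] at hmem
  exact (Set.mem_singleton_iff.mp hmem).symm

variable {N : Subgroup G} [N.Normal] [Fintype N]

/-- Characters in one block have the same constituents on a normal `p'`-subgroup. -/
theorem over_iff_of_sameBlock (hM : IsPModular p M) (hN : ¬ p ∣ Nat.card N) {χ ψ : IrrCharacter G}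
    (h : SameBlock M (χ : G → ℂ) (ψ : G → ℂ)) (θ : IrrCharacter N) :
    classInner (fun n : N => (χ : G → ℂ) n) (θ : N → ℂ) ≠ 0 ↔
      classInner (fun n : N => (ψ : G → ℂ) n) (θ : N → ℂ) ≠ 0 := by
  suffices key : ∀ χ ψ : IrrCharacter G, SameBlock M (χ : G → ℂ) (ψ : G → ℂ) →
      classInner (fun n : N => (χ : G → ℂ) n) (θ : N → ℂ) ≠ 0 →
      classInner (fun n : N => (ψ : G → ℂ) n) (θ : N → ℂ) ≠ 0 from
    ⟨key χ ψ h, key ψ χ ((sameBlock_iff ψ χ).mpr ((sameBlock_iff χ ψ).mp h).symm)⟩
  intro χ ψ h hθ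
  obtain ⟨φ, hφ⟩ := exists_over (N := N) ψ.2
  obtain ⟨g, hg⟩ := exists_conj_sameBlock_of_congr (M := M) ψ.2 hφ (θ' := θ) (fun n => by
    rw [← centralChar_eq_icc_of_over χ.2 hθ n.2]
    exact ((sameBlock_iff ψ χ).mpr ((sameBlock_iff χ ψ).mp h).symm) n)
  rw [← (sameBlock_iff_eq hM hN (conjIrr N g φ) θ).mp hg, conjIrr_coe,
    classInner_res_conjFun N (CfsgLib.Char.isClassFunction_of_isIrr ψ.2)]
  exact hφ

omit [N.Normal] [Fintype G] in
theorem classInner_res_one_ne_zero {χ : G → ℂ} (hχ : IsIrrCharacter G χ)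
    (hker : ∀ n ∈ N, χ n = χ 1) :
    classInner (fun n : N => χ n) ((CfsgLib.Char.irrOne : IrrCharacter N) : N → ℂ) ≠ 0 := by
  rw [CfsgLib.Char.classInner_def]
  simp only [CfsgLib.Char.irrOne_apply, map_one, mul_one]
  rw [Finset.sum_congr rfl (fun (n : N) _ => hker n n.2), Finset.sum_const, Finset.card_univ,
    nsmul_eq_mul, ← Nat.card_eq_fintype_card, inv_mul_cancel_left₀ CfsgLib.Char.card_ne_zero']
  exact CfsgLib.Char.irr_one_ne_zero hχ

/-- A normal `p'`-subgroup in the kernel of one member of a block is in the kernel of all. -/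
theorem trivialOn_of_sameBlock (hM : IsPModular p M) (hN : ¬ p ∣ Nat.card N) {χ ψ : IrrCharacter G}
    (h : SameBlock M (χ : G → ℂ) (ψ : G → ℂ))
    (hker : ∀ n ∈ N, (χ : G → ℂ) n = (χ : G → ℂ) 1) : ∀ n ∈ N, (ψ : G → ℂ) n = (ψ : G → ℂ) 1 :=
  res_eq_degree_of_constituent_one N ψ.2
    ((over_iff_of_sameBlock hM hN h CfsgLib.Char.irrOne).mp (classInner_res_one_ne_zero χ.2 hker))

omit [Fintype N] [Fintype G] in
theorem mem_of_index_pow (hp : p.Prime) (hidx : ∃ k : ℕ, N.index = p ^ k) {g : G}
    (hg : ¬ p ∣ orderOf g) : g ∈ N := by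
  obtain ⟨k, hk⟩ := hidx
  rw [← QuotientGroup.eq_one_iff, ← orderOf_eq_one_iff]
  refine Nat.eq_one_of_dvd_coprimes ((hp.coprime_iff_not_dvd.mpr hg).pow_left k) ?_
    (orderOf_map_dvd (QuotientGroup.mk' N) g)
  rw [← hk, Subgroup.index_eq_card]
  exact orderOf_dvd_natCard _

omit [N.Normal] [Fintype N] in
/-- Congruence on the classes inside a normal subgroup containing all `p`-regular elements decides
the block. -/
theorem sameBlock_of_congr_on_normal (hM : IsPModular p M)
    (hreg : ∀ g : G, ¬ p ∣ orderOf g → g ∈ N) {χ ψ : IrrCharacter G}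
    (h : ∀ n : N, MemLocalIdeal M
      (centralChar (χ : G → ℂ) (n : G) - centralChar (ψ : G → ℂ) (n : G))) :
    SameBlock M (χ : G → ℂ) (ψ : G → ℂ) := by
  classical
  have : Finite (ConjClasses G) := Finite.of_surjective _ ConjClasses.mk_surjective
  have := Fintype.ofFinite (ConjClasses G)
  have hB := isPBlock_blockOf (M := M) χ
  have h1 := bomega_idem hB χ
  rw [if_pos (mem_blockOf_self χ), Zint_eq_sum (idem hB), map_sum] at h1
  have h2 := bomega_idem hB ψ
  rw [Zint_eq_sum (idem hB), map_sum] at h2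
  have hterm : ∀ C : ConjClasses G,
      bomega χ (scal M ⟨((idem hB : Zint M G) : CA G).coeff C.out,
        (mem_Zint_iff.mp (idem hB).2).1 _⟩ * zclass M C.out) =
      bomega ψ (scal M ⟨((idem hB : Zint M G) : CA G).coeff C.out,
        (mem_Zint_iff.mp (idem hB).2).1 _⟩ * zclass M C.out) := by
    intro C
    rw [map_mul, map_mul, bomega_scal, bomega_scal]
    by_cases hC : C.out ∈ N
    · congr 1
      rw [bomega_apply, bomega_apply, ← memLocalIdeal_sub_iff, coe_zomega_zclass, coe_zomega_zclass]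
      exact h ⟨_, hC⟩
    · have : (⟨((idem hB : Zint M G) : CA G).coeff C.out, (mem_Zint_iff.mp (idem hB).2).1 _⟩ :
          locRing M) = 0 := Subtype.ext (by
        change (blockElt (blockOf M (χ : G → ℂ))).coeff C.out = 0
        rw [blockElt, coeff_ofFun]
        exact blockCoeff_eq_zero hM hB (by by_contra hd; exact hC (hreg _ hd)))
      rw [this, map_zero, zero_mul, zero_mul]
  rw [Finset.sum_congr rfl (fun C _ => (hterm C).symm), h1] at h2
  by_contra hc
  rw [if_neg (show ψ ∉ blockOf M (χ : G → ℂ) from hc)] at h2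
  exact one_ne_zero h2

end defectZero

end CfsgLib.Blocks
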