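import Cfsg.Agent.Lib.Blocks.Heights

/-!
# Okuyama's criterion, Brauer's third main theorem and Blau's theorem
-/

set_option autoImplicit false

noncomputable section

namespace CfsgLib.Blocks

open Cfsg
open scoped ComplexConjugate

variable {M : Ideal AlgInt} [M.IsMaximal] {G : Type*} [Group G] [Fintype G] {p : ℕ}

theorem regElt_congr {θ θ' : G → ℂ} (hθ : IsCharacter G θ) (hθ' : IsCharacter G θ') (h : θ = θ') :
    regElt M p hθ = regElt M p hθ' := by
  subst h; rfl

variable {H : Subgroup G} [Fintype H]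

theorem resIn_regElt {θ : G → ℂ} (hθ : IsCharacter G θ) :
    resIn (M := M) H (regElt M p hθ) = regElt M p (CfsgLib.Char.isCharacter_res H hθ) := by
  refine Subtype.ext (MonoidAlgebra.coeff_injective (Finsupp.ext fun h => ?_))
  simp only [resIn, AddMonoidHom.coe_mk, ZeroHom.coe_mk, regElt, coeff_ofFun, Subgroup.orderOf_coe]

/-- A height-zero `χ` detects the block induced from `e` through the pairing on `H`. -/
theorem bomega_regElt_res_ne_zero_iff (hM : IsPModular p M) {χ : IrrCharacter G}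
    (h0 : blockHeight p (blockOf M (χ : G → ℂ)) (χ : G → ℂ) = 0) {e : Set (IrrCharacter H)}
    {B : Set (IrrCharacter G)} (hB : IsInducedBlock M H e B) {ξ : IrrCharacter H} (hξ : ξ ∈ e) :
    bomega ξ (regElt M p (CfsgLib.Char.isCharacter_res H (CfsgLib.Char.isCharacter_of_isIrr χ.2))) ≠ 0 ↔
      χ ∈ B := by
  have : Fact p.Prime := ⟨hM.1⟩
  obtain ⟨-, hBb, hind⟩ := (isInducedBlock_iff H).mp hB
  obtain ⟨χ', hχ'⟩ := IsPBlock.nonempty hBb
  rw [← resIn_regElt (CfsgLib.Char.isCharacter_of_isIrr χ.2), ← indBomega_apply, hind ξ hξ χ' hχ', bomega_regElt_ne_zero_iff hM,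
    ← isPBlock_eq_blockOf hBb hχ']
  refine ⟨fun h => h.1, fun h => ⟨h, ?_⟩⟩
  rwa [isPBlock_eq_blockOf hBb h]

/-- **Okuyama's criterion.** -/
theorem okuyama (hM : IsPModular p M) {χ : IrrCharacter G} (hres : IsIrrCharacter H (fun h : H => (χ : G → ℂ) h))
    (hχ0 : blockHeight p (blockOf M (χ : G → ℂ)) (χ : G → ℂ) = 0)
    (hψ0 : blockHeight p (blockOf M (fun h : H => (χ : G → ℂ) h)) (fun h : H => (χ : G → ℂ) h) = 0)
    {e : Set (IrrCharacter H)} (he : InducedBlockDefined M H e) :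
    IsInducedBlock M H e (blockOf M (χ : G → ℂ)) ↔ e = blockOf M (fun h : H => (χ : G → ℂ) h) := by
  have : Fact p.Prime := ⟨hM.1⟩
  obtain ⟨B, hB⟩ := he
  set ψ : IrrCharacter H := ⟨_, hres⟩
  have he' := ((isInducedBlock_iff H).mp hB).1
  have hBb := ((isInducedBlock_iff H).mp hB).2.1
  obtain ⟨ξ, hξ⟩ := IsPBlock.nonempty he'
  have key := bomega_regElt_res_ne_zero_iff hM hχ0 hB hξ
  rw [regElt_congr _ (CfsgLib.Char.isCharacter_of_isIrr ψ.2) rfl, bomega_regElt_ne_zero_iff hM,
    ← isPBlock_eq_blockOf he' hξ] at key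
  constructor
  · intro h
    obtain rfl := inducedBlock_unique H hB h
    exact isPBlock_eq_blockOf he' (χ := ψ) (key.mpr (mem_blockOf_self χ)).1
  · intro h
    have hψ : ψ ∈ e := by rw [h]; exact mem_blockOf_self ψ
    have hχ : χ ∈ B := key.mp ⟨hψ, by rw [h]; exact hψ0⟩
    rwa [← isPBlock_eq_blockOf hBb hχ]

omit [M.IsMaximal] [Fintype G] in
theorem blockHeight_one :
    blockHeight p (principalBlock M G) (fun _ : G => (1 : ℂ)) = 0 := by
  rw [blockHeight, charDegree_one, Nat.factorization_one, Finsupp.zero_apply, Nat.zero_sub]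

/-- **Brauer's third main theorem.** -/
theorem third_main (hM : IsPModular p M) {b : Set (IrrCharacter H)} (hdef : InducedBlockDefined M H b) :
    IsInducedBlock M H b (principalBlock M G) ↔ b = principalBlock M H :=
  okuyama hM (χ := (CfsgLib.Char.irrOne : IrrCharacter G))
    (CfsgLib.Char.isIrrCharacter_one (G := H)) blockHeight_one blockHeight_one hdef

/-- **Blau's theorem.** -/
theorem blau (hM : IsPModular p M) {b : Set (IrrCharacter H)} {B : Set (IrrCharacter G)}
    (hind : IsInducedBlock M H b B) {χ : IrrCharacter G} (hχ : χ ∈ B)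
    (h0 : blockHeight p B (χ : G → ℂ) = 0) :
    ∃ ξ ∈ b, blockHeight p b (ξ : H → ℂ) = 0 ∧ ∃ n : ℕ,
      Cfsg.classInner (fun h : H => (χ : G → ℂ) h) (ξ : H → ℂ) = (n : ℂ) ∧ ¬ p ∣ n := by
  classical
  have : Fact p.Prime := ⟨hM.1⟩
  have hb := ((isInducedBlock_iff H).mp hind).1
  have hBb := ((isInducedBlock_iff H).mp hind).2.1
  obtain ⟨ξ₀, hξ₀⟩ := IsPBlock.nonempty hb
  have key := (bomega_regElt_res_ne_zero_iff hM (by rwa [← isPBlock_eq_blockOf hBb hχ]) hind hξ₀).mpr hχ
  obtain ⟨m, hm, hmi⟩ :=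
    CfsgLib.Char.char_decomp (CfsgLib.Char.isCharacter_res H (CfsgLib.Char.isCharacter_of_isIrr χ.2))
  have hlin : regElt M p (CfsgLib.Char.isCharacter_res H (CfsgLib.Char.isCharacter_of_isIrr χ.2)) =
      ∑ ν : IrrCharacter H, scal M (m ν : locRing M) * regElt M p (CfsgLib.Char.isCharacter_of_isIrr ν.2) := by
    refine Subtype.ext (MonoidAlgebra.coeff_injective (Finsupp.ext fun h => ?_))
    rw [AddSubmonoidClass.coe_finsetSum, MonoidAlgebra.coeff_sum, Finsupp.finsetSum_apply]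
    have hh : (χ : G → ℂ) h = ∑ ν : IrrCharacter H, (m ν : ℂ) * (ν : H → ℂ) h := by
      have := congrFun hm h
      simpa [Finset.sum_apply] using this
    simp only [regElt, MulMemClass.coe_mul, coe_scal, MonoidAlgebra.coeff_single_one_mul, coeff_ofFun,
      SubringClass.coe_natCast]
    by_cases hp' : p ∣ orderOf h
    · simp [hp']
    · simp only [if_neg hp', hh, map_sum, map_mul, map_natCast]
  rw [hlin, map_sum] at key
  obtain ⟨ν, -, hν⟩ := Finset.exists_ne_zero_of_sum_ne_zero key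
  rw [map_mul, bomega_scal, map_natCast, mul_ne_zero_iff, bomega_regElt_ne_zero_iff hM,
    ← isPBlock_eq_blockOf hb hξ₀] at hν
  refine ⟨ν, hν.2.1, hν.2.2, m ν, hmi ν, fun hd => hν.1 ?_⟩
  rw [← map_natCast (res M)]
  exact (res_natCast_eq_zero_iff M hM _).mpr hd

end CfsgLib.Blocks
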