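import Cfsg.Agent.Lib.Blocks.SecondMain
import Cfsg.Agent.Lib.Blocks.ThirdMain
import Cfsg.Agent.Lib.Blocks.Covering
import Cfsg.Agent.Lib.CharNormal.Kernel
import Cfsg.Agent.Lib.Cores.Basic
import Cfsg.Agent.S0939

/-!
# The principal block on a `p`-section
-/

set_option autoImplicit false

noncomputable section

namespace CfsgLib.Blocks

open Cfsg
open scoped ComplexConjugate

theorem isPBlock_principalBlock {M : Ideal AlgInt} [M.IsMaximal] {G : Type*} [Group G] [Fintype G] :
    IsPBlock M (principalBlock M G) := ⟨CfsgLib.Char.irrOne, rfl⟩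

theorem irrOne_mem_principalBlock {M : Ideal AlgInt} [M.IsMaximal] {G : Type*} [Group G] [Fintype G] :
    (CfsgLib.Char.irrOne : IrrCharacter G) ∈ principalBlock M G :=
  mem_blockOf_self (M := M) (CfsgLib.Char.irrOne : IrrCharacter G)

variable {M : Ideal AlgInt} [M.IsMaximal] {G : Type*} [Group G] [Fintype G] {p : ℕ} [hp : Fact p.Prime]

/-- With a normal `p`-complement, the squared degrees of the principal block sum to the index. -/
theorem sum_degree_sq_principal (hM : IsPModular p M) (hnc : ∃ k : ℕ, (pPrimeCore p G).index = p ^ k)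
    [DecidablePred (· ∈ principalBlock M G)] :
    ∑ χ : IrrCharacter G, (if χ ∈ principalBlock M G then (χ : G → ℂ) 1 * (χ : G → ℂ) 1 else 0) =
      ((p ^ (Nat.card G).factorization p : ℕ) : ℂ) := by
  classical
  set K := pPrimeCore p G with hK
  have : K.Normal := by
    have := CfsgLib.Cores.pPrimeCore_characteristic (G := G) p
    exact inferInstance
  let _ := Fintype.ofFinite K
  have hB0 : principalBlock M G = {χ : IrrCharacter G | ∀ n ∈ K, (χ : G → ℂ) n = (χ : G → ℂ) 1} :=
    Cfsg.Agent.S0939.result p M hM hnc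
  have key : ∀ χ : IrrCharacter G, ∑ n : K, (χ : G → ℂ) n =
      if χ ∈ principalBlock M G then (Nat.card K : ℂ) * (χ : G → ℂ) 1 else 0 := by
    intro χ
    by_cases h : ∀ n ∈ K, (χ : G → ℂ) n = (χ : G → ℂ) 1
    · rw [if_pos (by rw [hB0]; exact h), Finset.sum_congr rfl fun (n : K) _ => h n n.2]
      simp [Nat.card_eq_fintype_card]
    · rw [if_neg (by rw [hB0]; exact h)]
      by_contra hne
      refine h (CfsgLib.CharNormal.res_eq_degree_of_constituent_one (N := K) χ.2 ?_)
      rw [CfsgLib.Char.classInner_one_right]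
      exact mul_ne_zero (inv_ne_zero CfsgLib.Char.card_ne_zero') hne
  have h1 : (Nat.card K : ℂ) * ∑ χ : IrrCharacter G,
      (if χ ∈ principalBlock M G then (χ : G → ℂ) 1 * (χ : G → ℂ) 1 else 0) = (Nat.card G : ℂ) := by
    calc _ = ∑ χ : IrrCharacter G, (χ : G → ℂ) 1 * ∑ n : K, (χ : G → ℂ) n := by
          rw [Finset.mul_sum]
          refine Finset.sum_congr rfl fun χ _ => ?_
          rw [key]; split_ifs <;> ring
      _ = ∑ n : K, ∑ χ : IrrCharacter G, (χ : G → ℂ) 1 * (χ : G → ℂ) n := by
          simp only [Finset.mul_sum]; exact Finset.sum_comm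
      _ = (Nat.card G : ℂ) := by
          rw [Finset.sum_eq_single (1 : K)]
          · rw [OneMemClass.coe_one, CfsgLib.Char.sum_degree_mul_apply, if_pos rfl]
          · intro n _ hn
            rw [CfsgLib.Char.sum_degree_mul_apply, if_neg]
            exact fun h => hn (Subtype.ext h)
          · simp
  obtain ⟨k, hk⟩ := hnc
  have hcard : Nat.card K * p ^ k = Nat.card G := hk ▸ K.card_mul_index
  have hfac : (Nat.card G).factorization p = k := by
    rw [← hcard, Nat.factorization_mul Nat.card_pos.ne' (pow_ne_zero _ hp.out.ne_zero),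
      Finsupp.add_apply, Nat.Prime.factorization_pow hp.out, Finsupp.single_eq_same,
      Nat.factorization_eq_zero_of_not_dvd (CfsgLib.Cores.not_dvd_card_pPrimeCore p), zero_add]
  have h2 : (Nat.card G : ℂ) = (Nat.card K : ℂ) * ((p ^ k : ℕ) : ℂ) := by
    rw [← hcard]; push_cast; rfl
  rw [hfac]
  exact mul_left_cancel₀ CfsgLib.Char.card_ne_zero' (h1.trans h2)

variable {x : G} [Fintype (Subgroup.centralizer ({x} : Set G))]

omit [M.IsMaximal] [Fintype (Subgroup.centralizer ({x} : Set G))] in
theorem isConj_shift_iff (hx : ∃ k : ℕ, orderOf x = p ^ k) {c d : Subgroup.centralizer ({x} : Set G)}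
    (hc : ¬ p ∣ orderOf c) (hd : ¬ p ∣ orderOf d) : IsConj (x * (c : G)) (x * (d : G)) ↔ IsConj c d := by
  constructor
  · intro h
    obtain ⟨w, hw⟩ := isConj_iff.mp h
    have h1 : IsPPart p (x * (c : G)) x :=
      isPPart_mul (commute_of_mem_centralizer c) hx (by rwa [Subgroup.orderOf_coe])
    have h2 : IsPPart p (x * (d : G)) x :=
      isPPart_mul (commute_of_mem_centralizer d) hx (by rwa [Subgroup.orderOf_coe])
    have h3 : w * x * w⁻¹ = x := isPPart_unique (hw ▸ isPPart_conj h1 w) h2
    have hwC : w ∈ Subgroup.centralizer ({x} : Set G) :=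
      Subgroup.mem_centralizer_singleton_iff.mpr (mul_inv_eq_iff_eq_mul.mp h3)
    refine isConj_iff.mpr ⟨⟨w, hwC⟩, Subtype.ext ?_⟩
    have : x * (w * (c : G) * w⁻¹) = x * (d : G) := by
      rw [← hw]
      calc x * (w * (c : G) * w⁻¹) = (w * x * w⁻¹) * (w * (c : G) * w⁻¹) := by rw [h3]
        _ = _ := by group
    exact mul_left_cancel this
  · intro h
    obtain ⟨w, hw⟩ := isConj_iff.mp h
    refine isConj_iff.mpr ⟨(w : G), ?_⟩
    rw [← hw, Subgroup.coe_mul, Subgroup.coe_mul, Subgroup.coe_inv]
    have hwx := (commute_of_mem_centralizer w).eq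
    simp only [← mul_assoc, hwx]

omit [M.IsMaximal] [Fintype (Subgroup.centralizer ({x} : Set G))] in
theorem card_centralizer_shift (hx : ∃ k : ℕ, orderOf x = p ^ k) {c : Subgroup.centralizer ({x} : Set G)}
    (hc : ¬ p ∣ orderOf c) :
    Nat.card (Subgroup.centralizer ({x * (c : G)} : Set G)) =
      Nat.card (Subgroup.centralizer ({c} : Set (Subgroup.centralizer ({x} : Set G)))) := by
  have h1 : IsPPart p (x * (c : G)) x :=
    isPPart_mul (commute_of_mem_centralizer c) hx (by rwa [Subgroup.orderOf_coe])
  have key : ∀ w : G, w ∈ Subgroup.centralizer ({x * (c : G)} : Set G) →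
      w ∈ Subgroup.centralizer ({x} : Set G) ∧ w * (c : G) = (c : G) * w := by
    intro w hw
    rw [Subgroup.mem_centralizer_singleton_iff] at hw
    have hwx : Commute w x := by
      refine commute_pPart h1 (n := 1) hp.out.not_dvd_one ?_
      rw [pow_one]; exact hw
    refine ⟨Subgroup.mem_centralizer_singleton_iff.mpr hwx.eq, ?_⟩
    have : x * (w * (c : G)) = x * ((c : G) * w) := by
      rw [← mul_assoc, ← hwx.eq, mul_assoc, hw, mul_assoc]
    exact mul_left_cancel this
  refine Nat.card_congr
    { toFun := fun w => ⟨⟨w, (key w w.2).1⟩,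
        Subgroup.mem_centralizer_singleton_iff.mpr (Subtype.ext (key w w.2).2)⟩
      invFun := fun w => ⟨(w.1 : G), ?_⟩
      left_inv := fun w => rfl
      right_inv := fun w => rfl }
  rw [Subgroup.mem_centralizer_singleton_iff]
  have h2 : ((w.1 : G)) * (c : G) = (c : G) * (w.1 : G) :=
    congrArg Subtype.val (Subgroup.mem_centralizer_singleton_iff.mp w.2)
  rw [← mul_assoc, ← (commute_of_mem_centralizer w.1).eq, mul_assoc, h2, mul_assoc]

/-- On the section of `x` the principal block of `G` only sees the principal block of `C(x)`. -/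
theorem principal_section (hM : IsPModular p M) (hx : ∃ k : ℕ, orderOf x = p ^ k) (χ : IrrCharacter G)
    [DecidablePred (· ∈ principalBlock M G)]
    {y : Subgroup.centralizer ({x} : Set G)} (hy : ¬ p ∣ orderOf y) :
    blockPart (principalBlock M (Subgroup.centralizer ({x} : Set G)))
        (fun c : Subgroup.centralizer ({x} : Set G) => (χ : G → ℂ) (x * (c : G))) y =
      if χ ∈ principalBlock M G then (χ : G → ℂ) (x * (y : G)) else 0 := by
  classical
  let _ := Fintype.ofFinite {b : Set (IrrCharacter (Subgroup.centralizer ({x} : Set G))) // IsPBlock M b}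
  rw [← sum_inducing hM hx isPBlock_principalBlock χ hy,
    Finset.sum_eq_single ⟨_, isPBlock_principalBlock⟩]
  · rw [if_pos]
    exact (third_main hM (exists_inducedBlock_centralizer hM hx isPBlock_principalBlock)).mpr rfl
  · intro b _ hb
    refine if_neg fun h => hb (Subtype.ext ?_)
    exact (third_main hM ⟨_, h⟩).mp h
  · simp

/-- **Principal block on a section.** -/
theorem sum_principal_section (hM : IsPModular p M) (hx : ∃ k : ℕ, orderOf x = p ^ k)
    [DecidablePred (· ∈ principalBlock M G)]
    [DecidablePred (· ∈ principalBlock M (Subgroup.centralizer ({x} : Set G)))]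
    {y : Subgroup.centralizer ({x} : Set G)} (hy : ¬ p ∣ orderOf y) :
    ∑ ζ : IrrCharacter G, (if ζ ∈ principalBlock M G then
        (ζ : G → ℂ) (x * (y : G)) * conj ((ζ : G → ℂ) (x * (y : G))) else 0) =
      ∑ φ : IrrCharacter (Subgroup.centralizer ({x} : Set G)),
        if φ ∈ principalBlock M (Subgroup.centralizer ({x} : Set G)) then
          (φ : Subgroup.centralizer ({x} : Set G) → ℂ) y *
            conj ((φ : Subgroup.centralizer ({x} : Set G) → ℂ) y) else 0 := by
  classical
  set b₀ := principalBlock M (Subgroup.centralizer ({x} : Set G))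
  calc ∑ ζ : IrrCharacter G, (if ζ ∈ principalBlock M G then
        (ζ : G → ℂ) (x * (y : G)) * conj ((ζ : G → ℂ) (x * (y : G))) else 0)
      = ∑ ζ : IrrCharacter G, conj ((ζ : G → ℂ) (x * (y : G))) *
          blockPart b₀ (fun c : Subgroup.centralizer ({x} : Set G) => (ζ : G → ℂ) (x * (c : G))) y := by
        refine Finset.sum_congr rfl fun ζ _ => ?_
        rw [principal_section hM hx ζ hy]
        split_ifs <;> ring
    _ = blockPart b₀ (∑ ζ : IrrCharacter G, conj ((ζ : G → ℂ) (x * (y : G))) •
          fun c : Subgroup.centralizer ({x} : Set G) => (ζ : G → ℂ) (x * (c : G))) y := by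
        simp only [blockPart_apply, CfsgLib.Char.classInner_sum_left, CfsgLib.Char.classInner_smul_left,
          Finset.mul_sum, Finset.sum_mul]
        rw [Finset.sum_comm]
        refine Finset.sum_congr rfl fun φ _ => ?_
        split_ifs
        · exact Finset.sum_congr rfl fun ζ _ => by ring
        · simp
    _ = blockPart b₀ (∑ φ : IrrCharacter (Subgroup.centralizer ({x} : Set G)),
          conj ((φ : Subgroup.centralizer ({x} : Set G) → ℂ) y) •
            (φ : Subgroup.centralizer ({x} : Set G) → ℂ)) y := by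
        refine blockPart_congr_regular hM isPBlock_principalBlock hy fun c hc => ?_
        simp only [Finset.sum_apply, Pi.smul_apply, smul_eq_mul]
        rw [Finset.sum_congr rfl fun (ζ : IrrCharacter G) _ => mul_comm _ _,
          CfsgLib.Char.second_orthogonality,
          Finset.sum_congr rfl fun (φ : IrrCharacter (Subgroup.centralizer ({x} : Set G))) _ => mul_comm _ _,
          CfsgLib.Char.second_orthogonality, card_centralizer_shift hx hc,
          if_congr (isConj_shift_iff hx hc hy) rfl rfl]
    _ = _ := by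
        simp only [blockPart_apply, CfsgLib.Char.classInner_sum_left, CfsgLib.Char.classInner_smul_left,
          CfsgLib.Char.classInner_irrCharacter, mul_ite, mul_one, mul_zero, Finset.sum_ite_eq',
          Finset.mem_univ, if_true]
        exact Finset.sum_congr rfl fun φ _ => by split_ifs <;> ring

/-- With a normal `p`-complement in `C(x)`: the common value is the `p`-part of `|C(x)|`. -/
theorem sum_principal_section_complement (hM : IsPModular p M) (hx : ∃ k : ℕ, orderOf x = p ^ k)
    (hnc : ∃ k : ℕ, (pPrimeCore p (Subgroup.centralizer ({x} : Set G))).index = p ^ k)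
    [DecidablePred (· ∈ principalBlock M G)]
    {y : Subgroup.centralizer ({x} : Set G)} (hy : ¬ p ∣ orderOf y) :
    ∑ ζ : IrrCharacter G, (if ζ ∈ principalBlock M G then
        (ζ : G → ℂ) (x * (y : G)) * conj ((ζ : G → ℂ) (x * (y : G))) else 0) =
      ((p ^ (Nat.card (Subgroup.centralizer ({x} : Set G))).factorization p : ℕ) : ℂ) := by
  classical
  rw [sum_principal_section hM hx hy, ← sum_degree_sq_principal hM hnc]
  refine Finset.sum_congr rfl fun φ _ => ?_
  split_ifs with h
  · have hyK : y ∈ pPrimeCore p (Subgroup.centralizer ({x} : Set G)) := by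
      have := CfsgLib.Cores.pPrimeCore_characteristic (G := Subgroup.centralizer ({x} : Set G)) p
      exact mem_of_index_pow hM.1 hnc hy
    rw [Cfsg.Agent.S0939.result p M hM hnc] at h
    rw [h y hyK, ← CfsgLib.Char.char_inv (CfsgLib.Char.isCharacter_of_isIrr φ.2), inv_one]
  · rfl

/-- `principal_section` when `C(x)` has a normal `p`-complement. -/
theorem principal_section_const (hM : IsPModular p M) (hx : ∃ k : ℕ, orderOf x = p ^ k)
    (hnc : ∃ k : ℕ, (pPrimeCore p (Subgroup.centralizer ({x} : Set G))).index = p ^ k)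
    {χ : IrrCharacter G} (hχ : χ ∈ principalBlock M G)
    {y : Subgroup.centralizer ({x} : Set G)} (hy : ¬ p ∣ orderOf y) :
    (χ : G → ℂ) (x * (y : G)) = (χ : G → ℂ) x := by
  classical
  have h1 := principal_section hM hx χ hy
  have h2 := principal_section hM hx χ (y := (1 : Subgroup.centralizer ({x} : Set G)))
    (by rw [orderOf_one]; exact hp.out.not_dvd_one)
  rw [if_pos hχ] at h1 h2
  rw [OneMemClass.coe_one, mul_one] at h2
  rw [← h1, ← h2]
  simp only [blockPart_apply]
  refine Finset.sum_congr rfl fun φ _ => ?_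
  split_ifs with h
  · have hyK : y ∈ pPrimeCore p (Subgroup.centralizer ({x} : Set G)) := by
      have := CfsgLib.Cores.pPrimeCore_characteristic (G := Subgroup.centralizer ({x} : Set G)) p
      exact mem_of_index_pow hM.1 hnc hy
    rw [Cfsg.Agent.S0939.result p M hM hnc] at h
    rw [h y hyK]
  · rfl

end CfsgLib.Blocks
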