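import Cfsg.Agent.Lib.Blocks.AlgInt
import Mathlib.LinearAlgebra.Matrix.Trace
import Mathlib.LinearAlgebra.Matrix.NonsingularInverse
import Mathlib.GroupTheory.Perm.Cycle.Basic

/-!
# A trace lemma of Higman type

An idempotent matrix with local integral entries commuting with a monomial action whose cycles all
have length divisible by `p` gives trace zero when multiplied by that action.
-/

set_option autoImplicit false

noncomputable section

namespace CfsgLib.Blocks

open Cfsg Matrix

variable {ι : Type*} [Fintype ι] [DecidableEq ι]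

/-- If some invertible matrix conjugates `Y` to a nontrivial multiple of itself, `Y` has trace zero. -/
theorem trace_eq_zero_of_twist {R : Type*} [CommRing R] [IsDomain R] {Y X : Matrix ι ι R} {c : R}
    (hX : IsUnit X) (hc : c ≠ 1) (h : Y * X = c • (X * Y)) : Y.trace = 0 := by
  obtain ⟨u, rfl⟩ := hX
  have h2 : Y.trace = c * Y.trace := by
    calc Y.trace = (Y * (u : Matrix ι ι R) * ((u⁻¹ : (Matrix ι ι R)ˣ) : Matrix ι ι R)).trace := by
          rw [mul_assoc, Units.mul_inv, mul_one]
      _ = c * Y.trace := by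
          rw [h, Matrix.smul_mul, Matrix.trace_smul, mul_assoc, Matrix.trace_mul_comm, mul_assoc,
            Units.inv_mul, mul_one, smul_eq_mul]
  have h3 : (1 - c) * Y.trace = 0 := by rw [sub_mul, one_mul, ← h2, sub_self]
  exact (mul_eq_zero.mp h3).resolve_left (sub_ne_zero.mpr (Ne.symm hc))

omit [Fintype ι] [DecidableEq ι] in
/-- A `μ_p`-valued grading of a permutation whose cycle lengths are divisible by `p`. -/
theorem exists_grading [Finite ι] {R : Type*} [CommMonoid R] (σ : Equiv.Perm ι) {p : ℕ} {ζ : R}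
    (hζ : ζ ^ p = 1) (hcyc : ∀ (i : ι) (n : ℕ), (σ ^ n) i = i → p ∣ n) :
    ∃ w : ι → R, (∀ i, w i ^ p = 1) ∧ ∀ i, w (σ i) = ζ * w i := by
  classical
  let s : Setoid ι := ⟨σ.SameCycle, Equiv.Perm.SameCycle.refl σ, Equiv.Perm.SameCycle.symm,
    Equiv.Perm.SameCycle.trans⟩
  let r : ι → ι := fun i => (Quotient.mk s i).out
  have hr : ∀ i, ∃ n : ℕ, (σ ^ n) (r i) = i := fun i =>
    (show σ.SameCycle (r i) i from Quotient.exact (Quotient.out_eq (Quotient.mk s i))).exists_nat_pow_eq
  choose n hn using hr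
  refine ⟨fun i => ζ ^ n i, fun i => by rw [← pow_mul, mul_comm, pow_mul, hζ, one_pow], fun i => ?_⟩
  have hri : r (σ i) = r i := by
    refine congrArg Quotient.out (Quotient.sound ?_)
    exact (Equiv.Perm.sameCycle_apply_left.mpr (Equiv.Perm.SameCycle.refl σ i) : σ.SameCycle (σ i) i)
  have h1 : (σ ^ n (σ i)) (r i) = (σ ^ (n i + 1)) (r i) := by
    rw [← hri, hn, hri, pow_succ', Equiv.Perm.mul_apply, hn]
  have key : ∀ a b : ℕ, a ≤ b → (σ ^ a) (r i) = (σ ^ b) (r i) → ζ ^ a = ζ ^ b := by
    intro a b hab he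
    obtain ⟨c, rfl⟩ := Nat.exists_eq_add_of_le hab
    rw [pow_add, Equiv.Perm.mul_apply] at he
    obtain ⟨d, rfl⟩ := hcyc _ _ ((σ ^ a).injective he).symm
    rw [pow_add, pow_mul, hζ, one_pow, mul_one]
  change ζ ^ n (σ i) = ζ * ζ ^ n i
  rw [← pow_succ']
  rcases le_total (n (σ i)) (n i + 1) with h | h
  · exact key _ _ h h1
  · exact (key _ _ h h1.symm).symm

variable {M : Ideal AlgInt}

/-- A matrix over the local ring congruent to the identity is invertible. -/
theorem isUnit_of_res_eq_one [M.IsMaximal] {X : Matrix ι ι (locRing M)} (h : X.map (res M) = 1) :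
    IsUnit X := by
  rw [Matrix.isUnit_iff_isUnit_det, isUnit_iff_res_ne_zero, RingHom.map_det,
    RingHom.mapMatrix_apply, h, Matrix.det_one]
  exact one_ne_zero

/-- **Trace lemma.** `E` idempotent over the local ring, commuting with a monomial matrix `P` along a
permutation all of whose cycles have length divisible by `p`: then `E * P` has trace zero. -/
theorem trace_mul_monomial_eq_zero [M.IsMaximal] {p : ℕ} (hM : IsPModular p M) (σ : Equiv.Perm ι)
    (hcyc : ∀ (i : ι) (n : ℕ), (σ ^ n) i = i → p ∣ n)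
    (c : ι → locRing M) {E P : Matrix ι ι (locRing M)}
    (hP : ∀ i j, P i j = if i = σ j then c j else 0)
    (hE : E * E = E) (hEP : E * P = P * E) : (E * P).trace = 0 := by
  have hp := hM.1
  have hζ := Complex.isPrimitiveRoot_exp p hp.ne_zero
  set ζ₀ : AlgInt := ⟨_, hζ.isIntegral hp.pos⟩
  set ζ : locRing M := ofInt M ζ₀
  have hζp : ζ ^ p = 1 := Subtype.ext (by push_cast; exact hζ.pow_eq_one)
  have hζ1 : ζ ≠ 1 := fun h => hζ.ne_one hp.one_lt (congrArg Subtype.val h)
  obtain ⟨w, hwp, hwσ⟩ := exists_grading σ hζp hcyc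
  set T : Matrix ι ι (locRing M) := Matrix.diagonal w
  have hPT : T * P = ζ • (P * T) := by
    ext i j
    rw [Matrix.smul_apply, Matrix.diagonal_mul, Matrix.mul_diagonal, hP, smul_eq_mul]
    split_ifs with h
    · subst h; rw [hwσ]; ring_nf
    · simp
  have hT1 : T.map (res M) = 1 := by
    rw [Matrix.diagonal_map (map_zero _)]
    exact (congrArg Matrix.diagonal (funext fun i =>
      res_pPow_rootOfUnity M hM (k := 1) (by rw [pow_one]; exact hwp i))).trans Matrix.diagonal_one
  set X := 1 - E + E * T * E with hXdef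
  have hX : IsUnit X := by
    refine isUnit_of_res_eq_one ?_
    change (res M).mapMatrix X = 1
    rw [hXdef, map_add, map_sub, map_one, map_mul, map_mul,
      show (res M).mapMatrix T = 1 from hT1, mul_one, ← map_mul, hE, sub_add_cancel]
  have h1 : X * (E * P) = ζ • ((E * P) * X) := by
    have hl : X * (E * P) = E * (T * P) * E := by
      rw [hXdef, add_mul, sub_mul, one_mul]
      have : E * (E * P) = E * P := by rw [← mul_assoc, hE]
      rw [this, sub_self, zero_add, mul_assoc (E * T), ← mul_assoc E E, hE, hEP]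
      simp only [mul_assoc]
    have hr : (E * P) * X = E * (P * T) * E := by
      rw [hXdef, mul_add, mul_sub, mul_one]
      have : E * P * E = E * P := by rw [mul_assoc, ← hEP, ← mul_assoc, hE]
      rw [this, sub_self, zero_add, ← mul_assoc, ← mul_assoc, this]
      simp only [mul_assoc]
    rw [hl, hr, hPT, Matrix.mul_smul, Matrix.smul_mul]
  -- conjugation by `X` multiplies `E * P` by `ζ⁻¹`
  have hinv : ζ * ζ ^ (p - 1) = 1 := by rw [← pow_succ', Nat.sub_add_cancel hp.pos, hζp]
  refine trace_eq_zero_of_twist hX (c := ζ ^ (p - 1)) (fun hc => hζ1 ?_) ?_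
  · rw [hc, mul_one] at hinv
    exact hinv
  · rw [h1, smul_smul, mul_comm, hinv, one_smul]

end CfsgLib.Blocks
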