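import Cfsg.Agent.Lib.Blocks.Basic
import Cfsg.Agent.Lib.Blocks.Higman

/-!
# Weak block orthogonality and its consequences
-/

set_option autoImplicit false

noncomputable section

namespace CfsgLib.Blocks

open Cfsg
open scoped ComplexConjugate

variable {M : Ideal AlgInt} [M.IsMaximal] {G : Type*} [Group G] [Fintype G] {p : ℕ}

omit [M.IsMaximal] in
theorem sum_blockCoeff_conj (B : Set (IrrCharacter G)) [DecidablePred (· ∈ B)] (x y : G) :
    ∑ g : G, blockCoeff B (g * y * g⁻¹ * x⁻¹) =
      ∑ η : IrrCharacter G, if η ∈ B then (η : G → ℂ) x * conj ((η : G → ℂ) y) else 0 := by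
  classical
  simp only [blockCoeff_eq, ← Finset.mul_sum]
  rw [Finset.sum_comm, Finset.mul_sum]
  refine Finset.sum_congr rfl (fun η _ => ?_)
  split_ifs with hη
  · have hc := CfsgLib.Char.isCharacter_of_isIrr η.2
    have h1 := CfsgLib.Char.irr_one_ne_zero η.2
    have hs := sum_char_mul_conj η.2 x⁻¹ y
    rw [CfsgLib.Char.char_inv hc] at hs
    rw [← Finset.mul_sum, Finset.sum_congr rfl (fun g _ => by
      rw [CfsgLib.Char.char_mul_comm' hc (g * y * g⁻¹) x⁻¹]), ← map_sum, hs, map_div₀, map_mul, map_mul,
      map_natCast, Complex.conj_conj, CfsgLib.Char.char_conj_one hc]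
    field_simp [CfsgLib.Char.card_ne_zero' (G := G)]
  · simp

/-- **Weak block orthogonality.** -/
theorem weak_orthogonality (hM : IsPModular p M) {B : Set (IrrCharacter G)} (hB : IsPBlock M B)
    [DecidablePred (· ∈ B)] {x y : G} (hx : ¬ p ∣ orderOf x) (hy : p ∣ orderOf y) :
    ∑ η : IrrCharacter G, (if η ∈ B then (η : G → ℂ) x * conj ((η : G → ℂ) y) else 0) = 0 := by
  classical
  let σ : Equiv.Perm G := (Equiv.mulLeft x).trans (Equiv.mulRight y⁻¹)
  have hσ : ∀ (n : ℕ) (g : G), (σ ^ n) g = x ^ n * g * (y ^ n)⁻¹ := by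
    intro n
    induction n with
    | zero => intro g; simp
    | succ n ih =>
      intro g
      rw [pow_succ', Equiv.Perm.mul_apply, ih]
      change x * (x ^ n * g * (y ^ n)⁻¹) * y⁻¹ = _
      rw [pow_succ' x, pow_succ y, mul_inv_rev]
      simp only [← mul_assoc]
      group
  have hcyc : ∀ (g : G) (n : ℕ), (σ ^ n) g = g → p ∣ n := by
    intro g n hn
    rw [hσ, mul_inv_eq_iff_eq_mul] at hn
    have hsc : SemiconjBy g (y ^ n) (x ^ n) := hn.symm
    have h2 := hsc.pow_right (orderOf x)
    rw [← pow_mul, ← pow_mul, mul_comm n, pow_mul x, pow_orderOf_eq_one, one_pow, SemiconjBy, one_mul] at h2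
    have h3 : y ^ (orderOf x * n) = 1 := mul_eq_left.mp h2
    rcases hM.1.dvd_mul.mp (hy.trans (orderOf_dvd_of_pow_eq_one h3)) with h | h
    · exact absurd h hx
    · exact h
  set e : Zint M G := idem hB
  let E : Matrix G G (locRing M) := fun g h =>
    ⟨blockCoeff B (g * h⁻¹), blockCoeff_mem_locRing hB _⟩
  let P : Matrix G G (locRing M) := fun i j => if i = σ j then 1 else 0
  have hE : E * E = E := by
    ext g h
    rw [Matrix.mul_apply, AddSubmonoidClass.coe_finsetSum]
    have he : (blockElt B * blockElt B).coeff (g * h⁻¹) = blockCoeff B (g * h⁻¹) :=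
      congrArg (fun a : Zint M G => (a : CA G).coeff (g * h⁻¹)) (idem_mul_self hB)
    rw [coeff_mul_eq_sum] at he
    refine (Fintype.sum_equiv ((Equiv.inv G).trans (Equiv.mulLeft g)) _ _ (fun k => ?_)).trans he
    simp only [E, Subring.coe_mul, blockElt, coeff_ofFun, Equiv.trans_apply, Equiv.inv_apply,
      Equiv.coe_mulLeft]
    congr 2
    group
  have hEP : E * P = P * E := by
    ext i j
    rw [Matrix.mul_apply, Matrix.mul_apply, Finset.sum_eq_single (σ j)
      (fun b _ hb => by simp [P, hb]) (by simp), Finset.sum_eq_single (σ.symm i)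
      (fun b _ hb => by
        simp only [P]; rw [if_neg, zero_mul]
        exact fun h => hb (by rw [h, Equiv.symm_apply_apply])) (by simp)]
    have hs : σ.symm i = x⁻¹ * i * y := by
      rw [Equiv.symm_apply_eq]
      change i = x * (x⁻¹ * i * y) * y⁻¹
      group
    simp only [P, Equiv.apply_symm_apply, if_true, one_mul, mul_one]
    rw [hs]
    change blockCoeff B (i * (x * j * y⁻¹)⁻¹) = blockCoeff B (x⁻¹ * i * y * j⁻¹)
    rw [← blockCoeff_conj B (x⁻¹ * i * y * j⁻¹) x]
    congr 1
    group
  have htr := trace_mul_monomial_eq_zero hM σ hcyc (fun _ => 1) (P := P) (fun i j => rfl) hE hEP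
  rw [← sum_blockCoeff_conj]
  refine Eq.trans ?_ (congrArg Subtype.val htr)
  rw [Matrix.trace, AddSubmonoidClass.coe_finsetSum]
  refine Finset.sum_congr rfl (fun g _ => ?_)
  rw [Matrix.diag_apply, Matrix.mul_apply, Finset.sum_eq_single (σ g)
      (fun b _ hb => by simp [P, hb]) (by simp)]
  simp only [P, if_true, mul_one]
  change _ = blockCoeff B (g * (x * g * y⁻¹)⁻¹)
  congr 1
  group

/-- The block idempotent is supported on `p`-regular elements. -/
theorem blockCoeff_eq_zero (hM : IsPModular p M) {B : Set (IrrCharacter G)} (hB : IsPBlock M B)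
    {g : G} (hg : p ∣ orderOf g) : blockCoeff B g = 0 := by
  classical
  have h := weak_orthogonality hM hB (x := 1) (y := g)
    (by rw [orderOf_one]; exact hM.1.not_dvd_one) hg
  rw [blockCoeff_eq, h, mul_zero]

/-- Characters in different blocks are orthogonal over the `p`-regular elements. -/
theorem regular_orthogonality (hM : IsPModular p M) {χ ψ : IrrCharacter G}
    (h : ¬ SameBlock M (χ : G → ℂ) (ψ : G → ℂ)) :
    ∑ g : G, (if p ∣ orderOf g then 0 else (χ : G → ℂ) g * conj ((ψ : G → ℂ) g)) = 0 := by
  classical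
  set B := blockOf M (χ : G → ℂ) with hBdef
  have hB : IsPBlock M B := isPBlock_blockOf χ
  have hψ : ψ ∉ B := h
  set a : IrrCharacter G → ℂ := fun η =>
    if η ∈ B then ∑ g : G, (if p ∣ orderOf g then 0 else conj ((η : G → ℂ) g) * (ψ : G → ℂ) g) else 0
    with ha
  have key : ∑ η : IrrCharacter G, a η • (η : G → ℂ) = 0 := by
    funext x
    simp only [Finset.sum_apply, Pi.smul_apply, smul_eq_mul, Pi.zero_apply]
    have hsw : ∑ η : IrrCharacter G, a η * (η : G → ℂ) x =
        ∑ g : G, if p ∣ orderOf g then 0 else (ψ : G → ℂ) g *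
          ∑ η : IrrCharacter G, (if η ∈ B then (η : G → ℂ) x * conj ((η : G → ℂ) g) else 0) := by
      simp only [ha]
      calc _ = ∑ η : IrrCharacter G, ∑ g : G, (if η ∈ B then (if p ∣ orderOf g then 0 else
              conj ((η : G → ℂ) g) * (ψ : G → ℂ) g) * (η : G → ℂ) x else 0) :=
            Finset.sum_congr rfl (fun η _ => by split_ifs <;> simp [Finset.sum_mul])
        _ = _ := by
            rw [Finset.sum_comm]
            refine Finset.sum_congr rfl (fun g _ => ?_)
            split_ifs with hg
            · simp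
            · rw [Finset.mul_sum]
              exact Finset.sum_congr rfl (fun η _ => by split_ifs <;> ring)
    rw [hsw]
    by_cases hx : p ∣ orderOf x
    · refine Finset.sum_eq_zero (fun g _ => ?_)
      split_ifs with hg
      · rfl
      · have hw := congrArg conj (weak_orthogonality hM hB hg hx)
        rw [map_sum, map_zero] at hw
        rw [show ∑ η : IrrCharacter G,
          (if η ∈ B then (η : G → ℂ) x * conj ((η : G → ℂ) g) else 0) = 0 from by
            refine (Finset.sum_congr rfl (fun η _ => ?_)).trans hw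
            rw [apply_ite conj, map_zero, map_mul, Complex.conj_conj, mul_comm], mul_zero]
    · have hz : ∀ g : G, p ∣ orderOf g → ∑ η : IrrCharacter G,
          (if η ∈ B then (η : G → ℂ) x * conj ((η : G → ℂ) g) else 0) = 0 :=
        fun g hg => weak_orthogonality hM hB hx hg
      rw [Finset.sum_congr rfl (fun g _ => show _ = (ψ : G → ℂ) g *
          ∑ η : IrrCharacter G, (if η ∈ B then (η : G → ℂ) x * conj ((η : G → ℂ) g) else 0) by
        split_ifs with hg
        · rw [hz g hg, mul_zero]
        · rfl)]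
      simp only [Finset.mul_sum]
      rw [Finset.sum_comm]
      refine Finset.sum_eq_zero (fun η _ => ?_)
      split_ifs with hη
      · calc ∑ g : G, (ψ : G → ℂ) g * ((η : G → ℂ) x * conj ((η : G → ℂ) g))
            = (η : G → ℂ) x * ((Nat.card G : ℂ) * Cfsg.classInner (ψ : G → ℂ) (η : G → ℂ)) := by
              rw [CfsgLib.Char.card_mul_classInner, Finset.mul_sum]
              exact Finset.sum_congr rfl (fun g _ => by ring)
          _ = 0 := by
              have hne : ψ ≠ η := fun he => hψ (by rw [he]; exact hη)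
              rw [CfsgLib.Char.classInner_irrCharacter, if_neg hne, mul_zero, mul_zero]
      · simp
  have hχ := Fintype.linearIndependent_iff.mp CfsgLib.Char.linearIndependent_irr a key χ
  rw [ha] at hχ
  simp only [if_pos (mem_blockOf_self χ), hBdef] at hχ
  have hc := congrArg conj hχ
  rw [map_sum, map_zero] at hc
  refine (Finset.sum_congr rfl (fun g _ => ?_)).trans hc
  rw [apply_ite conj, map_zero, map_mul, Complex.conj_conj]

end CfsgLib.Blocks
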