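import Cfsg.Agent.Lib.Blocks.Brauer
import Mathlib.GroupTheory.Sylow
import Mathlib.GroupTheory.Nilpotent
import Mathlib.Algebra.Group.Subgroup.Pointwise

/-!
# Defect groups: the min-max theorem and its consequences
-/

set_option autoImplicit false

noncomputable section

namespace CfsgLib.Blocks

open Cfsg

variable {M : Ideal AlgInt} {G : Type*} [Group G] {p : ℕ}

section group

/-- `D` is a Sylow `p`-subgroup of the centraliser of `g`. -/
def IsClassDefect (p : ℕ) (g : G) (D : Subgroup G) : Prop :=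
  ∃ P : Sylow p (Subgroup.centralizer ({g} : Set G)),
    D = (P : Subgroup (Subgroup.centralizer ({g} : Set G))).map
      (Subgroup.centralizer ({g} : Set G)).subtype

/-- Conjugate of a subgroup. -/
def cj (x : G) (P : Subgroup G) : Subgroup G := P.map (MulAut.conj x).toMonoidHom

theorem mem_cj {x g : G} {P : Subgroup G} : g ∈ cj x P ↔ x⁻¹ * g * x ∈ P := by
  rw [cj, Subgroup.mem_map]
  constructor
  · rintro ⟨y, hy, rfl⟩
    simpa [mul_assoc] using hy
  · intro h
    exact ⟨_, h, by simp [mul_assoc]⟩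

theorem cj_cj (x y : G) (P : Subgroup G) : cj x (cj y P) = cj (x * y) P := by
  ext g
  simp [mem_cj, mul_assoc]

@[simp] theorem cj_one (P : Subgroup G) : cj (1 : G) P = P := by
  ext g
  simp [mem_cj]

theorem card_cj (x : G) (P : Subgroup G) : Nat.card (cj x P) = Nat.card P :=
  Subgroup.card_map_of_injective (MulEquiv.injective _)

theorem cj_mono (x : G) {P Q : Subgroup G} (h : P ≤ Q) : cj x P ≤ cj x Q := Subgroup.map_mono h

theorem isPGroup_cj (x : G) {P : Subgroup G} (h : IsPGroup p P) : IsPGroup p (cj x P) :=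
  h.map (MulAut.conj x).toMonoidHom

theorem mem_centralizer_cj {x c : G} {P : Subgroup G}
    (h : c ∈ Subgroup.centralizer (P : Set G)) :
    x * c * x⁻¹ ∈ Subgroup.centralizer ((cj x P : Subgroup G) : Set G) := by
  rw [Subgroup.mem_centralizer_iff] at h ⊢
  intro y hy
  have hy' : x⁻¹ * y * x ∈ P := mem_cj.mp hy
  calc y * (x * c * x⁻¹) = x * ((x⁻¹ * y * x) * c) * x⁻¹ := by group
    _ = x * (c * (x⁻¹ * y * x)) * x⁻¹ := by rw [h _ hy']
    _ = x * c * x⁻¹ * y := by group

theorem le_centralizer_singleton_iff {g : G} {P : Subgroup G} :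
    P ≤ Subgroup.centralizer ({g} : Set G) ↔ g ∈ Subgroup.centralizer (P : Set G) := by
  rw [Subgroup.mem_centralizer_iff]
  constructor
  · intro h x hx
    exact (Subgroup.mem_centralizer_iff.mp (h hx) g rfl).symm
  · intro h x hx
    rw [Subgroup.mem_centralizer_iff]
    intro y hy
    rw [Set.mem_singleton_iff.mp hy]
    exact (h x hx).symm

theorem IsClassDefect.le_centralizer {g : G} {D : Subgroup G} (h : IsClassDefect p g D) :
    D ≤ Subgroup.centralizer ({g} : Set G) := by
  obtain ⟨P, rfl⟩ := h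
  exact Subgroup.map_subtype_le _

theorem IsClassDefect.isPGroup {g : G} {D : Subgroup G} (h : IsClassDefect p g D) :
    IsPGroup p D := by
  obtain ⟨P, rfl⟩ := h
  exact P.isPGroup'.map _

theorem IsClassDefect.mem_centralizer {g : G} {D : Subgroup G} (h : IsClassDefect p g D) :
    g ∈ Subgroup.centralizer (D : Set G) :=
  le_centralizer_singleton_iff.mp h.le_centralizer

variable [Finite G] [hp : Fact p.Prime]

omit [Finite G] hp in
theorem exists_isClassDefect (g : G) : ∃ D : Subgroup G, IsClassDefect p g D :=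
  ⟨_, Classical.arbitrary (Sylow p (Subgroup.centralizer ({g} : Set G))), rfl⟩

theorem IsClassDefect.card {g : G} {D : Subgroup G} (h : IsClassDefect p g D) :
    Nat.card D = p ^ (Nat.card (Subgroup.centralizer ({g} : Set G))).factorization p := by
  obtain ⟨P, rfl⟩ := h
  rw [Subgroup.card_map_of_injective (Subgroup.subtype_injective _)]
  exact P.card_eq_multiplicity

theorem isClassDefect_of_card {g : G} {D : Subgroup G}
    (hle : D ≤ Subgroup.centralizer ({g} : Set G))
    (hcard : Nat.card D = p ^ (Nat.card (Subgroup.centralizer ({g} : Set G))).factorization p) :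
    IsClassDefect p g D := by
  refine ⟨Sylow.ofCard (D.subgroupOf _)
    ((Nat.card_congr (Subgroup.subgroupOfEquivOfLe hle).toEquiv).trans hcard), ?_⟩
  rw [Sylow.coe_ofCard, Subgroup.map_subgroupOf_eq_of_le hle]

/-- A `p`-subgroup centralising `g` is conjugate into any Sylow subgroup of the centraliser. -/
theorem IsClassDefect.exists_cj_le {g : G} {D : Subgroup G} (h : IsClassDefect p g D) {Q : Subgroup G}
    (hQ : IsPGroup p Q) (hg : g ∈ Subgroup.centralizer (Q : Set G)) :
    ∃ x ∈ Subgroup.centralizer ({g} : Set G), cj x Q ≤ D := by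
  obtain ⟨P, rfl⟩ := h
  have hle : Q ≤ Subgroup.centralizer ({g} : Set G) := le_centralizer_singleton_iff.mpr hg
  have hQ' : IsPGroup p (Q.subgroupOf (Subgroup.centralizer ({g} : Set G))) :=
    hQ.of_injective (Subgroup.subgroupOfEquivOfLe hle).toMonoidHom (MulEquiv.injective _)
  obtain ⟨S, hS⟩ := hQ'.exists_le_sylow
  obtain ⟨c, hc⟩ := MulAction.exists_smul_eq (Subgroup.centralizer ({g} : Set G)) S P
  refine ⟨c, c.2, ?_⟩
  intro y hy
  rw [mem_cj] at hy
  have hyC : (c : G)⁻¹ * y * c ∈ Subgroup.centralizer ({g} : Set G) := hle hy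
  have hy' : (⟨_, hyC⟩ : Subgroup.centralizer ({g} : Set G)) ∈
      (S : Subgroup (Subgroup.centralizer ({g} : Set G))) := hS (Subgroup.mem_subgroupOf.mpr hy)
  have : c * ⟨_, hyC⟩ * c⁻¹ ∈ (P : Subgroup (Subgroup.centralizer ({g} : Set G))) := by
    rw [← hc, Sylow.coe_subgroup_smul]
    exact ⟨_, hy', rfl⟩
  refine ⟨_, this, ?_⟩
  simp [mul_assoc]

theorem IsClassDefect.conj {g : G} {D : Subgroup G} (h : IsClassDefect p g D) (x : G) :
    IsClassDefect p (x * g * x⁻¹) (cj x D) := by
  refine isClassDefect_of_card ?_ ?_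
  · exact le_centralizer_singleton_iff.mpr (mem_centralizer_cj h.mem_centralizer)
  · rw [card_cj, h.card]
    congr 3
    refine Nat.card_congr
      { toFun := fun c => ⟨x * c.1 * x⁻¹, ?_⟩
        invFun := fun c => ⟨x⁻¹ * c.1 * x, ?_⟩
        left_inv := fun c => Subtype.ext (by simp [mul_assoc])
        right_inv := fun c => Subtype.ext (by simp [mul_assoc]) }
    · rw [Subgroup.mem_centralizer_iff]
      intro y hy
      rw [Set.mem_singleton_iff.mp hy]
      have := Subgroup.mem_centralizer_iff.mp c.2 g rfl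
      calc x * g * x⁻¹ * (x * c.1 * x⁻¹) = x * (g * c.1) * x⁻¹ := by group
        _ = x * (c.1 * g) * x⁻¹ := by rw [this]
        _ = _ := by group
    · rw [Subgroup.mem_centralizer_iff]
      intro y hy
      rw [Set.mem_singleton_iff.mp hy]
      have := Subgroup.mem_centralizer_iff.mp c.2 (x * g * x⁻¹) rfl
      calc g * (x⁻¹ * c.1 * x) = x⁻¹ * ((x * g * x⁻¹) * c.1) * x := by group
        _ = x⁻¹ * (c.1 * (x * g * x⁻¹)) * x := by rw [this]
        _ = _ := by group

/-- If a conjugate of `g` centralises `Q`, then `Q` is conjugate into the defect group of `g`. -/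
theorem IsClassDefect.exists_cj_le_of_isConj {g : G} {D : Subgroup G} (h : IsClassDefect p g D)
    {Q : Subgroup G} (hQ : IsPGroup p Q) {c : G} (hgc : IsConj g c)
    (hc : c ∈ Subgroup.centralizer (Q : Set G)) : ∃ x : G, cj x Q ≤ D := by
  obtain ⟨y, rfl⟩ := isConj_iff.mp hgc
  have h2 : g ∈ Subgroup.centralizer ((cj y⁻¹ Q : Subgroup G) : Set G) := by
    have := mem_centralizer_cj (x := y⁻¹) hc
    simpa [mul_assoc] using this
  obtain ⟨z, -, hz⟩ := h.exists_cj_le (isPGroup_cj _ hQ) h2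
  exact ⟨z * y⁻¹, by rwa [← cj_cj]⟩

omit [Finite G] hp in
theorem exists_isConj_mem_of_cj_le {g : G} {D Q : Subgroup G} (h : g ∈ Subgroup.centralizer (D : Set G))
    {x : G} (hx : cj x Q ≤ D) : ∃ c, IsConj g c ∧ c ∈ Subgroup.centralizer (Q : Set G) := by
  refine ⟨x⁻¹ * g * x, isConj_iff.mpr ⟨x⁻¹, by simp⟩, ?_⟩
  have h1 : g ∈ Subgroup.centralizer ((cj x Q : Subgroup G) : Set G) :=
    Subgroup.centralizer_le (fun y hy => hx hy) h
  have := mem_centralizer_cj (x := x⁻¹) h1
  rw [cj_cj, inv_mul_cancel, cj_one, inv_inv] at this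
  exact this

omit hp in
/-- Two subgroups conjugate into each other are conjugate. -/
theorem cj_eq_of_le {D E : Subgroup G} {x : G} (h : cj x D ≤ E) (hcard : Nat.card E ≤ Nat.card D) :
    cj x D = E :=
  Subgroup.eq_of_le_of_card_ge h (by rw [card_cj]; exact hcard)

omit hp in
theorem card_le_of_cj_le {D E : Subgroup G} {x : G} (h : cj x D ≤ E) : Nat.card D ≤ Nat.card E :=
  (card_cj x D).symm.le.trans (Subgroup.card_le_of_le h)

/-- Conjugacy classes whose centraliser has Sylow subgroup `P` meet `C(P)` in one `N(P)`-class. -/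
theorem exists_normalizer_conj {P : Subgroup G} {g c₁ c₂ : G} (hg : IsClassDefect p g P)
    (h₁ : IsConj g c₁) (h₂ : IsConj g c₂) (hc₁ : c₁ ∈ Subgroup.centralizer (P : Set G))
    (hc₂ : c₂ ∈ Subgroup.centralizer (P : Set G)) :
    ∃ n ∈ Subgroup.normalizer (P : Set G), n * c₁ * n⁻¹ = c₂ := by
  obtain ⟨a, rfl⟩ := isConj_iff.mp h₁
  obtain ⟨b, hb⟩ := isConj_iff.mp (h₁.symm.trans h₂)
  subst hb
  have hd : IsClassDefect p (b * (a * g * a⁻¹) * b⁻¹) P := by
    have h := hg.conj (b * a)
    have e : b * a * g * (b * a)⁻¹ = b * (a * g * a⁻¹) * b⁻¹ := by group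
    rw [e] at h
    refine isClassDefect_of_card (le_centralizer_singleton_iff.mpr hc₂) ?_
    rw [← h.card, card_cj]
  obtain ⟨x, hx, hxle⟩ := hd.exists_cj_le (isPGroup_cj b hg.isPGroup) (mem_centralizer_cj hc₁)
  rw [cj_cj] at hxle
  have he := cj_eq_of_le hxle le_rfl
  refine ⟨x * b, ?_, ?_⟩
  · rw [Subgroup.mem_set_normalizer_iff]
    intro y
    constructor
    · intro hy
      have : x * b * y * (x * b)⁻¹ ∈ cj (x * b) P := mem_cj.mpr (by simpa [mul_assoc] using hy)
      rwa [he] at this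
    · intro hy
      have : x * b * y * (x * b)⁻¹ ∈ cj (x * b) P := by rw [he]; exact hy
      simpa [mem_cj, mul_assoc] using this
  · have := Subgroup.mem_centralizer_iff.mp hx (b * (a * g * a⁻¹) * b⁻¹) rfl
    calc x * b * (a * g * a⁻¹) * (x * b)⁻¹ = x * (b * (a * g * a⁻¹) * b⁻¹) * x⁻¹ := by group
      _ = b * (a * g * a⁻¹) * b⁻¹ * x * x⁻¹ := by rw [← this]
      _ = _ := by group

/-- If `P` is a Sylow subgroup of the centraliser of `c` in `N(P)`, it is one in `G`. -/
theorem isClassDefect_of_normalizer {P : Subgroup G} (hP : IsPGroup p P) {c : G}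
    (hc : c ∈ Subgroup.centralizer (P : Set G))
    (hmax : Nat.card P = p ^ (Nat.card
      ↥(Subgroup.centralizer ({c} : Set G) ⊓ Subgroup.normalizer (P : Set G))).factorization p) :
    IsClassDefect p c P := by
  obtain ⟨D, hD⟩ := exists_isClassDefect (p := p) c
  obtain ⟨x, hxC, hx⟩ := hD.exists_cj_le hP hc
  -- replace `D` by the Sylow subgroup `x⁻¹ D x`, which contains `P`
  set S : Subgroup G := cj x⁻¹ D with hSdef
  have hPS : P ≤ S := by
    have := cj_mono x⁻¹ hx
    rwa [cj_cj, inv_mul_cancel, cj_one] at this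
  have hS : IsClassDefect p c S := by
    have h := hD.conj x⁻¹
    have : x⁻¹ * c * x⁻¹⁻¹ = c := by
      have := Subgroup.mem_centralizer_iff.mp hxC c rfl
      rw [inv_inv, mul_assoc, this, inv_mul_cancel_left]
    rwa [this] at h
  have hle : S ⊓ Subgroup.normalizer (P : Set G) ≤
      Subgroup.centralizer ({c} : Set G) ⊓ Subgroup.normalizer (P : Set G) :=
    inf_le_inf_right _ hS.le_centralizer
  have hdvd := Subgroup.card_dvd_of_le hle
  obtain ⟨n, hn⟩ := IsPGroup.iff_card.mp (hS.isPGroup.to_le (inf_le_left (b := Subgroup.normalizer (P : Set G))))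
  have hcard : Nat.card ↥(S ⊓ Subgroup.normalizer (P : Set G)) ≤ Nat.card P := by
    rw [hn, hmax]
    refine Nat.pow_le_pow_right hp.out.pos ?_
    rw [hn] at hdvd
    exact (hp.out.pow_dvd_iff_le_factorization Nat.card_pos.ne').mp hdvd
  have heq : P = S ⊓ Subgroup.normalizer (P : Set G) :=
    Subgroup.eq_of_le_of_card_ge (le_inf hPS Subgroup.le_normalizer) hcard
  -- normalisers grow in the `p`-group `S`
  have hPS' : P = S := by
    by_contra hne
    have hlt : P.subgroupOf S < ⊤ := lt_top_iff_ne_top.mpr (fun h => hne (le_antisymm hPS (by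
      intro y hy
      exact Subgroup.mem_subgroupOf.mp (show (⟨y, hy⟩ : S) ∈ P.subgroupOf S by rw [h]; trivial))))
    have hnil : Group.IsNilpotent S := hS.isPGroup.isNilpotent
    have hgrow := (Group.normalizerCondition_of_isNilpotent (G := S)) _ hlt
    obtain ⟨y, hyN, hyP⟩ := SetLike.exists_of_lt hgrow
    refine hyP (Subgroup.mem_subgroupOf.mpr ?_)
    rw [heq]
    refine ⟨y.2, Subgroup.mem_set_normalizer_iff.mpr (fun z => ?_)⟩
    rw [Subgroup.mem_set_normalizer_iff] at hyN
    refine ⟨fun hz => ?_, fun hz => ?_⟩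
    · exact Subgroup.mem_subgroupOf.mp ((hyN ⟨z, hPS hz⟩).mp (Subgroup.mem_subgroupOf.mpr hz))
    · have hzS : z ∈ S := by
        have h1 := S.mul_mem (S.mul_mem (S.inv_mem y.2) (hPS hz)) y.2
        simpa [mul_assoc] using h1
      exact Subgroup.mem_subgroupOf.mp ((hyN ⟨z, hzS⟩).mpr (Subgroup.mem_subgroupOf.mpr hz))
  rw [hPS']
  exact hS

omit [Finite G] hp in
theorem isDefectGroup_iff {B : Set (IrrCharacter G)} {D : Subgroup G} :
    IsDefectGroup p M B D ↔ ∃ g : G, IsDefectClass M B g ∧ IsClassDefect p g D := Iff.rfl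

end group

variable [M.IsMaximal] [Fintype G]

theorem isDefectClass_iff {B : Set (IrrCharacter G)} (hB : IsPBlock M B) {χ : IrrCharacter G}
    (hχ : χ ∈ B) (g : G) :
    IsDefectClass M B g ↔ rcoeff (idem hB) g ≠ 0 ∧ bomega χ (zclass M g) ≠ 0 := by
  rw [IsDefectClass, Ne, rcoeff_eq_zero_iff, Ne, bomega_zclass_eq_zero_iff]
  exact ⟨fun h => ⟨h.2.1, h.2.2 χ hχ⟩, fun h => ⟨blockCoeff_mem_locRing hB g, h.1,
    fun ψ hψ hc => h.2 ((centralChar_memLocalIdeal_iff hB hψ hχ g).mp hc)⟩⟩

theorem isDefectClass_conj {B : Set (IrrCharacter G)} (hB : IsPBlock M B) {g h : G}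
    (hg : IsDefectClass M B g) (hc : IsConj g h) : IsDefectClass M B h := by
  classical
  obtain ⟨χ, hχ⟩ := IsPBlock.nonempty hB
  rw [isDefectClass_iff hB hχ] at hg ⊢
  have h2 : zclass M g = zclass M h := Subtype.ext (MonoidAlgebra.coeff_injective (Finsupp.ext fun x => by
    rw [coe_zclass, coe_zclass, classSum_coeff, classSum_coeff]
    exact if_congr ⟨hc.symm.trans, hc.trans⟩ rfl rfl))
  rwa [← rcoeff_eq_of_isConj _ hc, ← h2]

/-- A class with nonzero reduced central character meets the centraliser of a normal `p`-subgroup. -/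
theorem mem_centralizer_of_bomega_ne_zero (hM : IsPModular p M) {Q : Subgroup G} [Q.Normal]
    (hQ : IsPGroup p Q) {χ : IrrCharacter G} {g : G} (hg : bomega χ (zclass M g) ≠ 0) :
    g ∈ Subgroup.centralizer (Q : Set G) := by
  classical
  by_contra hn
  refine hg (bomega_eq_zero_of_support hM hQ χ (fun x hx => ?_))
  rw [rcoeff_zclass, if_neg]
  intro hc
  obtain ⟨y, rfl⟩ := isConj_iff.mp hc
  apply hn
  rw [Subgroup.mem_centralizer_iff] at hx ⊢
  intro q hq
  have hq' : y * q * y⁻¹ ∈ Q := (‹Q.Normal›).conj_mem q hq y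
  have := hx _ hq'
  calc q * g = y⁻¹ * ((y * q * y⁻¹) * (y * g * y⁻¹)) * y := by group
    _ = y⁻¹ * ((y * g * y⁻¹) * (y * q * y⁻¹)) * y := by rw [this]
    _ = g * q := by group

/-- **Key lemma for min-max**: if `B` is nonzero on the class of `g` and the block idempotent survives
at `P`, then the class of `g` meets the centraliser of `P`. -/
theorem exists_conj_mem_centralizer (hM : IsPModular p M) {B : Set (IrrCharacter G)} (hB : IsPBlock M B)
    {χ : IrrCharacter G} (hχ : χ ∈ B) {g : G} (hg : bomega χ (zclass M g) ≠ 0) {P : Subgroup G}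
    (hP : IsPGroup p P) {c : G} (hc : c ∈ Subgroup.centralizer (P : Set G))
    (he : rcoeff (idem hB) c ≠ 0) : ∃ d, IsConj g d ∧ d ∈ Subgroup.centralizer (P : Set G) := by
  classical
  by_contra hno
  set e := idem hB with hedef
  have hu : IsUnit (e * zclass M g + (1 - e)) := Zint_isUnit (fun η => by
    rw [map_add, map_mul, map_sub, map_one, hedef, bomega_idem]
    split_ifs with hη
    · rw [one_mul, sub_self, add_zero, bomega_eq_of_mem hB hη hχ]
      exact hg
    · rw [zero_mul, sub_zero, zero_add]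
      exact one_ne_zero)
  obtain ⟨u, hu'⟩ := hu
  have h1 : e = zclass M g * (e * ((u⁻¹ : (Zint M G)ˣ) : Zint M G)) := by
    have h2 : e * (u : Zint M G) = e * zclass M g := by
      rw [hu', mul_add, mul_sub, mul_one, ← mul_assoc, idem_mul_self, sub_self, add_zero]
    calc e = e * (u : Zint M G) * ((u⁻¹ : (Zint M G)ˣ) : Zint M G) := by
          rw [mul_assoc, Units.mul_inv, mul_one]
      _ = _ := by rw [h2, mul_assoc, mul_left_comm]
  apply he
  rw [h1, rcoeff_mul_centralizer hM hP _ _ hc]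
  refine Finset.sum_eq_zero (fun x _ => ?_)
  split_ifs with hx
  · rw [rcoeff_zclass, if_neg (fun h => hno ⟨x, h, hx⟩), zero_mul]
  · rfl

variable [hp : Fact p.Prime]

/-- Min-max, lower half: `ω_B(g) ≠ 0` implies a defect group is conjugate into that of `g`. -/
theorem defect_le_of_bomega_ne_zero (hM : IsPModular p M) {B : Set (IrrCharacter G)} (hB : IsPBlock M B)
    {D : Subgroup G} (hD : IsDefectGroup p M B D) {χ : IrrCharacter G} (hχ : χ ∈ B) {g : G}
    (hg : bomega χ (zclass M g) ≠ 0) {E : Subgroup G} (hE : IsClassDefect p g E) :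
    ∃ x : G, cj x D ≤ E := by
  obtain ⟨y, hy, hyD⟩ := isDefectGroup_iff.mp hD
  obtain ⟨d, hgd, hd⟩ := exists_conj_mem_centralizer hM hB hχ hg hyD.isPGroup hyD.mem_centralizer
    ((isDefectClass_iff hB hχ y).mp hy).1
  exact hE.exists_cj_le_of_isConj hyD.isPGroup hgd hd

/-- Min-max, upper half: a `p`-subgroup centralising an element where the block idempotent is
nonzero is conjugate into every defect group. -/
theorem cj_le_defect_of_rcoeff_ne_zero (hM : IsPModular p M) {B : Set (IrrCharacter G)}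
    (hB : IsPBlock M B) {D : Subgroup G} (hD : IsDefectGroup p M B D) {P : Subgroup G}
    (hP : IsPGroup p P) {c : G} (hc : c ∈ Subgroup.centralizer (P : Set G))
    (he : rcoeff (idem hB) c ≠ 0) : ∃ x : G, cj x P ≤ D := by
  obtain ⟨y, hy, hyD⟩ := isDefectGroup_iff.mp hD
  obtain ⟨χ, hχ⟩ := IsPBlock.nonempty hB
  obtain ⟨d, hgd, hd⟩ := exists_conj_mem_centralizer hM hB hχ ((isDefectClass_iff hB hχ y).mp hy).2 hP hc he
  exact hyD.exists_cj_le_of_isConj hP hgd hd

omit hp [M.IsMaximal] [Fintype G] in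
theorem IsDefectGroup.isPGroup {B : Set (IrrCharacter G)} {D : Subgroup G}
    (hD : IsDefectGroup p M B D) : IsPGroup p D := by
  obtain ⟨y, -, hyD⟩ := isDefectGroup_iff.mp hD
  exact hyD.isPGroup

omit hp in
theorem exists_isDefectGroup {B : Set (IrrCharacter G)} (hB : IsPBlock M B) :
    ∃ D : Subgroup G, IsDefectGroup p M B D := by
  obtain ⟨χ, hχ⟩ := IsPBlock.nonempty hB
  obtain ⟨y, hy⟩ := exists_defectClass hB hχ
  obtain ⟨D, hD⟩ := exists_isClassDefect (p := p) y
  exact ⟨D, y, hy, hD⟩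

theorem defectGroups_conj (hM : IsPModular p M) {B : Set (IrrCharacter G)} (hB : IsPBlock M B)
    {D E : Subgroup G} (hD : IsDefectGroup p M B D) (hE : IsDefectGroup p M B E) :
    ∃ x : G, cj x D = E := by
  obtain ⟨χ, hχ⟩ := IsPBlock.nonempty hB
  obtain ⟨y, hy, hyD⟩ := isDefectGroup_iff.mp hD
  obtain ⟨z, hz, hzE⟩ := isDefectGroup_iff.mp hE
  obtain ⟨x, hx⟩ := defect_le_of_bomega_ne_zero hM hB hD hχ ((isDefectClass_iff hB hχ z).mp hz).2 hzE
  obtain ⟨w, hw⟩ := defect_le_of_bomega_ne_zero hM hB hE hχ ((isDefectClass_iff hB hχ y).mp hy).2 hyD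
  exact ⟨x, cj_eq_of_le hx (card_le_of_cj_le hw)⟩

theorem IsDefectGroup.conj {B : Set (IrrCharacter G)} (hB : IsPBlock M B) {D : Subgroup G}
    (hD : IsDefectGroup p M B D) (x : G) : IsDefectGroup p M B (cj x D) := by
  obtain ⟨y, hy, hyD⟩ := isDefectGroup_iff.mp hD
  exact ⟨_, isDefectClass_conj hB hy (isConj_iff.mpr ⟨x, rfl⟩), hyD.conj x⟩

/-- A normal `p`-subgroup lies in every defect group. -/
theorem normal_le_defect (hM : IsPModular p M) {B : Set (IrrCharacter G)} (hB : IsPBlock M B)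
    {D : Subgroup G} (hD : IsDefectGroup p M B D) {Q : Subgroup G} [hQn : Q.Normal] (hQ : IsPGroup p Q) :
    Q ≤ D := by
  obtain ⟨χ, hχ⟩ := IsPBlock.nonempty hB
  obtain ⟨y, hy, hyD⟩ := isDefectGroup_iff.mp hD
  have hc := mem_centralizer_of_bomega_ne_zero hM hQ ((isDefectClass_iff hB hχ y).mp hy).2
  obtain ⟨x, -, hx⟩ := hyD.exists_cj_le hQ hc
  refine le_trans (fun q hq => ?_) hx
  rw [mem_cj]
  have := hQn.conj_mem q hq x⁻¹
  rwa [inv_inv] at this

/-- The block idempotent survives at `P` iff `P` is conjugate into a defect group. -/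
theorem exists_rcoeff_ne_zero_iff (hM : IsPModular p M) {B : Set (IrrCharacter G)} (hB : IsPBlock M B)
    {D : Subgroup G} (hD : IsDefectGroup p M B D) {P : Subgroup G} (hP : IsPGroup p P) :
    (∃ c ∈ Subgroup.centralizer (P : Set G), rcoeff (idem hB) c ≠ 0) ↔ ∃ x : G, cj x P ≤ D := by
  refine ⟨fun ⟨c, hc, he⟩ => cj_le_defect_of_rcoeff_ne_zero hM hB hD hP hc he, fun ⟨x, hx⟩ => ?_⟩
  obtain ⟨y, hy, hyD⟩ := isDefectGroup_iff.mp hD
  obtain ⟨χ, hχ⟩ := IsPBlock.nonempty hB
  obtain ⟨c, hyc, hc⟩ := exists_isConj_mem_of_cj_le hyD.mem_centralizer hx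
  exact ⟨c, hc, by rw [← rcoeff_eq_of_isConj _ hyc]; exact ((isDefectClass_iff hB hχ y).mp hy).1⟩

/-- Defect groups go up along block induction. -/
theorem defect_le_of_induced (hM : IsPModular p M) {H : Subgroup G} [Fintype H]
    {b : Set (IrrCharacter H)} {B : Set (IrrCharacter G)} (hind : IsInducedBlock M H b B) {D : Subgroup H}
    (hD : IsDefectGroup p M b D) {E : Subgroup G} (hE : IsDefectGroup p M B E) :
    ∃ x : G, cj x (D.map H.subtype) ≤ E := by
  classical
  obtain ⟨hb, hB, hind⟩ := (isInducedBlock_iff H).mp hind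
  obtain ⟨ξ, hξ⟩ := IsPBlock.nonempty hb
  obtain ⟨χ, hχ⟩ := IsPBlock.nonempty hB
  obtain ⟨y, hy, hyE⟩ := isDefectGroup_iff.mp hE
  have h1 := ((isDefectClass_iff hB hχ y).mp hy).2
  rw [← hind ξ hξ χ hχ, indBomega_apply] at h1
  have : Finite (ConjClasses H) := Finite.of_surjective _ ConjClasses.mk_surjective
  have := Fintype.ofFinite (ConjClasses H)
  rw [bomega_eq_sum] at h1
  obtain ⟨C, -, hC⟩ := Finset.exists_ne_zero_of_sum_ne_zero h1
  rw [mul_ne_zero_iff, rcoeff_resIn, rcoeff_zclass] at hC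
  have hconj : IsConj y (C.out : G) := by
    by_contra hn
    exact hC.1 (if_neg hn)
  obtain ⟨F, hF⟩ := exists_isClassDefect (p := p) C.out
  obtain ⟨x, hx⟩ := defect_le_of_bomega_ne_zero hM hb hD hξ hC.2 hF
  have hFG : (C.out : G) ∈ Subgroup.centralizer
      ((cj (x : G) (D.map H.subtype) : Subgroup G) : Set G) := by
    rw [Subgroup.mem_centralizer_iff]
    intro z hz
    obtain ⟨w, hw, hwe⟩ := mem_cj.mp hz
    have hz' : z = ((x * w * x⁻¹ : H) : G) := by
      push_cast
      rw [show ((w : H) : G) = (x : G)⁻¹ * z * (x : G) from hwe]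
      group
    have hm : x * w * x⁻¹ ∈ F := hx (mem_cj.mpr (by simpa [mul_assoc] using hw))
    have := Subgroup.mem_centralizer_iff.mp hF.mem_centralizer _ hm
    rw [hz', ← Subgroup.coe_mul, this, Subgroup.coe_mul]
  obtain ⟨w, hw⟩ := hyE.exists_cj_le_of_isConj
    (isPGroup_cj _ ((IsDefectGroup.isPGroup hD).map H.subtype)) hconj hFG
  exact ⟨w * x, by rwa [← cj_cj]⟩

end CfsgLib.Blocks
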