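import Cfsg.Agent.Lib.Blocks.Functional
import Cfsg.Agent.Lib.Blocks.Defect

/-!
# Degrees, defect and heights; the pairing of a block over `p`-regular elements
-/

set_option autoImplicit false

noncomputable section

namespace CfsgLib.Blocks

open Cfsg
open scoped ComplexConjugate

variable {M : Ideal AlgInt} [M.IsMaximal] {G : Type*} [Group G] [Fintype G] {p : ℕ}

omit [M.IsMaximal] in
theorem index_centralizer_factorization (p : ℕ) (g : G) :
    (Subgroup.centralizer ({g} : Set G)).index.factorization p +
      (Nat.card (Subgroup.centralizer ({g} : Set G))).factorization p = (Nat.card G).factorization p := by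
  rw [← Subgroup.card_mul_index (Subgroup.centralizer ({g} : Set G)),
    Nat.factorization_mul Nat.card_pos.ne' Subgroup.index_ne_zero_of_finite, Finsupp.add_apply, add_comm]

omit [M.IsMaximal] [Fintype G] in
theorem degree_pos (η : IrrCharacter G) : ((charDegree (η : G → ℂ) : ℕ) : ℂ) ≠ 0 := by
  exact_mod_cast charDegree_ne_zero η

theorem coe_zomega_zclass' (η : IrrCharacter G) (g : G) :
    ((zomega η (zclass M g) : locRing M) : ℂ) * (charDegree (η : G → ℂ) : ℂ) =
      ((Subgroup.centralizer ({g} : Set G)).index : ℂ) * (η : G → ℂ) g := by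
  rw [coe_zomega_zclass, centralChar, ← charDegree_eq (CfsgLib.Char.isCharacter_of_isIrr η.2),
    div_mul_cancel₀ _ (CfsgLib.Char.irr_one_ne_zero η.2)]

theorem rcoeff_idem_singular (hM : IsPModular p M) {B : Set (IrrCharacter G)} (hB : IsPBlock M B)
    {g : G} (hg : p ∣ orderOf g) : rcoeff (idem hB) g = 0 := by
  have h : (⟨((idem hB : Zint M G) : CA G).coeff g, (mem_Zint_iff.mp (idem hB).2).1 g⟩ : locRing M) = 0 :=
    Subtype.ext (blockCoeff_eq_zero hM hB hg)
  rw [rcoeff, h, map_zero]

theorem defectClass_pRegular (hM : IsPModular p M) {B : Set (IrrCharacter G)} (hB : IsPBlock M B)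
    {g : G} (hg : IsDefectClass M B g) : ¬ p ∣ orderOf g := by
  intro h
  obtain ⟨χ, hχ⟩ := IsPBlock.nonempty hB
  exact ((isDefectClass_iff hB hχ g).mp hg).1 (rcoeff_idem_singular hM hB h)

theorem le_degree_of_defectClass (hM : IsPModular p M) {B : Set (IrrCharacter G)} (hB : IsPBlock M B)
    {y : G} (hy : IsDefectClass M B y) {η : IrrCharacter G} (hη : η ∈ B) :
    (Subgroup.centralizer ({y} : Set G)).index.factorization p ≤
      (charDegree (η : G → ℂ)).factorization p := by
  have h := ((isDefectClass_iff hB hη y).mp hy).2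
  rw [bomega_apply] at h
  obtain ⟨u, hu⟩ := ((isUnit_iff_res_ne_zero M _).mpr h).exists_right_inv
  refine factorization_le_of_frac_mem hM (charDegree_ne_zero η) Subgroup.index_ne_zero_of_finite ?_
  have hidx : ((Subgroup.centralizer ({y} : Set G)).index : ℂ) ≠ 0 := by
    exact_mod_cast Subgroup.index_ne_zero_of_finite
  have hu' : ((zomega η (zclass M y) : locRing M) : ℂ) * (u : ℂ) = 1 := by
    exact_mod_cast congrArg Subtype.val hu
  have he : (charDegree (η : G → ℂ) : ℂ) / ((Subgroup.centralizer ({y} : Set G)).index : ℂ) =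
      (η : G → ℂ) y * (u : ℂ) := by
    rw [div_eq_iff hidx]
    calc (charDegree (η : G → ℂ) : ℂ)
        = (u : ℂ) * (((zomega η (zclass M y) : locRing M) : ℂ) * (charDegree (η : G → ℂ) : ℂ)) := by
          rw [← mul_assoc, mul_comm (u : ℂ), hu', one_mul]
      _ = _ := by rw [coe_zomega_zclass']; ring
  rw [he]
  exact Subring.mul_mem _ (algInt_le_locRing M
    (CfsgLib.Char.char_isIntegral (CfsgLib.Char.isCharacter_of_isIrr η.2) y)) u.2

theorem degree_le_of_cval_ne_zero (hM : IsPModular p M) {η : IrrCharacter G} {g : G}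
    (h : cval M η g ≠ 0) :
    (charDegree (η : G → ℂ)).factorization p ≤
      (Subgroup.centralizer ({g} : Set G)).index.factorization p := by
  obtain ⟨u, hu⟩ := ((isUnit_iff_res_ne_zero M _).mpr h).exists_right_inv
  refine factorization_le_of_frac_mem hM Subgroup.index_ne_zero_of_finite (charDegree_ne_zero η) ?_
  have hu' : (η : G → ℂ) g * (u : ℂ) = 1 := congrArg Subtype.val hu
  have he : ((Subgroup.centralizer ({g} : Set G)).index : ℂ) / (charDegree (η : G → ℂ) : ℂ) =
      ((zomega η (zclass M g) : locRing M) : ℂ) * (u : ℂ) := by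
    rw [div_eq_iff (degree_pos η), mul_right_comm, coe_zomega_zclass', mul_assoc, hu', mul_one]
  rw [he]
  exact Subring.mul_mem _ (SetLike.coe_mem _) u.2

theorem exists_cval_ne_zero (hM : IsPModular p M) {B : Set (IrrCharacter G)} (hB : IsPBlock M B)
    {y : G} (hy : IsDefectClass M B y) : ∃ η ∈ B, cval M η y⁻¹ ≠ 0 := by
  classical
  obtain ⟨χ, hχ⟩ := IsPBlock.nonempty hB
  obtain ⟨f, hf⟩ := exists_functional hM hB
  have h := hf y⁻¹ (by rw [orderOf_inv]; exact defectClass_pRegular hM hB hy)
  rw [inv_inv] at h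
  obtain ⟨η, -, hη⟩ := Finset.exists_ne_zero_of_sum_ne_zero
    (h.symm.trans_ne ((isDefectClass_iff hB hχ y).mp hy).1)
  by_cases hηB : η ∈ B
  · rw [if_pos hηB] at hη
    exact ⟨η, hηB, right_ne_zero_of_mul hη⟩
  · exact absurd (if_neg hηB) hη

variable [hp : Fact p.Prime]

omit hp in
theorem blockDefect_eq_of_defectClass (hM : IsPModular p M) {B : Set (IrrCharacter G)}
    (hB : IsPBlock M B) {y : G} (hy : IsDefectClass M B y) :
    blockDefect p B = (Nat.card (Subgroup.centralizer ({y} : Set G))).factorization p ∧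
      ∃ η ∈ B, (charDegree (η : G → ℂ)).factorization p + blockDefect p B =
        (Nat.card G).factorization p := by
  obtain ⟨η, hη, hv⟩ := exists_cval_ne_zero hM hB hy
  have hle := degree_le_of_cval_ne_zero hM hv
  rw [show Subgroup.centralizer ({y⁻¹} : Set G) = Subgroup.centralizer ({y} : Set G) by
    ext x
    simp only [Subgroup.mem_centralizer_iff, Set.mem_singleton_iff, forall_eq]
    exact ⟨fun h => by simpa using (Commute.inv_left (show Commute y⁻¹ x from h)).eq,
      fun h => (Commute.inv_left (show Commute y x from h)).eq⟩] at hle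
  have hge := le_degree_of_defectClass hM hB hy hη
  have hidx := index_centralizer_factorization p y
  have hmin : sInf ((fun χ : IrrCharacter G => (charDegree (χ : G → ℂ)).factorization p) '' B) =
      (Subgroup.centralizer ({y} : Set G)).index.factorization p := by
    refine le_antisymm ?_ ?_
    · refine le_trans ?_ hle
      exact Nat.sInf_le ⟨η, hη, rfl⟩
    · refine le_csInf (Set.Nonempty.image _ ⟨η, hη⟩) ?_
      rintro _ ⟨ψ, hψ, rfl⟩
      exact le_degree_of_defectClass hM hB hy hψ
  have hd : blockDefect p B = (Nat.card (Subgroup.centralizer ({y} : Set G))).factorization p := by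
    rw [blockDefect, hmin]; omega
  exact ⟨hd, η, hη, by omega⟩

theorem card_defectGroup (hM : IsPModular p M) {B : Set (IrrCharacter G)} (hB : IsPBlock M B)
    {D : Subgroup G} (hD : IsDefectGroup p M B D) : Nat.card D = p ^ blockDefect p B := by
  obtain ⟨y, hy, hyD⟩ := isDefectGroup_iff.mp hD
  rw [hyD.card, (blockDefect_eq_of_defectClass hM hB hy).1]

omit hp in
/-- Every member of a block has degree divisible by `p^(a - d)`, with equality for height zero. -/
theorem degree_height (hM : IsPModular p M) {B : Set (IrrCharacter G)} (hB : IsPBlock M B)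
    {η : IrrCharacter G} (hη : η ∈ B) :
    (charDegree (η : G → ℂ)).factorization p + blockDefect p B =
      (Nat.card G).factorization p + blockHeight p B (η : G → ℂ) := by
  obtain ⟨χ, hχ⟩ := IsPBlock.nonempty hB
  obtain ⟨y, hy⟩ := exists_defectClass hB hχ
  obtain ⟨-, ψ, hψ, hsum⟩ := blockDefect_eq_of_defectClass hM hB hy
  have h1 : sInf ((fun χ : IrrCharacter G => (charDegree (χ : G → ℂ)).factorization p) '' B) ≤
      (charDegree (η : G → ℂ)).factorization p := Nat.sInf_le ⟨η, hη, rfl⟩
  have h2 : sInf ((fun χ : IrrCharacter G => (charDegree (χ : G → ℂ)).factorization p) '' B) ≤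
      (charDegree (ψ : G → ℂ)).factorization p := Nat.sInf_le ⟨ψ, hψ, rfl⟩
  rw [blockHeight]
  unfold blockDefect at *
  omega

theorem exists_height_zero (hM : IsPModular p M) {B : Set (IrrCharacter G)} (hB : IsPBlock M B) :
    ∃ η ∈ B, blockHeight p B (η : G → ℂ) = 0 := by
  obtain ⟨χ, hχ⟩ := IsPBlock.nonempty hB
  obtain ⟨y, hy⟩ := exists_defectClass hB hχ
  obtain ⟨-, η, hη, h⟩ := blockDefect_eq_of_defectClass hM hB hy
  have := degree_height hM hB hη
  exact ⟨η, hη, by omega⟩

/-- A nonzero reduced central character bounds the defect of the class from below. -/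
theorem blockDefect_le_of_bomega_ne_zero (hM : IsPModular p M) {B : Set (IrrCharacter G)}
    (hB : IsPBlock M B) {χ : IrrCharacter G} (hχ : χ ∈ B) {g : G} (hg : bomega χ (zclass M g) ≠ 0) :
    blockDefect p B ≤ (Nat.card (Subgroup.centralizer ({g} : Set G))).factorization p := by
  obtain ⟨D, hD⟩ := exists_isDefectGroup (p := p) hB
  obtain ⟨E, hE⟩ := exists_isClassDefect (p := p) g
  obtain ⟨x, hx⟩ := defect_le_of_bomega_ne_zero hM hB hD hχ hg hE
  have h := card_le_of_cj_le hx
  rw [card_defectGroup hM hB hD, hE.card] at h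
  exact (Nat.pow_le_pow_iff_right hp.out.one_lt).mp h

/-- A defect-group-free upper bound: where the block idempotent is nonzero the class has defect at
most that of the block. -/
theorem le_blockDefect_of_rcoeff_ne_zero (hM : IsPModular p M) {B : Set (IrrCharacter G)}
    (hB : IsPBlock M B) {g : G} (hg : rcoeff (idem hB) g ≠ 0) :
    (Nat.card (Subgroup.centralizer ({g} : Set G))).factorization p ≤ blockDefect p B := by
  obtain ⟨D, hD⟩ := exists_isDefectGroup (p := p) hB
  obtain ⟨E, hE⟩ := exists_isClassDefect (p := p) g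
  obtain ⟨x, hx⟩ := cj_le_defect_of_rcoeff_ne_zero hM hB hD hE.isPGroup hE.mem_centralizer hg
  have h := card_le_of_cj_le hx
  rw [card_defectGroup hM hB hD, hE.card] at h
  exact (Nat.pow_le_pow_iff_right hp.out.one_lt).mp h

open Classical in
/-- The degree divided by `p^(a - d)`, reduced. -/
def kappa (M : Ideal AlgInt) [M.IsMaximal] (p : ℕ) (B : Set (IrrCharacter G)) (η : IrrCharacter G) :
    Res M :=
  if h : (charDegree (η : G → ℂ) : ℂ) /
      ((p ^ ((Nat.card G).factorization p - blockDefect p B) : ℕ) : ℂ) ∈ locRing M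
  then res M ⟨_, h⟩ else 0

open Classical in
/-- `p^(a - d)` divided by the class size, reduced. -/
def tauClass (M : Ideal AlgInt) [M.IsMaximal] (p : ℕ) (B : Set (IrrCharacter G)) (g : G) : Res M :=
  if h : ((p ^ ((Nat.card G).factorization p - blockDefect p B) : ℕ) : ℂ) /
      ((Subgroup.centralizer ({g} : Set G)).index : ℂ) ∈ locRing M
  then res M ⟨_, h⟩ else 0

theorem degree_frac_mem (hM : IsPModular p M) {B : Set (IrrCharacter G)} (hB : IsPBlock M B)
    {η : IrrCharacter G} (hη : η ∈ B) :
    (charDegree (η : G → ℂ) : ℂ) /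
      ((p ^ ((Nat.card G).factorization p - blockDefect p B) : ℕ) : ℂ) ∈ locRing M := by
  refine frac_mem_locRing hM (pow_ne_zero _ hp.out.ne_zero) (.inr ?_)
  rw [hp.out.factorization_pow, Finsupp.single_eq_same]
  have := degree_height hM hB hη
  omega

theorem kappa_ne_zero_iff (hM : IsPModular p M) {B : Set (IrrCharacter G)} (hB : IsPBlock M B)
    {η : IrrCharacter G} (hη : η ∈ B) :
    kappa M p B η ≠ 0 ↔ blockHeight p B (η : G → ℂ) = 0 := by
  rw [kappa, dif_pos (degree_frac_mem hM hB hη), Ne,
    res_frac_eq_zero_iff hM (charDegree_ne_zero η) (pow_ne_zero _ hp.out.ne_zero),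
    hp.out.factorization_pow, Finsupp.single_eq_same]
  have := degree_height hM hB hη
  have : blockDefect p B ≤ (Nat.card G).factorization p := by unfold blockDefect; exact Nat.sub_le _ _
  omega

theorem tau_frac_mem (hM : IsPModular p M) {B : Set (IrrCharacter G)} {g : G}
    (hg : blockDefect p B ≤ (Nat.card (Subgroup.centralizer ({g} : Set G))).factorization p) :
    ((p ^ ((Nat.card G).factorization p - blockDefect p B) : ℕ) : ℂ) /
      ((Subgroup.centralizer ({g} : Set G)).index : ℂ) ∈ locRing M := by
  refine frac_mem_locRing hM Subgroup.index_ne_zero_of_finite (.inr ?_)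
  rw [hp.out.factorization_pow, Finsupp.single_eq_same]
  have := index_centralizer_factorization p g
  omega

/-- Reduced character values on classes of defect at least that of the block. -/
theorem cval_eq_kappa_mul (hM : IsPModular p M) {B : Set (IrrCharacter G)} (hB : IsPBlock M B)
    {η : IrrCharacter G} (hη : η ∈ B) {g : G}
    (hg : blockDefect p B ≤ (Nat.card (Subgroup.centralizer ({g} : Set G))).factorization p) :
    cval M η g = kappa M p B η * (tauClass M p B g * bomega η (zclass M g)) := by
  rw [kappa, dif_pos (degree_frac_mem hM hB hη), tauClass, dif_pos (tau_frac_mem hM hg), bomega_apply,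
    cval, ← map_mul, ← map_mul]
  refine congrArg (res M) (Subtype.ext ?_)
  push_cast
  have h1 : ((p : ℂ) ^ ((Nat.card G).factorization p - blockDefect p B)) ≠ 0 := by
    exact_mod_cast pow_ne_zero _ hp.out.ne_zero
  have h2 : ((Subgroup.centralizer ({g} : Set G)).index : ℂ) ≠ 0 := by
    exact_mod_cast Subgroup.index_ne_zero_of_finite
  rw [coe_cvalR]
  have h := coe_zomega_zclass' (M := M) η g
  field_simp
  linear_combination -h

open Classical in
/-- The element `∑ conj θ(x) x` over the `p`-regular `x`. -/
def regElt (M : Ideal AlgInt) [M.IsMaximal] (p : ℕ) {θ : G → ℂ} (hθ : IsCharacter G θ) : Zint M G :=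
  ⟨ofFun (fun x => if p ∣ orderOf x then 0 else conj (θ x)), mem_Zint_iff.mpr
    ⟨fun g => by
      rw [coeff_ofFun]
      split_ifs
      · exact Subring.zero_mem _
      · rw [← CfsgLib.Char.char_inv hθ]
        exact algInt_le_locRing M (CfsgLib.Char.char_isIntegral hθ _),
    fun g h => by
      rw [coeff_ofFun, coeff_ofFun, CfsgLib.Char.isClassFunction_of_isCharacter hθ g h,
        show orderOf (h * g * h⁻¹) = orderOf g from (SemiconjBy.conj_mk h g).orderOf_eq.symm]⟩⟩

omit hp in
theorem rcoeff_regElt {θ : G → ℂ} (hθ : IsCharacter G θ) (g : G) :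
    rcoeff (regElt M p hθ) g = if p ∣ orderOf g then 0 else res M (cvalR M hθ g⁻¹) := by
  by_cases h : p ∣ orderOf g
  · rw [if_pos h, rcoeff]
    exact (congrArg (res M) (Subtype.ext (by simp [regElt, h]))).trans (map_zero _)
  · rw [if_neg h, rcoeff]
    refine congrArg (res M) (Subtype.ext ?_)
    rw [coe_cvalR, CfsgLib.Char.char_inv hθ]
    simp [regElt, h]

omit hp in
theorem zomega_regElt (χ : IrrCharacter G) {θ : G → ℂ} (hθ : IsCharacter G θ) :
    ((zomega χ (regElt M p hθ) : locRing M) : ℂ) =
      (∑ g : G, if p ∣ orderOf g then 0 else (χ : G → ℂ) g * conj (θ g)) / (χ : G → ℂ) 1 := by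
  classical
  rw [coe_zomega, omega, charLin_apply]
  congr 1
  exact Finset.sum_congr rfl (fun g _ => by simp [regElt, mul_comm])

omit hp in
theorem zomega_regElt_eq_zero (hM : IsPModular p M) {χ η : IrrCharacter G}
    (h : ¬ SameBlock M (χ : G → ℂ) (η : G → ℂ)) :
    zomega χ (regElt M p (CfsgLib.Char.isCharacter_of_isIrr η.2)) = 0 := by
  apply Subtype.ext
  rw [zomega_regElt, regular_orthogonality hM h, zero_div]
  rfl

/-- **The pairing.** On a block, `(χ, η) ↦ ω_χ(∑ conj η(x) x)` reduces to `κ_η · Λ` with `Λ ≠ 0`. -/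
theorem exists_pairing (hM : IsPModular p M) {B : Set (IrrCharacter G)} (hB : IsPBlock M B) :
    ∃ L : Res M, L ≠ 0 ∧ ∀ χ ∈ B, ∀ η ∈ B,
      bomega χ (regElt M p (CfsgLib.Char.isCharacter_of_isIrr (η : IrrCharacter G).2)) =
        kappa M p B η * L := by
  classical
  have : Finite (ConjClasses G) := Finite.of_surjective _ ConjClasses.mk_surjective
  have := Fintype.ofFinite (ConjClasses G)
  obtain ⟨χ₀, hχ₀⟩ := IsPBlock.nonempty hB
  obtain ⟨f, hf⟩ := exists_functional hM hB
  let u : ConjClasses G → Res M := fun C => if p ∣ orderOf C.out then 0 else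
    tauClass M p B C.out⁻¹ * bomega χ₀ (zclass M C.out⁻¹) * bomega χ₀ (zclass M C.out)
  have hdef : ∀ C : ConjClasses G, bomega χ₀ (zclass M C.out) ≠ 0 →
      blockDefect p B ≤ (Nat.card (Subgroup.centralizer ({C.out⁻¹} : Set G))).factorization p := by
    intro C hC
    have h := blockDefect_le_of_bomega_ne_zero hM hB hχ₀ hC
    rwa [show Subgroup.centralizer ({C.out⁻¹} : Set G) = Subgroup.centralizer ({C.out} : Set G) by
      ext x
      simp only [Subgroup.mem_centralizer_iff, Set.mem_singleton_iff, forall_eq]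
      exact ⟨fun h => by simpa using (Commute.inv_left (show Commute (C.out)⁻¹ x from h)).eq,
        fun h => (Commute.inv_left (show Commute C.out x from h)).eq⟩]
  have hval : ∀ η ∈ B, ∀ C : ConjClasses G,
      (if p ∣ orderOf C.out then 0 else cval M η C.out⁻¹ * bomega χ₀ (zclass M C.out)) =
        kappa M p B η * u C := by
    intro η hη C
    simp only [u]
    split_ifs with h
    · rw [mul_zero]
    · by_cases h0 : bomega χ₀ (zclass M C.out) = 0
      · rw [h0, mul_zero, mul_zero, mul_zero]
      · rw [cval_eq_kappa_mul hM hB hη (hdef C h0), bomega_eq_of_mem hB hη hχ₀]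
        simp only [mul_assoc]
  refine ⟨∑ C, u C, ?_, fun χ hχ η hη => ?_⟩
  · intro hL
    have h := congrArg (bomega χ₀) (Zint_eq_sum (idem hB))
    rw [bomega_idem, if_pos hχ₀, map_sum] at h
    refine one_ne_zero (α := Res M) (h.trans ?_)
    calc ∑ C : ConjClasses G, bomega χ₀ (scal M ⟨(idem hB : CA G).coeff C.out, _⟩ * zclass M C.out)
        = ∑ C : ConjClasses G, ∑ η : IrrCharacter G,
            (if η ∈ B then (f η : Res M) * (kappa M p B η * u C) else 0) := by
          refine Finset.sum_congr rfl (fun C _ => ?_)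
          rw [map_mul, bomega_scal]
          change rcoeff (idem hB) C.out * _ = _
          by_cases hreg : p ∣ orderOf C.out
          · rw [rcoeff_idem_singular hM hB hreg, zero_mul]
            refine (Finset.sum_eq_zero (fun η _ => ?_)).symm
            simp [u, hreg]
          · have h1 := hf C.out⁻¹ (by rwa [orderOf_inv])
            rw [inv_inv] at h1
            rw [h1, Finset.sum_mul]
            refine Finset.sum_congr rfl (fun η _ => ?_)
            split_ifs with hη
            · rw [← hval η hη C, if_neg hreg, mul_assoc]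
            · rw [zero_mul]
      _ = ∑ η : IrrCharacter G, (if η ∈ B then (f η : Res M) * (kappa M p B η * ∑ C, u C) else 0) := by
          rw [Finset.sum_comm]
          refine Finset.sum_congr rfl (fun η _ => ?_)
          split_ifs <;> simp [Finset.mul_sum]
      _ = 0 := by simp [hL]
  · rw [bomega_eq_of_mem hB hχ hχ₀, bomega_eq_sum, Finset.mul_sum]
    refine Finset.sum_congr rfl (fun C _ => ?_)
    rw [← hval η hη C, rcoeff_regElt]
    split_ifs
    · rw [zero_mul]
    · rfl

/-- The pairing of a height-zero character with its block is nonzero. -/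
theorem bomega_regElt_ne_zero_iff (hM : IsPModular p M) (χ η : IrrCharacter G) :
    bomega χ (regElt M p (CfsgLib.Char.isCharacter_of_isIrr η.2)) ≠ 0 ↔
      η ∈ blockOf M (χ : G → ℂ) ∧ blockHeight p (blockOf M (χ : G → ℂ)) (η : G → ℂ) = 0 := by
  by_cases h : η ∈ blockOf M (χ : G → ℂ)
  · obtain ⟨L, hL, hpair⟩ := exists_pairing (p := p) hM (isPBlock_blockOf (M := M) χ)
    rw [hpair χ (mem_blockOf_self χ) η h, ← kappa_ne_zero_iff hM (isPBlock_blockOf χ) h]
    simp [h, hL]
  · rw [bomega_apply, zomega_regElt_eq_zero hM h, map_zero]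
    simp [h]

end CfsgLib.Blocks
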