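import Cfsg.Prelude.Def_Blocks
import Cfsg.Agent.Lib.Char.Hyperelementary
import Mathlib.Data.Nat.ChineseRemainder

/-!
# The `p`-part of an element
-/

set_option autoImplicit false

namespace CfsgLib.Blocks

open Cfsg

variable {G : Type*} [Group G] {p : ℕ}

theorem isPPart_mul {x y : G} (hxy : Commute x y) (hx : ∃ k : ℕ, orderOf x = p ^ k)
    (hy : ¬ p ∣ orderOf y) : IsPPart p (x * y) x := ⟨y, rfl, hxy, hx, hy⟩

theorem isPPart_conj {g z : G} (h : IsPPart p g z) (c : G) : IsPPart p (c * g * c⁻¹) (c * z * c⁻¹) := by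
  obtain ⟨y, rfl, hzy, ⟨k, hk⟩, hy⟩ := h
  refine ⟨c * y * c⁻¹, by group, ?_, ⟨k, ?_⟩, ?_⟩
  · simpa using hzy.map (MulAut.conj c)
  · rw [← hk]; exact orderOf_injective (MulAut.conj c).toMonoidHom (MulAut.conj c).injective z
  · rwa [show orderOf (c * y * c⁻¹) = orderOf y from
      orderOf_injective (MulAut.conj c).toMonoidHom (MulAut.conj c).injective y]

theorem isPPart_self {x : G} (hp : p.Prime) (hx : ∃ k : ℕ, orderOf x = p ^ k) : IsPPart p x x :=
  ⟨1, mul_one x, Commute.one_right x, hx, by rw [orderOf_one]; exact hp.not_dvd_one⟩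

theorem isPPart_one_iff {g : G} : IsPPart p g 1 ↔ ¬ p ∣ orderOf g := by
  constructor
  · rintro ⟨y, h, -, -, hy⟩
    rw [one_mul] at h; rwa [← h]
  · intro h
    exact ⟨g, one_mul g, Commute.one_left g, ⟨0, by simp⟩, h⟩

variable [hp : Fact p.Prime]

omit hp in
theorem exists_exponent {z y : G} {k : ℕ} (hz : orderOf z = p ^ k)
    (hzy : Commute z y) : ∀ i : ℕ, i ≡ 1 [MOD p ^ k] → orderOf y ∣ i → (z * y) ^ i = z := by
  intro i hi hyi
  rw [hzy.mul_pow, orderOf_dvd_iff_pow_eq_one.mp hyi, mul_one]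
  conv_rhs => rw [← pow_one z]
  rw [pow_eq_pow_iff_modEq, hz]
  exact hi

theorem isPPart_unique [Finite G] {g z z' : G} (h : IsPPart p g z) (h' : IsPPart p g z') : z = z' := by
  obtain ⟨y, rfl, hzy, ⟨k, hk⟩, hy⟩ := h
  obtain ⟨y', he, hzy', ⟨k', hk'⟩, hy'⟩ := h'
  have hcop : (p ^ (k + k')).Coprime (orderOf y * orderOf y') :=
    Nat.Coprime.pow_left _ (hp.out.coprime_iff_not_dvd.mpr (hp.out.not_dvd_mul hy hy'))
  obtain ⟨i, hi1, hi0⟩ := Nat.chineseRemainder hcop 1 0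
  have hd := Nat.modEq_zero_iff_dvd.mp hi0
  rw [← exists_exponent hk hzy i (hi1.of_dvd (pow_dvd_pow p (Nat.le_add_right k k')))
      ((dvd_mul_right _ _).trans hd),
    ← exists_exponent hk' hzy' i (hi1.of_dvd (pow_dvd_pow p (Nat.le_add_left k' k)))
      ((dvd_mul_left _ _).trans hd), he]

theorem isPPart_mem_zpowers [Finite G] {g z : G} (h : IsPPart p g z) : z ∈ Subgroup.zpowers g := by
  obtain ⟨y, rfl, hzy, ⟨k, hk⟩, hy⟩ := h
  obtain ⟨i, hi1, hi0⟩ :=
    Nat.chineseRemainder (Nat.Coprime.pow_left k (hp.out.coprime_iff_not_dvd.mpr hy)) 1 0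
  have := pow_mem (Subgroup.mem_zpowers (z * y)) i
  rwa [exists_exponent hk hzy i hi1 (Nat.modEq_zero_iff_dvd.mp hi0)] at this

theorem exists_isPPart [Finite G] (g : G) : ∃ z, IsPPart p g z := by
  obtain ⟨u, c, rfl, hu, hc, hk, hcop⟩ := CfsgLib.Char.exists_pPart_split hp.out g
  refine ⟨u, c, rfl, ?_, hk, hp.out.coprime_iff_not_dvd.mp hcop.symm⟩
  obtain ⟨i, hi⟩ := Subgroup.mem_zpowers_iff.mp hu
  obtain ⟨j, hj⟩ := Subgroup.mem_zpowers_iff.mp hc
  have := (Commute.refl (u * c)).zpow_zpow i j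
  rwa [hi, hj] at this

/-- Elements commuting with a `p'`-th power of `g` commute with the `p`-part of `g`. -/
theorem commute_pPart [Finite G] {g z x : G} (h : IsPPart p g z) {n : ℕ} (hn : ¬ p ∣ n)
    (hx : Commute x (g ^ n)) : Commute x z := by
  obtain ⟨y, rfl, hzy, ⟨k, hk⟩, hy⟩ := h
  have h1 : Commute x (z ^ (n * orderOf y)) := by
    have := hx.pow_right (orderOf y)
    rwa [← pow_mul, hzy.mul_pow, pow_mul' y n, pow_orderOf_eq_one, one_pow, mul_one] at this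
  have hcop : (n * orderOf y).Coprime (orderOf z) := by
    rw [hk]
    exact Nat.Coprime.pow_right k (hp.out.coprime_iff_not_dvd.mpr (hp.out.not_dvd_mul hn hy)).symm
  obtain ⟨i, hi⟩ := exists_pow_eq_self_of_coprime hcop
  exact hi ▸ h1.pow_right i

end CfsgLib.Blocks
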