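import Cfsg.Agent.Lib.Blocks.Heights
import Cfsg.Agent.Lib.Blocks.PPart
import Cfsg.Agent.Lib.Blocks.Higman

/-!
# Characters of maximal degree over a central `p`-subgroup
-/

set_option autoImplicit false

noncomputable section

namespace CfsgLib.Blocks

open Cfsg
open scoped ComplexConjugate

section orth

variable {G : Type*} [Group G] [Fintype G]

/-- Generalised orthogonality for one irreducible character. -/
theorem sum_char_mul_char (χ : IrrCharacter G) (a b : G) :
    ∑ g : G, (χ : G → ℂ) (a * g⁻¹) * (χ : G → ℂ) (g * b) =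
      (Nat.card G : ℂ) / (χ : G → ℂ) 1 * (χ : G → ℂ) (a * b) := by
  classical
  have hne := CfsgLib.Char.irr_one_ne_zero χ.2
  have h1 := charLin_mul_of_central χ.2 (blockElt_mem_center ({χ} : Set (IrrCharacter G)))
    (MonoidAlgebra.single (a * b) (1 : ℂ))
  rw [omega_blockElt, if_pos (Set.mem_singleton χ), one_mul, charLin_single, one_mul] at h1
  rw [← h1, charLin_apply, Finset.mul_sum]
  refine Fintype.sum_equiv (Equiv.mulRight b) _ _ fun g => ?_
  rw [Equiv.coe_mulRight, MonoidAlgebra.coeff_mul_single_apply, mul_one, blockElt, coeff_ofFun,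
    blockCoeff_eq]
  simp only [Set.mem_singleton_iff, Finset.sum_ite_eq', Finset.mem_univ, if_true]
  rw [← CfsgLib.Char.char_inv (CfsgLib.Char.isCharacter_of_isIrr χ.2),
    show (g * b * (a * b)⁻¹)⁻¹ = a * g⁻¹ by group]
  field_simp [CfsgLib.Char.card_ne_zero']

/-- The scalar by which a central element acts. -/
def centScal (χ : IrrCharacter G) (d : G) : ℂ := (χ : G → ℂ) d / (χ : G → ℂ) 1

theorem char_central_mul (χ : IrrCharacter G) {d : G} (hd : d ∈ Subgroup.center G) (g : G) :
    (χ : G → ℂ) (d * g) = centScal χ d * (χ : G → ℂ) g := by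
  classical
  have hc : (MonoidAlgebra.single d (1 : ℂ) : CA G) ∈ Subsemiring.center (CA G) := by
    rw [mem_center_iff]
    intro x h
    simp only [MonoidAlgebra.coeff_single, Finsupp.single_apply]
    refine if_congr ?_ rfl rfl
    constructor
    · intro he
      have := Subgroup.mem_center_iff.mp hd h
      calc d = h⁻¹ * (h * d) := by group
        _ = h⁻¹ * (d * h) := by rw [this]
        _ = x := by rw [he]; group
    · intro he
      subst he
      rw [Subgroup.mem_center_iff.mp hd h, mul_inv_cancel_right]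
  have h1 := charLin_mul_of_central χ.2 hc (MonoidAlgebra.single g (1 : ℂ))
  rw [MonoidAlgebra.single_mul_single, one_mul, charLin_single, charLin_single, omega, charLin_single,
    one_mul, one_mul, one_mul] at h1
  exact h1

theorem centScal_one (χ : IrrCharacter G) : centScal χ 1 = 1 :=
  div_self (CfsgLib.Char.irr_one_ne_zero χ.2)

theorem centScal_mul (χ : IrrCharacter G) {c : G} (hc : c ∈ Subgroup.center G) (d : G) :
    centScal χ (c * d) = centScal χ c * centScal χ d := by
  rw [centScal, char_central_mul χ hc, mul_div_assoc, ← centScal]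

theorem conj_centScal (χ : IrrCharacter G) (d : G) : conj (centScal χ d) = centScal χ d⁻¹ := by
  have h1 : conj ((χ : G → ℂ) 1) = (χ : G → ℂ) 1 := by
    rw [← CfsgLib.Char.char_inv (CfsgLib.Char.isCharacter_of_isIrr χ.2), inv_one]
  rw [centScal, centScal, CfsgLib.Char.char_inv (CfsgLib.Char.isCharacter_of_isIrr χ.2), map_div₀, h1]

theorem conj_centScal_mul_self (χ : IrrCharacter G) {d : G} (hd : d ∈ Subgroup.center G) :
    conj (centScal χ d) * centScal χ d = 1 := by
  rw [conj_centScal, ← centScal_mul χ (inv_mem hd), inv_mul_cancel, centScal_one]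

theorem isIntegral_centScal (χ : IrrCharacter G) {d : G} (hd : d ∈ Subgroup.center G) :
    IsIntegral ℤ (centScal χ d) := by
  have h : ∀ n : ℕ, centScal χ (d ^ n) = centScal χ d ^ n := by
    intro n
    induction n with
    | zero => rw [pow_zero, pow_zero, centScal_one]
    | succ n ih => rw [pow_succ, pow_succ, centScal_mul χ (pow_mem hd n), ih]
  refine IsIntegral.of_pow (orderOf_pos d) ?_
  rw [← h, pow_orderOf_eq_one, centScal_one]
  exact isIntegral_one

end orth

variable {M : Ideal AlgInt} [M.IsMaximal] {G : Type*} [Group G] [Fintype G] {p : ℕ} [hp : Fact p.Prime]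

set_option maxHeartbeats 1600000 in
/-- Vanishing off the central subgroup. -/
theorem eq_zero_of_pPart_notMem (hM : IsPModular p M) {D : Subgroup G} (hDZ : D ≤ Subgroup.center G)
    {χ : IrrCharacter G} (hdeg : (charDegree (χ : G → ℂ)).factorization p = D.index.factorization p)
    {g x : G} (hx : IsPPart p g x) (hxD : x ∉ D) : (χ : G → ℂ) g = 0 := by
  classical
  let _ := Fintype.ofFinite (G ⧸ D)
  set s : G ⧸ D → G := fun i => i.out with hs
  have hsmk : ∀ i, (s i : G ⧸ D) = i := fun i => Quotient.out_eq i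
  set δ : G → G ⧸ D → G := fun a j => (s (a • j))⁻¹ * a * s j with hδ
  have hδD : ∀ a j, δ a j ∈ D := fun a j => by
    simp only [δ, mul_assoc]
    refine QuotientGroup.eq.mp ?_
    rw [hsmk, ← smul_eq_mul a (s j), ← MulAction.Quotient.smul_coe, hsmk]
  have hc : ((charDegree (χ : G → ℂ) : ℂ) / (D.index : ℂ)) ∈ locRing M :=
    frac_mem_locRing hM Subgroup.index_ne_zero_of_finite (.inr hdeg.ge)
  set E : Matrix (G ⧸ D) (G ⧸ D) (locRing M) := Matrix.of fun i j =>
    ⟨(charDegree (χ : G → ℂ) : ℂ) / (D.index : ℂ) * (χ : G → ℂ) (s j * (s i)⁻¹),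
      Subring.mul_mem _ hc (algInt_le_locRing M
        (CfsgLib.Char.char_isIntegral (CfsgLib.Char.isCharacter_of_isIrr χ.2) _))⟩ with hE
  set cf : G ⧸ D → locRing M := fun j =>
    ⟨centScal χ (δ g j), algInt_le_locRing M (isIntegral_centScal χ (hDZ (hδD g j)))⟩ with hcf
  set P : Matrix (G ⧸ D) (G ⧸ D) (locRing M) := Matrix.of fun i j => if i = g • j then cf j else 0 with hP
  have hne := CfsgLib.Char.irr_one_ne_zero χ.2
  have hdeg' := charDegree_eq (CfsgLib.Char.isCharacter_of_isIrr χ.2)
  have hidx : (D.index : ℂ) ≠ 0 := Nat.cast_ne_zero.mpr Subgroup.index_ne_zero_of_finite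
  have hEE : E * E = E := by
    refine Matrix.ext fun i j => Subtype.ext ?_
    simp only [Matrix.mul_apply, E, Matrix.of_apply, AddSubmonoidClass.coe_finsetSum, MulMemClass.coe_mul]
    have h1 : (Nat.card D : ℂ) * ∑ k : G ⧸ D,
        (χ : G → ℂ) (s k * (s i)⁻¹) * (χ : G → ℂ) (s j * (s k)⁻¹) =
          (Nat.card G : ℂ) / (χ : G → ℂ) 1 * (χ : G → ℂ) (s j * (s i)⁻¹) := by
      rw [← sum_char_mul_char, Finset.mul_sum,
        ← Finset.sum_fiberwise Finset.univ (fun w : G => (w : G ⧸ D))]
      refine Finset.sum_congr rfl fun k _ => ?_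
      rw [Finset.sum_congr rfl (g := fun _ => (χ : G → ℂ) (s k * (s i)⁻¹) * (χ : G → ℂ) (s j * (s k)⁻¹))]
      · rw [Finset.sum_const, nsmul_eq_mul]
        congr 2
        rw [Nat.card_eq_fintype_card, ← Finset.card_univ]
        refine Finset.card_bij (fun d _ => s k * (d : G)) (fun d _ => ?_)
          (fun d _ e _ h => Subtype.ext (mul_left_cancel h)) fun w hw => ?_
        · exact Finset.mem_filter.mpr ⟨Finset.mem_univ _, by
            rw [QuotientGroup.mk_mul_of_mem _ d.2, hsmk]⟩
        · refine ⟨⟨(s k)⁻¹ * w, ?_⟩, Finset.mem_univ _, mul_inv_cancel_left _ _⟩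
          refine QuotientGroup.eq.mp ?_
          rw [hsmk, (Finset.mem_filter.mp hw).2]
      · intro w hw
        have hd : (s k)⁻¹ * w ∈ D := QuotientGroup.eq.mp (by rw [hsmk, (Finset.mem_filter.mp hw).2])
        have hZ := hDZ hd
        have e1 : w * (s i)⁻¹ = ((s k)⁻¹ * w) * (s k * (s i)⁻¹) := by
          calc w * (s i)⁻¹ = s k * ((s k)⁻¹ * w) * (s i)⁻¹ := by group
            _ = ((s k)⁻¹ * w) * s k * (s i)⁻¹ := by rw [Subgroup.mem_center_iff.mp hZ (s k)]
            _ = _ := by group
        have e2 : s j * w⁻¹ = ((s k)⁻¹ * w)⁻¹ * (s j * (s k)⁻¹) := by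
          rw [← mul_assoc, ← Subgroup.mem_center_iff.mp (inv_mem hZ) (s j)]
          group
        rw [e1, e2, char_central_mul χ hZ, char_central_mul χ (inv_mem hZ), ← conj_centScal]
        linear_combination
          ((χ : G → ℂ) (s k * (s i)⁻¹) * (χ : G → ℂ) (s j * (s k)⁻¹)) * (conj_centScal_mul_self χ hZ)
    have hcard : (Nat.card G : ℂ) = (D.index : ℂ) * (Nat.card D : ℂ) := by
      rw [← Nat.cast_mul, D.index_mul_card]
    have hD0 : (Nat.card D : ℂ) ≠ 0 := CfsgLib.Char.card_ne_zero'
    have h2 : ∀ k : G ⧸ D,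
        (charDegree (χ : G → ℂ) : ℂ) / (D.index : ℂ) * (χ : G → ℂ) (s k * (s i)⁻¹) *
          ((charDegree (χ : G → ℂ) : ℂ) / (D.index : ℂ) * (χ : G → ℂ) (s j * (s k)⁻¹)) =
        ((charDegree (χ : G → ℂ) : ℂ) / (D.index : ℂ)) ^ 2 / (Nat.card D : ℂ) *
          ((Nat.card D : ℂ) * ((χ : G → ℂ) (s k * (s i)⁻¹) * (χ : G → ℂ) (s j * (s k)⁻¹))) := fun k => by
      field_simp
    rw [Finset.sum_congr rfl fun k _ => h2 k, ← Finset.mul_sum, ← Finset.mul_sum, h1, hcard, ← hdeg']
    field_simp
  have hEP : E * P = P * E := by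
    refine Matrix.ext fun i j => Subtype.ext ?_
    have hl : (E * P) i j = E i (g • j) * cf j := by
      rw [Matrix.mul_apply, Finset.sum_eq_single (g • j) (fun k _ hk => by simp [P, hk]) (by simp)]
      simp [P]
    have hr : (P * E) i j = cf (g⁻¹ • i) * E (g⁻¹ • i) j := by
      rw [Matrix.mul_apply, Finset.sum_eq_single (g⁻¹ • i) (fun k _ hk => ?_) (by simp)]
      · simp [P]
      · have : ¬ i = g • k := fun h => hk (eq_inv_smul_iff.mpr h.symm)
        simp [P, this]
    rw [hl, hr]
    simp only [E, Matrix.of_apply, MulMemClass.coe_mul, cf]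
    have e1 : s (g • j) * (s i)⁻¹ = (δ g j)⁻¹ * (g * (s j * (s i)⁻¹)) := by
      have hgs : g * s j = s (g • j) * δ g j := by simp only [δ]; group
      rw [← mul_assoc g, hgs, Subgroup.mem_center_iff.mp (hDZ (hδD g j)) (s (g • j))]
      group
    have hi : g • (g⁻¹ • i) = i := smul_inv_smul g i
    have e2 : s j * (s (g⁻¹ • i))⁻¹ = (δ g (g⁻¹ • i))⁻¹ * ((s j * (s i)⁻¹) * g) := by
      have hgs : g * s (g⁻¹ • i) = s i * δ g (g⁻¹ • i) := by simp only [δ, hi]; group
      have hz := Subgroup.mem_center_iff.mp (inv_mem (hDZ (hδD g (g⁻¹ • i))))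
      have h3 : (s (g⁻¹ • i))⁻¹ = (δ g (g⁻¹ • i))⁻¹ * (s i)⁻¹ * g := by
        rw [← mul_inv_rev, ← hgs]; group
      rw [h3, ← mul_assoc, ← mul_assoc, hz (s j)]
      group
    rw [e1, e2, char_central_mul χ (inv_mem (hDZ (hδD g j))),
      char_central_mul χ (inv_mem (hDZ (hδD g (g⁻¹ • i)))), ← conj_centScal, ← conj_centScal,
      CfsgLib.Char.classFun_mul_comm (CfsgLib.Char.isClassFunction_of_isIrr χ.2) g (s j * (s i)⁻¹)]
    linear_combination
      ((charDegree (χ : G → ℂ) : ℂ) / (D.index : ℂ) * (χ : G → ℂ) (s j * (s i)⁻¹ * g)) *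
        ((conj_centScal_mul_self χ (hDZ (hδD g j))) -
          (conj_centScal_mul_self χ (hDZ (hδD g (g⁻¹ • i)))))
  have hcyc : ∀ (i : G ⧸ D) (n : ℕ), ((MulAction.toPerm g) ^ n) i = i → p ∣ n := by
    intro i n hn
    by_contra hnp
    rw [← MulAction.toPermHom_apply, ← map_pow, MulAction.toPermHom_apply, MulAction.toPerm_apply] at hn
    have h1 : g ^ n ∈ D := by
      have h2 : ((g ^ n * s i : G) : G ⧸ D) = (s i : G ⧸ D) := by
        rw [← smul_eq_mul, ← MulAction.Quotient.smul_coe, hsmk]; exact hn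
      have h3 := QuotientGroup.eq.mp h2.symm
      have h4 := Subgroup.mem_center_iff.mp (hDZ h3) (s i)
      rw [mul_inv_cancel_left] at h4
      have : g ^ n = (s i)⁻¹ * (g ^ n * s i) := mul_right_cancel (b := s i) h4
      rw [this]; exact h3
    obtain ⟨y, hxy, hcomm, ⟨k, hk⟩, hy⟩ := hx
    have h5 : x ^ (n * orderOf y) ∈ D := by
      have := pow_mem h1 (orderOf y)
      rwa [← pow_mul, ← hxy, hcomm.mul_pow, pow_mul' y n, pow_orderOf_eq_one, one_pow, mul_one] at this
    have hcop : (n * orderOf y).Coprime (orderOf x) := by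
      rw [hk]
      exact Nat.Coprime.pow_right k (hp.out.coprime_iff_not_dvd.mpr (hp.out.not_dvd_mul hnp hy)).symm
    obtain ⟨m, hm⟩ := exists_pow_eq_self_of_coprime hcop
    exact hxD (hm ▸ pow_mem h5 m)
  have htr := trace_mul_monomial_eq_zero hM (MulAction.toPerm g) hcyc cf (E := E) (P := P)
    (fun i j => by simp [P]) hEE hEP
  have hval : ∀ i : G ⧸ D, (((E * P) i i : locRing M) : ℂ) =
      (charDegree (χ : G → ℂ) : ℂ) / (D.index : ℂ) * (χ : G → ℂ) g := by
    intro i
    rw [Matrix.mul_apply, Finset.sum_eq_single (g • i) (fun k _ hk => by simp [P, hk]) (by simp)]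
    simp only [P, Matrix.of_apply, if_true, MulMemClass.coe_mul, E, cf]
    have e1 : s (g • i) * (s i)⁻¹ = (δ g i)⁻¹ * g := by
      have hgs : g = s (g • i) * δ g i * (s i)⁻¹ := by simp only [δ]; group
      conv_rhs => arg 2; rw [hgs]
      rw [Subgroup.mem_center_iff.mp (hDZ (hδD g i)) (s (g • i))]
      group
    rw [e1, char_central_mul χ (inv_mem (hDZ (hδD g i))), ← conj_centScal]
    linear_combination ((charDegree (χ : G → ℂ) : ℂ) / (D.index : ℂ) * (χ : G → ℂ) g) *
      (conj_centScal_mul_self χ (hDZ (hδD g i)))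
  have h0 := congrArg Subtype.val htr
  rw [Matrix.trace, AddSubmonoidClass.coe_finsetSum, ZeroMemClass.coe_zero] at h0
  simp only [Matrix.diag_apply, hval, Finset.sum_const, nsmul_eq_mul, Finset.card_univ] at h0
  rcases mul_eq_zero.mp h0 with h | h
  · exact absurd h (Nat.cast_ne_zero.mpr Fintype.card_ne_zero)
  rcases mul_eq_zero.mp h with h | h
  · exact absurd h (div_ne_zero (by rw [← hdeg']; exact hne) hidx)
  · exact h

/-- **Laradji.** A central `p`-subgroup is the defect group for a character of that defect. -/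
theorem isDefectGroup_central (hM : IsPModular p M) {D : Subgroup G} (hD : IsPGroup p D)
    (hDZ : D ≤ Subgroup.center G) {χ : IrrCharacter G}
    (hdeg : (charDegree (χ : G → ℂ)).factorization p = D.index.factorization p) :
    IsDefectGroup p M (blockOf M (χ : G → ℂ)) D := by
  classical
  set B := blockOf M (χ : G → ℂ)
  have hB : IsPBlock M B := isPBlock_blockOf χ
  have hne := CfsgLib.Char.irr_one_ne_zero χ.2
  have hdeg' := charDegree_eq (CfsgLib.Char.isCharacter_of_isIrr χ.2)
  -- the regular part of the norm of `χ`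
  have hkey : ∑ g : G, (χ : G → ℂ) g * conj ((χ : G → ℂ) g) =
      (Nat.card D : ℂ) * ∑ g : G, if p ∣ orderOf g then 0 else (χ : G → ℂ) g * conj ((χ : G → ℂ) g) := by
    choose z hz using fun g : G => exists_isPPart (p := p) g
    rw [Nat.card_eq_fintype_card, ← Finset.card_univ, ← nsmul_eq_mul, ← Finset.sum_const]
    rw [← Finset.sum_fiberwise_of_maps_to (t := (Finset.univ : Finset G)) (g := z) (by simp)]
    rw [← Finset.sum_subset (Finset.subset_univ (Finset.univ.map (⟨Subtype.val, Subtype.val_injective⟩ : D ↪ G))),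
      Finset.sum_map]
    · refine Finset.sum_congr rfl fun d _ => ?_
      obtain ⟨k, hk⟩ := IsPGroup.iff_orderOf.mp hD d
      rw [← Finset.sum_filter_add_sum_filter_not (s := (Finset.univ : Finset G)) (p := fun g => p ∣ orderOf g)]
      rw [Finset.sum_eq_zero (s := Finset.univ.filter fun g => p ∣ orderOf g)
        (fun g hg => if_pos (Finset.mem_filter.mp hg).2), zero_add]
      symm
      refine Finset.sum_bij (fun y _ => (d : G) * y) (fun y hy => ?_) (fun a _ b _ h => mul_left_cancel h)
        (fun w hw => ?_) (fun y hy => ?_)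
      · exact Finset.mem_filter.mpr ⟨Finset.mem_univ _, isPPart_unique (hz _)
          (isPPart_mul (Subgroup.mem_center_iff.mp (hDZ d.2) y).symm ⟨k, by rwa [Subgroup.orderOf_coe]⟩
            (Finset.mem_filter.mp hy).2)⟩
      · obtain ⟨y, hzy, -, -, hy⟩ := hz w
        rw [(Finset.mem_filter.mp hw).2] at hzy
        exact ⟨y, Finset.mem_filter.mpr ⟨Finset.mem_univ _, hy⟩, hzy⟩
      · rw [if_neg (Finset.mem_filter.mp hy).2, char_central_mul χ (hDZ d.2), map_mul]
        linear_combination (-(χ : G → ℂ) y * conj ((χ : G → ℂ) y)) * conj_centScal_mul_self χ (hDZ d.2)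
    · intro w _ hw
      refine Finset.sum_eq_zero fun g hg => ?_
      rw [eq_zero_of_pPart_notMem hM hDZ hdeg (hz g), zero_mul]
      rw [(Finset.mem_filter.mp hg).2]
      exact fun hm => hw (Finset.mem_map.mpr ⟨⟨w, hm⟩, Finset.mem_univ _, rfl⟩)
  have h1 := CfsgLib.Char.classInner_irr_self χ.2
  rw [CfsgLib.Char.classInner_def, inv_mul_eq_one₀ CfsgLib.Char.card_ne_zero', hkey,
    ← D.card_mul_index, Nat.cast_mul] at h1
  have hsum : ∑ g : G, (if p ∣ orderOf g then 0 else (χ : G → ℂ) g * conj ((χ : G → ℂ) g)) = (D.index : ℂ) :=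
    mul_left_cancel₀ CfsgLib.Char.card_ne_zero' h1.symm
  have hbne : bomega χ (regElt M p (CfsgLib.Char.isCharacter_of_isIrr χ.2)) ≠ 0 := by
    have hq : (D.index : ℂ) / (charDegree (χ : G → ℂ) : ℂ) ∈ locRing M :=
      frac_mem_locRing hM (charDegree_ne_zero χ) (.inr hdeg.le)
    have hz : zomega χ (regElt M p (CfsgLib.Char.isCharacter_of_isIrr χ.2)) = ⟨_, hq⟩ :=
      Subtype.ext (by rw [zomega_regElt, hsum, hdeg'])
    rw [bomega_apply, hz, Ne, res_frac_eq_zero_iff hM Subgroup.index_ne_zero_of_finite (charDegree_ne_zero χ)]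
    omega
  have h0 := ((bomega_regElt_ne_zero_iff hM χ χ).mp hbne).2
  have hh := degree_height hM hB (mem_blockOf_self χ)
  rw [h0, add_zero, hdeg] at hh
  obtain ⟨E, hE⟩ := exists_isDefectGroup (p := p) hB
  have hcE := card_defectGroup hM hB hE
  have : D.Normal := ⟨fun d hd g => by
    rwa [Subgroup.mem_center_iff.mp (hDZ hd) g, mul_inv_cancel_right]⟩
  have hle := normal_le_defect hM hB hE hD
  obtain ⟨k, hk⟩ := IsPGroup.iff_card.mp hD
  have hfD : (Nat.card D).factorization p = k := by
    rw [hk, hp.out.factorization_pow, Finsupp.single_eq_same]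
  have hcard : blockDefect p B = k := by
    have := congrArg (fun f => f p) (Nat.factorization_mul
      (Nat.card_pos (α := D)).ne' (Subgroup.index_ne_zero_of_finite (H := D)))
    simp only [D.card_mul_index, Finsupp.add_apply, hfD] at this
    omega
  rw [hcard, ← hk] at hcE
  rwa [Subgroup.eq_of_le_of_card_ge hle hcE.le]

end CfsgLib.Blocks
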