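import Cfsg.Agent.Lib.Blocks.CyclicBlock

/-!
# Consequences of the structure of blocks with cyclic defect group

`exists_cyc_setup` gives the data from a defect group and a block of its centraliser inducing the block;
`degree_congr` is the congruence of the signed degrees, `nilpotent_iff_rank_one` the nilpotency criterion.
-/

set_option autoImplicit false

noncomputable section

namespace CfsgLib.Blocks.Cyclic

open Cfsg CfsgLib.Blocks CfsgLib.BlockArith CfsgLib.Char CfsgLib.BrauerPairs CfsgLib.NilBlock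
open scoped ComplexConjugate Classical

universe u

variable {G : Type u} [Group G] [Fintype G] {p : ℕ} [hp : Fact p.Prime] {M : Ideal AlgInt} [M.IsMaximal]

omit hp in
/-- The stabiliser condition, with conjugates of members again members. -/
theorem stabilizes_iff_forall {D : Subgroup G} {b : Set (IrrCharacter (Cen D))} {g : G}
    (hg : g ∈ Subgroup.normalizer (D : Set G)) :
    (∀ θ ∈ b, ∀ θ' : IrrCharacter (Cen D), (∀ h h' : Cen D, (h' : G) = g * h * g⁻¹ →
      (θ' : Cen D → ℂ) h' = (θ : Cen D → ℂ) h) → θ' ∈ b) ↔ StabilizesBlock (Cen D) b g := by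
  let _ := Fintype.ofFinite (Cen D)
  let ε := conjEquiv g (Cen D) (Cen D) (cen_iff hg)
  have hconj : ∀ θ : IrrCharacter (Cen D), ∀ h h' : Cen D, (h' : G) = g * h * g⁻¹ →
      ((tirr ε θ : IrrCharacter (Cen D)) : Cen D → ℂ) h' = (θ : Cen D → ℂ) h := fun θ h h' hh => by
    rw [show h' = ε h from Subtype.ext hh]
    exact congrArg (θ : Cen D → ℂ) (ε.symm_apply_apply h)
  constructor
  · exact fun H => ⟨mem_normalizer_centralizer hg, fun θ hθ => ⟨tirr ε θ, H θ hθ _ (hconj θ), hconj θ⟩⟩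
  · rintro ⟨-, H⟩ θ hθ θ' hθ'
    obtain ⟨χ', hχ', hc⟩ := H θ hθ
    convert hχ'
    refine Subtype.ext (funext fun k => ?_)
    obtain ⟨h, rfl⟩ := ε.surjective k
    rw [hθ' h (ε h) rfl, hc h (ε h) rfl]

/-- The data from a defect group and a block of its centraliser inducing the block. -/
theorem exists_cyc_setup (hM : IsPModular p M) {B : Set (IrrCharacter G)} (hB : IsPBlock M B) {D : Subgroup G}
    (hBD : IsDefectGroup p M B D) {b : Set (IrrCharacter (Cen D))} (hind : IsInducedBlock M (Cen D) b B)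
    (hcyc : IsCyclic D) (hne : D ≠ ⊥) {T : Subgroup G}
    (hT : ∀ g : G, g ∈ T ↔ g ∈ Subgroup.normalizer (D : Set G) ∧ StabilizesBlock (Cen D) b g) :
    IsMaximalBrauerPair p M B D b ∧ T = stab M D b ∧
      ∃ β : (y : D) → Set (IrrCharacter (Cen (Subgroup.zpowers (y : G)))),
        (∀ y : D, SubpairLE p M (Subgroup.zpowers (y : G)) (β y) D b) ∧ Nonempty (CycData p M B D b β) := by
  let _ := Fintype.ofFinite (Cen D)
  have hDp := IsDefectGroup.isPGroup hBD
  have hpair := (brauerPairOf_iff_induced hM hDp hind.1 hB).mpr hind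
  have hmax : IsMaximalBrauerPair p M B D b :=
    isMaximal_of_card hM hpair (card_defectGroup hM hB hBD).ge
  refine ⟨hmax, Subgroup.ext fun g => (hT g).trans (mem_stab_iff hpair.1.2).symm, ?_⟩
  choose β hβ using fun y : D =>
    (existsUnique_subpair hM (Subgroup.zpowers_le.mpr y.2) hmax.1.1).exists
  exact ⟨β, hβ, exists_cycData hM hmax hcyc hne hβ⟩

/-- The signed degrees of the non-exceptional characters are congruent modulo `|P|`. -/
theorem degree_congr {B : Set (IrrCharacter G)} {P : Subgroup G} {c : Set (IrrCharacter (Cen P))}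
    {β : (y : P) → Set (IrrCharacter (Cen (Subgroup.zpowers (y : G))))} (D : CycData p M B P c β)
    (hP : IsPGroup p P) {χ χ' : IrrCharacter G} (hχ : χ ∈ B) (hχn : ∀ θ ∈ D.Θ, D.η θ ≠ χ) (hχ' : χ' ∈ B)
    (hχn' : ∀ θ ∈ D.Θ, D.η θ ≠ χ') :
    D.δ χ * (charDegree (χ : G → ℂ) : ℤ) ≡ D.δ χ' * (charDegree (χ' : G → ℂ) : ℤ) [ZMOD Nat.card P] := by
  by_cases heq : χ = χ'
  · rw [heq]
  obtain ⟨a, had⟩ : ∃ a : IrrCharacter G → ℂ,
      a = fun ξ => if ξ = χ then (D.δ χ : ℂ) else if ξ = χ' then -(D.δ χ' : ℂ) else 0 := ⟨_, rfl⟩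
  have hsum : ∀ h : IrrCharacter G → ℂ, ∑ ξ ∈ Finset.univ.filter (· ∈ B), a ξ * h ξ =
      (D.δ χ : ℂ) * h χ - (D.δ χ' : ℂ) * h χ' := by
    intro h
    rw [Finset.sum_eq_add χ χ' heq (fun ξ _ hξ => by rw [had]; simp [hξ.1, hξ.2]) (by simp [hχ]) (by simp [hχ']),
      had]
    simp [Ne.symm heq]
    ring
  have hsq : ∀ ξ, (D.δ ξ : ℂ) * (D.δ ξ : ℂ) = 1 := fun ξ => by rcases D.hδ ξ with h | h <;> simp [h]
  have hs := D.hsing a fun y hy => by
    rw [hsum, D.hfX χ hχ hχn y hy, D.hfX χ' hχ' hχn' y hy, mul_neg, mul_neg, hsq, hsq, sub_self]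
  let _ := Fintype.ofFinite P
  obtain ⟨m, hm⟩ := classInner_char_nat (isCharacter_res P (isCharacter_of_isIrr χ.2))
    (isCharacter_of_isIrr (irrOne : IrrCharacter P).2)
  obtain ⟨m', hm'⟩ := classInner_char_nat (isCharacter_res P (isCharacter_of_isIrr χ'.2))
    (isCharacter_of_isIrr (irrOne : IrrCharacter P).2)
  have hq0 : (Nat.card P : ℂ) ≠ 0 := Nat.cast_ne_zero.mpr Nat.card_pos.ne'
  have hres : ∀ {ξ : IrrCharacter G} {n : ℕ}, classInner (fun y : P => (ξ : G → ℂ) y)
      ((irrOne : IrrCharacter P) : P → ℂ) = (n : ℂ) → ∑ y : P, (ξ : G → ℂ) y = (Nat.card P : ℂ) * n := by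
    intro ξ n hn
    rw [← hn, classInner_def, ← mul_assoc, mul_inv_cancel₀ hq0, one_mul]
    exact Finset.sum_congr rfl fun y _ => by
      rw [show ((irrOne : IrrCharacter P) : P → ℂ) y = 1 from rfl, map_one, mul_one]
  have h1 : ∑ y : P, ((D.δ χ : ℂ) * (χ : G → ℂ) y - (D.δ χ' : ℂ) * (χ' : G → ℂ) y) =
      (D.δ χ : ℂ) * (χ : G → ℂ) 1 - (D.δ χ' : ℂ) * (χ' : G → ℂ) 1 := by
    rw [Finset.sum_eq_single (1 : P) (fun y _ hy => ?_) (by simp), Subgroup.coe_one]
    rw [← hsum fun ξ => (ξ : G → ℂ) y]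
    refine hs y ?_
    obtain ⟨k, hk⟩ := exists_pow_of_mem hP y.2
    rw [hk]
    refine dvd_pow_self p fun h0 => hy (Subtype.ext ?_)
    rwa [h0, pow_zero, orderOf_eq_one_iff] at hk
  rw [Finset.sum_sub_distrib, ← Finset.mul_sum, ← Finset.mul_sum, hres hm, hres hm',
    ← CfsgLib.CharBlocks.coe_charDegree_irr, ← CfsgLib.CharBlocks.coe_charDegree_irr] at h1
  refine Int.modEq_iff_dvd.mpr ⟨D.δ χ' * m' - D.δ χ * m, ?_⟩
  apply Int.cast_injective (α := ℂ)
  push_cast
  linear_combination h1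

/-- A block with cyclic defect group is nilpotent exactly when it has one Brauer character. -/
theorem nilpotent_iff_rank_one (hM : IsPModular p M) {B : Set (IrrCharacter G)} (hB : IsPBlock M B)
    {P : Subgroup G} (hPD : IsDefectGroup p M B P) (hcyc : IsCyclic P) :
    IsNilpotentBlock p M B ↔ blockRank p B = 1 := by
  refine ⟨fun h => blockRank_eq_one_of_nilpotent hM G B h, fun hl => isNilpotentBlock_of_inertOne hM hB ?_⟩
  intro R e hmaxR
  obtain ⟨c, hmaxP⟩ := exists_maximal_at hM hB hPD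
  obtain ⟨g, hg⟩ := exists_conj_le_maximal hM (a := ⟨R, e⟩) (b := ⟨P, c⟩) hmaxP hmaxR.1
  have hle : R.map (MulAut.conj g).toMonoidHom ≤ P := subgroup_le hg
  have hcycR : IsCyclic R := by
    have h1 : IsCyclic (R.map (MulAut.conj g).toMonoidHom) :=
      isCyclic_of_injective (Subgroup.inclusion hle) (Subgroup.inclusion_injective hle)
    exact (Subgroup.equivMapOfInjective R _ (MulEquiv.injective (MulAut.conj g))).isCyclic.mpr h1
  refine ⟨fun x hx y hy => ?_, ?_⟩
  · have := hcycR.commutative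
    exact congrArg Subtype.val (mul_comm' (⟨x, hx⟩ : R) ⟨y, hy⟩)
  by_cases hne : R = ⊥
  · subst hne
    rw [show Cen (⊥ : Subgroup G) = ⊤ from Subgroup.centralizer_eq_top_iff_subset.mpr
      (bot_le (a := Subgroup.center G))]
    exact le_top
  choose β hβ using fun y : R => (existsUnique_subpair hM (Subgroup.zpowers_le.mpr y.2) hmaxR.1.1).exists
  obtain ⟨D⟩ := exists_cycData hM hmaxR hcycR hne hβ
  rw [D.hl] at hl
  exact Subgroup.relIndex_eq_one.mp hl

end CfsgLib.Blocks.Cyclic
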