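import Cfsg.Agent.Lib.Blocks.Basic
import Cfsg.Agent.Lib.CharNormal.Galois
import Mathlib.FieldTheory.Minpoly.IsIntegrallyClosed

/-!
# Independence of the maximal ideal

* `mem_of_forall_conj_mem`: an algebraic integer all of whose conjugates lie in one maximal ideal
  over `p` lies in every maximal ideal over `p`;
* `exists_isPModular`: such ideals exist;
* `ringEquiv_centralChar`: automorphisms of `ℂ` send `ω(g)` to `ω(g ^ k)`;
* `sub_mem_of_sameBlock`: blocks do not depend on the maximal ideal.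
-/

set_option autoImplicit false

noncomputable section

namespace CfsgLib.Blocks

open Cfsg Polynomial

theorem mem_of_forall_conj_mem {p : ℕ} {M M' : Ideal AlgInt} (hM : IsPModular p M)
    (hM' : IsPModular p M') (a : AlgInt)
    (h : ∀ (σ : ℂ ≃+* ℂ) (b : AlgInt), (b : ℂ) = σ (a : ℂ) → b ∈ M) : a ∈ M' := by
  have := res_charP M hM
  have := res_charP M' hM'
  have := hM'.2.1.isPrime
  have hx : IsIntegral ℤ (a : ℂ) := a.2
  set P := minpoly ℤ (a : ℂ) with hPdef
  have hmon : P.Monic := minpoly.monic hx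
  have hroot : ∀ r : ℂ, r ∈ (P.map (Int.castRingHom ℂ)).roots →
      ∃ b : AlgInt, (b : ℂ) = r ∧ b ∈ M := by
    intro r hr
    rw [mem_roots', IsRoot.def, eval_map] at hr
    have hrZ : aeval r P = 0 := hr.2
    have hrint : IsIntegral ℤ r := ⟨P, hmon, hr.2⟩
    let L : IntermediateField ℚ ℂ := algebraicClosure ℚ ℂ
    haveI hL : IsAlgClosure ℚ L := algebraicClosure.isAlgClosure ℚ ℂ
    haveI : Normal ℚ L := IsAlgClosure.normal ℚ L
    let x' : L := ⟨(a : ℂ), (mem_algebraicClosure_iff' ..).mpr hx.tower_top⟩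
    let r' : L := ⟨r, (mem_algebraicClosure_iff' ..).mpr hrint.tower_top⟩
    have hx' : IsIntegral ℚ x' :=
      (isIntegral_algebraMap_iff (B := ℂ) (algebraMap L ℂ).injective).mp hx.tower_top
    have hc : IsConjRoot ℚ x' r' := by
      refine isConjRoot_of_aeval_eq_zero hx' ?_
      apply (algebraMap L ℂ).injective
      rw [map_zero, ← aeval_algebraMap_apply, ← minpoly.algebraMap_eq (algebraMap L ℂ).injective x']
      change aeval r (minpoly ℚ (a : ℂ)) = 0
      rw [minpoly.isIntegrallyClosed_eq_field_fractions' ℚ hx, aeval_map_algebraMap]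
      exact hrZ
    obtain ⟨τ, hτ⟩ := hc.symm.exists_algEquiv
    obtain ⟨σ, hσ⟩ := CfsgLib.CharNormal.exists_ringEquiv_extend τ.toRingEquiv
    refine ⟨⟨r, hrint⟩, rfl, h σ ⟨r, hrint⟩ ?_⟩
    have := hσ x'
    change σ (a : ℂ) = ((τ x' : L) : ℂ) at this
    rw [this, hτ]
  choose! b hb hbM using hroot
  set s := ((P.map (Int.castRingHom ℂ)).roots).map b with hs
  have hP : P.map (Int.castRingHom AlgInt) = (s.map (fun c => X - C c)).prod := by
    refine Polynomial.map_injective (AlgInt.val.toRingHom) Subtype.val_injective ?_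
    rw [Polynomial.map_map, Polynomial.map_multiset_prod, hs, Multiset.map_map, Multiset.map_map,
      RingHom.ext_int (AlgInt.val.toRingHom.comp (Int.castRingHom AlgInt)) (Int.castRingHom ℂ)]
    conv_lhs => rw [(IsAlgClosed.splits (P.map (Int.castRingHom ℂ))).eq_prod_roots_of_monic
      (hmon.map _)]
    refine congrArg Multiset.prod (Multiset.map_congr rfl (fun r hr => ?_))
    simp [hb r hr]
  have hX : P.map (Int.castRingHom (AlgInt ⧸ M)) = X ^ Multiset.card s := by
    rw [← RingHom.ext_int ((Ideal.Quotient.mk M).comp (Int.castRingHom AlgInt))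
        (Int.castRingHom (AlgInt ⧸ M)), ← Polynomial.map_map, hP, Polynomial.map_multiset_prod,
      Multiset.map_map, Multiset.map_congr rfl (g := fun _ => (X : (AlgInt ⧸ M)[X])) (fun c hc => ?_),
      Multiset.map_const', Multiset.prod_replicate]
    obtain ⟨r, hr, rfl⟩ := Multiset.mem_map.mp hc
    simp [Ideal.Quotient.eq_zero_iff_mem.mpr (hbM r hr)]
  have hcoef : ∀ i, (p : ℤ) ∣ P.coeff i - if i = Multiset.card s then 1 else 0 := by
    intro i
    have := congrArg (fun f => f.coeff i) hX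
    simp only [coeff_map, eq_intCast, coeff_X_pow] at this
    rw [← CharP.intCast_eq_zero_iff (AlgInt ⧸ M) p, Int.cast_sub, this]
    split_ifs <;> simp
  have hX' : P.map (Int.castRingHom (AlgInt ⧸ M')) = X ^ Multiset.card s := by
    ext i
    have := (CharP.intCast_eq_zero_iff (AlgInt ⧸ M') p _).mpr (hcoef i)
    rw [Int.cast_sub, sub_eq_zero] at this
    rw [coeff_map, coeff_X_pow, eq_intCast, this]
    split_ifs <;> simp
  have h0 : aeval a P = 0 := Subtype.ext (by
    rw [← Subalgebra.coe_val, ← aeval_algHom_apply, map_zero]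
    exact minpoly.aeval ℤ (a : ℂ))
  have h1 : (P.map (Int.castRingHom (AlgInt ⧸ M'))).eval (Ideal.Quotient.mk M' a) = 0 := by
    rw [eval_map, show Int.castRingHom (AlgInt ⧸ M') = (Ideal.Quotient.mk M').comp
      (algebraMap ℤ AlgInt) from (RingHom.ext_int _ _), ← hom_eval₂, ← aeval_def, h0, map_zero]
  rw [hX', eval_pow, eval_X] at h1
  exact Ideal.Quotient.eq_zero_iff_mem.mp (eq_zero_of_pow_eq_zero h1)

theorem exists_isPModular {p : ℕ} (hp : p.Prime) : ∃ M : Ideal AlgInt, IsPModular p M := by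
  have hne : Ideal.span {(p : AlgInt)} ≠ ⊤ := by
    intro ht
    rw [Ideal.span_singleton_eq_top, isUnit_iff_exists_inv] at ht
    obtain ⟨x, hx⟩ := ht
    have hxC : (p : ℂ) * (x : ℂ) = 1 := by exact_mod_cast congrArg Subtype.val hx
    have hx' : (x : ℂ) = (((p : ℚ)⁻¹ : ℚ) : ℂ) := by
      push_cast
      rw [eq_inv_of_mul_eq_one_right hxC]
    obtain ⟨m, hm⟩ := (isIntegral_rat_iff _).mp (hx' ▸ x.2)
    have hp0 : (p : ℚ) ≠ 0 := by exact_mod_cast hp.ne_zero
    have h1 : (p : ℚ) * m = 1 := by rw [hm, mul_inv_cancel₀ hp0]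
    have : (p : ℤ) * m = 1 := by exact_mod_cast h1
    exact hp.ne_one (by exact_mod_cast Int.eq_one_of_mul_eq_one_right (Int.natCast_nonneg p) this)
  obtain ⟨M, hM, hle⟩ := Ideal.exists_le_maximal _ hne
  exact ⟨M, hp, hM, hle (Ideal.mem_span_singleton_self _)⟩

variable {G : Type*} [Group G] [Finite G]

theorem centralizer_pow_of_coprime (g : G) {k : ℕ} (hk : k.Coprime (orderOf g)) :
    Subgroup.centralizer ({g ^ k} : Set G) = Subgroup.centralizer ({g} : Set G) := by
  ext x
  rw [Subgroup.mem_centralizer_singleton_iff, Subgroup.mem_centralizer_singleton_iff]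
  refine ⟨fun h => ?_, fun h => (Commute.pow_right h k).eq⟩
  obtain ⟨l, hl⟩ := exists_pow_eq_self_of_coprime hk
  rw [← hl]
  exact (Commute.pow_right h l).eq

theorem ringEquiv_centralChar (σ : ℂ ≃+* ℂ) (g : G) :
    ∃ k : ℕ, ∀ χ : IrrCharacter G,
      σ (centralChar (χ : G → ℂ) g) = centralChar (χ : G → ℂ) (g ^ k) := by
  set n := orderOf g with hn
  have hn0 : n ≠ 0 := (orderOf_pos g).ne'
  have hζ : IsPrimitiveRoot (Complex.exp (2 * Real.pi * Complex.I / n)) n :=
    Complex.isPrimitiveRoot_exp n hn0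
  have : NeZero n := ⟨hn0⟩
  obtain ⟨k, -, hk, hkζ⟩ := hζ.isPrimitiveRoot_iff.mp (hζ.map_of_injective σ.injective)
  have hroot : ∀ z : ℂ, z ^ n = 1 → σ z = z ^ k := fun z hz => by
    obtain ⟨i, -, rfl⟩ := hζ.eq_pow_of_pow_eq_one hz
    rw [map_pow, ← hkζ, ← pow_mul, ← pow_mul, mul_comm k i]
  refine ⟨k, fun χ => ?_⟩
  have hc := CfsgLib.Char.isCharacter_of_isIrr χ.2
  rw [centralChar, centralChar, centralizer_pow_of_coprime g hk, map_div₀, map_mul, map_natCast,
    CfsgLib.CharNormal.ringEquiv_char_apply hroot hc dvd_rfl]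
  obtain ⟨d, hd⟩ := CfsgLib.Char.exists_degree hc
  rw [hd, map_natCast]

/-- Blocks do not depend on the maximal ideal over `p`. -/
theorem sub_mem_of_sameBlock {p : ℕ} {M M' : Ideal AlgInt} (hM : IsPModular p M)
    (hM' : IsPModular p M') {χ ψ : IrrCharacter G} (h : SameBlock M (χ : G → ℂ) (ψ : G → ℂ)) (g : G)
    (a : AlgInt) (ha : (a : ℂ) = centralChar (χ : G → ℂ) g - centralChar (ψ : G → ℂ) g) :
    a ∈ M' := by
  have := Fintype.ofFinite G
  have := hM.2.1
  refine mem_of_forall_conj_mem hM hM' a (fun σ b hb => ?_)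
  obtain ⟨k, hk⟩ := ringEquiv_centralChar σ g
  rw [ha, map_sub, hk, hk] at hb
  have hb' : MemLocalIdeal M (b : ℂ) := hb ▸ h (g ^ k)
  exact (memLocalIdeal_intInt_iff M b.2).mp hb'

end CfsgLib.Blocks
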