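import Cfsg.Agent.Lib.Blocks.Basic
import Cfsg.Agent.Lib.Blocks.GaloisInv
import Cfsg.Agent.Lib.CharBlocks.Degree
import Mathlib.GroupTheory.Perm.Cycle.Type
import Mathlib.GroupTheory.Sylow

/-!
# Knörr's theorem on characters vanishing on the elements of order `p`

Let `T_Q` be the relative trace from a `p`-subgroup `Q` to `G` on the group algebra and `c_Q` its
composite with the reduced central character of `χ`.  For a minimal `Q` with `c_Q ≠ 0` only the
`Q`-fixed summands survive in `c_Q`.  The sum `W` of the elements with `x ^ p = 1` has central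
character `1`, and its part `U` centralizing `Q` squares to a multiple of `p` when `Q` is not
trivial; so `Q` is trivial, which means defect zero.
-/

set_option autoImplicit false

noncomputable section

namespace CfsgLib.Blocks.Knorr

open Cfsg

variable {G : Type*} [Group G] [Fintype G]

/-- Conjugation on the group algebra. -/
def cnj (g : G) (x : CA G) : CA G :=
  MonoidAlgebra.single g 1 * x * MonoidAlgebra.single g⁻¹ 1

omit [Fintype G] in
theorem single_mul_single_inv (g : G) :
    MonoidAlgebra.single g (1 : ℂ) * MonoidAlgebra.single g⁻¹ 1 = 1 := by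
  rw [MonoidAlgebra.single_mul_single, mul_inv_cancel, one_mul, MonoidAlgebra.one_def]

omit [Fintype G] in
theorem single_inv_mul_single (g : G) :
    MonoidAlgebra.single g⁻¹ (1 : ℂ) * MonoidAlgebra.single g 1 = 1 := by
  rw [MonoidAlgebra.single_mul_single, inv_mul_cancel, one_mul, MonoidAlgebra.one_def]

omit [Fintype G] in
theorem cnj_one (x : CA G) : cnj 1 x = x := by
  rw [cnj, inv_one, ← MonoidAlgebra.one_def, one_mul, mul_one]

omit [Fintype G] in
theorem cnj_cnj (g h : G) (x : CA G) : cnj g (cnj h x) = cnj (g * h) x := by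
  rw [cnj, cnj, cnj, mul_inv_rev]
  rw [show MonoidAlgebra.single (g * h) (1 : ℂ) =
      MonoidAlgebra.single g 1 * MonoidAlgebra.single h 1 by
    rw [MonoidAlgebra.single_mul_single, one_mul],
    show MonoidAlgebra.single (h⁻¹ * g⁻¹) (1 : ℂ) =
      MonoidAlgebra.single h⁻¹ 1 * MonoidAlgebra.single g⁻¹ 1 by
    rw [MonoidAlgebra.single_mul_single, one_mul]]
  simp only [mul_assoc]

omit [Fintype G] in
theorem cnj_mul (g : G) (x y : CA G) : cnj g (x * y) = cnj g x * cnj g y := by
  rw [cnj, cnj, cnj]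
  calc MonoidAlgebra.single g 1 * (x * y) * MonoidAlgebra.single g⁻¹ 1
      = MonoidAlgebra.single g 1 * x * 1 * y * MonoidAlgebra.single g⁻¹ 1 := by
        rw [mul_one]; simp only [mul_assoc]
    _ = _ := by rw [← single_inv_mul_single g]; simp only [mul_assoc]

omit [Fintype G] in
theorem cnj_sum {ι : Type*} (s : Finset ι) (g : G) (f : ι → CA G) :
    cnj g (∑ i ∈ s, f i) = ∑ i ∈ s, cnj g (f i) := by
  simp only [cnj, Finset.mul_sum, Finset.sum_mul]

omit [Fintype G] in
theorem cnj_nsmul (g : G) (n : ℕ) (x : CA G) : cnj g (n • x) = n • cnj g x := by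
  simp only [cnj, mul_smul_comm, smul_mul_assoc]

omit [Fintype G] in
theorem cnj_single (g u : G) :
    cnj g (MonoidAlgebra.single u (1 : ℂ)) = MonoidAlgebra.single (g * u * g⁻¹) 1 := by
  rw [cnj, MonoidAlgebra.single_mul_single, MonoidAlgebra.single_mul_single, one_mul, one_mul]

theorem coeff_cnj (g k : G) (x : CA G) : (cnj g x).coeff k = x.coeff (g⁻¹ * k * g) := by
  classical
  rw [cnj, coeff_mul_eq_sum, Finset.sum_eq_single (k * g) (fun b _ hb => by
    have hne : b⁻¹ * k ≠ g⁻¹ := fun h => hb (by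
      calc b = k * (b⁻¹ * k)⁻¹ := by group
        _ = k * g := by rw [h, inv_inv])
    rw [MonoidAlgebra.coeff_single, Finsupp.single_eq_of_ne hne, mul_zero]) (by simp)]
  · rw [MonoidAlgebra.coeff_single, show (k * g)⁻¹ * k = g⁻¹ by group, Finsupp.single_eq_same,
      mul_one, coeff_mul_eq_sum, Finset.sum_eq_single g (fun b _ hb => by simp [Ne.symm hb]) (by simp)]
    rw [MonoidAlgebra.coeff_single, Finsupp.single_eq_same, one_mul, mul_assoc]

variable (M : Ideal AlgInt) [M.IsMaximal]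

theorem single_mem_intCA (g : G) : MonoidAlgebra.single g (1 : ℂ) ∈ intCA M G := by
  classical
  intro k
  rw [MonoidAlgebra.coeff_single, Finsupp.single_apply]
  split_ifs
  · exact Subring.one_mem _
  · exact Subring.zero_mem _

variable {M}

theorem cnj_mem_intCA (g : G) {x : CA G} (hx : x ∈ intCA M G) : cnj g x ∈ intCA M G :=
  Subring.mul_mem _ (Subring.mul_mem _ (single_mem_intCA M g) hx) (single_mem_intCA M _)

/-- Invariance under conjugation by a subgroup. -/
def Fix (Q : Subgroup G) (x : CA G) : Prop := ∀ q ∈ Q, cnj q x = x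

omit [Fintype G] in
theorem Fix.mono {Q R : Subgroup G} (h : R ≤ Q) {x : CA G} (hx : Fix Q x) : Fix R x :=
  fun q hq => hx q (h hq)

omit [Fintype G] in
theorem Fix.mul {Q : Subgroup G} {x y : CA G} (hx : Fix Q x) (hy : Fix Q y) : Fix Q (x * y) :=
  fun q hq => by rw [cnj_mul, hx q hq, hy q hq]

omit [Fintype G] in
theorem cnj_eq_of_mk_eq {Q : Subgroup G} {x : CA G} (hx : Fix Q x) {g g' : G}
    (h : (g : G ⧸ Q) = (g' : G ⧸ Q)) : cnj g x = cnj g' x := by
  have hq := QuotientGroup.eq.mp h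
  calc cnj g x = cnj g (cnj (g⁻¹ * g') x) := by rw [hx _ hq]
    _ = cnj g' x := by rw [cnj_cnj, mul_inv_cancel_left]

/-- The relative trace. -/
def tr (Q : Subgroup G) [Fintype (G ⧸ Q)] (x : CA G) : CA G := ∑ a : G ⧸ Q, cnj a.out x

variable {Q : Subgroup G} [Fintype (G ⧸ Q)]

theorem cnj_tr {x : CA G} (hx : Fix Q x) (h : G) : cnj h (tr Q x) = tr Q x := by
  rw [tr, cnj_sum]
  refine Fintype.sum_equiv (MulAction.toPerm h) _ _ (fun a => ?_)
  rw [cnj_cnj]
  refine cnj_eq_of_mk_eq hx ?_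
  rw [MulAction.toPerm_apply, QuotientGroup.out_eq']
  conv_rhs => rw [← QuotientGroup.out_eq' a]
  rfl

theorem tr_mem_Zint {x : CA G} (hx : Fix Q x) (hi : x ∈ intCA M G) : tr Q x ∈ Zint M G := by
  rw [mem_Zint_iff]
  refine ⟨Subring.sum_mem _ (fun a _ => cnj_mem_intCA _ hi), fun g h => ?_⟩
  calc (tr Q x).coeff (h * g * h⁻¹) = (cnj h⁻¹ (tr Q x)).coeff g := by
        rw [coeff_cnj, inv_inv]
    _ = _ := by rw [cnj_tr hx]

omit [Fintype G] in
theorem tr_sum {ι : Type*} (s : Finset ι) (f : ι → CA G) :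
    tr Q (∑ i ∈ s, f i) = ∑ i ∈ s, tr Q (f i) := by
  simp only [tr, cnj_sum]
  exact Finset.sum_comm

omit [Fintype G] in
theorem tr_nsmul (n : ℕ) (x : CA G) : tr Q (n • x) = n • tr Q x := by
  simp only [tr, cnj_nsmul, Finset.smul_sum]

omit [Fintype G] in
theorem tr_central_mul {z : CA G} (hz : ∀ g, cnj g z = z) (x : CA G) :
    tr Q (z * x) = z * tr Q x := by
  simp only [tr, cnj_mul, hz, Finset.mul_sum]

/-- A `Q`-orbit sum has the same relative trace as its representative from the stabilizer. -/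
theorem tr_orbit {Ω : Type*} [MulAction Q Ω] (F : Ω → CA G)
    (hF : ∀ (q : Q) (w : Ω), F (q • w) = cnj (q : G) (F w)) (w₀ : Ω) (O : Finset Ω)
    (hO : ∀ w, w ∈ O ↔ ∃ q : Q, q • w₀ = w)
    [Fintype (G ⧸ (MulAction.stabilizer Q w₀).map Q.subtype)] :
    tr Q (∑ w ∈ O, F w) = tr ((MulAction.stabilizer Q w₀).map Q.subtype) (F w₀) := by
  classical
  set R := (MulAction.stabilizer Q w₀).map Q.subtype with hR
  have hfix : Fix R (F w₀) := by
    rintro _ ⟨q, hq, rfl⟩
    have := hF q w₀
    rw [show q • w₀ = w₀ from hq] at this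
    exact this.symm
  choose! qq hqq using fun w (hw : w ∈ O) => (hO w).mp hw
  rw [tr, tr]
  simp only [cnj_sum]
  rw [← Finset.sum_product']
  refine Finset.sum_bij (fun p _ => ((p.1.out * (qq p.2 : G) : G) : G ⧸ R)) (by simp) ?_ ?_ ?_
  · rintro ⟨a, w⟩ hp ⟨a', w'⟩ hp' he
    have hw := (Finset.mem_product.mp hp).2
    have hw' := (Finset.mem_product.mp hp').2
    have hmem := QuotientGroup.eq.mp he
    obtain ⟨r, hr, hre⟩ := hmem
    have ha : a = a' := by
      rw [← QuotientGroup.out_eq' a, ← QuotientGroup.out_eq' a', QuotientGroup.eq]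
      have : a.out⁻¹ * a'.out = (qq w : G) * (r : G) * (qq w' : G)⁻¹ := by
        change (r : G) = _ at hre
        rw [hre]; group
      rw [this]
      exact Q.mul_mem (Q.mul_mem (qq w).2 r.2) (Q.inv_mem (qq w').2)
    subst ha
    have hq : r = (qq w)⁻¹ * qq w' := Subtype.ext (by
      change (r : G) = _ at hre
      rw [hre]; simp [mul_assoc])
    have : qq w' • w₀ = qq w • w₀ := by
      conv_rhs => rw [show w₀ = r • w₀ from (MulAction.mem_stabilizer_iff.mp hr).symm]
      rw [hq, smul_smul, mul_inv_cancel_left]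
    rw [hqq w hw, hqq w' hw'] at this
    rw [this]
  · intro b _
    obtain ⟨g, rfl⟩ := QuotientGroup.mk_surjective b
    let a : G ⧸ Q := (g : G ⧸ Q)
    have hmem : a.out⁻¹ * g ∈ Q := QuotientGroup.eq.mp (QuotientGroup.out_eq' a)
    let q : Q := ⟨_, hmem⟩
    have hw : q • w₀ ∈ O := (hO _).mpr ⟨q, rfl⟩
    refine ⟨(a, q • w₀), Finset.mem_product.mpr ⟨Finset.mem_univ _, hw⟩, QuotientGroup.eq.mpr ?_⟩
    refine ⟨(qq (q • w₀))⁻¹ * q, ?_, ?_⟩
    · change ((qq (q • w₀))⁻¹ * q) • w₀ = w₀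
      rw [← smul_smul, inv_smul_eq_iff, hqq _ hw]
    · simp [q, mul_assoc]
  · rintro ⟨a, w⟩ hp
    have hw := (Finset.mem_product.mp hp).2
    conv_lhs => rw [← hqq w hw, hF, cnj_cnj]
    exact cnj_eq_of_mk_eq hfix (QuotientGroup.out_eq' _).symm

variable {p : ℕ} (χ : IrrCharacter G)

variable (M) in
/-- The reduced central character of the relative trace. -/
def cval (Q : Subgroup G) [Fintype (G ⧸ Q)] (x : CA G) : Res M :=
  open Classical in if h : tr Q x ∈ Zint M G then bomega χ (⟨_, h⟩ : Zint M G) else 0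

theorem cval_eq {x : CA G} (hx : Fix Q x) (hi : x ∈ intCA M G) :
    cval M χ Q x = bomega χ (⟨_, tr_mem_Zint hx hi⟩ : Zint M G) := by
  rw [cval, dif_pos]

/-- Smaller subgroups have vanishing traces. -/
def IsMinimalTrace (M : Ideal AlgInt) [M.IsMaximal] (χ : IrrCharacter G) (Q : Subgroup G) : Prop :=
  ∀ R : Subgroup G, R < Q → ∀ [Fintype (G ⧸ R)] (y : CA G), Fix R y → y ∈ intCA M G →
    cval M χ R y = 0

/-- Only the fixed points contribute. -/
theorem cval_sum_mul (hmin : IsMinimalTrace M χ Q) {Ω : Type*} [Fintype Ω] [MulAction Q Ω]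
    (f : Ω → CA G) (hf : ∀ (q : Q) (w : Ω), f (q • w) = cnj (q : G) (f w))
    (hfi : ∀ w, f w ∈ intCA M G) {x : CA G} (hx : Fix Q x) (hxi : x ∈ intCA M G)
    [DecidablePred (· ∈ MulAction.fixedPoints Q Ω)] :
    cval M χ Q ((∑ w, f w) * x) =
      cval M χ Q ((∑ w ∈ Finset.univ.filter (· ∈ MulAction.fixedPoints Q Ω), f w) * x) := by
  classical
  let F : Ω → CA G := fun w => f w * x
  have hF : ∀ (q : Q) (w : Ω), F (q • w) = cnj (q : G) (F w) := fun q w => by
    rw [cnj_mul, ← hf, hx _ q.2]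
  have hFi : ∀ w, F w ∈ intCA M G := fun w => Subring.mul_mem _ (hfi w) hxi
  have hsumfix : ∀ s : Finset Ω, (∀ (q : Q) (w : Ω), w ∈ s → q • w ∈ s) →
      Fix Q (∑ w ∈ s, F w) := by
    intro s hs q hq
    rw [cnj_sum]
    refine Finset.sum_bij (fun w _ => (⟨q, hq⟩ : Q) • w) (fun w hw => hs _ w hw)
      (fun _ _ _ _ h => smul_left_cancel _ h) (fun w hw => ⟨(⟨q, hq⟩ : Q)⁻¹ • w, hs _ w hw, smul_inv_smul _ _⟩)
      (fun w _ => (hF ⟨q, hq⟩ w).symm)
  rw [Finset.sum_mul, Finset.sum_mul]
  set fx := Finset.univ.filter (· ∈ MulAction.fixedPoints Q Ω) with hfxdef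
  have hfxs : ∀ (q : Q) (w : Ω), w ∈ fx → q • w ∈ fx := fun q w hw => by
    rwa [(Finset.mem_filter.mp hw).2 q]
  have hall := hsumfix Finset.univ (fun _ w _ => Finset.mem_univ _)
  have hfx := hsumfix fx hfxs
  have := Fintype.ofFinite (Quotient (MulAction.orbitRel Q Ω))
  let orb : Quotient (MulAction.orbitRel Q Ω) → Finset Ω := fun o =>
    Finset.univ.filter fun w => (Quotient.mk _ w : Quotient (MulAction.orbitRel Q Ω)) = o
  have horbs : ∀ o (q : Q) (w : Ω), w ∈ orb o → q • w ∈ orb o := fun o q w hw => by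
    rw [Finset.mem_filter] at hw ⊢
    exact ⟨Finset.mem_univ _, (Quotient.sound (show MulAction.orbitRel Q Ω (q • w) w from ⟨q, rfl⟩)).trans hw.2⟩
  -- the contribution of each orbit
  have key : ∀ o, cval M χ Q (∑ w ∈ orb o, F w) =
      cval M χ Q (∑ w ∈ (orb o).filter (· ∈ MulAction.fixedPoints Q Ω), F w) := by
    intro o
    obtain ⟨w₀, rfl⟩ := Quotient.exists_rep o
    have hO : ∀ w, w ∈ orb (Quotient.mk _ w₀) ↔ ∃ q : Q, q • w₀ = w := by
      intro w
      rw [Finset.mem_filter, Quotient.eq]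
      exact ⟨fun h => h.2, fun h => ⟨Finset.mem_univ _, h⟩⟩
    by_cases hw₀ : w₀ ∈ MulAction.fixedPoints Q Ω
    · congr 1
      refine Finset.sum_congr (Finset.filter_true_of_mem fun w hw => ?_).symm fun _ _ => rfl
      obtain ⟨q, rfl⟩ := (hO w).mp hw
      rwa [hw₀ q]
    · have hempty : (orb (Quotient.mk _ w₀)).filter (· ∈ MulAction.fixedPoints Q Ω) = ∅ := by
        refine Finset.filter_false_of_mem fun w hw hwf => hw₀ ?_
        obtain ⟨q, rfl⟩ := (hO w).mp hw
        have h1 : q⁻¹ • q • w₀ = q • w₀ := hwf q⁻¹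
        rw [inv_smul_smul] at h1
        exact h1 ▸ hwf
      rw [hempty, Finset.sum_empty]
      set R := (MulAction.stabilizer Q w₀).map Q.subtype with hR
      have hlt : R < Q := by
        refine lt_of_le_of_ne ?_ fun he => hw₀ fun q => ?_
        · rintro _ ⟨r, -, rfl⟩; exact r.2
        · obtain ⟨r, hr, hrq⟩ := he.ge q.2
          rwa [← show r = q from Subtype.ext hrq]
      have := Fintype.ofFinite (G ⧸ R)
      have hfixR : Fix R (F w₀) := by
        rintro _ ⟨q, hq, rfl⟩
        have := hF q w₀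
        rw [show q • w₀ = w₀ from hq] at this
        exact this.symm
      have h0 := hmin R hlt (F w₀) hfixR (hFi w₀)
      rw [cval_eq χ hfixR (hFi w₀)] at h0
      rw [cval_eq χ (hsumfix _ (horbs _)) (Subring.sum_mem _ fun w _ => hFi w),
        cval_eq χ (x := 0) (fun q _ => by simp [cnj]) (Subring.zero_mem _)]
      have e1 : (⟨_, tr_mem_Zint (hsumfix _ (horbs _)) (Subring.sum_mem _ fun w _ => hFi w)⟩ : Zint M G) =
          ⟨_, tr_mem_Zint hfixR (hFi w₀)⟩ := Subtype.ext (tr_orbit F hF w₀ _ hO)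
      have e2 : (⟨_, tr_mem_Zint (x := (0 : CA G)) (Q := Q) (fun q _ => by simp [cnj])
          (Subring.zero_mem _)⟩ : Zint M G) = 0 := Subtype.ext (by simp [tr, cnj])
      rw [e1, e2, h0, map_zero]
  -- sum over orbits
  have hdec : ∀ s : Finset Ω, ∑ w ∈ s, F w =
      ∑ o, ∑ w ∈ (orb o).filter (· ∈ s), F w := fun s => by
    rw [← Finset.sum_fiberwise s (fun w => (Quotient.mk _ w : Quotient (MulAction.orbitRel Q Ω)))]
    refine Finset.sum_congr rfl fun o _ => Finset.sum_congr ?_ fun _ _ => rfl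
    ext w; simp [orb, and_comm]
  have hadd : ∀ (g : Quotient (MulAction.orbitRel Q Ω) → Finset Ω),
      (∀ o (q : Q) (w : Ω), w ∈ g o → q • w ∈ g o) →
      cval M χ Q (∑ o, ∑ w ∈ g o, F w) = ∑ o, cval M χ Q (∑ w ∈ g o, F w) := by
    intro g hg
    have h1 : ∀ o, Fix Q (∑ w ∈ g o, F w) := fun o => hsumfix _ (hg o)
    have h2 : ∀ o, (∑ w ∈ g o, F w) ∈ intCA M G := fun o => Subring.sum_mem _ fun w _ => hFi w
    have h3 : Fix Q (∑ o, ∑ w ∈ g o, F w) := fun q hq => by
      rw [cnj_sum]; exact Finset.sum_congr rfl fun o _ => h1 o q hq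
    rw [cval_eq χ h3 (Subring.sum_mem _ fun o _ => h2 o),
      Finset.sum_congr rfl (fun o _ => cval_eq χ (h1 o) (h2 o)), ← map_sum]
    congr 1
    apply Subtype.ext
    rw [AddSubmonoidClass.coe_finsetSum]
    exact tr_sum _ _
  change cval M χ Q (∑ w, F w) = cval M χ Q (∑ w ∈ fx, F w)
  rw [hdec Finset.univ, hdec fx, hadd _ (fun o q w hw => ?_), hadd _ (fun o q w hw => ?_)]
  · refine Finset.sum_congr rfl fun o _ => ?_
    simp only [Finset.mem_univ, Finset.filter_true, hfxdef, Finset.mem_filter, true_and]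
    exact key o
  · simp only [Finset.mem_filter] at hw ⊢
    exact ⟨horbs o q w hw.1, hfxs q w hw.2⟩
  · simp only [Finset.mem_filter, Finset.mem_univ, and_true] at hw ⊢
    exact horbs o q w hw

section product

variable [DecidablePred (· ∈ MulAction.fixedPoints Q (G ⧸ Q))]

/-- The relative trace from `Q` to its normalizer. -/
def trN (Q : Subgroup G) [Fintype (G ⧸ Q)] [DecidablePred (· ∈ MulAction.fixedPoints Q (G ⧸ Q))]
    (x : CA G) : CA G :=
  ∑ a ∈ Finset.univ.filter (· ∈ MulAction.fixedPoints Q (G ⧸ Q)), cnj a.out x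

omit [Fintype G] [DecidablePred (· ∈ MulAction.fixedPoints Q (G ⧸ Q))] [Fintype (G ⧸ Q)] in
theorem out_mem_normalizer [Finite G] {a : G ⧸ Q} (ha : a ∈ MulAction.fixedPoints Q (G ⧸ Q)) :
    a.out ∈ Subgroup.normalizer (Q : Set G) := by
  rw [← QuotientGroup.out_eq' a] at ha
  exact Sylow.mem_fixedPoints_mul_left_cosets_iff_mem_normalizer.mp ha

theorem cnj_trN {x : CA G} (hx : Fix Q x) {h : G} (hh : h ∈ Subgroup.normalizer (Q : Set G)) :
    cnj h (trN Q x) = trN Q x := by
  rw [trN, cnj_sum]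
  have hmem : ∀ (k : G), k ∈ Subgroup.normalizer (Q : Set G) → ∀ a : G ⧸ Q,
      a ∈ MulAction.fixedPoints Q (G ⧸ Q) → k • a ∈ MulAction.fixedPoints Q (G ⧸ Q) := by
    intro k hk a ha
    conv => rw [← QuotientGroup.out_eq' a]
    exact Sylow.mem_fixedPoints_mul_left_cosets_iff_mem_normalizer.mpr (Subgroup.mul_mem _ hk (out_mem_normalizer ha))
  refine Finset.sum_bij (fun a _ => h • a) ?_ (fun _ _ _ _ e => smul_left_cancel _ e)
    (fun a ha => ⟨h⁻¹ • a, ?_, smul_inv_smul _ _⟩) (fun a _ => ?_)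
  · intro a ha
    simp only [Finset.mem_filter, Finset.mem_univ, true_and] at ha ⊢
    exact hmem h hh a ha
  · simp only [Finset.mem_filter, Finset.mem_univ, true_and] at ha ⊢
    exact hmem _ (Subgroup.inv_mem _ hh) a ha
  · rw [cnj_cnj]
    refine cnj_eq_of_mk_eq hx ?_
    rw [QuotientGroup.out_eq']
    conv_rhs => rw [← QuotientGroup.out_eq' a]
    rfl

theorem trN_mem_intCA {x : CA G} (hi : x ∈ intCA M G) : trN Q x ∈ intCA M G :=
  Subring.sum_mem _ fun _ _ => cnj_mem_intCA _ hi

/-- Multiplicativity of `c_Q`. -/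
theorem cval_mul_cval (hmin : IsMinimalTrace M χ Q) {a x : CA G} (ha : Fix Q a)
    (hai : a ∈ intCA M G) (hx : Fix Q x) (hxi : x ∈ intCA M G) :
    cval M χ Q a * cval M χ Q x = cval M χ Q (trN Q a * x) := by
  have hz : ∀ g, cnj g (tr Q a) = tr Q a := cnj_tr ha
  have hax : Fix Q (tr Q a * x) := fun q hq => by rw [cnj_mul, hz, hx q hq]
  have hai' : tr Q a ∈ intCA M G := Subring.sum_mem _ fun _ _ => cnj_mem_intCA _ hai
  have h1 : cval M χ Q a * cval M χ Q x = cval M χ Q (tr Q a * x) := by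
    rw [cval_eq χ ha hai, cval_eq χ hx hxi, cval_eq χ hax (Subring.mul_mem _ hai' hxi), ← map_mul]
    congr 1
    exact Subtype.ext (tr_central_mul hz x).symm
  rw [h1]
  exact cval_sum_mul χ hmin (fun c : G ⧸ Q => cnj c.out a) (fun q c => by
    rw [cnj_cnj]
    refine cnj_eq_of_mk_eq ha ?_
    rw [QuotientGroup.out_eq']
    conv_lhs => rw [← QuotientGroup.out_eq' c]
    rfl) (fun c => cnj_mem_intCA _ hai) hx hxi

end product

/-- **Knörr's theorem**: vanishing on the elements of order `p` forces defect zero. -/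
theorem not_dvd_div_degree (hM : IsPModular p M)
    (hvan : ∀ g : G, orderOf g = p → (χ : G → ℂ) g = 0) :
    ¬ p ∣ Nat.card G / charDegree (χ : G → ℂ) := by
  classical
  intro hdvd
  have hp := hM.1
  have : Fact p.Prime := ⟨hp⟩
  have : CharP (Res M) p := res_charP M hM
  have hone : ∀ R : Subgroup G, Fix R (1 : CA G) := fun R q _ => by
    rw [cnj, mul_one, single_mul_single_inv]
  let P : Sylow p G := default
  let Good : Subgroup G → Prop := fun R => R ≤ (P : Subgroup G) ∧
    ∃ y : CA G, Fix R y ∧ y ∈ intCA M G ∧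
      (letI := Fintype.ofFinite (G ⧸ R); cval M χ R y ≠ 0)
  have hP : Good (P : Subgroup G) := by
    refine ⟨le_rfl, 1, hone _, Subring.one_mem _, ?_⟩
    letI := Fintype.ofFinite (G ⧸ (P : Subgroup G))
    rw [cval_eq χ (hone _) (Subring.one_mem _)]
    have e : (⟨_, tr_mem_Zint (hone (P : Subgroup G)) (Subring.one_mem (intCA M G))⟩ : Zint M G) =
        ((P : Subgroup G).index : Zint M G) := Subtype.ext (by
      rw [SubringClass.coe_natCast]
      simp only [tr, cnj, mul_one, single_mul_single_inv, Finset.sum_const, Finset.card_univ,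
        Subgroup.index, Nat.card_eq_fintype_card, nsmul_one])
    rw [e, map_natCast]
    intro h
    exact P.not_dvd_index ((CharP.cast_eq_zero_iff (Res M) p _).mp h)
  obtain ⟨Q, ⟨⟨hQP, a, ha, hai, hne⟩, hQmin⟩⟩ :
      ∃ Q, Good Q ∧ ∀ R, R < Q → ¬ Good R := by
    obtain ⟨Q, hQ⟩ := Set.Finite.exists_minimal (s := {R | Good R}) (Set.toFinite _) ⟨_, hP⟩
    exact ⟨Q, hQ.1, fun R hR hG => hR.not_ge (hQ.2 hG hR.le)⟩
  letI := Fintype.ofFinite (G ⧸ Q)
  have hmin : IsMinimalTrace M χ Q := by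
    intro R hR inst y hy hyi
    by_contra hy0
    refine hQmin R hR ⟨hR.le.trans hQP, y, hy, hyi, ?_⟩
    convert hy0
  by_cases hbot : Q = ⊥
  · -- trace from the trivial subgroup
    subst hbot
    apply hne
    rw [cval_eq χ ha hai, bomega_apply, res_eq_zero_iff, coe_zomega]
    obtain ⟨e, he⟩ := CfsgLib.CharBlocks.charDegree_dvd_card χ.2
    have hd0 := CfsgLib.CharBlocks.charDegree_pos χ.2
    rw [he, Nat.mul_div_cancel_left _ hd0] at hdvd
    have hch : ∀ g : G, charLin (χ : G → ℂ) (cnj g a) = charLin (χ : G → ℂ) a := by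
      intro g
      rw [charLin_apply, charLin_apply]
      refine Fintype.sum_equiv (MulAut.conj g⁻¹).toEquiv _ _ fun k => ?_
      simp only [MulEquiv.toEquiv_eq_coe, EquivLike.coe_coe, MulAut.conj_apply, inv_inv, coeff_cnj]
      congr 1
      conv_rhs => rw [show g⁻¹ * k * g = g⁻¹ * k * g⁻¹⁻¹ by rw [inv_inv],
        CfsgLib.Char.isClassFunction_of_isIrr χ.2]
    have hval : omega (χ : G → ℂ) (tr (⊥ : Subgroup G) a) = (e : ℂ) * charLin (χ : G → ℂ) a := by
      rw [omega, tr, map_sum, Finset.sum_congr rfl (fun q _ => hch _), Finset.sum_const,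
        Finset.card_univ, nsmul_eq_mul, ← Nat.card_eq_fintype_card,
        show Nat.card (G ⧸ (⊥ : Subgroup G)) = Nat.card G from Subgroup.index_bot, he, Nat.cast_mul,
        CfsgLib.CharBlocks.coe_charDegree_irr]
      field_simp [CfsgLib.Char.irr_one_ne_zero χ.2]
    rw [hval]
    have hint : charLin (χ : G → ℂ) a ∈ locRing M := by
      rw [charLin_apply]
      exact Subring.sum_mem _ fun g _ => Subring.mul_mem _ (hai g)
        (algInt_le_locRing M (CfsgLib.Char.char_isIntegral (CfsgLib.Char.isCharacter_of_isIrr χ.2) g))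
    have := (res_eq_zero_iff M ((e : locRing M) * ⟨_, hint⟩)).mp (by
      rw [map_mul, (res_natCast_eq_zero_iff M hM e).mpr hdvd, zero_mul])
    simpa using this
  -- an element of order `p` in the centre of `Q`
  have hQp : IsPGroup p Q := P.2.to_le hQP
  have : Nontrivial Q := (Subgroup.nontrivial_iff_ne_bot Q).mpr hbot
  have : Nontrivial (Subgroup.center Q) := hQp.center_nontrivial
  obtain ⟨k, hk⟩ := (IsPGroup.iff_card.mp (hQp.to_subgroup (Subgroup.center Q)))
  have hk0 : k ≠ 0 := by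
    rintro rfl
    exact absurd hk (by simpa using (Finite.one_lt_card (α := Subgroup.center Q)).ne')
  obtain ⟨z', hz'⟩ := exists_prime_orderOf_dvd_card' (G := Subgroup.center Q) p
    (hk ▸ dvd_pow_self p hk0)
  set z : G := ((z' : Q) : G) with hz
  have hzord : orderOf z = p := by rw [hz, Subgroup.orderOf_coe, Subgroup.orderOf_coe, hz']
  have hzQ : z ∈ Q := (z' : Q).2
  have hzc : ∀ q ∈ Q, q * z = z * q := fun q hq =>
    congrArg Subtype.val (Subgroup.mem_center_iff.mp z'.2 ⟨q, hq⟩)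
  -- the elements with `x ^ p = 1`
  let W : Type _ := {x : G // x ^ p = 1}
  letI : MulAction Q W :=
    { smul := fun q w => ⟨(q : G) * w * (q : G)⁻¹, by rw [conj_pow, w.2]; group⟩
      one_smul := fun w => Subtype.ext (by
        change ((1 : Q) : G) * w * ((1 : Q) : G)⁻¹ = w
        simp)
      mul_smul := fun q r w => Subtype.ext (by
        change ((q * r : Q) : G) * w * ((q * r : Q) : G)⁻¹ = (q : G) * ((r : G) * w * (r : G)⁻¹) * (q : G)⁻¹
        simp [mul_assoc]) }
  let InU : G → Prop := fun x => x ^ p = 1 ∧ ∀ q ∈ Q, q * x = x * q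
  set U : CA G := ofFun fun x => if InU x then 1 else 0 with hUdef
  have hUi : U ∈ intCA M G := fun x => by
    rw [hUdef, coeff_ofFun]; split_ifs
    · exact Subring.one_mem _
    · exact Subring.zero_mem _
  have hsingle : ∀ w : W, MonoidAlgebra.single (w : G) (1 : ℂ) ∈ intCA M G := fun w => single_mem_intCA M _
  have hfixiff : ∀ w : W, w ∈ MulAction.fixedPoints Q W ↔ InU w := by
    intro w
    constructor
    · intro h
      refine ⟨w.2, fun q hq => ?_⟩
      exact mul_inv_eq_iff_eq_mul.mp (congrArg Subtype.val (h ⟨q, hq⟩))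
    · intro h q
      exact Subtype.ext (mul_inv_eq_iff_eq_mul.mpr (h.2 q q.2))
  have hUsum : (∑ w ∈ Finset.univ.filter (· ∈ MulAction.fixedPoints Q W),
      MonoidAlgebra.single (w : G) (1 : ℂ)) = U := by
    apply MonoidAlgebra.coeff_injective
    ext x
    rw [MonoidAlgebra.coeff_sum, Finsupp.finsetSum_apply, hUdef, coeff_ofFun]
    split_ifs with hx
    · rw [Finset.sum_eq_single (⟨x, hx.1⟩ : W)]
      · simp
      · intro w _ hw
        rw [MonoidAlgebra.coeff_single, Finsupp.single_eq_of_ne]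
        exact fun h => hw (Subtype.ext h.symm)
      · intro h
        exact absurd (Finset.mem_filter.mpr ⟨Finset.mem_univ _, (hfixiff _).mpr hx⟩) h
    · refine Finset.sum_eq_zero fun w hw => ?_
      simp only [Finset.mem_filter, Finset.mem_univ, true_and, hfixiff] at hw
      rw [MonoidAlgebra.coeff_single, Finsupp.single_eq_of_ne]
      exact fun h => hx (h ▸ hw)
  have hUN : ∀ h ∈ Subgroup.normalizer (Q : Set G), cnj h U = U := by
    intro h hh
    apply MonoidAlgebra.coeff_injective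
    ext x
    rw [coeff_cnj, hUdef, coeff_ofFun, coeff_ofFun]
    congr 1
    refine propext ⟨fun hx => ⟨?_, fun q hq => ?_⟩, fun hx => ⟨?_, fun q hq => ?_⟩⟩
    · calc x ^ p = (h * (h⁻¹ * x * h) * h⁻¹) ^ p := by group
        _ = 1 := by rw [conj_pow, hx.1]; group
    · have hq' : h⁻¹ * q * h ∈ Q := by
        have := (Subgroup.mem_normalizer_iff.mp (Subgroup.inv_mem _ hh) q).mp hq
        rwa [inv_inv] at this
      calc q * x = h * ((h⁻¹ * q * h) * (h⁻¹ * x * h)) * h⁻¹ := by group
        _ = h * ((h⁻¹ * x * h) * (h⁻¹ * q * h)) * h⁻¹ := by rw [hx.2 _ hq']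
        _ = x * q := by group
    · rw [show h⁻¹ * x * h = h⁻¹ * x * h⁻¹⁻¹ by rw [inv_inv], conj_pow, hx.1]; group
    · have hq' : h * q * h⁻¹ ∈ Q := (Subgroup.mem_normalizer_iff.mp hh q).mp hq
      calc q * (h⁻¹ * x * h) = h⁻¹ * ((h * q * h⁻¹) * x) * h := by group
        _ = h⁻¹ * (x * (h * q * h⁻¹)) * h := by rw [hx.2 _ hq']
        _ = h⁻¹ * x * h * q := by group
  have hUfix : Fix Q U := fun q hq => hUN q (Subgroup.le_normalizer hq)
  -- `c(a) = c(U a)`
  have hWcentral : ∀ g, cnj g (∑ w : W, MonoidAlgebra.single (w : G) (1 : ℂ)) =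
      ∑ w : W, MonoidAlgebra.single (w : G) (1 : ℂ) := by
    intro g
    rw [cnj_sum]
    exact Fintype.sum_equiv
      { toFun := fun (w : W) => (⟨g * (w : G) * g⁻¹, by rw [conj_pow, w.2]; group⟩ : W)
        invFun := fun (w : W) => (⟨g⁻¹ * (w : G) * g⁻¹⁻¹, by rw [conj_pow, w.2]; group⟩ : W)
        left_inv := fun w => Subtype.ext (by group)
        right_inv := fun w => Subtype.ext (by group) } _ _ (fun w => cnj_single g w)
  set Wz : CA G := ∑ w : W, MonoidAlgebra.single (w : G) (1 : ℂ) with hWz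
  have hWi : Wz ∈ intCA M G := Subring.sum_mem _ fun w _ => hsingle w
  have hWZ : Wz ∈ Zint M G := mem_Zint_iff.mpr ⟨hWi, fun g h => by
    calc Wz.coeff (h * g * h⁻¹) = (cnj h⁻¹ Wz).coeff g := by rw [coeff_cnj, inv_inv]
      _ = _ := by rw [hWcentral]⟩
  have hW1 : bomega χ (⟨Wz, hWZ⟩ : Zint M G) = 1 := by
    have : zomega χ (⟨Wz, hWZ⟩ : Zint M G) = 1 := Subtype.ext (by
      rw [coe_zomega, omega, OneMemClass.coe_one]
      change charLin (χ : G → ℂ) Wz / _ = _
      rw [hWz, map_sum]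
      simp only [charLin_single, one_mul]
      rw [Finset.sum_eq_single (⟨1, one_pow p⟩ : W)]
      · exact div_self (CfsgLib.Char.irr_one_ne_zero χ.2)
      · intro w _ hw
        refine hvan w ((Nat.dvd_prime hp).mp (orderOf_dvd_of_pow_eq_one w.2) |>.resolve_left ?_)
        exact fun h => hw (Subtype.ext (orderOf_eq_one_iff.mp h))
      · simp)
    rw [bomega_apply, this, map_one]
  have hWa : Fix Q (Wz * a) := Fix.mul (fun q _ => hWcentral q) ha
  have e1 : cval M χ Q (Wz * a) = cval M χ Q a := by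
    rw [cval_eq χ hWa (Subring.mul_mem _ hWi hai), cval_eq χ ha hai]
    have : (⟨_, tr_mem_Zint hWa (Subring.mul_mem _ hWi hai)⟩ : Zint M G) =
        ⟨Wz, hWZ⟩ * ⟨_, tr_mem_Zint ha hai⟩ := Subtype.ext (tr_central_mul hWcentral a)
    rw [this, map_mul, hW1, one_mul]
  have e2 : cval M χ Q (U * a) = cval M χ Q a := by
    rw [← e1, ← hUsum]
    exact (cval_sum_mul χ hmin (fun w : W => MonoidAlgebra.single (w : G) (1 : ℂ))
      (fun q w => by rw [cnj_single]; rfl) hsingle ha hai).symm
  -- `U * U` is a multiple of `p`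
  obtain ⟨Y, hYi, hY⟩ : ∃ Y : CA G, Y ∈ intCA M G ∧ U * U = p • Y := by
    have hcount : ∀ g : G, p ∣ (Finset.univ.filter fun u => InU u ∧ InU (u⁻¹ * g)).card := by
      intro g
      let S := Finset.univ.filter fun u => InU u ∧ InU (u⁻¹ * g)
      have hzU : ∀ u, InU u → InU (u * z) ∧ InU (z⁻¹ * u) := by
        intro u hu
        have hcu : Commute u z := (hu.2 z hzQ).symm
        refine ⟨⟨?_, fun q hq => ?_⟩, ⟨?_, fun q hq => ?_⟩⟩
        · rw [hcu.mul_pow, hu.1, ← hzord, pow_orderOf_eq_one, one_mul]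
        · rw [← mul_assoc, hu.2 q hq, mul_assoc, hzc q hq, mul_assoc]
        · rw [hcu.symm.inv_left.mul_pow, hu.1, inv_pow, ← hzord, pow_orderOf_eq_one, inv_one, one_mul]
        · have hc : Commute q z := hzc q hq
          rw [← mul_assoc, hc.inv_right.eq, mul_assoc, hu.2 q hq, mul_assoc]
      have hstep : ∀ u ∈ S, u * z ∈ S := by
        intro u hu
        simp only [S, Finset.mem_filter, Finset.mem_univ, true_and] at hu ⊢
        exact ⟨(hzU u hu.1).1, by rw [mul_inv_rev, mul_assoc]; exact (hzU _ hu.2).2⟩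
      have hiter : ∀ (i : ℕ) (u : G), u ∈ S → u * z ^ i ∈ S := by
        intro i
        induction i with
        | zero => simp
        | succ i ih => intro u hu; rw [pow_succ, ← mul_assoc]; exact hstep _ (ih u hu)
      let τ : Equiv.Perm {u // u ∈ S} :=
        { toFun := fun u => ⟨u.1 * z, hstep _ u.2⟩
          invFun := fun u => ⟨u.1 * z ^ (p - 1), hiter _ _ u.2⟩
          left_inv := fun u => Subtype.ext (by
            change u.1 * z * z ^ (p - 1) = u.1
            rw [mul_assoc, ← pow_succ', Nat.sub_add_cancel hp.one_le, ← hzord, pow_orderOf_eq_one, mul_one])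
          right_inv := fun u => Subtype.ext (by
            change u.1 * z ^ (p - 1) * z = u.1
            rw [mul_assoc, ← pow_succ, Nat.sub_add_cancel hp.one_le, ← hzord, pow_orderOf_eq_one, mul_one]) }
      have hτ : ∀ (i : ℕ) (u : {u // u ∈ S}), ((τ ^ i) u : G) = u.1 * z ^ i := by
        intro i
        induction i with
        | zero => simp
        | succ i ih =>
          intro u
          rw [pow_succ', Equiv.Perm.mul_apply, pow_succ, ← mul_assoc, ← ih u]
          rfl
      by_contra hnd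
      obtain ⟨u, hu⟩ := Equiv.Perm.exists_fixed_point_of_prime (p := p) (n := 1)
        (by rwa [Fintype.card_coe]) (σ := τ)
        (Equiv.ext fun u => Subtype.ext (by
          rw [pow_one, hτ, ← hzord, pow_orderOf_eq_one, mul_one]; rfl))
      have : u.1 * z = u.1 := congrArg Subtype.val hu
      rw [mul_eq_left] at this
      rw [this, orderOf_one] at hzord
      exact hp.one_lt.ne hzord
    choose cnt hcnt using hcount
    refine ⟨ofFun fun g => (cnt g : ℂ), fun g => ?_, ?_⟩
    · rw [coeff_ofFun]; exact natCast_mem _ _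
    · apply MonoidAlgebra.coeff_injective
      ext g
      rw [MonoidAlgebra.coeff_smul_apply, coeff_ofFun, nsmul_eq_mul, ← Nat.cast_mul, ← hcnt g,
        coeff_mul_eq_sum]
      simp only [hUdef, coeff_ofFun, ite_mul, one_mul, zero_mul, ← ite_and]
      exact Finset.sum_boole _ _
  have hUa : Fix Q (U * a) := Fix.mul hUfix ha
  have hUai : U * a ∈ intCA M G := Subring.mul_mem _ hUi hai
  set α := trN Q a with hα
  have htrN : trN Q (U * a) = U * α := by
    rw [hα, trN, trN, Finset.mul_sum]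
    refine Finset.sum_congr rfl fun c hc => ?_
    rw [cnj_mul, hUN _ (out_mem_normalizer (Finset.mem_filter.mp hc).2)]
  have hcomm : α * U = U * α := by
    rw [← hUsum, Finset.mul_sum, Finset.sum_mul]
    refine Finset.sum_congr rfl fun w hw => ?_
    have hwU := (hfixiff w).mp (Finset.mem_filter.mp hw).2
    have hwN : (w : G) ∈ Subgroup.normalizer (Q : Set G) :=
      Subgroup.centralizer_le_normalizer _ (Subgroup.mem_centralizer_iff.mpr hwU.2)
    have h := cnj_trN (Q := Q) ha hwN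
    rw [← hα] at h
    conv_lhs => rw [← h, cnj, mul_assoc, single_inv_mul_single, mul_one]
  have hαfix : Fix Q α := fun q hq => cnj_trN ha (Subgroup.le_normalizer hq)
  have hαi : α ∈ intCA M G := trN_mem_intCA hai
  have hsq : cval M χ Q (U * a) * cval M χ Q (U * a) = 0 := by
    rw [cval_mul_cval χ hmin hUa hUai hUa hUai, htrN,
      show U * α * (U * a) = U * U * (α * a) by
        rw [mul_assoc U α, ← mul_assoc α U, hcomm]
        simp only [mul_assoc], hY, smul_mul_assoc]
    have hfixp : Fix Q (p • (Y * (α * a))) := by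
      rw [← smul_mul_assoc, ← hY]
      exact Fix.mul (Fix.mul hUfix hUfix) (Fix.mul hαfix ha)
    have hfixY : Fix Q (Y * (α * a)) := fun q hq => by
      have := hfixp q hq
      rw [cnj_nsmul, ← Nat.cast_smul_eq_nsmul ℂ, ← Nat.cast_smul_eq_nsmul ℂ p (Y * (α * a))] at this
      exact smul_right_injective _ (Nat.cast_ne_zero.mpr hp.ne_zero) this
    have hi := Subring.mul_mem _ hYi (Subring.mul_mem _ hαi hai)
    rw [cval_eq χ hfixp (nsmul_mem hi p)]
    have : (⟨_, tr_mem_Zint hfixp (nsmul_mem hi p)⟩ : Zint M G) = p • ⟨_, tr_mem_Zint hfixY hi⟩ :=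
      Subtype.ext (tr_nsmul p _)
    rw [this, map_nsmul, nsmul_eq_mul, CharP.cast_eq_zero, zero_mul]
  rw [e2] at hsq
  exact hne (mul_self_eq_zero.mp hsq)

end CfsgLib.Blocks.Knorr
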