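import Cfsg.Agent.Lib.BrauerPairs.CyclicDefect
import Cfsg.Agent.Lib.BlockArith.InertialOne
import Cfsg.Agent.Lib.NilBlock.Main
import Cfsg.Agent.Lib.Char.Linear
import Cfsg.Agent.Lib.Char.Extension

/-!
# The sections of a block with cyclic defect group

* `isNilpotentBlock_of_inertOne`;
* `exists_linear_row`: for a nilpotent block with abelian defect group the contributions against a
  height zero character are linear characters of the defect group;
* `exists_section_functions`: for a maximal pair `(P, c)` with `P` cyclic the part of `χ` on the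
  subsection of `y ≠ 1` is `f χ y` times a fixed function, `f χ` being a character of `P` fixed by the
  stabiliser of the pair.
-/

set_option autoImplicit false

noncomputable section

namespace CfsgLib.Blocks.Cyclic

open Cfsg CfsgLib.Blocks CfsgLib.BlockArith CfsgLib.Char CfsgLib.BrauerPairs CfsgLib.NilBlock
open scoped ComplexConjugate Classical

universe u

variable {G : Type u} [Group G] [Fintype G] {p : ℕ} [hp : Fact p.Prime] {M : Ideal AlgInt} [M.IsMaximal]

/-- Inertial index one with abelian defect group gives a nilpotent block. -/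
theorem isNilpotentBlock_of_inertOne (hM : IsPModular p M) {B : Set (IrrCharacter G)} (hB : IsPBlock M B)
    (hI : InertOne p M B) : IsNilpotentBlock p M B := by
  obtain ⟨P, hPD⟩ := exists_isDefectGroup (p := p) hB
  obtain ⟨e, hmax⟩ := exists_maximal_at hM hB hPD
  obtain ⟨hab, hst⟩ := hI P e hmax
  refine ⟨hB, fun Q f hQ y hyN hys _ => ?_⟩
  have hyst : y ∈ stab M Q f := (mem_stab_iff hQ.1.2).mpr ⟨hyN, hys⟩
  obtain ⟨g, hg⟩ := exists_conj_le_maximal hM (a := ⟨Q, f⟩) (b := ⟨P, e⟩) hmax hQ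
  have hfix := cjPair_conj (a := ⟨Q, f⟩) hQ.1 (g := g) (cjPair_eq_self_of_mem_stab hQ.1 hyst)
  have hle : SubpairLE p M (cjPair g (⟨Q, f⟩ : BrauerPairIdx G)).1 (cjPair g (⟨Q, f⟩ : BrauerPairIdx G)).2 P e :=
    hg
  obtain ⟨t, ht, hts⟩ := exists_cen_mul_map hM hmax hab (a := cjPair g (⟨Q, f⟩ : BrauerPairIdx G)) hg hle hfix
  have hanti := centralizer_anti (subgroup_le hg)
  have h1 : g * y * g⁻¹ ∈ Cen (cjPair g (⟨Q, f⟩ : BrauerPairIdx G)).1 := by
    have := mul_mem (inv_mem ht) (hanti (hst hts))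
    rwa [inv_mul_cancel_left] at this
  rw [cjPair_fst, mem_centralizer_map_conj] at h1
  simpa [mul_assoc] using h1

/-- The block part after an isomorphism. -/
theorem blockPart_tblock {H H' : Type*} [Group H] [Fintype H] [Group H'] [Fintype H'] (e : H ≃* H')
    (b : Set (IrrCharacter H)) (f : H' → ℂ) (k : H) :
    blockPart (tblock e b) f (e k) = blockPart b (fun c => f (e c)) k := by
  rw [blockPart_apply, blockPart_apply]
  refine Fintype.sum_equiv
    { toFun := tirr e.symm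
      invFun := tirr e
      left_inv := fun χ' => Subtype.ext (funext fun y => congrArg (χ' : H' → ℂ) (e.apply_symm_apply y))
      right_inv := fun χ => Subtype.ext (funext fun y => congrArg (χ : H → ℂ) (e.symm_apply_apply y)) }
    _ _ fun φ' => ?_
  simp only [Equiv.coe_fn_mk, mem_tblock]
  refine if_congr Iff.rfl ?_ rfl
  congr 1
  rw [classInner, classInner, Nat.card_congr e.symm.toEquiv]
  congr 1
  refine Fintype.sum_equiv e.symm.toEquiv _ _ fun y => ?_
  simp [tirr]

omit [M.IsMaximal] hp in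
theorem blockDefect_tblock' {H H' : Type*} [Group H] [Fintype H] [Group H'] [Fintype H'] (e : H ≃* H')
    (b : Set (IrrCharacter H)) : blockDefect p (tblock e b) = blockDefect p b := by
  rw [blockDefect, blockDefect, Nat.card_congr e.symm.toEquiv]
  congr 2
  ext n
  constructor
  · rintro ⟨χ', hχ', rfl⟩
    refine ⟨tirr e.symm χ', (mem_tblock e).mp hχ', ?_⟩
    simp [charDegree, tirr]
  · rintro ⟨χ, hχ, rfl⟩
    refine ⟨tirr e χ, ⟨χ, hχ, funext fun y => congrArg (χ : H → ℂ) (e.symm_apply_apply y)⟩, ?_⟩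
    simp [charDegree, tirr]

theorem blockPart_sum {H : Type*} [Group H] [Fintype H] (b : Set (IrrCharacter H)) {ι : Type*}
    (s : Finset ι) (m : ι → ℂ) (f : ι → H → ℂ) (y : H) :
    blockPart b (fun c => ∑ i ∈ s, m i * f i c) y = ∑ i ∈ s, m i * blockPart b (f i) y := by
  simp only [blockPart_apply, Finset.mul_sum]
  rw [Finset.sum_comm]
  refine Finset.sum_congr rfl fun χ _ => ?_
  split_ifs
  · rw [classInner_def, Finset.mul_sum, Finset.sum_mul]
    simp only [Finset.sum_mul, Finset.mul_sum, classInner_def]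
    rw [Finset.sum_comm]
    exact Finset.sum_congr rfl fun i _ => Finset.sum_congr rfl fun c _ => by ring
  · simp

/-- A nilpotent block with abelian defect group: the rows are linear characters. -/
theorem exists_linear_row {B : Set (IrrCharacter G)} {P : Subgroup G} {e : Set (IrrCharacter (Cen P))}
    {β : (x : P) → Set (IrrCharacter (Cen (Subgroup.zpowers (x : G))))} {χ₀ : IrrCharacter G}
    (S : Setup p M B P e β) (hab : ∀ x y : P, x * y = y * x) (h₀ : χ₀ ∈ B)
    (hh₀ : blockHeight p B (χ₀ : G → ℂ) = 0) {ψ : IrrCharacter G} (hψ : ψ ∈ B) :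
    ∃ μ : P →* ℂˣ, ∀ x : P, cc p β x ψ χ₀ = (μ x : ℂ) := by
  have hlin : ∀ μ : IrrCharacter P, (μ : P → ℂ) 1 = 1 := fun μ => irr_one_eq_one_of_comm hab μ.2
  have hdeg : ∀ μ : IrrCharacter P, (charDegree (μ : P → ℂ) : ℂ) = 1 := fun μ => by
    rw [← CfsgLib.Blocks.charDegree_eq (isCharacter_of_isIrr μ.2), hlin]
  obtain ⟨F, hF⟩ := S.exists_equiv h₀ hh₀
  have hreg : ∀ y : G, ¬ p ∣ orderOf y → (ψ : G → ℂ) y = (χ₀ : G → ℂ) y := fun y hy => by
    have := hF (F.symm ⟨ψ, hψ⟩) y hy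
    rwa [Equiv.apply_symm_apply, hdeg, one_mul] at this
  have := Fintype.ofFinite (Cen (Subgroup.zpowers ((1 : P) : G)))
  have h11 : ∀ θ : IrrCharacter G, θ ∈ B → (∀ y : G, ¬ p ∣ orderOf y → (θ : G → ℂ) y = (χ₀ : G → ℂ) y) →
      cc p β 1 ψ θ = 1 := by
    intro θ hθ hθreg
    rw [← S.self_eq_one h₀ hh₀ 1, cc, cc, ctr, ctr, regSum_eq, regSum_eq]
    refine congrArg _ (Finset.sum_congr rfl fun s _ => ?_)
    split_ifs with hs
    · rfl
    · rw [S.secH_one hψ hs, S.secH_one hθ hs, S.secH_one h₀ hs,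
        hreg _ (by rwa [Subgroup.orderOf_coe]), hθreg _ (by rwa [Subgroup.orderOf_coe])]
  obtain ⟨Φ, hΦ⟩ : ∃ Φ : P → ℂ, Φ = fun x => cc p β x ψ χ₀ := ⟨_, rfl⟩
  have hcl : IsClassFunction P Φ := hΦ ▸ S.isClassFunction ψ χ₀
  obtain ⟨cf, hcf⟩ : ∃ cf : IrrCharacter P → ℂ, cf = fun μ : IrrCharacter P => classInner Φ (μ : P → ℂ) := ⟨_, rfl⟩
  have hnorm : ∑ μ, cf μ * conj (cf μ) = 1 := by
    have h := classInner_eq_sum (f' := Φ) hcl
    rw [hcf, ← h, classInner_def, inv_mul_eq_one₀ card_ne_zero']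
    have hrow := S.row hψ hψ
    rw [if_pos rfl, mul_one] at hrow
    rw [← hrow]
    refine Finset.sum_congr rfl fun x _ => ?_
    rw [hΦ]
    beta_reduce
    by_cases hx : x = 1
    · subst hx
      rw [h11 χ₀ h₀ (fun y _ => rfl), h11 ψ hψ hreg, map_one, mul_one]
    · exact S.mul_row h₀ hh₀ hx ψ ψ
  have hgal : ∀ (σ : ℂ ≃+* ℂ) μ, σ (conj (cf μ)) = conj (σ (cf μ)) := fun σ μ => by
    rw [hcf, hΦ]; exact S.coeff_galois σ ψ μ
  have hint : ∀ μ, IsIntegral ℤ (cf μ) := fun μ => by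
    rw [hcf, hΦ]; exact S.isIntegral_coeff h₀ hh₀ hψ μ
  have hsum : ∑ μ, cf μ = 1 := by
    have h := congrFun (classFun_eq_sum hcl) 1
    simp only [Finset.sum_apply, Pi.smul_apply, smul_eq_mul, hlin, mul_one] at h
    rw [hΦ] at h
    beta_reduce at h
    rw [show cc p β 1 ψ χ₀ = 1 from h11 χ₀ h₀ (fun y _ => rfl)] at h
    rw [hcf, hΦ]
    exact h.symm
  have huniq : ∀ μ μ', cf μ ≠ 0 → cf μ' ≠ 0 → μ = μ' := by
    intro μ₁ μ₂ n₁ n₂
    by_contra hne
    have hσ : ∀ (σ : ℂ ≃+* ℂ), σ ((cf μ₁ * conj (cf μ₁)) * (cf μ₂ * conj (cf μ₂))) =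
        ((Complex.normSq (σ (cf μ₁)) * Complex.normSq (σ (cf μ₂)) : ℝ) : ℂ) := fun σ => by
      rw [map_mul, map_mul, map_mul, hgal σ μ₁, hgal σ μ₂, Complex.mul_conj, Complex.mul_conj,
        Complex.ofReal_mul]
    obtain ⟨σ, h⟩ := exists_conjugate_ge_one
      (((hint μ₁).mul (map_isIntegral_int (starRingEnd ℂ) (hint μ₁))).mul
        ((hint μ₂).mul (map_isIntegral_int (starRingEnd ℂ) (hint μ₂))))
      (mul_ne_zero (mul_ne_zero n₁ ((map_ne_zero _).mpr n₁)) (mul_ne_zero n₂ ((map_ne_zero _).mpr n₂)))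
      (fun σ => ⟨_, mul_nonneg (Complex.normSq_nonneg _) (Complex.normSq_nonneg _), hσ σ⟩)
    rw [hσ, Complex.ofReal_re] at h
    have hn : ∑ μ, Complex.normSq (σ (cf μ)) = 1 := by
      apply Complex.ofReal_injective
      have h1 := congrArg σ hnorm
      rw [map_one, map_sum] at h1
      rw [Complex.ofReal_sum, Complex.ofReal_one, ← h1]
      exact Finset.sum_congr rfl fun μ _ => by rw [map_mul, hgal, Complex.mul_conj]
    have h2 := Finset.add_le_sum (f := fun μ => Complex.normSq (σ (cf μ)))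
      (fun μ _ => Complex.normSq_nonneg _) (Finset.mem_univ μ₁) (Finset.mem_univ μ₂) hne
    rw [hn] at h2
    nlinarith [Complex.normSq_nonneg (σ (cf μ₁)), Complex.normSq_nonneg (σ (cf μ₂)),
      sq_nonneg (Complex.normSq (σ (cf μ₁)) - Complex.normSq (σ (cf μ₂)))]
  obtain ⟨μ, -, hμ⟩ := Finset.exists_ne_zero_of_sum_ne_zero (hsum.trans_ne one_ne_zero)
  have hzero : ∀ ν, ν ≠ μ → cf ν = 0 := fun ν hν => by
    by_contra h; exact hν (huniq ν μ h hμ)
  have hone : cf μ = 1 := by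
    rwa [Finset.sum_eq_single μ (fun ν _ h => hzero ν h) (by simp)] at hsum
  refine ⟨linearHom (isCharacter_of_isIrr μ.2) (hlin μ), fun x => ?_⟩
  have h := congrFun (classFun_eq_sum hcl) x
  simp only [Finset.sum_apply, Pi.smul_apply, smul_eq_mul] at h
  rw [Finset.sum_eq_single μ (fun ν _ hν => by
      rw [show classInner Φ (ν : P → ℂ) = cf ν by rw [hcf], hzero ν hν, zero_mul]) (by simp),
    show classInner Φ (μ : P → ℂ) = cf μ by rw [hcf], hone, one_mul, hΦ] at h
  rw [linearHom_apply]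
  exact h

omit [Fintype G] in
/-- In a cyclic `p`-group the subgroup of order `p` lies in every nontrivial cyclic subgroup. -/
theorem le_zpowers_of_card [Finite G] {P : Subgroup G} (hP : IsPGroup p P) (hcyc : IsCyclic P)
    {Z : Subgroup G} (hZ : Z ≤ P) (hZc : Nat.card Z = p) {y : G} (hy : y ∈ P) (hy1 : y ≠ 1) :
    Z ≤ Subgroup.zpowers y := by
  have := Fintype.ofFinite P
  obtain ⟨k, hk⟩ := IsPGroup.iff_orderOf.mp hP ⟨y, hy⟩
  rw [Subgroup.orderOf_mk] at hk
  have hk0 : k ≠ 0 := fun h => hy1 (orderOf_eq_one_iff.mp (by rw [hk, h, pow_zero]))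
  have hdvd : p ∣ Nat.card (Subgroup.zpowers y) := by rw [Nat.card_zpowers, hk]; exact dvd_pow_self p hk0
  obtain ⟨w, hw⟩ := exists_prime_orderOf_dvd_card' (G := Subgroup.zpowers y) p hdvd
  set W := Subgroup.zpowers (w : G) with hW
  have hWy : W ≤ Subgroup.zpowers y := Subgroup.zpowers_le.mpr w.2
  have hWc : Nat.card W = p := by rw [Nat.card_zpowers, Subgroup.orderOf_coe, hw]
  have hWP : W ≤ P := hWy.trans (Subgroup.zpowers_le.mpr hy)
  have hset : ∀ R : Subgroup G, R ≤ P → Nat.card R = p →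
      (Finset.univ.filter fun a : P => (a : G) ∈ R) = Finset.univ.filter fun a : P => a ^ p = 1 := by
    intro R hR hRc
    refine Finset.eq_of_subset_of_card_le (fun a ha => Finset.mem_filter.mpr ⟨Finset.mem_univ _, ?_⟩) ?_
    · have h := pow_card_eq_one' (x := (⟨(a : G), (Finset.mem_filter.mp ha).2⟩ : R))
      rw [hRc] at h
      exact Subtype.ext (by simpa using congrArg Subtype.val h)
    · refine (IsCyclic.card_pow_eq_one_le (α := P) hp.out.pos).trans (le_of_eq ?_)
      rw [← Nat.card_eq_finsetCard]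
      conv_lhs => rw [← hRc]
      exact Nat.card_congr
        { toFun := fun a => ⟨⟨a, hR a.2⟩, Finset.mem_filter.mpr ⟨Finset.mem_univ _, a.2⟩⟩
          invFun := fun a => ⟨(a.1 : G), (Finset.mem_filter.mp a.2).2⟩
          left_inv := fun a => rfl
          right_inv := fun a => rfl }
  intro z hz
  have h := (hset Z hZ hZc).trans (hset W hWP hWc).symm
  have hzW : (⟨z, hZ hz⟩ : P) ∈ Finset.univ.filter fun a : P => (a : G) ∈ W := by
    rw [← h]; exact Finset.mem_filter.mpr ⟨Finset.mem_univ _, hz⟩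
  exact hWy (Finset.mem_filter.mp hzW).2

set_option maxHeartbeats 1600000 in
/-- **The sections of a block with cyclic defect group.** -/
theorem exists_section_functions (hM : IsPModular p M) {B : Set (IrrCharacter G)} {P : Subgroup G}
    {c : Set (IrrCharacter (Cen P))} (hmax : IsMaximalBrauerPair p M B P c) (hcyc : IsCyclic P)
    (hne : P ≠ ⊥) {β : (y : P) → Set (IrrCharacter (Cen (Subgroup.zpowers (y : G))))}
    (hβ : ∀ y : P, SubpairLE p M (Subgroup.zpowers (y : G)) (β y) P c) :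
    ∃ (f : IrrCharacter G → P → ℂ) (w : (y : P) → Cen (Subgroup.zpowers (y : G)) → ℂ),
      (∀ χ, IsCharacter P (f χ)) ∧
      (∀ χ, ∀ t ∈ stab M P c, ∀ y y' : P, (y' : G) = t * (y : G) * t⁻¹ → f χ y' = f χ y) ∧
      ∀ y : P, y ≠ 1 →
        ((p ^ blockDefect p (β y) : ℕ) : ℂ) / (Nat.card (Cen (Subgroup.zpowers (y : G))) : ℂ) *
            regSum p (w y) (w y) = 1 ∧
        ∀ (χ : IrrCharacter G) (s : Cen (Subgroup.zpowers (y : G))), ¬ p ∣ orderOf s →
          secH (y : G) (Cen (Subgroup.zpowers (y : G))) (β y) χ s = f χ y * w y s := by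
  have hP := hmax.1.1
  have hPp : IsPGroup p P := hP.1
  have hB := hmax.1.2.1
  have hab : ∀ x ∈ P, ∀ y ∈ P, x * y = y * x := fun a ha b hb => by
    have := hcyc.commutative
    exact congrArg Subtype.val (mul_comm' (⟨a, ha⟩ : P) ⟨b, hb⟩)
  have hfree := cyclic_free hM hmax hcyc
  -- the subgroup of order `p`
  obtain ⟨n₀, hn₀, hcardP⟩ := IsPGroup.nontrivial_iff_card (p := p) hPp |>.mp
    (Subgroup.nontrivial_iff_ne_bot _ |>.mpr hne)
  obtain ⟨z, hz⟩ := exists_prime_orderOf_dvd_card' (G := P) p (hcardP ▸ dvd_pow_self p hn₀.ne')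
  obtain ⟨Z, hZdef⟩ : ∃ Z : Subgroup G, Z = Subgroup.zpowers (z : G) := ⟨_, rfl⟩
  have hZc : Nat.card Z = p := by rw [hZdef, Nat.card_zpowers, Subgroup.orderOf_coe, hz]
  have hZP : Z ≤ P := by rw [hZdef]; exact Subgroup.zpowers_le.mpr z.2
  have hz1 : (z : G) ≠ 1 := fun h => by
    rw [← Subgroup.orderOf_coe, h, orderOf_one] at hz; exact hp.out.ne_one hz.symm
  have hZy : ∀ y : P, y ≠ 1 → Z ≤ Subgroup.zpowers (y : G) := fun y hy =>
    le_zpowers_of_card hPp hcyc hZP hZc y.2 fun h => hy (Subtype.ext h)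
  have hPCZ : P ≤ Cen Z := fun y hy => Subgroup.mem_centralizer_iff.mpr fun q hq => hab q (hZP hq) y hy
  -- the block of `C(Z)` and its local data
  let _ : Fintype (Cen Z) := Fintype.ofFinite _
  obtain ⟨bZ, hbZ, -⟩ := existsUnique_subpair hM hZP hP
  have hbZb : IsPBlock M bZ := (isBrauerPair_left (a := ⟨Z, bZ⟩) hbZ hP).2
  have hI : InertOne p M bZ := stab_inertOne hM hmax hab hbZ fun g hg hgZ => by
    refine hfree g hg (z : G) z.2 hz1 ?_
    rw [← Subgroup.mem_centralizer_iff.mp hgZ (z : G) (by rw [hZdef]; exact Subgroup.mem_zpowers _),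
      mul_inv_cancel_right]
  have hnil := isNilpotentBlock_of_inertOne hM hbZb hI
  obtain ⟨c', hc'b, hu, hiff⟩ := inducedIn_setup (M := M) (Q := Z) hZP hPCZ hP.2
  have hP'p : IsPGroup p (P.subgroupOf (Cen Z)) := hPp.of_equiv (Subgroup.subgroupOfEquivOfLe hPCZ).symm
  have hpair' : IsBrauerPairOf p M bZ (P.subgroupOf (Cen Z)) c' := by
    let _ : Fintype (Cen (P.subgroupOf (Cen Z))) := Fintype.ofFinite _
    exact (brauerPairOf_iff_induced hM hP'p hc'b hbZb).mpr ((hiff bZ).mp (inducedIn_of_subpair hM hZP hPCZ hP hbZ))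
  have hmax' : IsMaximalBrauerPair p M bZ (P.subgroupOf (Cen Z)) c' := isMaximal_of_card hM hpair' (by
    rw [← card_defectGroup hM hbZb (pairs_defect hM hmax hab hbZ)])
  obtain ⟨β', S⟩ := exists_setup hM hmax' hnil fun H _ _ _ => blockRank_eq_one_of_nilpotent hM H
  obtain ⟨η₀, hη₀, hh₀⟩ := exists_height_zero hM hbZb
  have hab' : ∀ a b : P.subgroupOf (Cen Z), a * b = b * a := fun a b =>
    Subtype.ext (Subtype.ext (hab _ a.2 _ b.2))
  -- linear characters
  have hμex : ∀ η : IrrCharacter (Cen Z), ∃ μ : P →* ℂˣ, η ∈ bZ → ∀ (y : P),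
      cc p β' (⟨⟨(y : G), hPCZ y.2⟩, y.2⟩ : P.subgroupOf (Cen Z)) η η₀ = (μ y : ℂ) := by
    intro η
    by_cases hη : η ∈ bZ
    · obtain ⟨μ, hμ⟩ := exists_linear_row S hab' hη₀ hh₀ hη
      exact ⟨μ.comp (Subgroup.subgroupOfEquivOfLe hPCZ).symm.toMonoidHom, fun _ y => hμ _⟩
    · exact ⟨1, fun h => absurd h hη⟩
  choose μ hμ using hμex
  -- functions on G extending characters of `C(Z)`
  obtain ⟨θ, hθ⟩ : ∃ θ : IrrCharacter (Cen Z) → G → ℂ,
      θ = fun (η : IrrCharacter (Cen Z)) g => if h : g ∈ Cen Z then (η : Cen Z → ℂ) ⟨g, h⟩ else 0 := ⟨_, rfl⟩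
  have hθC : ∀ η (g : Cen Z), θ η (g : G) = (η : Cen Z → ℂ) g := fun η g => by rw [hθ]; simp
  have hCy : ∀ y : P, y ≠ 1 → Cen (Subgroup.zpowers (y : G)) ≤ Cen Z := fun y hy =>
    centralizer_anti (hZy y hy)
  let w : (y : P) → Cen (Subgroup.zpowers (y : G)) → ℂ := fun y s =>
    blockPart (β y) (fun s : Cen (Subgroup.zpowers (y : G)) => θ η₀ ((y : G) * (s : G))) s
  -- the parts of the characters of `C(Z)`
  have hA : ∀ y : P, y ≠ 1 →
      (((p ^ blockDefect p (β y) : ℕ) : ℂ) / (Nat.card (Cen (Subgroup.zpowers (y : G))) : ℂ) *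
          regSum p (w y) (w y) = 1) ∧
      ∀ (η : IrrCharacter (Cen Z)) (s : Cen (Subgroup.zpowers (y : G))), ¬ p ∣ orderOf s →
        blockPart (β y) (fun s : Cen (Subgroup.zpowers (y : G)) => θ η ((y : G) * (s : G))) s =
          if η ∈ bZ then (μ η y : ℂ) * w y s else 0 := by
    intro y hy
    obtain ⟨y', hy'⟩ : ∃ y' : P.subgroupOf (Cen Z), y' = ⟨⟨(y : G), hPCZ y.2⟩, y.2⟩ := ⟨_, rfl⟩
    have hy'1 : y' ≠ 1 := fun h => hy (Subtype.ext (congrArg (fun a : P.subgroupOf (Cen Z) => ((a : Cen Z) : G))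
      (hy' ▸ h)))
    have hyG : ((y' : Cen Z) : G) = (y : G) := by rw [hy']
    have hmapz : (Subgroup.zpowers (y' : Cen Z)).map (Cen Z).subtype = Subgroup.zpowers (y : G) := by
      rw [MonoidHom.map_zpowers]; exact congrArg Subgroup.zpowers hyG
    have hK : (Cen (Subgroup.zpowers (y' : Cen Z))).map (Cen Z).subtype = Cen (Subgroup.zpowers (y : G)) := by
      rw [map_cen_subtype _ (by rw [hmapz]; exact hCy y hy), hmapz]
    let ε : Cen (Subgroup.zpowers (y' : Cen Z)) ≃* Cen (Subgroup.zpowers (y : G)) :=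
      ((Cen (Subgroup.zpowers (y' : Cen Z))).equivMapOfInjective (Cen Z).subtype
        (Cen Z).subtype_injective).trans (MulEquiv.subgroupCongr hK)
    have hεc : ∀ k, ((ε k : Cen (Subgroup.zpowers (y : G))) : G) = ((k : Cen Z) : G) := fun k => rfl
    let _ : Fintype (Cen (Subgroup.zpowers (y' : Cen Z))) := Fintype.ofFinite _
    let _ : Fintype (Cen (Subgroup.zpowers (y : G))) := Fintype.ofFinite _
    have hb' := (S.pairOf y').1
    have hbeq : tblock ε (β' y') = β y := by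
      have hu' : Up (M := M) (⟨Subgroup.zpowers (y' : Cen Z), β' y'⟩ : BrauerPairIdx (Cen Z))
          (⟨Subgroup.zpowers (y : G), tblock ε (β' y')⟩ : BrauerPairIdx G) :=
        ⟨hK, gidem_of_coeff _ _ hK _ _ fun k hk => by rw [← blockCoeff_tblock ε (β' y') k]; rfl⟩
      have hbp : IsBrauerPair p M (Subgroup.zpowers (y : G)) (tblock ε (β' y')) :=
        ⟨hPp.to_le (Subgroup.zpowers_le.mpr y.2), isPBlock_tblock ε hb'.2⟩
      have hn0 := normal_of_subpair hM hmax'.1.1 (Q := Subgroup.zpowers (y' : Cen Z)) (f := β' y') (S.hβ y')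
        (le_trans (fun v hv => Subgroup.mem_centralizer_iff.mpr fun q hq =>
          congrArg Subtype.val (hab' ⟨q, (Subgroup.zpowers_le.mpr y'.2) hq⟩ ⟨v, hv⟩))
          (Subgroup.centralizer_le_normalizer _))
      have hn0' : NormalSubpairRel p M (⟨Subgroup.zpowers (y' : Cen Z), β' y'⟩ : BrauerPairIdx (Cen Z))
          ⟨P.subgroupOf (Cen Z), c'⟩ := hn0
      have hn : NormalSubpairRel p M ⟨Subgroup.zpowers (y : G), tblock ε (β' y')⟩ ⟨P, c⟩ :=
        normal_up hM hn0' hu' hu hbp hP (Subgroup.zpowers_le.mpr y.2)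
          (le_trans (fun v hv => Subgroup.mem_centralizer_iff.mpr fun q hq =>
            hab q (Subgroup.zpowers_le.mpr y.2 hq) v hv) (Subgroup.centralizer_le_normalizer _))
          (fun v hv => (centralIn_gidem _).2 v (Subgroup.mem_centralizer_iff.mpr fun q hq =>
            hab q (Subgroup.zpowers_le.mpr y.2 hq) v hv))
      exact subpair_eq hM hP (Relation.ReflTransGen.single hn) (hβ y)
    have htr : ∀ η (k : Cen (Subgroup.zpowers (y' : Cen Z))),
        blockPart (β y) (fun s : Cen (Subgroup.zpowers (y : G)) => θ η ((y : G) * (s : G))) (ε k) =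
          secH (y' : Cen Z) (Cen (Subgroup.zpowers (y' : Cen Z))) (β' y') η k := by
      intro η k
      rw [← hbeq, blockPart_tblock, secH]
      congr 1
      funext k
      rw [hεc, ← hyG, ← Subgroup.coe_mul, hθC]
    constructor
    · have h1 := S.self_eq_one hη₀ hh₀ y'
      rw [cc, ctr] at h1
      rw [← hbeq, blockDefect_tblock', Nat.card_congr ε.symm.toEquiv]
      refine Eq.trans (congrArg _ ?_) h1
      rw [regSum_eq, regSum_eq]
      refine (Fintype.sum_equiv ε.toEquiv _ _ fun k => ?_).symm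
      simp only [MulEquiv.toEquiv_eq_coe, EquivLike.coe_coe, MulEquiv.orderOf_eq, w, htr]
    · intro η s hs
      obtain ⟨k, rfl⟩ := ε.surjective s
      rw [MulEquiv.orderOf_eq] at hs
      have hw : w y (ε k) = secH (y' : Cen Z) (Cen (Subgroup.zpowers (y' : Cen Z))) (β' y') η₀ k := htr η₀ k
      rw [htr η k, hw]
      split_ifs with hη
      · rw [← hμ η hη y, ← hy']
        exact S.secH_eq hη₀ hh₀ hy'1 η hs
      · exact secH_eq_zero (cen_zpowers _) hM (exists_pow_of_mem S.isPGroup y'.2) (S.induced y') hη hs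
  -- multiplicities
  choose m hm using fun (χ : IrrCharacter G) (η : IrrCharacter (Cen Z)) =>
    classInner_char_nat (isCharacter_res (Cen Z) (isCharacter_of_isIrr χ.2)) (isCharacter_of_isIrr η.2)
  let f₀ : IrrCharacter G → P → ℂ := fun χ y =>
    ∑ η : IrrCharacter (Cen Z), if η ∈ bZ then (m χ η : ℂ) * (μ η y : ℂ) else 0
  have hsec : ∀ y : P, y ≠ 1 → ∀ (χ : IrrCharacter G) (s : Cen (Subgroup.zpowers (y : G))), ¬ p ∣ orderOf s →
      secH (y : G) (Cen (Subgroup.zpowers (y : G))) (β y) χ s = f₀ χ y * w y s := by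
    intro y hy χ s hs
    let _ : Fintype (Cen (Subgroup.zpowers (y : G))) := Fintype.ofFinite _
    have hfun : (fun s : Cen (Subgroup.zpowers (y : G)) => (χ : G → ℂ) ((y : G) * (s : G))) =
        fun s : Cen (Subgroup.zpowers (y : G)) => ∑ η : IrrCharacter (Cen Z), (m χ η : ℂ) * θ η ((y : G) * (s : G)) := by
      funext s
      have hmem : (y : G) * (s : G) ∈ Cen Z := mul_mem (hPCZ y.2) (hCy y hy s.2)
      have h := congrFun (classFun_eq_sum (isClassFunction_of_isCharacter (isCharacter_res (Cen Z) (isCharacter_of_isIrr χ.2))))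
        (⟨_, hmem⟩ : Cen Z)
      simp only [Finset.sum_apply, Pi.smul_apply, smul_eq_mul] at h
      refine h.trans (Finset.sum_congr rfl fun η _ => ?_)
      rw [← hθC η ⟨_, hmem⟩, ← hm χ η]
    rw [secH, hfun, blockPart_sum, Finset.sum_mul]
    refine Finset.sum_congr rfl fun η _ => ?_
    rw [(hA y hy).2 η s hs]
    split_ifs <;> ring
  -- a generator of the stabiliser
  have hn : ((Cen P).subgroupOf (stab M P c)).Normal :=
    (Subgroup.normal_subgroupOf_iff_le_normalizer (cen_le_stab c)).mpr fun t ht =>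
      mem_normalizer_centralizer ht.1
  obtain ⟨hcycQ, -⟩ := cyclic_quotient hM hmax hcyc hne (hn := hn)
  obtain ⟨tq, htq⟩ := hcycQ.exists_generator
  obtain ⟨t, rfl⟩ := QuotientGroup.mk_surjective tq
  have hgen : ∀ g ∈ stab M P c, ∃ i : ℤ, ((t : G) ^ i)⁻¹ * g ∈ Cen P := by
    intro g hg
    obtain ⟨i, hi⟩ := Subgroup.mem_zpowers_iff.mp (htq (QuotientGroup.mk ⟨g, hg⟩))
    rw [← QuotientGroup.mk_zpow, QuotientGroup.eq, Subgroup.mem_subgroupOf] at hi
    exact ⟨i, by simpa using hi⟩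
  -- the action of the generator
  have htN := Subgroup.mem_set_normalizer_iff.mp t.2.1
  obtain ⟨⟨u, huP⟩, hugen⟩ := hcyc.exists_generator
  obtain ⟨k, hk'⟩ := Subgroup.mem_zpowers_iff.mp (hugen ⟨(t : G) * u * (t : G)⁻¹, (htN u).mp huP⟩)
  have hk : u ^ k = (t : G) * u * (t : G)⁻¹ := congrArg Subtype.val hk'
  have hpow : ∀ y ∈ P, (t : G) * y * (t : G)⁻¹ = y ^ k := by
    intro y hy
    obtain ⟨i, hi'⟩ := Subgroup.mem_zpowers_iff.mp (hugen ⟨y, hy⟩)
    have hi : u ^ i = y := congrArg Subtype.val hi'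
    rw [← hi, ← conj_zpow, ← hk, ← zpow_mul, ← zpow_mul, mul_comm]
  have htZ : ∀ g, g ∈ Z ↔ (t : G) * g * (t : G)⁻¹ ∈ Z := by
    have hmap : Z.map (MulAut.conj (t : G)).toMonoidHom = Z := by
      refine Subgroup.eq_of_le_of_card_ge ?_ (Subgroup.card_map_of_injective (MulEquiv.injective _)).ge
      rintro _ ⟨g, hg, rfl⟩
      show (t : G) * g * (t : G)⁻¹ ∈ Z
      rw [hpow g (hZP hg)]
      exact zpow_mem hg k
    exact fun g => Subgroup.mem_set_normalizer_iff.mp (Subgroup.mem_normalizer_iff_map_conj_eq.mpr hmap) g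
  have htZN : (t : G) ∈ Subgroup.normalizer (Z : Set G) := Subgroup.mem_set_normalizer_iff.mpr htZ
  let eC := conjEquiv (t : G) (Cen Z) (Cen Z) (cen_iff htZN)
  have hbZt : tblock eC bZ = bZ := by
    refine gidem_inj (M := M) (isPBlock_tblock eC hbZb) hbZb ?_
    show gidem M (Cen Z) (tblock (conjEquiv (t : G) (Cen Z) (Cen Z) (cen_iff htZN)) bZ) = _
    rw [gidem_tblock]
    have h1 : cjPair (t : G) (⟨Z, bZ⟩ : BrauerPairIdx G) = ⟨Z, bZ⟩ := by
      refine pair_eq_of_le hM hP ?_ hbZ (map_conj_eq_self htZN)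
      rw [← cjPair_eq_self_of_mem_stab hP t.2]
      exact subpair_cjPair hM (t : G) hbZ
    have h2 := congrArg (pid M) h1
    rwa [pid_cjPair] at h2
  obtain ⟨η₁, hη₁⟩ : ∃ η₁, η₁ = tirr eC η₀ := ⟨_, rfl⟩
  have hαmem : ∀ η, tirr eC η ∈ bZ ↔ η ∈ bZ := fun η => by
    have h : tirr eC η ∈ tblock eC bZ ↔ η ∈ bZ := by
      rw [mem_tblock, show tirr eC.symm (tirr eC η) = η from
        Subtype.ext (funext fun y => congrArg (η : Cen Z → ℂ) (eC.symm_apply_apply y))]
    rwa [hbZt] at h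
  have hαθ : ∀ η g, θ (tirr eC η) ((t : G) * g * (t : G)⁻¹) = θ η g := by
    intro η g
    rw [hθ]
    by_cases hg : g ∈ Cen Z
    · have hg' : (t : G) * g * (t : G)⁻¹ ∈ Cen Z := (eC ⟨g, hg⟩).2
      simp only [dif_pos hg, dif_pos hg']
      exact congrArg (η : Cen Z → ℂ) (Subtype.ext (by simp [eC, conjEquiv, mul_assoc]))
    · have hg' : (t : G) * g * (t : G)⁻¹ ∉ Cen Z := fun h => hg (by
        simpa [mul_assoc] using (cen_iff htZN _).mp h)
      simp only [dif_neg hg, dif_neg hg']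
  have hαμ : ∀ y : P, y ≠ 1 → ∀ η ∈ bZ, (μ (tirr eC η) (y ^ k) : ℂ) = (μ η y : ℂ) * (μ η₁ (y ^ k) : ℂ) := by
    intro y hy η hη
    have hy'G : ((y ^ k : P) : G) = (t : G) * y * (t : G)⁻¹ := by rw [Subgroup.coe_zpow, hpow y y.2]
    have hy'1 : y ^ k ≠ 1 := fun h => hy (Subtype.ext (by
      have : (t : G) * y * (t : G)⁻¹ = 1 := by rw [← hy'G, h, Subgroup.coe_one]
      simpa using conj_eq_one_iff.mp this))
    let _ : Fintype (Cen (Subgroup.zpowers (y : G))) := Fintype.ofFinite _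
    let _ : Fintype (Cen (Subgroup.zpowers ((y ^ k : P) : G))) := Fintype.ofFinite _
    have hiff' : ∀ g, g ∈ Cen (Subgroup.zpowers ((y ^ k : P) : G)) ↔
        (t : G)⁻¹ * g * (t : G) ∈ Cen (Subgroup.zpowers (y : G)) := fun g => by
      rw [hy'G, ← map_conj_zpowers]
      exact mem_centralizer_map_conj
    let et := conjEquiv (t : G) (Cen (Subgroup.zpowers (y : G))) (Cen (Subgroup.zpowers ((y ^ k : P) : G))) hiff'
    have hb : tblock et (β y) = β (y ^ k) := by
      have hbp := isBrauerPair_left (a := ⟨_, β y⟩) (hβ y) hP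
      have hbp' := isBrauerPair_left (a := ⟨_, β (y ^ k)⟩) (hβ (y ^ k)) hP
      refine gidem_inj (M := M) (isPBlock_tblock et hbp.2) hbp'.2 ?_
      show gidem M _ (tblock (conjEquiv (t : G) _ _ hiff') (β y)) = _
      rw [gidem_tblock]
      have h1 : cjPair (t : G) (⟨_, β y⟩ : BrauerPairIdx G) = ⟨_, β (y ^ k)⟩ := by
        refine pair_eq_of_le hM hP ?_ (hβ (y ^ k)) ?_
        · rw [← cjPair_eq_self_of_mem_stab hP t.2]
          exact subpair_cjPair hM (t : G) (hβ y)
        · rw [cjPair_fst, map_conj_zpowers]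
          exact congrArg Subgroup.zpowers hy'G.symm
      have h2 := congrArg (pid M) h1
      rwa [pid_cjPair] at h2
    have hkey : ∀ η s, blockPart (β (y ^ k)) (fun s : Cen (Subgroup.zpowers ((y ^ k : P) : G)) =>
        θ (tirr eC η) (((y ^ k : P) : G) * (s : G))) (et s) =
        blockPart (β y) (fun s : Cen (Subgroup.zpowers (y : G)) => θ η ((y : G) * (s : G))) s := by
      intro η s
      rw [← hb, blockPart_tblock]
      congr 1
      funext s
      rw [← hαθ η ((y : G) * (s : G))]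
      refine congrArg _ ?_
      rw [show ((et s : Cen (Subgroup.zpowers ((y ^ k : P) : G))) : G) = (t : G) * (s : G) * (t : G)⁻¹ from rfl,
        hy'G]
      group
    obtain ⟨s, hs, hws⟩ : ∃ s : Cen (Subgroup.zpowers (y : G)), ¬ p ∣ orderOf s ∧ w y s ≠ 0 := by
      by_contra! h
      have h1 := (hA y hy).1
      rw [regSum_eq, Finset.sum_eq_zero fun s _ => ?_, mul_zero] at h1
      · exact zero_ne_one h1
      · split_ifs with hs
        · rfl
        · rw [h s hs, zero_mul]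
    have hs' : ¬ p ∣ orderOf (et s) := by rwa [MulEquiv.orderOf_eq]
    have e1 := hkey η₀ s
    rw [(hA _ hy'1).2 _ _ hs', if_pos ((hαmem η₀).mpr hη₀), ← hη₁] at e1
    change (μ η₁ (y ^ k) : ℂ) * w (y ^ k) (et s) = w y s at e1
    have e2 := hkey η s
    rw [(hA _ hy'1).2 _ _ hs', if_pos ((hαmem η).mpr hη), (hA y hy).2 _ _ hs, if_pos hη, ← e1, ← mul_assoc] at e2
    exact mul_right_cancel₀ (fun h => hws (by rw [← e1, h, mul_zero])) e2
  have hft : ∀ χ (y : P), y ≠ 1 → f₀ χ (y ^ k) = (μ η₁ (y ^ k) : ℂ) * f₀ χ y := by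
    intro χ y hy
    simp only [f₀, Finset.mul_sum]
    refine (Fintype.sum_equiv
      { toFun := tirr eC
        invFun := tirr eC.symm
        left_inv := fun η => Subtype.ext (funext fun y => congrArg (η : Cen Z → ℂ) (eC.symm_apply_apply y))
        right_inv := fun η => Subtype.ext (funext fun y => congrArg (η : Cen Z → ℂ) (eC.apply_symm_apply y)) }
      _ _ fun η => ?_).symm
    simp only [Equiv.coe_fn_mk, hαmem]
    split_ifs with hη
    · rw [hαμ y hy η hη]
      have hm' : m χ (tirr eC η) = m χ η := by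
        apply Nat.cast_injective (R := ℂ)
        rw [← hm χ, ← hm χ, classInner_def, classInner_def]
        congr 1
        refine (Fintype.sum_equiv eC.toEquiv _ _ fun g => ?_).symm
        simp only [MulEquiv.toEquiv_eq_coe, EquivLike.coe_coe]
        have h1 : ((tirr eC η : IrrCharacter (Cen Z)) : Cen Z → ℂ) (eC g) = (η : Cen Z → ℂ) g :=
          congrArg (η : Cen Z → ℂ) (eC.symm_apply_apply g)
        rw [h1, show ((eC g : Cen Z) : G) = (t : G) * g * (t : G)⁻¹ from rfl, isClassFunction_of_isIrr χ.2]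
      rw [hm']; ring
    · rw [mul_zero]
  -- normalisation
  obtain ⟨mm, hmm⟩ : ∃ mm : ℤ, ∀ y : P, y ^ (k + mm * (k - 1)) = 1 ∨ (t : G) ∈ Cen P := by
    by_cases htc : (t : G) ∈ Cen P
    · exact ⟨0, fun y => Or.inr htc⟩
    have hdiv : ¬ (p : ℤ) ∣ 1 - k := by
      rintro ⟨j, hj⟩
      refine htc (hfree _ t.2 (z : G) z.2 hz1 ?_)
      rw [hpow _ z.2, show k = 1 + -((p : ℤ) * j) by linarith, zpow_add, zpow_one, zpow_neg, zpow_mul,
        zpow_natCast, ← hz, ← Subgroup.orderOf_coe, pow_orderOf_eq_one, one_zpow, inv_one, mul_one]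
    have hcop : IsCoprime ((Nat.card P : ℕ) : ℤ) (1 - k) := by
      rw [hcardP]; push_cast
      exact ((Nat.prime_iff_prime_int.mp hp.out).coprime_iff_not_dvd.mpr hdiv).pow_left
    obtain ⟨a, b, hab1⟩ := hcop
    refine ⟨k * b, fun y => Or.inl ?_⟩
    rw [show k + k * b * (k - 1) = ((Nat.card P : ℕ) : ℤ) * (k * a) by linear_combination (-k) * hab1,
      zpow_mul, zpow_natCast, pow_card_eq_one', one_zpow]
  obtain ⟨ν, hν⟩ : ∃ ν : P →* ℂˣ, ν = μ η₁ ^ mm := ⟨_, rfl⟩
  have hνv : ∀ y : P, ν y = μ η₁ (y ^ mm) := fun y => by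
    rw [hν, MonoidHom.map_zpow]; rfl
  let f : IrrCharacter G → P → ℂ := fun χ y => f₀ χ y * (ν y : ℂ)
  have hft' : ∀ χ (y : P), f χ (y ^ k) = f χ y := by
    intro χ y
    by_cases hy : y = 1
    · rw [hy, one_zpow]
    rcases hmm y with h | h
    · have he : μ η₁ (y ^ k) * ν (y ^ k) = ν y := by
        rw [hνv, hνv, ← map_mul, ← zpow_mul, ← zpow_add,
          show k + k * mm = k + mm * (k - 1) + mm by ring, zpow_add, h, one_mul]
      simp only [f]
      rw [hft χ y hy, mul_comm (μ η₁ (y ^ k) : ℂ), mul_assoc, ← Units.val_mul, he]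
    · have : y ^ k = y := Subtype.ext (by
        rw [Subgroup.coe_zpow, ← hpow y y.2, ← Subgroup.mem_centralizer_iff.mp h y y.2, mul_inv_cancel_right])
      rw [this]
  refine ⟨f, fun y s => (ν y : ℂ)⁻¹ * w y s, fun χ => ?_, fun χ g hg y y' hyy' => ?_, fun y hy => ⟨?_, ?_⟩⟩
  · have h : f χ = (∑ η : IrrCharacter (Cen Z), (if η ∈ bZ then m χ η else 0) • linFun (μ η)) * linFun ν := by
      funext y
      simp only [f, f₀, Pi.mul_apply, Finset.sum_apply, Pi.smul_apply, linFun_apply, nsmul_eq_mul]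
      congr 1
      exact Finset.sum_congr rfl fun η _ => by split_ifs <;> simp
    rw [h]
    exact isCharacter_mul (isCharacter_sum _ fun η _ => isCharacter_nsmul (isCharacter_linFun _).1 _)
      (isCharacter_linFun ν).1
  · obtain ⟨F, hF⟩ : ∃ F : G → ℂ, F = fun x => if h : x ∈ P then f χ ⟨x, h⟩ else 0 := ⟨_, rfl⟩
    have hbase : ∀ x, F ((t : G) * x * (t : G)⁻¹) = F x := by
      intro x
      rw [hF]
      by_cases hx : x ∈ P
      · beta_reduce
        rw [dif_pos hx, dif_pos (show (t : G) * x * (t : G)⁻¹ ∈ P from (htN x).mp hx)]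
        rw [← hft' χ ⟨x, hx⟩]
        refine congrArg (f χ) ?_
        exact Subtype.ext ((hpow x hx).trans (Subgroup.coe_zpow P ⟨x, hx⟩ k).symm)
      · beta_reduce
        rw [dif_neg hx, dif_neg (show (t : G) * x * (t : G)⁻¹ ∉ P from fun h => hx ((htN x).mpr h))]
    let Inv : Subgroup G :=
      { carrier := {g | ∀ x, F (g * x * g⁻¹) = F x}
        one_mem' := fun x => by simp
        mul_mem' := fun {a b} ha hb x => by
          rw [show a * b * x * (a * b)⁻¹ = a * (b * x * b⁻¹) * a⁻¹ by group, ha, hb]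
        inv_mem' := fun {a} ha x => by
          rw [← ha (a⁻¹ * x * a⁻¹⁻¹)]; congr 1; group }
    have htI : (t : G) ∈ Inv := hbase
    obtain ⟨i, hi⟩ := hgen g hg
    have h1 : ((t : G) ^ i)⁻¹ * g * y * (((t : G) ^ i)⁻¹ * g)⁻¹ = y := by
      rw [← Subgroup.mem_centralizer_iff.mp hi y y.2, mul_inv_cancel_right]
    have h2 : F (y' : G) = F (y : G) := by
      rw [hyy', ← (Subgroup.inv_mem _ (zpow_mem htI i)) (g * (y : G) * g⁻¹)]
      congr 1
      conv_rhs => rw [← h1]
      group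
    rw [hF] at h2
    simpa using h2
  · have h1 := (hA y hy).1
    rw [← h1]
    congr 1
    have hnorm : (ν y : ℂ)⁻¹ * conj ((ν y : ℂ)⁻¹) = 1 := by
      have hfin : ((ν y : ℂ)) ^ Nat.card P = 1 := by
        rw [← Units.val_pow_eq_pow_val, ← map_pow, pow_card_eq_one', map_one, Units.val_one]
      have hn1 : ‖((ν y : ℂ))‖ = 1 := Complex.norm_eq_one_of_pow_eq_one hfin Nat.card_pos.ne'
      rw [Complex.mul_conj, Complex.normSq_eq_norm_sq, norm_inv, hn1]
      simp
    let _ : Fintype (Cen (Subgroup.zpowers (y : G))) := Fintype.ofFinite _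
    rw [regSum_eq, regSum_eq]
    refine Finset.sum_congr rfl fun s _ => ?_
    split_ifs
    · rfl
    · rw [map_mul, mul_mul_mul_comm, hnorm, one_mul]
  · intro χ s hs
    rw [hsec y hy χ s hs]
    simp only [f]
    field_simp

end CfsgLib.Blocks.Cyclic
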