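import Cfsg.Agent.Lib.Blocks.AlgInt
import Mathlib.FieldTheory.IsAlgClosed.Basic
import Mathlib.RingTheory.SimpleModule.IsAlgClosed
import Mathlib.LinearAlgebra.Trace
import Mathlib.Algebra.Polynomial.Lifts

/-!
# The residue field is algebraically closed; traces of simple modules
-/

set_option autoImplicit false

noncomputable section

namespace CfsgLib.Blocks

open Cfsg Polynomial

/-- The residue ring as a field. -/
@[reducible] def resField (M : Ideal AlgInt) [M.IsMaximal] : Field (Res M) := Ideal.Quotient.field M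

attribute [local instance] resField

/-- The residue field is algebraically closed. -/
theorem res_isAlgClosed (M : Ideal AlgInt) [M.IsMaximal] : IsAlgClosed (Res M) := by
  refine IsAlgClosed.of_exists_root (Res M) fun q hq hirr => ?_
  obtain ⟨f, hfq, hdeg, hf⟩ := lifts_and_natDegree_eq_and_monic
    ((mem_lifts q).mpr (map_surjective _ Ideal.Quotient.mk_surjective q)) hq
  have hpos : (f.map (algebraMap AlgInt ℂ)).degree ≠ 0 := by
    rw [hf.degree_map]
    exact (natDegree_pos_iff_degree_pos.mp (hdeg ▸ hirr.natDegree_pos)).ne'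
  obtain ⟨z, hz⟩ := IsAlgClosed.exists_root _ hpos
  have hzi : IsIntegral AlgInt z := ⟨f, hf, by rwa [IsRoot, eval_map] at hz⟩
  obtain ⟨a, ha⟩ : ∃ a : AlgInt, (a : ℂ) = z := ⟨⟨z, isIntegral_trans z hzi⟩, rfl⟩
  refine ⟨Ideal.Quotient.mk M a, ?_⟩
  rw [← hfq, eval_map, eval₂_at_apply, Ideal.Quotient.eq_zero_iff_mem]
  have : f.eval a = 0 := by
    apply Subtype.ext
    rw [IsRoot, eval_map, ← ha] at hz
    have h := (eval₂_at_apply (algebraMap AlgInt ℂ) (p := f) a).symm.trans hz
    exact h
  rw [this]; exact M.zero_mem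

variable {k A : Type*} [Field k] [IsAlgClosed k] [Ring A] [Algebra k A]

/-- Some algebra element has trace one on a chosen simple module and trace zero on the others. -/
theorem exists_trace_eq {ι : Type*} [Fintype ι] [DecidableEq ι] (S : ι → Type*) [∀ i, AddCommGroup (S i)]
    [∀ i, Module k (S i)] [∀ i, Module A (S i)] [∀ i, IsScalarTower k A (S i)]
    [∀ i, FiniteDimensional k (S i)] [∀ i, IsSimpleModule A (S i)]
    (hne : ∀ i j, i ≠ j → IsEmpty (S i ≃ₗ[A] S j)) (j : ι) :
    ∃ a : A, ∀ i, LinearMap.trace k (S i) (Algebra.lsmul k k (S i) a) = if i = j then 1 else 0 := by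
  classical
  have : Nontrivial (S j) := IsSimpleModule.nontrivial A (S j)
  let b := Module.finBasis k (S j)
  have hpos : 0 < Module.finrank k (S j) := Module.finrank_pos
  let i₀ : Fin (Module.finrank k (S j)) := ⟨0, hpos⟩
  let g : S j →ₗ[k] S j := (b.coord i₀).smulRight (b i₀)
  have hg : LinearMap.trace k (S j) g = 1 := by
    rw [LinearMap.trace_smulRight]
    simp [Module.Basis.coord_apply]
  have hcomm : ∀ (φ : Module.End A (∀ i, S i)) (m : ∀ i, S i),
      φ (Pi.single j (g (m j))) = Pi.single j (g (φ m j)) := by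
    intro φ m
    have hd : ∀ i i' : ι, i ≠ i' → ∀ x : S i', φ (Pi.single i' x) i = 0 := by
      intro i i' hii x
      have h := LinearMap.bijective_or_eq_zero
        ((LinearMap.proj i : (∀ i, S i) →ₗ[A] S i).comp (φ.comp (LinearMap.single A S i')))
      rcases h with h | h
      · exact ((hne i' i hii.symm).false (LinearEquiv.ofBijective _ h)).elim
      · exact LinearMap.congr_fun h x
    obtain ⟨c, hc⟩ := (IsSimpleModule.algebraMap_end_bijective_of_isAlgClosed k (A := A) (V := S j)).2
      ((LinearMap.proj j : (∀ i, S i) →ₗ[A] S j).comp (φ.comp (LinearMap.single A S j)))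
    have hc' : ∀ x : S j, φ (Pi.single j x) j = c • x := fun x => (LinearMap.congr_fun hc x).symm
    have hm : φ m j = c • m j := by
      conv_lhs => rw [← Finset.univ_sum_single m]
      rw [map_sum, Finset.sum_apply, Finset.sum_eq_single j (fun i _ hi => hd j i hi.symm (m i))
        (by simp), hc']
    funext i
    by_cases hi : i = j
    · subst hi
      rw [hc', hm, Pi.single_eq_same, map_smul]
    · rw [hd i j hi, Pi.single_eq_of_ne hi]
  let f : Module.End (Module.End A (∀ i, S i)) (∀ i, S i) :=
    { toFun := fun m => Pi.single j (g (m j))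
      map_add' := fun m m' => by rw [Pi.add_apply, map_add, Pi.single_add]
      map_smul' := fun φ m => (hcomm φ m).symm }
  let B := Module.finBasis k (∀ i, S i)
  obtain ⟨a, ha⟩ := jacobson_density (R := A) (M := ∀ i, S i) f (Finset.univ.image B)
  refine ⟨a, ?_⟩
  have hext : ∀ m : ∀ i, S i, a • m = Pi.single j (g (m j)) := by
    let f' : (∀ i, S i) →ₗ[k] (∀ i, S i) :=
      { toFun := fun m => Pi.single j (g (m j))
        map_add' := fun m m' => by rw [Pi.add_apply, map_add, Pi.single_add]
        map_smul' := fun c m => by rw [Pi.smul_apply, map_smul, Pi.single_smul, RingHom.id_apply] }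
    have : Algebra.lsmul k k (∀ i, S i) a = f' := B.ext fun n => (ha _ (Finset.mem_image_of_mem _ (Finset.mem_univ n))).symm
    exact fun m => LinearMap.congr_fun this m
  intro i
  by_cases hi : i = j
  · subst hi
    rw [if_pos rfl, ← hg]
    congr 1
    refine LinearMap.ext fun x => ?_
    have h := congrFun (hext (Pi.single i x)) i
    rwa [Pi.smul_apply, Pi.single_eq_same, Pi.single_eq_same] at h
  · rw [if_neg hi, show Algebra.lsmul k k (S i) a = 0 from LinearMap.ext fun x => ?_, map_zero]
    have h := congrFun (hext (Pi.single i x)) i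
    rwa [Pi.smul_apply, Pi.single_eq_same, Pi.single_eq_of_ne hi] at h

/-- The trace forms of pairwise non-isomorphic simple modules are linearly independent. -/
theorem trace_forms_independent {ι : Type*} [Fintype ι] (S : ι → Type*) [∀ i, AddCommGroup (S i)]
    [∀ i, Module k (S i)] [∀ i, Module A (S i)] [∀ i, IsScalarTower k A (S i)]
    [∀ i, FiniteDimensional k (S i)] [∀ i, IsSimpleModule A (S i)]
    (hne : ∀ i j, i ≠ j → IsEmpty (S i ≃ₗ[A] S j)) (d : ι → k)
    (h : ∀ a : A, ∑ i, d i * LinearMap.trace k (S i) (Algebra.lsmul k k (S i) a) = 0) : d = 0 := by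
  classical
  funext j
  obtain ⟨a, ha⟩ := exists_trace_eq (k := k) S hne j
  have := h a
  simp only [ha, mul_ite, mul_one, mul_zero, Finset.sum_ite_eq', Finset.mem_univ, if_true] at this
  exact this

end CfsgLib.Blocks
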