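import Cfsg.Agent.Lib.Blocks.Consequences
import Cfsg.Agent.Lib.Blocks.Covering
import Cfsg.Agent.Lib.Blocks.PPart
import Cfsg.Agent.Lib.CharNormal.Kernel

/-!
# Blocks of `G ⧸ P` for a normal `p`-subgroup with `p`-power centraliser index
-/

set_option autoImplicit false

noncomputable section

namespace CfsgLib.Blocks

open Cfsg
open scoped ComplexConjugate

variable {M : Ideal AlgInt} [M.IsMaximal] {G : Type*} [Group G] [Fintype G] {p : ℕ}

/-- A block is determined by the reduced central character on regular classes. -/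
theorem sameBlock_of_regular (hM : IsPModular p M) {χ ψ : IrrCharacter G}
    (h : ∀ g : G, ¬ p ∣ orderOf g → bomega χ (zclass M g) = bomega ψ (zclass M g)) :
    SameBlock M (χ : G → ℂ) (ψ : G → ℂ) := by
  classical
  have : Finite (ConjClasses G) := Finite.of_surjective _ ConjClasses.mk_surjective
  let _ := Fintype.ofFinite (ConjClasses G)
  set B := blockOf M (χ : G → ℂ)
  have hB : IsPBlock M B := isPBlock_blockOf χ
  have h1 : bomega ψ (idem hB) = bomega χ (idem hB) := by
    rw [bomega_eq_sum, bomega_eq_sum]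
    refine Finset.sum_congr rfl fun C _ => ?_
    by_cases hs : p ∣ orderOf C.out
    · rw [rcoeff_idem_singular hM hB hs, zero_mul, zero_mul]
    · rw [h _ hs]
  rw [bomega_idem hB χ, if_pos (mem_blockOf_self χ)] at h1
  exact (sameBlock_iff χ ψ).mpr
    (bomega_eq_of_mem hB (mem_blockOf_self χ) (isPBlock_idem_bomega hB (h1.trans_ne one_ne_zero)))

variable [hp : Fact p.Prime] {P : Subgroup G} [P.Normal]

omit [M.IsMaximal] in
theorem mem_centralizer_of_regular (hC : ∃ k : ℕ, (Subgroup.centralizer (P : Set G)).index = p ^ k) {g : G}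
    (hg : ¬ p ∣ orderOf g) : g ∈ Subgroup.centralizer (P : Set G) :=
  mem_of_index_pow hp.out hC hg

omit [M.IsMaximal] in
theorem eq_of_mk_eq_of_regular (hP : IsPGroup p P)
    (hC : ∃ k : ℕ, (Subgroup.centralizer (P : Set G)).index = p ^ k) {a b : G}
    (ha : ¬ p ∣ orderOf a) (hb : ¬ p ∣ orderOf b) (h : (a : G ⧸ P) = (b : G ⧸ P)) : a = b := by
  have hx : a⁻¹ * b ∈ P := QuotientGroup.eq.mp h
  obtain ⟨k, hk⟩ := IsPGroup.iff_orderOf.mp hP ⟨_, hx⟩
  rw [Subgroup.orderOf_mk] at hk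
  have hcomm : Commute (a⁻¹ * b) a :=
    Subgroup.mem_centralizer_iff.mp (mem_centralizer_of_regular hC ha) _ hx
  have h1 : IsPPart p b (a⁻¹ * b) :=
    ⟨a, by rw [hcomm.eq, mul_inv_cancel_left], hcomm, ⟨k, hk⟩, ha⟩
  have h2 : (1 : G) = a⁻¹ * b := isPPart_unique (isPPart_one_iff.mpr hb) h1
  exact inv_mul_eq_one.mp h2.symm

omit [M.IsMaximal] in
theorem index_centralizer_mk (hP : IsPGroup p P)
    (hC : ∃ k : ℕ, (Subgroup.centralizer (P : Set G)).index = p ^ k) {g : G} (hg : ¬ p ∣ orderOf g) :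
    (Subgroup.centralizer ({(g : G ⧸ P)} : Set (G ⧸ P))).index =
      (Subgroup.centralizer ({g} : Set G)).index := by
  have hcom : Subgroup.centralizer ({(g : G ⧸ P)} : Set (G ⧸ P)) =
      (Subgroup.centralizer ({g} : Set G)).map (QuotientGroup.mk' P) := by
    refine le_antisymm (fun q hq => ?_) ?_
    · obtain ⟨w, rfl⟩ := QuotientGroup.mk_surjective q
      rw [Subgroup.mem_centralizer_singleton_iff] at hq
      refine Subgroup.mem_map.mpr ⟨w, Subgroup.mem_centralizer_singleton_iff.mpr ?_, rfl⟩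
      have h1 : ((w * g * w⁻¹ : G) : G ⧸ P) = (g : G ⧸ P) := by
        rw [QuotientGroup.mk_mul, QuotientGroup.mk_mul, QuotientGroup.mk_inv, hq, mul_inv_cancel_right]
      have h2 := eq_of_mk_eq_of_regular hP hC
        (by rwa [(SemiconjBy.conj_mk w g).orderOf_eq.symm]) hg h1
      exact mul_inv_eq_iff_eq_mul.mp h2
    · rintro q ⟨w, hw, rfl⟩
      rw [SetLike.mem_coe, Subgroup.mem_centralizer_singleton_iff] at hw
      rw [Subgroup.mem_centralizer_singleton_iff]
      exact congrArg (QuotientGroup.mk' P) hw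
  rw [hcom]
  refine Subgroup.index_map_eq _ (QuotientGroup.mk'_surjective P) ?_
  rw [QuotientGroup.ker_mk']
  exact fun x hx => Subgroup.mem_centralizer_singleton_iff.mpr
    (Subgroup.mem_centralizer_iff.mp (mem_centralizer_of_regular hC hg) x hx)

omit [M.IsMaximal] in
/-- Regular classes of `G ⧸ P` lift to regular classes. -/
theorem exists_regular_lift (q : G ⧸ P) (hq : ¬ p ∣ orderOf q) :
    ∃ g : G, ¬ p ∣ orderOf g ∧ (g : G ⧸ P) = q := by
  obtain ⟨g, rfl⟩ := QuotientGroup.mk_surjective q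
  obtain ⟨z, hz⟩ := exists_isPPart (p := p) g
  obtain ⟨y, rfl, hzy, ⟨k, hk⟩, hy⟩ := hz
  refine ⟨y, hy, ?_⟩
  obtain ⟨j, -, hj⟩ := (Nat.dvd_prime_pow hp.out).mp (hk ▸ orderOf_map_dvd (QuotientGroup.mk' P) z)
  have h1 : IsPPart p ((z * y : G) : G ⧸ P) ((z : G) : G ⧸ P) :=
    ⟨(y : G ⧸ P), rfl, hzy.map (QuotientGroup.mk' P), ⟨j, hj⟩,
      fun hd => hy (hd.trans (orderOf_map_dvd (QuotientGroup.mk' P) y))⟩
  have h2 := isPPart_unique h1 (isPPart_one_iff.mpr hq)
  rw [QuotientGroup.mk_mul, h2, one_mul]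

variable [Fintype (G ⧸ P)]

theorem sameBlock_inflation_iff (hM : IsPModular p M) (hP : IsPGroup p P)
    (hC : ∃ k : ℕ, (Subgroup.centralizer (P : Set G)).index = p ^ k) (χ ψ : IrrCharacter (G ⧸ P)) :
    SameBlock M (χ : G ⧸ P → ℂ) (ψ : G ⧸ P → ℂ) ↔
      SameBlock M ((χ : G ⧸ P → ℂ) ∘ QuotientGroup.mk) ((ψ : G ⧸ P → ℂ) ∘ QuotientGroup.mk) := by
  set χ' : IrrCharacter G := ⟨_, CfsgLib.CharNormal.isIrr_comp_mk' P χ.2⟩ with hχ'
  set ψ' : IrrCharacter G := ⟨_, CfsgLib.CharNormal.isIrr_comp_mk' P ψ.2⟩ with hψ'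
  have key : ∀ (φ : IrrCharacter (G ⧸ P)) (g : G), ¬ p ∣ orderOf g →
      centralChar ((φ : G ⧸ P → ℂ) ∘ QuotientGroup.mk) g = centralChar (φ : G ⧸ P → ℂ) (g : G ⧸ P) := by
    intro φ g hg
    simp only [centralChar, Function.comp_apply, index_centralizer_mk hP hC hg, QuotientGroup.mk_one]
  have hiff : ∀ g : G, ¬ p ∣ orderOf g →
      (bomega χ' (zclass M g) = bomega ψ' (zclass M g) ↔
        bomega χ (zclass M (g : G ⧸ P)) = bomega ψ (zclass M (g : G ⧸ P))) := by
    intro g hg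
    rw [bomega_apply, bomega_apply, bomega_apply, bomega_apply, ← memLocalIdeal_sub_iff,
      ← memLocalIdeal_sub_iff, coe_zomega_zclass, coe_zomega_zclass, coe_zomega_zclass, coe_zomega_zclass]
    change MemLocalIdeal M (centralChar ((χ : G ⧸ P → ℂ) ∘ QuotientGroup.mk) g -
      centralChar ((ψ : G ⧸ P → ℂ) ∘ QuotientGroup.mk) g) ↔ _
    rw [key χ g hg, key ψ g hg]
  constructor
  · intro h
    refine sameBlock_of_regular hM (χ := χ') (ψ := ψ') fun g hg => (hiff g hg).mpr ?_
    rw [(sameBlock_iff χ ψ).mp h]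
  · intro h
    refine sameBlock_of_regular hM fun q hq => ?_
    obtain ⟨g, hg, rfl⟩ := exists_regular_lift q hq
    refine (hiff g hg).mp ?_
    rw [(sameBlock_iff χ' ψ').mp h]

theorem exists_inflation_mem (hM : IsPModular p M) (hP : IsPGroup p P)
    (hC : ∃ k : ℕ, (Subgroup.centralizer (P : Set G)).index = p ^ k) {B : Set (IrrCharacter G)}
    (hB : IsPBlock M B) :
    ∃ χ : IrrCharacter (G ⧸ P), ∃ θ ∈ B, (θ : G → ℂ) = (χ : G ⧸ P → ℂ) ∘ QuotientGroup.mk := by
  classical
  by_contra hno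
  push Not at hno
  obtain ⟨η₀, hη₀⟩ := IsPBlock.nonempty hB
  obtain ⟨g, hg⟩ := exists_defectClass hB hη₀
  have hgreg := defectClass_pRegular hM hB hg
  set ebar : CA (G ⧸ P) := ofFun fun q => ∑ x : G, if (x : G ⧸ P) = q then blockCoeff B x else 0
  have hcenter : ebar ∈ Subsemiring.center (CA (G ⧸ P)) := by
    rw [mem_center_iff]
    intro q w
    obtain ⟨u, rfl⟩ := QuotientGroup.mk_surjective w
    simp only [ebar, coeff_ofFun]
    refine Fintype.sum_equiv (MulAut.conj u⁻¹).toEquiv _ _ fun x => ?_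
    have h1 : (MulAut.conj u⁻¹).toEquiv x = u⁻¹ * x * u := by simp
    rw [h1]
    refine if_congr ?_ ?_ rfl
    · rw [QuotientGroup.mk_mul, QuotientGroup.mk_mul, QuotientGroup.mk_inv]
      constructor
      · intro h; rw [h]; group
      · intro h; rw [← h]; group
    · have := (mem_Zint_iff.mp (idem hB : Zint M G).2).2 x u⁻¹
      simp only [idem, blockElt, coeff_ofFun, inv_inv] at this
      exact this.symm
  have hzero : ebar = 0 := by
    refine eq_of_omega_eq hcenter (Subsemiring.zero_mem _) fun χ => ?_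
    rw [omega, omega, map_zero, zero_div]
    set η : IrrCharacter G := ⟨_, CfsgLib.CharNormal.isIrr_comp_mk' P χ.2⟩
    have h1 : charLin (χ : G ⧸ P → ℂ) ebar = charLin (η : G → ℂ) ((idem hB : Zint M G) : CA G) := by
      simp only [charLin_apply, ebar, coeff_ofFun, idem, blockElt, Finset.sum_mul, ite_mul, zero_mul]
      rw [Finset.sum_comm]
      refine Finset.sum_congr rfl fun x _ => ?_
      rw [Finset.sum_ite_eq, if_pos (Finset.mem_univ _)]
      rfl
    have h2 : omega (η : G → ℂ) ((idem hB : Zint M G) : CA G) = 0 := by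
      rw [← coe_zomega, zomega_idem hB, if_neg (fun h => hno χ η h rfl)]
      rfl
    rw [omega, div_eq_zero_iff, or_iff_left (CfsgLib.Char.irr_one_ne_zero η.2)] at h2
    rw [h1, h2, zero_div]
  have h0 := congrArg (fun a : CA (G ⧸ P) => a.coeff (g : G ⧸ P)) hzero
  simp only [ebar, coeff_ofFun, MonoidAlgebra.coeff_zero, Finsupp.zero_apply] at h0
  rw [Finset.sum_eq_single g, if_pos rfl] at h0
  · exact hg.2.1 (by rw [h0]; exact (res_eq_zero_iff M 0).mp (map_zero _))
  · intro x _ hx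
    split_ifs with he
    · refine blockCoeff_eq_zero hM hB ?_
      by_contra hs
      exact hx (eq_of_mk_eq_of_regular hP hC hs hgreg he)
    · rfl
  · simp

end CfsgLib.Blocks
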