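import Cfsg.Agent.Lib.Blocks.Laradji
import Cfsg.Agent.Lib.Blocks.QuotientBlocks
import Cfsg.Agent.Lib.Blocks.Covering
import Cfsg.Agent.Lib.Blocks.ThirdMain
import Cfsg.Agent.Lib.Char.Product
import Cfsg.Agent.Lib.Char.Ito
import Cfsg.Agent.Lib.CharNormal.Basic

/-!
# Blocks of `G = P C_G(P)` with defect group `P`
-/

set_option autoImplicit false

noncomputable section

namespace CfsgLib.Blocks

open Cfsg
open scoped ComplexConjugate

section regular

variable {G : Type*} [Group G] [Fintype G] {p : ℕ} [hp : Fact p.Prime]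

/-- A function supported on the sections of a central `p`-subgroup and periodic under it. -/
theorem sum_eq_card_mul_regular {D : Subgroup G} (hD : IsPGroup p D) (hDZ : D ≤ Subgroup.center G)
    {f : G → ℂ} (hper : ∀ d ∈ D, ∀ y : G, f (d * y) = f y)
    (hvan : ∀ g x : G, IsPPart p g x → x ∉ D → f g = 0) :
    ∑ g : G, f g = (Nat.card D : ℂ) * ∑ g : G, (if p ∣ orderOf g then 0 else f g) := by
  classical
  choose z hz using fun g : G => exists_isPPart (p := p) g
  rw [Nat.card_eq_fintype_card, ← Finset.card_univ, ← nsmul_eq_mul, ← Finset.sum_const]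
  rw [← Finset.sum_fiberwise_of_maps_to (t := (Finset.univ : Finset G)) (g := z) (by simp)]
  rw [← Finset.sum_subset (Finset.subset_univ (Finset.univ.map (⟨Subtype.val, Subtype.val_injective⟩ : D ↪ G))),
    Finset.sum_map]
  · refine Finset.sum_congr rfl fun d _ => ?_
    obtain ⟨k, hk⟩ := IsPGroup.iff_orderOf.mp hD d
    rw [← Finset.sum_filter_add_sum_filter_not (s := (Finset.univ : Finset G)) (p := fun g => p ∣ orderOf g)]
    rw [Finset.sum_eq_zero (s := Finset.univ.filter fun g => p ∣ orderOf g)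
      (fun g hg => if_pos (Finset.mem_filter.mp hg).2), zero_add]
    symm
    refine Finset.sum_bij (fun y _ => (d : G) * y) (fun y hy => ?_) (fun a _ b _ h => mul_left_cancel h)
      (fun w hw => ?_) (fun y hy => ?_)
    · exact Finset.mem_filter.mpr ⟨Finset.mem_univ _, isPPart_unique (hz _)
        (isPPart_mul (Subgroup.mem_center_iff.mp (hDZ d.2) y).symm ⟨k, by rwa [Subgroup.orderOf_coe]⟩
          (Finset.mem_filter.mp hy).2)⟩
    · obtain ⟨y, hzy, -, -, hy⟩ := hz w
      rw [(Finset.mem_filter.mp hw).2] at hzy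
      exact ⟨y, Finset.mem_filter.mpr ⟨Finset.mem_univ _, hy⟩, hzy⟩
    · rw [if_neg (Finset.mem_filter.mp hy).2, hper _ d.2]
  · intro w _ hw
    refine Finset.sum_eq_zero fun g hg => hvan g _ (hz g) ?_
    rw [(Finset.mem_filter.mp hg).2]
    exact fun hm => hw (Finset.mem_map.mpr ⟨⟨w, hm⟩, Finset.mem_univ _, rfl⟩)

end regular

section central

variable {M : Ideal AlgInt} [M.IsMaximal] {C : Type*} [Group C] [Fintype C] {p : ℕ} [hp : Fact p.Prime]
  {Z : Subgroup C}

omit hp in
theorem centScal_eq_char {γ : IrrCharacter C} {z : C} :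
    (γ : C → ℂ) z = centScal γ z * (γ : C → ℂ) 1 :=
  (div_mul_cancel₀ _ (CfsgLib.Char.irr_one_ne_zero γ.2)).symm

/-- Every linear character of a central `p`-subgroup occurs in every block. -/
theorem exists_mem_block_centScal (hM : IsPModular p M) (hZ : IsPGroup p Z) (hZC : Z ≤ Subgroup.center C)
    {b : Set (IrrCharacter C)} (hb : IsPBlock M b) (lam : C → ℂ) (hlam1 : lam 1 = 1)
    (hlam : ∀ z ∈ Z, ∀ w ∈ Z, lam (z * w) = lam z * lam w) :
    ∃ γ ∈ b, ∀ z ∈ Z, centScal γ z = lam z := by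
  classical
  obtain ⟨γ₀, hγ₀⟩ := IsPBlock.nonempty hb
  obtain ⟨y, hy⟩ := exists_defectClass hb hγ₀
  have hyreg := defectClass_pRegular hM hb hy
  by_contra hno
  push Not at hno
  have hkey : ∀ γ ∈ b, ∑ z : Z, conj (centScal γ (z : C)) * lam (z : C) = 0 := by
    intro γ hγ
    obtain ⟨z₀, hz₀, hne⟩ := hno γ hγ
    set a := conj (centScal γ z₀) * lam z₀
    set S := ∑ z : Z, conj (centScal γ (z : C)) * lam (z : C)
    have hS : a * S = S := by
      rw [Finset.mul_sum]
      refine Fintype.sum_equiv (Equiv.mulLeft (⟨z₀, hz₀⟩ : Z)) _ _ fun z => ?_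
      rw [Equiv.coe_mulLeft, Subgroup.coe_mul, centScal_mul γ (hZC hz₀), hlam _ hz₀ _ z.2, map_mul]
      simp only [a]
      ring
    have ha : a ≠ 1 := fun h => hne (by
      linear_combination (-centScal γ z₀) * h + lam z₀ * conj_centScal_mul_self γ (hZC hz₀))
    have h2 : (a - 1) * S = 0 := by rw [sub_mul, one_mul, hS, sub_self]
    exact (mul_eq_zero.mp h2).resolve_left (sub_ne_zero.mpr ha)
  have h0 : ∑ z : Z, lam (z : C) * blockCoeff b ((z : C) * y) = 0 := by
    simp only [blockCoeff_eq, Finset.mul_sum]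
    rw [Finset.sum_comm]
    refine Finset.sum_eq_zero fun γ _ => ?_
    by_cases hγ : γ ∈ b
    · simp only [if_pos hγ]
      calc ∑ z : Z, lam (z : C) * ((Nat.card C : ℂ)⁻¹ * ((γ : C → ℂ) 1 * conj ((γ : C → ℂ) ((z : C) * y))))
          = ((Nat.card C : ℂ)⁻¹ * ((γ : C → ℂ) 1 * conj ((γ : C → ℂ) y))) *
              ∑ z : Z, conj (centScal γ (z : C)) * lam (z : C) := by
            rw [Finset.mul_sum]
            refine Finset.sum_congr rfl fun z _ => ?_
            rw [char_central_mul γ (hZC z.2), map_mul]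
            ring
        _ = 0 := by rw [hkey γ hγ, mul_zero]
    · simp [hγ]
  rw [Finset.sum_eq_single (1 : Z)] at h0
  · rw [OneMemClass.coe_one, one_mul, hlam1, one_mul] at h0
    exact hy.2.1 (by rw [h0]; exact (res_eq_zero_iff M 0).mp (map_zero _))
  · intro z _ hz1
    rw [blockCoeff_eq_zero hM hb, mul_zero]
    by_contra hs
    obtain ⟨k, hk⟩ := IsPGroup.iff_orderOf.mp hZ z
    have h1 : IsPPart p ((z : C) * y) (z : C) := isPPart_mul
      (Subgroup.mem_center_iff.mp (hZC z.2) y).symm ⟨k, by rwa [Subgroup.orderOf_coe]⟩ hyreg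
    exact hz1 (Subtype.ext (isPPart_unique h1 (isPPart_one_iff.mpr hs)))
  · simp

/-- In a block all of whose characters have degree of valuation `[C : Z]`, the central character
determines the character. -/
theorem eq_of_centScal_eq (hM : IsPModular p M) (hZ : IsPGroup p Z) (hZC : Z ≤ Subgroup.center C)
    {γ γ' : IrrCharacter C} (hblock : γ' ∈ blockOf M (γ : C → ℂ))
    (h0 : blockHeight p (blockOf M (γ : C → ℂ)) (γ' : C → ℂ) = 0)
    (hdeg : (charDegree (γ : C → ℂ)).factorization p = Z.index.factorization p)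
    (hsame : ∀ z ∈ Z, centScal γ z = centScal γ' z) : γ = γ' := by
  classical
  by_contra hne
  have h1 : ∑ g : C, (γ : C → ℂ) g * conj ((γ' : C → ℂ) g) =
      (Nat.card Z : ℂ) * ∑ g : C, (if p ∣ orderOf g then 0 else (γ : C → ℂ) g * conj ((γ' : C → ℂ) g)) := by
    refine sum_eq_card_mul_regular hZ hZC (fun d hd y => ?_) (fun g x hx hxD => ?_)
    · rw [char_central_mul γ (hZC hd), char_central_mul γ' (hZC hd), hsame d hd, map_mul]
      linear_combination ((γ : C → ℂ) y * conj ((γ' : C → ℂ) y)) * conj_centScal_mul_self γ' (hZC hd)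
    · rw [eq_zero_of_pPart_notMem hM hZC hdeg hx hxD, zero_mul]
  have h2 := CfsgLib.Char.classInner_irr_ne γ.2 γ'.2 fun h => hne (Subtype.ext h)
  rw [CfsgLib.Char.classInner_def, h1] at h2
  have h3 : ∑ g : C, (if p ∣ orderOf g then 0 else (γ : C → ℂ) g * conj ((γ' : C → ℂ) g)) = 0 := by
    rcases mul_eq_zero.mp h2 with h | h
    · exact absurd h (inv_ne_zero CfsgLib.Char.card_ne_zero')
    · exact (mul_eq_zero.mp h).resolve_left CfsgLib.Char.card_ne_zero'
  have h4 := (bomega_regElt_ne_zero_iff hM γ γ').mpr ⟨hblock, h0⟩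
  refine h4 ?_
  rw [bomega_apply]
  have h5 : zomega γ (regElt M p (CfsgLib.Char.isCharacter_of_isIrr γ'.2)) = 0 :=
    Subtype.ext (by rw [zomega_regElt, h3, zero_div]; rfl)
  rw [h5, map_zero]

omit [M.IsMaximal] in
theorem degree_le_index_central (hZC : Z ≤ Subgroup.center C) (γ : IrrCharacter C) :
    (charDegree (γ : C → ℂ)).factorization p ≤ Z.index.factorization p := by
  obtain ⟨n, ρ, hρ, hγ⟩ := γ.2
  have hdvd := CfsgLib.Char.degree_dvd_index_of_scalar ρ Z fun a ha g => by
    rw [← map_mul, ← map_mul, Subgroup.mem_center_iff.mp (hZC ha) g]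
  have hdeg : charDegree (γ : C → ℂ) = Module.finrank ℂ (Fin n → ℂ) := by
    have h := charDegree_eq (CfsgLib.Char.isCharacter_of_isIrr γ.2)
    rw [← hγ, Representation.char_one] at h
    rw [← hγ]
    exact_mod_cast h.symm
  rw [← hdeg] at hdvd
  exact (Nat.factorization_le_iff_dvd (charDegree_ne_zero γ) Subgroup.index_ne_zero_of_finite).mpr hdvd p

end central

section product

variable {G : Type*} [Group G] [Fintype G] {P : Subgroup G}

/-- `(x, c) ↦ xc` on `P × C_G(P)`. -/
def mulHom (P : Subgroup G) : P × Subgroup.centralizer (P : Set G) →* G where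
  toFun v := (v.1 : G) * (v.2 : G)
  map_one' := by simp
  map_mul' v w := by
    simp only [Prod.fst_mul, Prod.snd_mul, Subgroup.coe_mul]
    have h : (v.2 : G) * (w.1 : G) = (w.1 : G) * (v.2 : G) :=
      (Subgroup.mem_centralizer_iff.mp v.2.2 _ w.1.2).symm
    rw [mul_assoc, mul_assoc, ← mul_assoc (w.1 : G), ← h, mul_assoc]

omit [Fintype G] in
theorem mulHom_surjective (hG : P ⊔ Subgroup.centralizer (P : Set G) = ⊤) :
    Function.Surjective (mulHom P) := by
  rw [← MonoidHom.range_eq_top, eq_top_iff, ← hG, sup_le_iff]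
  exact ⟨fun x hx => ⟨(⟨x, hx⟩, 1), by simp [mulHom]⟩, fun c hc => ⟨(1, ⟨c, hc⟩), by simp [mulHom]⟩⟩

omit [Fintype G] in
theorem card_ker_mulHom : Nat.card (mulHom P).ker =
    Nat.card (P ⊓ Subgroup.centralizer (P : Set G) : Subgroup G) := by
  refine Nat.card_congr
    { toFun := fun v => ⟨(v.1.1 : G), v.1.1.2, ?_⟩
      invFun := fun z => ⟨(⟨z, z.2.1⟩, (⟨z, z.2.2⟩ : Subgroup.centralizer (P : Set G))⁻¹), by
        simp [mulHom, MonoidHom.mem_ker]⟩
      left_inv := fun v => ?_
      right_inv := fun z => rfl }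
  · have h : (v.1.1 : G) * (v.1.2 : G) = 1 := v.2
    rw [eq_inv_of_mul_eq_one_left h]
    exact (Subgroup.centralizer (P : Set G)).inv_mem v.1.2.2
  · refine Subtype.ext (Prod.ext rfl (Subtype.ext ?_))
    exact (eq_inv_of_mul_eq_one_right (v.2 : (v.1.1 : G) * (v.1.2 : G) = 1)).symm

variable [Fintype P] [Fintype (Subgroup.centralizer (P : Set G))]

theorem exists_factors (hG : P ⊔ Subgroup.centralizer (P : Set G) = ⊤) (χ : IrrCharacter G) :
    ∃ (ν : IrrCharacter P) (γ : IrrCharacter (Subgroup.centralizer (P : Set G))),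
      ∀ (x : P) (c : Subgroup.centralizer (P : Set G)),
        (χ : G → ℂ) ((x : G) * (c : G)) = (ν : P → ℂ) x * (γ : Subgroup.centralizer (P : Set G) → ℂ) c := by
  classical
  let _ := Fintype.ofFinite ((P × Subgroup.centralizer (P : Set G)) ⧸ (mulHom P).ker)
  set e := QuotientGroup.quotientKerEquivOfSurjective (mulHom P) (mulHom_surjective hG)
  have h1 := CfsgLib.CharNormal.isIrr_comp_mulEquiv χ.2 e
  have h2 := CfsgLib.CharNormal.isIrr_comp_mk' (mulHom P).ker h1
  obtain ⟨ν, γ, hν, hγ, h⟩ := (CfsgLib.Char.isIrr_prod_iff _).mp h2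
  exact ⟨⟨ν, hν⟩, ⟨γ, hγ⟩, fun x c => congrFun h (x, c)⟩

omit [Fintype P] [Fintype (Subgroup.centralizer (P : Set G))] in
theorem exists_of_factors [Finite P] (hG : P ⊔ Subgroup.centralizer (P : Set G) = ⊤) {ν : P → ℂ}
    {γ : Subgroup.centralizer (P : Set G) → ℂ} (hν : IsIrrCharacter P ν)
    (hγ : IsIrrCharacter (Subgroup.centralizer (P : Set G)) γ)
    (hker : ∀ v : P × Subgroup.centralizer (P : Set G), mulHom P v = 1 → ν v.1 * γ v.2 = ν 1 * γ 1) :
    ∃ χ : IrrCharacter G, ∀ (x : P) (c : Subgroup.centralizer (P : Set G)),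
      (χ : G → ℂ) ((x : G) * (c : G)) = ν x * γ c := by
  classical
  let _ := Fintype.ofFinite P
  let _ := Fintype.ofFinite (Subgroup.centralizer (P : Set G))
  let _ := Fintype.ofFinite ((P × Subgroup.centralizer (P : Set G)) ⧸ (mulHom P).ker)
  have hprod := CfsgLib.Char.isIrr_prod hν hγ
  obtain ⟨ψ, hψ, hψe⟩ := CfsgLib.CharNormal.exists_eq_comp_mk' (mulHom P).ker
    (CfsgLib.Char.isCharacter_of_isIrr hprod) fun v hv => hker v hv
  have hψirr : IsIrrCharacter _ ψ :=
    (CfsgLib.CharNormal.isIrr_comp_mk'_iff (mulHom P).ker hψ).mp (by rw [hψe]; exact hprod)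
  set e := QuotientGroup.quotientKerEquivOfSurjective (mulHom P) (mulHom_surjective hG)
  refine ⟨⟨_, CfsgLib.CharNormal.isIrr_comp_mulEquiv hψirr e.symm⟩, fun x c => ?_⟩
  have he : e.symm ((x : G) * (c : G)) =
      ((x, c) : P × Subgroup.centralizer (P : Set G)) := by
    rw [MulEquiv.symm_apply_eq]; rfl
  change ψ (e.symm _) = _
  rw [he]
  exact congrFun hψe (x, c)

end product

variable {M : Ideal AlgInt} [M.IsMaximal] {G : Type*} [Group G] [Fintype G] {p : ℕ} [hp : Fact p.Prime]

omit [Fintype G] in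
theorem eq_of_proportional {H : Type*} [Group H] [Fintype H] {ν ν' : IrrCharacter H} {a a' : ℂ}
    (ha : a ≠ 0) (h : ∀ x : H, (ν : H → ℂ) x * a = (ν' : H → ℂ) x * a') : ν = ν' := by
  by_contra hne
  have h2 := CfsgLib.Char.classInner_irr_ne ν.2 ν'.2 fun e => hne (Subtype.ext e)
  have h1 : ((ν : H → ℂ)) = (a' / a) • (ν' : H → ℂ) := funext fun x => by
    rw [Pi.smul_apply, smul_eq_mul, div_mul_eq_mul_div, eq_div_iff ha, mul_comm a', h x]
  rw [h1, CfsgLib.Char.classInner_smul_left, CfsgLib.Char.classInner_irr_self ν'.2, mul_one] at h2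
  rw [h2, zero_smul] at h1
  exact CfsgLib.Char.irr_one_ne_zero ν.2 (congrFun h1 1)

set_option maxHeartbeats 1600000 in
/-- Blocks of `P C(P)` with defect group `P`, with the degrees of the members. -/
theorem central_product_block_degrees (hM : IsPModular p M) {P : Subgroup G} (hP : IsPGroup p P)
    (hG : P ⊔ Subgroup.centralizer (P : Set G) = ⊤) {B : Set (IrrCharacter G)} (hB : IsPBlock M B)
    (hD : IsDefectGroup p M B P) :
    (∃! θ : IrrCharacter G, θ ∈ B ∧ ∀ x ∈ P, (θ : G → ℂ) x = (θ : G → ℂ) 1) ∧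
      (∀ θ ∈ B, (∀ x ∈ P, (θ : G → ℂ) x = (θ : G → ℂ) 1) →
        (charDegree (θ : G → ℂ)).factorization p = P.index.factorization p) ∧
      Nat.card B = Nat.card (ConjClasses P) ∧
      ∀ ν : IrrCharacter P, ∃ χ ∈ B, (charDegree (χ : G → ℂ)).factorization p =
        (charDegree (ν : P → ℂ)).factorization p + P.index.factorization p := by
  classical
  let _ := Fintype.ofFinite P
  let _ := Fintype.ofFinite (Subgroup.centralizer (P : Set G))
  have hPn : P.Normal := Subgroup.normalizer_eq_top_iff.mp (eq_top_iff.mpr (hG ▸ sup_le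
    Subgroup.le_normalizer (Subgroup.centralizer_le_normalizer _)))
  -- the centre of `P` inside the centraliser
  set Z : Subgroup (Subgroup.centralizer (P : Set G)) := P.subgroupOf (Subgroup.centralizer (P : Set G))
    with hZdef
  have hZC : Z ≤ Subgroup.center (Subgroup.centralizer (P : Set G)) := fun z hz =>
    Subgroup.mem_center_iff.mpr fun c => Subtype.ext (Subgroup.mem_centralizer_iff.mp c.2 _
      (Subgroup.mem_subgroupOf.mp hz)).symm
  have hZp : IsPGroup p Z := hP.comap_subtype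
  have hcardZ : Nat.card Z = Nat.card (P ⊓ Subgroup.centralizer (P : Set G) : Subgroup G) := by
    rw [hZdef, ← Subgroup.inf_subgroupOf_right]
    exact Nat.card_congr (Subgroup.subgroupOfEquivOfLe inf_le_right).toEquiv
  -- cardinalities
  have hcard : Nat.card G * Nat.card Z = Nat.card P * Nat.card (Subgroup.centralizer (P : Set G)) := by
    have h := (mulHom P).ker.card_mul_index
    rw [Subgroup.index_ker, MonoidHom.range_eq_top.mpr (mulHom_surjective hG), Subgroup.card_top,
      card_ker_mulHom, ← hcardZ, Nat.card_prod, mul_comm] at h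
    exact h
  have hidxeq : P.index = Z.index := by
    have h1 := P.card_mul_index
    have h2 := Z.card_mul_index
    rw [← h1, ← h2] at hcard
    have : Nat.card P * Nat.card Z * P.index = Nat.card P * Nat.card Z * Z.index := by
      calc Nat.card P * Nat.card Z * P.index = Nat.card P * P.index * Nat.card Z := by ring
        _ = Nat.card P * (Nat.card Z * Z.index) := hcard
        _ = _ := by ring
    exact Nat.eq_of_mul_eq_mul_left (Nat.mul_pos Nat.card_pos Nat.card_pos) this
  have hCidx : ∃ k : ℕ, (Subgroup.centralizer (P : Set G)).index = p ^ k := by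
    have h1 := (Subgroup.centralizer (P : Set G)).card_mul_index
    rw [← h1] at hcard
    have h2 : (Subgroup.centralizer (P : Set G)).index * Nat.card Z = Nat.card P :=
      Nat.eq_of_mul_eq_mul_left (Nat.card_pos (α := Subgroup.centralizer (P : Set G))) (by
        rw [mul_comm _ (Nat.card P), ← hcard, mul_assoc])
    obtain ⟨n, hn⟩ := IsPGroup.iff_card.mp hP
    obtain ⟨k, -, hk⟩ := (Nat.dvd_prime_pow hp.out).mp (hn ▸ Dvd.intro _ h2)
    exact ⟨k, hk⟩
  have hreg : ∀ g : G, ¬ p ∣ orderOf g → g ∈ Subgroup.centralizer (P : Set G) := fun g hg =>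
    mem_centralizer_of_regular hCidx hg
  -- the factors
  choose nu gam hfac using exists_factors (P := P) hG
  have hdeg : ∀ χ : IrrCharacter G,
      (χ : G → ℂ) 1 = (nu χ : P → ℂ) 1 * (gam χ : Subgroup.centralizer (P : Set G) → ℂ) 1 := fun χ => by
    simpa using hfac χ 1 1
  have hsplit : ∀ g : G, ∃ (x : P) (c : Subgroup.centralizer (P : Set G)), (x : G) * (c : G) = g :=
    fun g => by obtain ⟨⟨x, c⟩, h⟩ := mulHom_surjective hG g; exact ⟨x, c, h⟩
  have hext : ∀ χ χ' : IrrCharacter G, nu χ = nu χ' → gam χ = gam χ' → χ = χ' := by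
    intro χ χ' h1 h2
    refine Subtype.ext (funext fun g => ?_)
    obtain ⟨x, c, rfl⟩ := hsplit g
    rw [hfac, hfac, h1, h2]
  have huniq : ∀ (χ : IrrCharacter G) (ν : IrrCharacter P)
      (γ : IrrCharacter (Subgroup.centralizer (P : Set G))),
      (∀ (x : P) (c : Subgroup.centralizer (P : Set G)),
        (χ : G → ℂ) ((x : G) * (c : G)) = (ν : P → ℂ) x * (γ : Subgroup.centralizer (P : Set G) → ℂ) c) →
      nu χ = ν ∧ gam χ = γ := by
    intro χ ν γ h
    exact ⟨eq_of_proportional (CfsgLib.Char.irr_one_ne_zero (gam χ).2) fun x => (hfac χ x 1).symm.trans (h x 1),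
      eq_of_proportional (CfsgLib.Char.irr_one_ne_zero (nu χ).2) fun c => by
        rw [mul_comm, ← hfac χ 1 c, h 1 c, mul_comm]⟩
  -- central characters agree
  have hlamEq : ∀ (χ : IrrCharacter G) (z : Subgroup.centralizer (P : Set G)) (hz : z ∈ Z),
      centScal (gam χ) z = centScal (nu χ) ⟨(z : G), Subgroup.mem_subgroupOf.mp hz⟩ := by
    intro χ z hz
    have h1 := hfac χ 1 z
    have h2 := hfac χ ⟨(z : G), Subgroup.mem_subgroupOf.mp hz⟩ 1
    simp only [OneMemClass.coe_one, one_mul, mul_one] at h1 h2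
    rw [centScal, centScal, div_eq_div_iff (CfsgLib.Char.irr_one_ne_zero (gam χ).2)
      (CfsgLib.Char.irr_one_ne_zero (nu χ).2), mul_comm, ← h1, h2]
  have hbom : ∀ (χ : IrrCharacter G) (c : Subgroup.centralizer (P : Set G)),
      bomega χ (zclass M (c : G)) = bomega (gam χ) (zclass M c) := by
    intro χ c
    rw [bomega_apply, bomega_apply]
    refine congrArg _ (Subtype.ext ?_)
    rw [coe_zomega_zclass, coe_zomega_zclass]
    have hover : classInner (fun n : Subgroup.centralizer (P : Set G) => (χ : G → ℂ) n)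
        (gam χ : Subgroup.centralizer (P : Set G) → ℂ) ≠ 0 := by
      have h : (fun n : Subgroup.centralizer (P : Set G) => (χ : G → ℂ) n) =
          (nu χ : P → ℂ) 1 • (gam χ : Subgroup.centralizer (P : Set G) → ℂ) := funext fun n => by
        simpa using hfac χ 1 n
      rw [h, CfsgLib.Char.classInner_smul_left, CfsgLib.Char.classInner_irr_self (gam χ).2, mul_one]
      exact CfsgLib.Char.irr_one_ne_zero (nu χ).2
    rw [centralChar_eq_icc_of_over χ.2 hover c.2,
      ← omega_classSum (CfsgLib.Char.isClassFunction_of_isIrr (gam χ).2),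
      ← omega_resIn_classSum (M := M)]
    refine congrArg _ (MonoidAlgebra.coeff_injective (Finsupp.ext fun h => ?_))
    simp only [resIn, AddMonoidHom.coe_mk, ZeroHom.coe_mk, coeff_ofFun, coe_zclass, classSum_coeff]
    refine if_congr ⟨fun hc => ?_, fun hc => ?_⟩ rfl rfl
    · obtain ⟨w, hw⟩ := isConj_iff.mp hc
      obtain ⟨x, d, rfl⟩ := hsplit w
      refine isConj_iff.mpr ⟨d, Subtype.ext ?_⟩
      have hxm : Commute (x : G) ((d * c * d⁻¹ : Subgroup.centralizer (P : Set G)) : G) :=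
        Subgroup.mem_centralizer_iff.mp (d * c * d⁻¹).2 _ x.2
      rw [← hw]
      simp only [Subgroup.coe_mul, Subgroup.coe_inv] at hxm ⊢
      rw [show (x : G) * (d : G) * (c : G) * ((x : G) * (d : G))⁻¹ =
        (x : G) * ((d : G) * (c : G) * (d : G)⁻¹) * (x : G)⁻¹ by group, hxm.eq, mul_inv_cancel_right]
    · obtain ⟨w, hw⟩ := isConj_iff.mp hc
      exact isConj_iff.mpr ⟨(w : G), congrArg Subtype.val hw⟩
  have hsameblock : ∀ χ χ' : IrrCharacter G,
      SameBlock M (χ : G → ℂ) (χ' : G → ℂ) ↔ SameBlock M (gam χ : Subgroup.centralizer (P : Set G) → ℂ) (gam χ' : Subgroup.centralizer (P : Set G) → ℂ) := by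
    intro χ χ'
    constructor
    · intro h
      refine sameBlock_of_regular hM fun c hc => ?_
      rw [← hbom, ← hbom, (sameBlock_iff χ χ').mp h]
    · intro h
      refine sameBlock_of_regular hM fun g hg => ?_
      have := (sameBlock_iff (gam χ) (gam χ')).mp h
      rw [show g = ((⟨g, hreg g hg⟩ : Subgroup.centralizer (P : Set G)) : G) from rfl, hbom, hbom, this]
  obtain ⟨χ₀, hχ₀⟩ := IsPBlock.nonempty hB
  set b := blockOf M (gam χ₀ : Subgroup.centralizer (P : Set G) → ℂ)
  have hb : IsPBlock M b := isPBlock_blockOf _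
  have hmem : ∀ χ : IrrCharacter G, χ ∈ B ↔ gam χ ∈ b := by
    intro χ
    rw [isPBlock_eq_blockOf hB hχ₀]
    exact hsameblock χ₀ χ
  -- a character trivial on `Z`
  obtain ⟨γ₁, hγ₁b, hγ₁⟩ := exists_mem_block_centScal hM hZp hZC hb (fun _ => 1) rfl (fun _ _ _ _ => by simp)
  obtain ⟨θ₁, hθ₁⟩ := exists_of_factors hG (CfsgLib.Char.irrOne : IrrCharacter P).2 γ₁.2 fun v hv => by
    have hv' : (v.1 : G) * (v.2 : G) = 1 := hv
    have hv2 : v.2 ∈ Z := Subgroup.mem_subgroupOf.mpr (by
      rw [eq_inv_of_mul_eq_one_right hv']; exact P.inv_mem v.1.2)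
    rw [centScal_eq_char (γ := γ₁) (z := v.2), hγ₁ _ hv2, one_mul]
    rfl
  have hθ₁' := huniq θ₁ _ _ hθ₁
  have hθ₁B : θ₁ ∈ B := (hmem θ₁).mpr (hθ₁'.2.symm ▸ hγ₁b)
  have hdP : (Nat.card P).factorization p = blockDefect p B := by
    rw [card_defectGroup hM hB hD, hp.out.factorization_pow, Finsupp.single_eq_same]
  have hPfac : (Nat.card G).factorization p = (Nat.card P).factorization p + P.index.factorization p := by
    rw [← P.card_mul_index, Nat.factorization_mul Nat.card_pos.ne' Subgroup.index_ne_zero_of_finite,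
      Finsupp.add_apply]
  have hCfac : (Nat.card (Subgroup.centralizer (P : Set G))).factorization p =
      (Nat.card Z).factorization p + Z.index.factorization p := by
    rw [← Z.card_mul_index, Nat.factorization_mul Nat.card_pos.ne' Subgroup.index_ne_zero_of_finite,
      Finsupp.add_apply]
  have hdegθ₁ : charDegree (θ₁ : G → ℂ) = charDegree (γ₁ : Subgroup.centralizer (P : Set G) → ℂ) := by
    have h := hdeg θ₁
    rw [hθ₁'.1, hθ₁'.2, charDegree_eq (CfsgLib.Char.isCharacter_of_isIrr θ₁.2),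
      CfsgLib.Char.irrOne_apply, one_mul, charDegree_eq (CfsgLib.Char.isCharacter_of_isIrr γ₁.2)] at h
    exact_mod_cast h
  have hγ₁deg : (charDegree (γ₁ : Subgroup.centralizer (P : Set G) → ℂ)).factorization p = Z.index.factorization p := by
    refine le_antisymm (degree_le_index_central hZC γ₁) ?_
    have h := degree_height hM hB hθ₁B
    rw [hdegθ₁] at h
    rw [← hidxeq]
    omega
  have hbZ : IsDefectGroup p M b Z := by
    have := isDefectGroup_central hM hZp hZC hγ₁deg
    rwa [← isPBlock_eq_blockOf hb hγ₁b] at this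
  have hbd : blockDefect p b = (Nat.card Z).factorization p := by
    rw [card_defectGroup hM hb hbZ, hp.out.factorization_pow, Finsupp.single_eq_same]
  have hall : ∀ γ ∈ b, (charDegree (γ : Subgroup.centralizer (P : Set G) → ℂ)).factorization p = Z.index.factorization p ∧
      blockHeight p b (γ : Subgroup.centralizer (P : Set G) → ℂ) = 0 := by
    intro γ hγ
    have h1 := degree_height hM hb hγ
    have h2 := degree_le_index_central (p := p) hZC γ
    omega
  have huniqγ : ∀ γ ∈ b, ∀ γ' ∈ b, (∀ z ∈ Z, centScal γ z = centScal γ' z) → γ = γ' := by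
    intro γ hγ γ' hγ' h
    have e := isPBlock_eq_blockOf hb hγ
    refine eq_of_centScal_eq hM hZp hZC ?_ ?_ (hall γ hγ).1 h
    · rw [← e]; exact hγ'
    · rw [← e]; exact (hall γ' hγ').2
  have hnu1 : ∀ θ : IrrCharacter G, (∀ x ∈ P, (θ : G → ℂ) x = (θ : G → ℂ) 1) →
      nu θ = CfsgLib.Char.irrOne := by
    intro θ h
    refine eq_of_proportional (CfsgLib.Char.irr_one_ne_zero (gam θ).2) (a' := (θ : G → ℂ) 1) fun x => ?_
    rw [CfsgLib.Char.irrOne_apply, one_mul, ← h x x.2, ← hfac θ x 1, OneMemClass.coe_one, mul_one]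
  suffices hbij : Function.Bijective (fun χ : B => nu χ.1) by
    refine ⟨⟨θ₁, ⟨hθ₁B, fun x hx => ?_⟩, fun θ ⟨hθB, hθ⟩ => ?_⟩, fun θ hθB hθ => ?_, ?_, fun ν => ?_⟩
    · have h1 := hθ₁ ⟨x, hx⟩ 1
      simp only [OneMemClass.coe_one, mul_one, CfsgLib.Char.irrOne_apply, one_mul] at h1
      rw [h1, hdeg θ₁, hθ₁'.1, hθ₁'.2, CfsgLib.Char.irrOne_apply, one_mul]
    · refine hext θ θ₁ ((hnu1 θ hθ).trans hθ₁'.1.symm) ?_
      refine huniqγ _ ((hmem θ).mp hθB) _ ((hmem θ₁).mp hθ₁B) fun z hz => ?_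
      rw [hlamEq θ z hz, hlamEq θ₁ z hz, hnu1 θ hθ, hθ₁'.1]
    · have h := hdeg θ
      rw [hnu1 θ hθ, CfsgLib.Char.irrOne_apply, one_mul,
        charDegree_eq (CfsgLib.Char.isCharacter_of_isIrr θ.2),
        charDegree_eq (CfsgLib.Char.isCharacter_of_isIrr (gam θ).2)] at h
      rw [show charDegree (θ : G → ℂ) = charDegree (gam θ : Subgroup.centralizer (P : Set G) → ℂ) from
          Nat.cast_injective h,
        (hall _ ((hmem θ).mp hθB)).1, hidxeq]
    · rw [← CfsgLib.Char.card_irr_eq_card_conjClasses (G := P)]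
      exact Nat.card_eq_of_bijective _ hbij
    · obtain ⟨⟨χ, hχ⟩, hνeq⟩ := hbij.2 ν
      refine ⟨χ, hχ, ?_⟩
      have h := hdeg χ
      rw [show nu χ = ν from hνeq, charDegree_eq (CfsgLib.Char.isCharacter_of_isIrr χ.2),
        charDegree_eq (CfsgLib.Char.isCharacter_of_isIrr ν.2),
        charDegree_eq (CfsgLib.Char.isCharacter_of_isIrr (gam χ).2), ← Nat.cast_mul] at h
      rw [Nat.cast_injective h, Nat.factorization_mul (charDegree_ne_zero ν) (charDegree_ne_zero _),
        Finsupp.add_apply, (hall _ ((hmem χ).mp hχ)).1, hidxeq]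
  refine ⟨fun χ χ' h => ?_, fun ν => ?_⟩
  · refine Subtype.ext (hext _ _ h (huniqγ _ ((hmem _).mp χ.2) _ ((hmem _).mp χ'.2) fun z hz => ?_))
    rw [hlamEq _ z hz, hlamEq _ z hz]
    exact congrArg (fun ν : IrrCharacter P => centScal ν _) h
  · set lam : Subgroup.centralizer (P : Set G) → ℂ := fun c =>
      if hc : (c : G) ∈ P then centScal ν ⟨(c : G), hc⟩ else 0
    have hzc : ∀ c : Subgroup.centralizer (P : Set G), ∀ hc : (c : G) ∈ P,
        (⟨(c : G), hc⟩ : P) ∈ Subgroup.center P := fun c hc =>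
      Subgroup.mem_center_iff.mpr fun w => Subtype.ext (Subgroup.mem_centralizer_iff.mp c.2 _ w.2)
    obtain ⟨γ, hγb, hγ⟩ := exists_mem_block_centScal hM hZp hZC hb lam
      (by
        simp only [lam, OneMemClass.coe_one, dif_pos P.one_mem]
        exact centScal_one ν)
      (fun z hz w hw => by
        simp only [lam, dif_pos (Subgroup.mem_subgroupOf.mp hz), dif_pos (Subgroup.mem_subgroupOf.mp hw),
          dif_pos (Subgroup.mem_subgroupOf.mp (Z.mul_mem hz hw))]
        rw [← centScal_mul ν (hzc z (Subgroup.mem_subgroupOf.mp hz))]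
        rfl)
    obtain ⟨χ, hχ⟩ := exists_of_factors hG ν.2 γ.2 fun v hv => by
      have hv' : (v.1 : G) * (v.2 : G) = 1 := hv
      have hv2 : (v.2 : G) ∈ P := by rw [eq_inv_of_mul_eq_one_right hv']; exact P.inv_mem v.1.2
      rw [centScal_eq_char (γ := γ) (z := v.2), hγ _ (Subgroup.mem_subgroupOf.mpr hv2)]
      simp only [lam, dif_pos hv2]
      have e1 : v.1 = (⟨(v.2 : G), hv2⟩ : P)⁻¹ := Subtype.ext (eq_inv_of_mul_eq_one_left hv')
      rw [e1, centScal_eq_char (γ := ν) (z := (⟨(v.2 : G), hv2⟩ : P)⁻¹), ← conj_centScal]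
      linear_combination ((ν : P → ℂ) 1 * (γ : Subgroup.centralizer (P : Set G) → ℂ) 1) *
        conj_centScal_mul_self ν (hzc v.2 hv2)
    obtain ⟨h1, h2⟩ := huniq χ ν γ hχ
    exact ⟨⟨χ, (hmem χ).mpr (h2.symm ▸ hγb)⟩, h1⟩

/-- Blocks of `P C(P)` with defect group `P`. -/
theorem central_product_block (hM : IsPModular p M) {P : Subgroup G} (hP : IsPGroup p P)
    (hG : P ⊔ Subgroup.centralizer (P : Set G) = ⊤) {B : Set (IrrCharacter G)} (hB : IsPBlock M B)
    (hD : IsDefectGroup p M B P) :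
    (∃! θ : IrrCharacter G, θ ∈ B ∧ ∀ x ∈ P, (θ : G → ℂ) x = (θ : G → ℂ) 1) ∧
      (∀ θ ∈ B, (∀ x ∈ P, (θ : G → ℂ) x = (θ : G → ℂ) 1) →
        (charDegree (θ : G → ℂ)).factorization p = P.index.factorization p) ∧
      Nat.card B = Nat.card (ConjClasses P) :=
  let h := central_product_block_degrees hM hP hG hB hD
  ⟨h.1, h.2.1, h.2.2.1⟩

end CfsgLib.Blocks
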