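import Cfsg.Agent.Lib.Blocks.Induced
import Cfsg.Agent.Lib.Blocks.Defect
import Cfsg.Agent.Lib.Blocks.Heights
import Cfsg.Agent.Lib.Char.Ito

/-!
# Fong–Reynolds: blocks over a block of a normal subgroup and its stabilizer

* `exists_ind_eq`: a character of the stabilizer over `b` induces irreducibly;
* `eq_of_constituent`: it is the only constituent over `b` of the induced character;
* `exists_trace_Zint`: every central element of the stabilizer transfers to one of `G` with the same central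
  character values on such pairs;
* `exists_induced`, `induced_inj`, `exists_inducing`: the bijection of blocks;
* `defect_of_induced`: defect groups and heights are preserved.
-/

set_option autoImplicit false

noncomputable section

namespace CfsgLib.Blocks.FongReynolds

open Cfsg CfsgLib.CharNormal
open scoped ComplexConjugate

variable {M : Ideal AlgInt} [M.IsMaximal] {G : Type*} [Group G] [Fintype G] (N : Subgroup G) [hN : N.Normal]
  [Fintype N] (T : Subgroup G) [Fintype T] (hNT : N ≤ T) {b : Set (IrrCharacter N)}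

/-- Multiplicity of `θ` in the restriction of a function on `T`. -/
def mul' (ψ : T → ℂ) (θ : N → ℂ) : ℂ := classInner (fun n : N => ψ ⟨(n : G), hNT n.2⟩) θ

/-- The hypotheses on the stabilizer. -/
structure Stab (b : Set (IrrCharacter N)) : Prop where
  inv : ∀ g ∈ T, ∀ θ ∈ b, conjIrr N g θ ∈ b
  fix : ∀ g : G, ∀ θ ∈ b, conjIrr N g θ ∈ b → g ∈ T

omit [Fintype G] [M.IsMaximal] [Fintype T] in
/-- The stabilizer as in the statements. -/
theorem stab_of_iff [M.IsMaximal] [Fintype G] (hb : IsPBlock M b)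
    (hT : ∀ g : G, g ∈ T ↔ ∀ θ ∈ b, ∀ θ' : Cfsg.IrrCharacter N,
      (∀ n : N, (θ' : N → ℂ) n = (θ : N → ℂ) ⟨g * n * g⁻¹, hN.conj_mem n n.2 g⟩) → θ' ∈ b) :
    Stab N T b where
  inv g hg θ hθ := (hT g).mp hg θ hθ (conjIrr N g θ) fun _ => rfl
  fix g θ₀ hθ₀ h := (hT g).mpr fun θ hθ θ' h' => by
    have e : θ' = conjIrr N g θ := Subtype.ext (funext h')
    rw [e]
    refine mem_of_bomega_eq hb h ((sameBlock_iff (conjIrr N g θ₀) (conjIrr N g θ)).mp ?_)
    exact sameBlock_conjFun ((sameBlock_iff θ₀ θ).mpr (bomega_eq_of_mem hb hθ₀ hθ)) g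

omit [Fintype G] [Fintype N] in
theorem mul'_eq_comp [Fintype N] (ψ : T → ℂ) (θ : N → ℂ) [Fintype (N.subgroupOf T)] :
    classInner (fun n : N.subgroupOf T => ψ n) (θ ∘ Subgroup.subgroupOfEquivOfLe hNT) = mul' N T hNT ψ θ := by
  rw [mul', ← CfsgLib.Char.classInner_comp_mulEquiv (Subgroup.subgroupOfEquivOfLe hNT)
    (fun n : N => ψ ⟨(n : G), hNT n.2⟩) θ]
  rfl

/-- Clifford inside the stabilizer: constituents are conjugate under `T`. -/
theorem exists_conj_mem {ψ : T → ℂ} (hψ : IsIrrCharacter T ψ) {θ φ : IrrCharacter N}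
    (h₁ : mul' N T hNT ψ θ ≠ 0) (h₂ : mul' N T hNT ψ φ ≠ 0) :
    ∃ g ∈ T, conjIrr N g θ = φ := by
  classical
  have : (N.subgroupOf T).Normal := hN.subgroupOf T
  let _ := Fintype.ofFinite (N.subgroupOf T)
  obtain ⟨g, hg⟩ := exists_conj_of_constituents (N.subgroupOf T) hψ
    (CfsgLib.CharNormal.isIrr_comp_mulEquiv θ.2 (Subgroup.subgroupOfEquivOfLe hNT))
    (CfsgLib.CharNormal.isIrr_comp_mulEquiv φ.2 (Subgroup.subgroupOfEquivOfLe hNT))
    (by rwa [mul'_eq_comp]) (by rwa [mul'_eq_comp])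
  refine ⟨g, g.2, Subtype.ext (funext fun n => ?_)⟩
  have h := congrFun hg ((Subgroup.subgroupOfEquivOfLe hNT).symm n)
  rw [Function.comp_apply, MulEquiv.apply_symm_apply] at h
  rw [← h]
  exact congrArg (θ : N → ℂ) (Subtype.ext rfl)

omit [Fintype G] in
theorem mul'_conj {ψ : T → ℂ} (hψ : IsClassFunction T ψ) {g : G} (hg : g ∈ T) (θ : N → ℂ) :
    mul' N T hNT ψ (conjFun N g θ) = mul' N T hNT ψ θ := by
  have e : conjFun N g (fun n : N => ψ ⟨(n : G), hNT n.2⟩) = fun n : N => ψ ⟨(n : G), hNT n.2⟩ :=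
    funext fun n => hψ ⟨(n : G), hNT n.2⟩ ⟨g, hg⟩
  rw [mul']
  conv_lhs => rw [← e]
  exact classInner_conjFun N g _ θ

omit [Fintype G] in
theorem exists_mul'_ne_zero {ψ : T → ℂ} (hψ : IsIrrCharacter T ψ) :
    ∃ θ : IrrCharacter N, mul' N T hNT ψ θ ≠ 0 :=
  let ⟨θ, hθ, h⟩ := CfsgLib.Char.exists_constituent
    (CfsgLib.Char.isCharacter_comp (CfsgLib.Char.isCharacter_of_isIrr hψ) (Subgroup.inclusion hNT))
    (fun h0 => CfsgLib.Char.irr_one_ne_zero hψ (congrFun h0 1))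
  ⟨⟨θ, hθ⟩, h⟩

variable {T N} (hS : Stab N T b)

include hS in
/-- Either all constituents lie in `b` or none. -/
theorem mem_of_mul' {ψ : T → ℂ} (hψ : IsIrrCharacter T ψ) {θ φ : IrrCharacter N}
    (h₁ : mul' N T hNT ψ θ ≠ 0) (h₂ : mul' N T hNT ψ φ ≠ 0) (hθ : θ ∈ b) : φ ∈ b := by
  obtain ⟨g, hg, rfl⟩ := exists_conj_mem N T hNT hψ h₁ h₂
  exact hS.inv g hg θ hθ

include hS in
/-- The degree bound: `|G : T| ψ(1) ≤ χ(1)` for every `χ` with the same multiplicity or more. -/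
theorem degree_bound {ψ : IrrCharacter T} {θ : IrrCharacter N} (hθ : θ ∈ b)
    (h : mul' N T hNT (ψ : T → ℂ) θ ≠ 0) {χ : IrrCharacter G}
    (hχ : classInner (indFun T (ψ : T → ℂ)) (χ : G → ℂ) ≠ 0) :
    indFun T (ψ : T → ℂ) = (χ : G → ℂ) ∧
      classInner (fun n : N => (χ : G → ℂ) n) (θ : N → ℂ) = mul' N T hNT (ψ : T → ℂ) θ := by
  classical
  have hψc := CfsgLib.Char.isCharacter_of_isIrr ψ.2
  have hχc := CfsgLib.Char.isCharacter_of_isIrr χ.2
  -- the constituent `ψ` of the restriction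
  have hψm : classInner (fun t : T => (χ : G → ℂ) t) (ψ : T → ℂ) ≠ 0 := by
    rw [← CfsgLib.Char.frobenius_reciprocity' T _ (CfsgLib.Char.isClassFunction_of_isIrr χ.2),
      ← CfsgLib.Char.classInner_conj_symm]
    exact fun h0 => hχ ((map_eq_zero _).mp h0)
  obtain ⟨a, hadec, ha⟩ := CfsgLib.Char.char_decomp (CfsgLib.Char.isCharacter_res T hχc)
  choose k hk using fun φ : IrrCharacter T => CfsgLib.Char.classInner_char_nat
    (CfsgLib.Char.isCharacter_comp (CfsgLib.Char.isCharacter_of_isIrr φ.2) (Subgroup.inclusion hNT))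
    (CfsgLib.Char.isCharacter_of_isIrr θ.2)
  have hk' : ∀ φ : IrrCharacter T, mul' N T hNT (φ : T → ℂ) θ = k φ := hk
  obtain ⟨e, he⟩ := CfsgLib.Char.classInner_char_nat (CfsgLib.Char.isCharacter_res N hχc)
    (CfsgLib.Char.isCharacter_of_isIrr θ.2)
  have hsum : ∑ φ, a φ * k φ = e := by
    have h1 : classInner (fun n : N => (χ : G → ℂ) n) (θ : N → ℂ) = ∑ φ, (a φ : ℂ) * k φ := by
      have : (fun n : N => (χ : G → ℂ) n) =
          ∑ φ : IrrCharacter T, (a φ : ℂ) • fun n : N => (φ : T → ℂ) ⟨(n : G), hNT n.2⟩ :=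
        funext fun n => by simpa [Finset.sum_apply] using congrFun hadec ⟨(n : G), hNT n.2⟩
      rw [this, CfsgLib.Char.classInner_sum_left]
      exact Finset.sum_congr rfl fun φ _ => by rw [CfsgLib.Char.classInner_smul_left, ← hk' φ]; rfl
    exact_mod_cast h1.symm.trans he
  have haψ : 1 ≤ a ψ := Nat.one_le_iff_ne_zero.mpr fun h0 => hψm (by rw [ha, h0, Nat.cast_zero])
  have hkle : k ψ ≤ e := hsum ▸ le_trans (Nat.le_mul_of_pos_left _ haψ)
    (Finset.single_le_sum (f := fun φ => a φ * k φ) (fun _ _ => Nat.zero_le _) (Finset.mem_univ ψ))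
  have hk0 : k ψ ≠ 0 := fun h0 => h (by rw [hk', h0, Nat.cast_zero])
  -- the orbit under the stabilizer
  set O : Finset (IrrCharacter N) := (orbit N θ).filter (· ∈ b) with hO
  have hOk : ∀ φ ∈ O, mul' N T hNT (ψ : T → ℂ) φ = k ψ := fun φ hφ => by
    obtain ⟨hφo, hφb⟩ := Finset.mem_filter.mp hφ
    obtain ⟨g, hg⟩ := (mem_orbit N).mp hφo
    have e' : conjIrr N g θ = φ := Subtype.ext hg
    rw [← hk' ψ, ← hg]
    exact mul'_conj N T hNT (CfsgLib.Char.isClassFunction_of_isIrr ψ.2) (hS.fix g θ hθ (e' ▸ hφb)) _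
  have hψ1 : (ψ : T → ℂ) 1 = (k ψ : ℂ) * O.card * (θ : N → ℂ) 1 := by
    have hdec := CfsgLib.Char.classFun_eq_sum (f := fun n : N => (ψ : T → ℂ) ⟨(n : G), hNT n.2⟩)
      (CfsgLib.Char.isClassFunction_of_isCharacter
        (CfsgLib.Char.isCharacter_comp hψc (Subgroup.inclusion hNT)))
    have h1 := congrFun hdec 1
    simp only [Finset.sum_apply, Pi.smul_apply, smul_eq_mul] at h1
    refine h1.trans ?_
    refine ((Finset.sum_subset (Finset.subset_univ O) fun φ _ hφ => ?_).symm).trans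
      ((Finset.sum_congr rfl (g := fun _ => (k ψ : ℂ) * (θ : N → ℂ) 1) fun φ hφ => ?_).trans ?_)
    rotate_left
    · obtain ⟨g, hg⟩ := (mem_orbit N).mp (Finset.mem_filter.mp hφ).1
      rw [← hOk φ hφ, ← hg, conjFun_apply_one]
      rfl
    · rw [Finset.sum_const, nsmul_eq_mul]; ring
    · by_contra hne
      obtain ⟨g, hg, rfl⟩ := exists_conj_mem N T hNT ψ.2 h (left_ne_zero_of_mul hne)
      exact hφ (Finset.mem_filter.mpr ⟨(mem_orbit N).mpr ⟨g, rfl⟩, hS.inv g hg θ hθ⟩)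
  have hcount : T.index * O.card ≤ (orbit N θ).card := by
    let _ := Fintype.ofFinite (G ⧸ T)
    rw [Subgroup.index, Nat.card_eq_fintype_card, ← Finset.card_univ, ← Finset.card_product]
    refine Finset.card_le_card_of_injOn (fun x => conjIrr N x.1.out⁻¹ x.2) (fun x hx => ?_) ?_
    · obtain ⟨c, hc⟩ := (mem_orbit N).mp (Finset.mem_filter.mp (Finset.mem_product.mp hx).2).1
      exact (mem_orbit N).mpr ⟨c * x.1.out⁻¹, by rw [conjIrr_coe, ← hc, conjFun_conjFun]⟩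
    · rintro ⟨x, φ⟩ hx ⟨y, φ'⟩ hy he
      have hφ := (Finset.mem_filter.mp (Finset.mem_product.mp hx).2).2
      have hφ' := (Finset.mem_filter.mp (Finset.mem_product.mp hy).2).2
      have he' : conjFun N x.out⁻¹ (φ : N → ℂ) = conjFun N y.out⁻¹ (φ' : N → ℂ) :=
        congrArg Subtype.val he
      have h1 : conjFun N (x.out⁻¹ * y.out) (φ : N → ℂ) = φ' := by
        rw [← conjFun_conjFun, he', conjFun_conjFun_inv]
      have hxy : x = y := by
        rw [← x.out_eq, ← y.out_eq]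
        exact QuotientGroup.eq.mpr (hS.fix _ φ hφ (by
          rw [show conjIrr N (x.out⁻¹ * y.out) φ = φ' from Subtype.ext h1]; exact hφ'))
      subst hxy
      rw [inv_mul_cancel, conjFun_one] at h1
      rw [show φ = φ' from Subtype.ext h1]
  have hχ1 : (χ : G → ℂ) 1 = (e : ℂ) * (orbit N θ).card * (θ : N → ℂ) 1 := by
    rw [degree_eq_mul_card_orbit N χ.2 θ (by
      rw [he]; exact_mod_cast (Nat.pos_of_ne_zero hk0).trans_le hkle |>.ne'), he]
  -- the induced character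
  obtain ⟨m, hmdec, hm⟩ := CfsgLib.Char.char_decomp (CfsgLib.Char.isCharacter_indFun (G := G) T hψc)
  have hmχ : 1 ≤ m χ := Nat.one_le_iff_ne_zero.mpr fun h0 => hχ (by rw [hm, h0, Nat.cast_zero])
  have hdeg : ∑ η : IrrCharacter G, m η * charDegree (η : G → ℂ) = T.index * (k ψ * O.card * charDegree (θ : N → ℂ)) := by
    have h1 := congrFun hmdec 1
    rw [CfsgLib.Char.indFun_one, hψ1, charDegree_eq (CfsgLib.Char.isCharacter_of_isIrr θ.2)] at h1
    simp only [Finset.sum_apply, Pi.smul_apply, smul_eq_mul] at h1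
    rw [Finset.sum_congr rfl fun η _ => by rw [charDegree_eq (CfsgLib.Char.isCharacter_of_isIrr η.2)]] at h1
    exact_mod_cast h1.symm
  have hχd : charDegree (χ : G → ℂ) = e * (orbit N θ).card * charDegree (θ : N → ℂ) := by
    rw [charDegree_eq (CfsgLib.Char.isCharacter_of_isIrr χ.2), charDegree_eq (CfsgLib.Char.isCharacter_of_isIrr θ.2)] at hχ1
    exact_mod_cast hχ1
  have hθpos : 0 < charDegree (θ : N → ℂ) := CfsgLib.CharBlocks.charDegree_pos θ.2
  have horb : 0 < (orbit N θ).card := Finset.card_pos.mpr ⟨θ, self_mem_orbit N θ⟩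
  have hle : T.index * (k ψ * O.card * charDegree (θ : N → ℂ)) ≤ k ψ * (orbit N θ).card * charDegree (θ : N → ℂ) := by
    calc T.index * (k ψ * O.card * charDegree (θ : N → ℂ))
        = k ψ * (T.index * O.card) * charDegree (θ : N → ℂ) := by ring
      _ ≤ _ := by gcongr
  have hsingle := Finset.add_sum_erase Finset.univ (fun η : IrrCharacter G => m η * charDegree (η : G → ℂ)) (Finset.mem_univ χ)
  rw [hdeg] at hsingle
  have hkd : k ψ * (orbit N θ).card * charDegree (θ : N → ℂ) ≤ charDegree (χ : G → ℂ) := by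
    rw [hχd]; gcongr
  have hmd : charDegree (χ : G → ℂ) ≤ m χ * charDegree (χ : G → ℂ) := Nat.le_mul_of_pos_left _ hmχ
  have hrest : ∑ η ∈ Finset.univ.erase χ, m η * charDegree (η : G → ℂ) = 0 := by omega
  have hm1 : m χ = 1 := by
    have hmm : m χ * charDegree (χ : G → ℂ) = charDegree (χ : G → ℂ) := by omega
    exact (Nat.mul_eq_right (CfsgLib.CharBlocks.charDegree_pos χ.2).ne').mp hmm
  refine ⟨?_, ?_⟩
  · rw [hmdec, Finset.sum_eq_single χ, hm1, Nat.cast_one, one_smul]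
    · intro η _ hne
      have h0 := (Finset.sum_eq_zero_iff.mp hrest) η (Finset.mem_erase.mpr ⟨hne, Finset.mem_univ _⟩)
      rw [(mul_eq_zero.mp h0).resolve_right (CfsgLib.CharBlocks.charDegree_pos η.2).ne', Nat.cast_zero, zero_smul]
    · simp
  · rw [he, hk']
    have : k ψ * (orbit N θ).card * charDegree (θ : N → ℂ) = e * (orbit N θ).card * charDegree (θ : N → ℂ) := by omega
    rw [Nat.eq_of_mul_eq_mul_right horb (Nat.eq_of_mul_eq_mul_right hθpos this)]

include hS in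
/-- Characters over `b` induce irreducibly. -/
theorem exists_ind_eq {ψ : IrrCharacter T} {θ : IrrCharacter N} (hθ : θ ∈ b)
    (h : mul' N T hNT (ψ : T → ℂ) θ ≠ 0) :
    ∃ χ : IrrCharacter G, (χ : G → ℂ) = indFun T (ψ : T → ℂ) ∧
      classInner (fun n : N => (χ : G → ℂ) n) (θ : N → ℂ) ≠ 0 := by
  obtain ⟨χ, hχ, hne⟩ := CfsgLib.Char.exists_constituent
    (CfsgLib.Char.isCharacter_indFun (G := G) T (CfsgLib.Char.isCharacter_of_isIrr ψ.2))
    (fun h0 => by
      have h1 := congrFun h0 1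
      rw [CfsgLib.Char.indFun_one, Pi.zero_apply] at h1
      exact mul_ne_zero (Nat.cast_ne_zero.mpr Subgroup.index_ne_zero_of_finite)
        (CfsgLib.Char.irr_one_ne_zero ψ.2) h1)
  obtain ⟨h1, h2⟩ := degree_bound hNT hS hθ h (χ := ⟨χ, hχ⟩) hne
  exact ⟨⟨χ, hχ⟩, h1.symm, by rw [h2]; exact h⟩

include hS in
/-- The restriction of the induced character has a single constituent over `b`. -/
theorem eq_of_constituent {ψ φ : IrrCharacter T} {χ : IrrCharacter G} {θ θ' : IrrCharacter N}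
    (hθ : θ ∈ b) (h : mul' N T hNT (ψ : T → ℂ) θ ≠ 0) (hχ : (χ : G → ℂ) = indFun T (ψ : T → ℂ))
    (hθ' : θ' ∈ b) (h' : mul' N T hNT (φ : T → ℂ) θ' ≠ 0)
    (hφ : classInner (fun t : T => (χ : G → ℂ) t) (φ : T → ℂ) ≠ 0) : φ = ψ := by
  classical
  have hχc := CfsgLib.Char.isClassFunction_of_isIrr χ.2
  have hind : indFun T (φ : T → ℂ) = (χ : G → ℂ) := by
    refine (degree_bound hNT hS hθ' h' (χ := χ) ?_).1
    rw [CfsgLib.Char.frobenius_reciprocity T _ hχc, ← CfsgLib.Char.classInner_conj_symm]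
    exact fun h0 => hφ ((map_eq_zero _).mp h0)
  -- both lie over `θ'` with the full multiplicity
  have hover : classInner (fun n : N => (χ : G → ℂ) n) (θ' : N → ℂ) ≠ 0 := by
    rw [(degree_bound hNT hS hθ' h' (χ := χ) (by
      rw [hind, CfsgLib.Char.classInner_irr_self χ.2]; exact one_ne_zero)).2]
    exact h'
  obtain ⟨hψχ, hψm⟩ := degree_bound hNT hS hθ h (χ := χ) (by
      rw [← hχ, CfsgLib.Char.classInner_irr_self χ.2]; exact one_ne_zero)
  obtain ⟨g, hg⟩ := exists_conj_of_constituents N χ.2 θ.2 θ'.2 (by rw [hψm]; exact h) hover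
  have hgT : g ∈ T := hS.fix g θ hθ (by
    rw [show conjIrr N g θ = θ' from Subtype.ext hg]; exact hθ')
  have hθψ : mul' N T hNT (ψ : T → ℂ) θ' ≠ 0 := by
    rw [← hg, mul'_conj N T hNT (CfsgLib.Char.isClassFunction_of_isIrr ψ.2) hgT]; exact h
  have hψ' := (degree_bound hNT hS hθ' hθψ (χ := χ) (by
    rw [← hχ, CfsgLib.Char.classInner_irr_self χ.2]; exact one_ne_zero)).2
  have hφ' := (degree_bound hNT hS hθ' h' (χ := χ) (by
    rw [hind, CfsgLib.Char.classInner_irr_self χ.2]; exact one_ne_zero)).2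
  by_contra hne
  obtain ⟨a, hadec, ha⟩ := CfsgLib.Char.char_decomp (CfsgLib.Char.isCharacter_res T
    (CfsgLib.Char.isCharacter_of_isIrr χ.2))
  have ha1 : ∀ η : IrrCharacter T, indFun T (η : T → ℂ) = (χ : G → ℂ) → (a η : ℂ) = 1 := fun η hη => by
    rw [← ha, ← CfsgLib.Char.frobenius_reciprocity' T _ hχc, hη, CfsgLib.Char.classInner_irr_self χ.2]
  choose k hk using fun η : IrrCharacter T => CfsgLib.Char.classInner_char_nat
    (CfsgLib.Char.isCharacter_comp (CfsgLib.Char.isCharacter_of_isIrr η.2) (Subgroup.inclusion hNT))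
    (CfsgLib.Char.isCharacter_of_isIrr θ'.2)
  have hk' : ∀ η : IrrCharacter T, mul' N T hNT (η : T → ℂ) θ' = k η := hk
  have hsum : classInner (fun n : N => (χ : G → ℂ) n) (θ' : N → ℂ) = ((∑ η, a η * k η : ℕ) : ℂ) := by
    have : (fun n : N => (χ : G → ℂ) n) =
        ∑ η : IrrCharacter T, (a η : ℂ) • fun n : N => (η : T → ℂ) ⟨(n : G), hNT n.2⟩ :=
      funext fun n => by simpa [Finset.sum_apply] using congrFun hadec ⟨(n : G), hNT n.2⟩
    rw [this, CfsgLib.Char.classInner_sum_left]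
    push_cast
    exact Finset.sum_congr rfl fun η _ => by rw [CfsgLib.Char.classInner_smul_left, ← hk' η]; rfl
  have h2 : a φ * k φ + a ψ * k ψ ≤ ∑ η, a η * k η := by
    have := Finset.sum_le_sum_of_subset (f := fun η => a η * k η) (Finset.subset_univ {φ, ψ})
    rwa [Finset.sum_pair hne] at this
  rw [hψ', hk'] at hsum
  rw [hψ', hk', hk'] at hφ'
  rw [show a φ = 1 by exact_mod_cast ha1 φ hind, show a ψ = 1 by exact_mod_cast ha1 ψ hψχ] at h2
  have hk1 : k φ ≠ 0 := fun h0 => h' (by rw [hk', h0, Nat.cast_zero])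
  have hsum' : k ψ = ∑ η, a η * k η := by exact_mod_cast hsum
  omega

variable (N T) (b) in
/-- The idempotent of `b`, inside the group algebra of `T`. -/
def eT : CA T := ofFun fun t : T => extendByZero N (blockCoeff b) (t : G)

include hS in
theorem eT_conj (t s : T) : (eT N T b).coeff (s * t * s⁻¹) = (eT N T b).coeff t := by
  classical
  simp only [eT, coeff_ofFun, Subgroup.coe_mul, Subgroup.coe_inv]
  by_cases ht : (t : G) ∈ N
  · rw [CfsgLib.Char.extendByZero_of_mem _ (hN.conj_mem _ ht s), CfsgLib.Char.extendByZero_of_mem _ ht]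
    show conjFun N (s : G) (blockCoeff b) ⟨t, ht⟩ = _
    rw [conjFun_apply, blockCoeff_eq, blockCoeff_eq]
    congr 1
    refine Finset.sum_bij' (fun φ _ => conjIrr N (s : G) φ) (fun φ _ => conjIrr N (s : G)⁻¹ φ) (by simp) (by simp)
      (fun φ _ => Subtype.ext (conjFun_inv_conjFun N _ _))
      (fun φ _ => Subtype.ext (conjFun_conjFun_inv N _ _)) (fun φ _ => ?_)
    have hiff : conjIrr N (s : G) φ ∈ b ↔ φ ∈ b := by
      refine ⟨fun h => ?_, hS.inv _ s.2 φ⟩
      have := hS.inv _ (inv_mem s.2) _ h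
      rwa [show conjIrr N (s : G)⁻¹ (conjIrr N (s : G) φ) = φ from
        Subtype.ext (conjFun_inv_conjFun N _ _)] at this
    by_cases hφ : φ ∈ b
    · rw [if_pos hφ, if_pos (hiff.mpr hφ), conjIrr_coe, conjFun_apply_one]
      rfl
    · rw [if_neg hφ, if_neg (fun h => hφ (hiff.mp h))]
  · rw [CfsgLib.Char.extendByZero_of_notMem _ ht, CfsgLib.Char.extendByZero_of_notMem]
    intro h'
    exact ht (by simpa [mul_assoc] using hN.conj_mem _ h' (s : G)⁻¹)

include hS hNT in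
theorem charLin_eT (φ : IrrCharacter T) :
    (∀ θ ∈ b, mul' N T hNT (φ : T → ℂ) θ = 0) ∧ charLin (φ : T → ℂ) (eT N T b) = 0 ∨
    (∃ θ ∈ b, mul' N T hNT (φ : T → ℂ) θ ≠ 0) ∧ charLin (φ : T → ℂ) (eT N T b) = (φ : T → ℂ) 1 := by
  classical
  set r := fun n : N => (φ : T → ℂ) ⟨(n : G), hNT n.2⟩ with hr
  have hdec := CfsgLib.Char.classFun_eq_sum (f := r) (CfsgLib.Char.isClassFunction_of_isCharacter
    (CfsgLib.Char.isCharacter_comp (CfsgLib.Char.isCharacter_of_isIrr φ.2) (Subgroup.inclusion hNT)))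
  have hval : charLin (φ : T → ℂ) (eT N T b) =
      ∑ η : IrrCharacter N, if η ∈ b then classInner r (η : N → ℂ) * (η : N → ℂ) 1 else 0 := by
    have h1 : charLin (φ : T → ℂ) (eT N T b) = ∑ n : N, blockCoeff b n * r n := by
      rw [charLin_apply, ← Finset.sum_subset (Finset.subset_univ (Finset.univ.image fun n : N => (⟨(n : G), hNT n.2⟩ : T))),
        Finset.sum_image fun x _ y _ h => Subtype.ext (Subtype.mk.inj h)]
      · refine Finset.sum_congr rfl fun n _ => ?_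
        simp only [eT, coeff_ofFun, CfsgLib.Char.extendByZero_coe, hr]
      · intro t _ ht
        have : (t : G) ∉ N := fun hn => ht (Finset.mem_image.mpr ⟨⟨t, hn⟩, Finset.mem_univ _, rfl⟩)
        simp only [eT, coeff_ofFun, CfsgLib.Char.extendByZero_of_notMem _ this, zero_mul]
    have h2 : ∀ η : IrrCharacter N, ∑ n : N, blockCoeff b n * (η : N → ℂ) n =
        if η ∈ b then (η : N → ℂ) 1 else 0 := fun η => by
      have h := omega_blockElt b η
      rw [omega, div_eq_iff (CfsgLib.Char.irr_one_ne_zero η.2)] at h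
      rw [charLin_apply] at h
      simp only [blockElt, coeff_ofFun] at h
      rw [h]
      split_ifs <;> simp
    rw [h1]
    conv_lhs => rw [hdec]
    simp only [Finset.sum_apply, Pi.smul_apply, smul_eq_mul, Finset.mul_sum]
    rw [Finset.sum_comm]
    refine Finset.sum_congr rfl fun η _ => ?_
    rw [Finset.sum_congr rfl fun n _ => mul_left_comm _ _ _, ← Finset.mul_sum, h2]
    split_ifs <;> simp
  by_cases hc : ∃ θ ∈ b, mul' N T hNT (φ : T → ℂ) θ ≠ 0
  · obtain ⟨θ, hθ, hne⟩ := hc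
    refine Or.inr ⟨⟨θ, hθ, hne⟩, ?_⟩
    have h1 := congrFun hdec 1
    simp only [Finset.sum_apply, Pi.smul_apply, smul_eq_mul] at h1
    rw [hval]
    refine (Finset.sum_congr rfl fun η _ => ?_).trans h1.symm
    by_cases hη : classInner r (η : N → ℂ) = 0
    · rw [hη]; simp
    · rw [if_pos (mem_of_mul' hNT hS φ.2 hne hη hθ)]
  · push Not at hc
    refine Or.inl ⟨hc, ?_⟩
    rw [hval]
    refine Finset.sum_eq_zero fun η _ => ?_
    split_ifs with hη
    · rw [show classInner r (η : N → ℂ) = 0 from hc η hη, zero_mul]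
    · rfl

variable (hb : IsPBlock M b)

include hS hb in
theorem eT_mem : eT N T b ∈ Zint M T := by
  classical
  refine mem_Zint_iff.mpr ⟨fun t => ?_, eT_conj hS⟩
  simp only [eT, coeff_ofFun]
  by_cases ht : (t : G) ∈ N
  · rw [CfsgLib.Char.extendByZero_of_mem _ ht]; exact blockCoeff_mem_locRing hb _
  · rw [CfsgLib.Char.extendByZero_of_notMem _ ht]; exact Subring.zero_mem _

include hS hb hNT in
/-- Covering `b` only depends on the block. -/
theorem covers_of_sameBlock {B' : Set (IrrCharacter T)} (hB' : IsPBlock M B')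
    (hcov : ∃ ψ ∈ B', ∃ θ ∈ b, mul' N T hNT (ψ : T → ℂ) θ ≠ 0) {φ : IrrCharacter T} (hφ : φ ∈ B') :
    ∃ θ ∈ b, mul' N T hNT (φ : T → ℂ) θ ≠ 0 := by
  obtain ⟨ψ, hψ, θ, hθ, hne⟩ := hcov
  let e : Zint M T := ⟨eT N T b, eT_mem hS hb⟩
  have hψ1 : zomega ψ e = 1 := Subtype.ext (by
    rw [coe_zomega, omega]
    rcases charLin_eT hNT hS ψ with ⟨h0, -⟩ | ⟨-, h1⟩
    · exact absurd (h0 θ hθ) hne
    · rw [h1, div_self (CfsgLib.Char.irr_one_ne_zero ψ.2)]; rfl)
  rcases charLin_eT hNT hS φ with ⟨-, h1⟩ | ⟨h0, -⟩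
  · have hφ0 : zomega φ e = 0 := Subtype.ext (by rw [coe_zomega, omega, h1, zero_div]; rfl)
    have h := bomega_eq_of_mem hB' hψ hφ
    have h' := congrArg (fun f => f e) h
    simp only [bomega_apply, hψ1, hφ0, map_one, map_zero] at h'
    exact absurd h' one_ne_zero
  · exact h0

/-- An average over a function invariant on cosets is a sum over cosets. -/
theorem indFun_mem {c : T → ℂ} (hc : IsClassFunction T c) (hint : ∀ t, c t ∈ locRing M) (g : G) :
    indFun T c g ∈ locRing M := by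
  classical
  let _ := Fintype.ofFinite (G ⧸ T)
  set F : G → ℂ := fun x => extendByZero T c (x⁻¹ * g * x) with hF
  have hinv : ∀ (x : G) (t : T), F (x * t) = F x := fun x t => by
    simp only [hF, mul_inv_rev]
    by_cases hx : x⁻¹ * g * x ∈ T
    · rw [show (t : G)⁻¹ * x⁻¹ * g * (x * t) = (t : G)⁻¹ * (x⁻¹ * g * x) * t by group,
        CfsgLib.Char.extendByZero_of_mem _ hx,
        CfsgLib.Char.extendByZero_of_mem _ (mul_mem (mul_mem (inv_mem t.2) hx) t.2)]
      have := hc ⟨_, hx⟩ t⁻¹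
      rw [inv_inv] at this
      exact (congrArg c (Subtype.ext rfl)).trans this
    · rw [show (t : G)⁻¹ * x⁻¹ * g * (x * t) = (t : G)⁻¹ * (x⁻¹ * g * x) * t by group,
        CfsgLib.Char.extendByZero_of_notMem _ hx, CfsgLib.Char.extendByZero_of_notMem]
      intro h
      exact hx (by simpa [mul_assoc] using mul_mem (mul_mem t.2 h) (inv_mem t.2))
  have hsum : ∑ x : G, F x = (Nat.card T : ℂ) * ∑ q : G ⧸ T, F q.out := by
    rw [← Equiv.sum_comp (Subgroup.groupEquivQuotientProdSubgroup (s := T)).symm, Fintype.sum_prod_type,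
      Finset.mul_sum]
    refine Finset.sum_congr rfl fun q _ => ?_
    rw [Nat.card_eq_fintype_card, ← Finset.card_univ, ← nsmul_eq_mul, ← Finset.sum_const]
    refine Finset.sum_congr rfl fun t _ => ?_
    obtain ⟨t', ht'⟩ := QuotientGroup.mk_out_eq_mul T
      ((Subgroup.groupEquivQuotientProdSubgroup (s := T)).symm (q, t))
    have hq : ((Subgroup.groupEquivQuotientProdSubgroup (s := T)).symm (q, t) : G ⧸ T) = q := by
      conv_rhs => rw [show q = ((Subgroup.groupEquivQuotientProdSubgroup (s := T))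
        ((Subgroup.groupEquivQuotientProdSubgroup (s := T)).symm (q, t))).1 by rw [Equiv.apply_symm_apply]]
      rfl
    rw [hq] at ht'
    rw [ht', hinv]
  rw [CfsgLib.Char.indFun_apply, show ∑ x : G, extendByZero T c (x⁻¹ * g * x) = _ from hsum,
    inv_mul_cancel_left₀ (CfsgLib.Char.card_subgroup_ne_zero T)]
  refine Subring.sum_mem _ fun q _ => ?_
  simp only [hF]
  by_cases hx : q.out⁻¹ * g * q.out ∈ T
  · rw [CfsgLib.Char.extendByZero_of_mem _ hx]; exact hint _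
  · rw [CfsgLib.Char.extendByZero_of_notMem _ hx]; exact Subring.zero_mem _

include hS hb hNT in
/-- Central elements of the stabilizer transfer to `G`. -/
theorem exists_trace_Zint (a : Zint M T) : ∃ a' : Zint M G, ∀ (ψ : IrrCharacter T) (χ : IrrCharacter G),
    (∃ θ ∈ b, mul' N T hNT (ψ : T → ℂ) θ ≠ 0) → (χ : G → ℂ) = indFun T (ψ : T → ℂ) →
      zomega χ a' = zomega ψ a := by
  classical
  let e : Zint M T := ⟨eT N T b, eT_mem hS hb⟩
  set c : T → ℂ := fun t => ((a * e : Zint M T) : CA T).coeff t with hcdef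
  have hc : IsClassFunction T c := fun g h => (mem_Zint_iff.mp (a * e).2).2 g h
  refine ⟨⟨ofFun (indFun T c), mem_Zint_iff.mpr ⟨fun g => indFun_mem hc (mem_Zint_iff.mp (a * e).2).1 g,
    fun g h => CfsgLib.Char.isClassFunction_indFun T c g h⟩⟩, fun ψ χ hψ hχ => ?_⟩
  obtain ⟨θ, hθ, hne⟩ := hψ
  refine Subtype.ext ?_
  rw [coe_zomega, coe_zomega, omega, show charLin (χ : G → ℂ) (ofFun (indFun T c)) =
      ∑ g : G, indFun T c g * (χ : G → ℂ) g from rfl]
  have h1 : ∑ g : G, indFun T c g * (χ : G → ℂ) g = (T.index : ℂ) * ∑ t : T, c t * (χ : G → ℂ) t := by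
    have hf := CfsgLib.Char.frobenius_reciprocity T c (χ := fun g => conj ((χ : G → ℂ) g))
      (fun g h => by show conj _ = conj _; rw [CfsgLib.Char.isClassFunction_of_isIrr χ.2 g h])
    rw [CfsgLib.Char.classInner_def, CfsgLib.Char.classInner_def] at hf
    simp only [Complex.conj_conj] at hf
    rw [inv_mul_eq_iff_eq_mul₀ CfsgLib.Char.card_ne_zero', ← T.index_mul_card, Nat.cast_mul] at hf
    rw [hf, ← mul_assoc, mul_inv_cancel_right₀ (CfsgLib.Char.card_subgroup_ne_zero T)]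
  obtain ⟨m, hmdec, hm⟩ := CfsgLib.Char.char_decomp (CfsgLib.Char.isCharacter_res T
    (CfsgLib.Char.isCharacter_of_isIrr χ.2))
  have h2 : ∑ t : T, c t * (χ : G → ℂ) t = omega (ψ : T → ℂ) (a : CA T) * (ψ : T → ℂ) 1 := by
    have h3 : ∀ t : T, (χ : G → ℂ) t = ∑ φ : IrrCharacter T, (m φ : ℂ) * (φ : T → ℂ) t := fun t => by
      simpa [Finset.sum_apply] using congrFun hmdec t
    simp only [h3, Finset.mul_sum]
    rw [Finset.sum_comm, Finset.sum_congr rfl fun φ _ => show ∑ t : T, c t * ((m φ : ℂ) * (φ : T → ℂ) t) =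
      (m φ : ℂ) * (omega (φ : T → ℂ) (a : CA T) * charLin (φ : T → ℂ) (eT N T b)) by
      rw [← charLin_mul_of_central φ.2 (Zint_center a), charLin_apply, Finset.mul_sum]
      exact Finset.sum_congr rfl fun t _ => mul_left_comm _ _ _, Finset.sum_eq_single ψ]
    · have hmψ : (m ψ : ℂ) = 1 := by
        rw [← hm, ← CfsgLib.Char.frobenius_reciprocity' T _ (CfsgLib.Char.isClassFunction_of_isIrr χ.2),
          ← hχ, CfsgLib.Char.classInner_irr_self χ.2]
      rcases charLin_eT hNT hS ψ with ⟨h0, -⟩ | ⟨-, h4⟩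
      · exact absurd (h0 θ hθ) hne
      · rw [hmψ, h4, one_mul]
    · intro φ _ hφ
      rcases charLin_eT hNT hS φ with ⟨-, h4⟩ | ⟨⟨θ', hθ', hne'⟩, -⟩
      · rw [h4, mul_zero, mul_zero]
      · by_contra h5
        refine hφ (eq_of_constituent hNT hS hθ hne hχ hθ' hne' ?_)
        rw [hm]
        exact left_ne_zero_of_mul h5
    · simp
  rw [h1, h2, congrFun hχ 1, CfsgLib.Char.indFun_one]
  have hi : (T.index : ℂ) ≠ 0 := Nat.cast_ne_zero.mpr Subgroup.index_ne_zero_of_finite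
  have hψ1 := CfsgLib.Char.irr_one_ne_zero ψ.2
  field_simp

include hS hb hNT in
/-- Induced characters in one block come from one block. -/
theorem bomega_eq_of_ind {ψ₁ ψ₂ : IrrCharacter T} {χ₁ χ₂ : IrrCharacter G}
    (h₁ : ∃ θ ∈ b, mul' N T hNT (ψ₁ : T → ℂ) θ ≠ 0) (h₂ : ∃ θ ∈ b, mul' N T hNT (ψ₂ : T → ℂ) θ ≠ 0)
    (e₁ : (χ₁ : G → ℂ) = indFun T (ψ₁ : T → ℂ)) (e₂ : (χ₂ : G → ℂ) = indFun T (ψ₂ : T → ℂ))
    (h : bomega (M := M) χ₁ = bomega χ₂) : bomega (M := M) ψ₁ = bomega ψ₂ := by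
  refine RingHom.ext fun a => ?_
  obtain ⟨a', ha⟩ := exists_trace_Zint hNT hS hb a
  have h' := congrArg (fun f => f a') h
  simp only [bomega_apply, ha ψ₁ χ₁ h₁ e₁, ha ψ₂ χ₂ h₂ e₂] at h'
  simpa only [bomega_apply] using h'

/-- The central character of an induced character on restricted central elements. -/
theorem bomega_link {ψ : IrrCharacter T} {χ : IrrCharacter G} (hχ : (χ : G → ℂ) = indFun T (ψ : T → ℂ))
    (a : Zint M G) : bomega ψ (resZ T M a) = bomega χ a :=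
  bomega_resZ_eq T M (fun g => (bomega_rclass_eq_iff' T M ψ χ g).mpr (by
    rw [icc_eq_centralChar_indFun, ← hχ, sub_self]
    exact (res_eq_zero_iff M 0).mp (map_zero _))) a

/-- The induced character sits in the induced block. -/
theorem ind_mem {B' : Set (IrrCharacter T)} {B : Set (IrrCharacter G)} (h : IsInducedBlock M T B' B)
    {ψ : IrrCharacter T} (hψ : ψ ∈ B') {χ : IrrCharacter G} (hχ : (χ : G → ℂ) = indFun T (ψ : T → ℂ)) :
    χ ∈ B := by
  obtain ⟨η, hη⟩ := IsPBlock.nonempty h.2.1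
  exact mem_of_bomega_eq h.2.1 hη (RingHom.ext fun a =>
    (bomega_resZ_of_isInduced h hψ hη a).symm.trans (bomega_link hχ a))

include hS hb hNT in
theorem induced_inj {B₁ B₂ : Set (IrrCharacter T)} (hB₁ : IsPBlock M B₁) (hB₂ : IsPBlock M B₂)
    (h₁ : ∃ ψ ∈ B₁, ∃ θ ∈ b, mul' N T hNT (ψ : T → ℂ) θ ≠ 0)
    (h₂ : ∃ ψ ∈ B₂, ∃ θ ∈ b, mul' N T hNT (ψ : T → ℂ) θ ≠ 0)
    {B : Set (IrrCharacter G)} (i₁ : IsInducedBlock M T B₁ B) (i₂ : IsInducedBlock M T B₂ B) : B₁ = B₂ := by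
  obtain ⟨ψ₁, hψ₁, θ₁, hθ₁, hne₁⟩ := h₁
  obtain ⟨ψ₂, hψ₂, θ₂, hθ₂, hne₂⟩ := h₂
  obtain ⟨χ₁, e₁, -⟩ := exists_ind_eq hNT hS hθ₁ hne₁
  obtain ⟨χ₂, e₂, -⟩ := exists_ind_eq hNT hS hθ₂ hne₂
  have h := bomega_eq_of_ind hNT hS hb ⟨θ₁, hθ₁, hne₁⟩ ⟨θ₂, hθ₂, hne₂⟩ e₁ e₂
    (bomega_eq_of_mem i₁.2.1 (ind_mem i₁ hψ₁ e₁) (ind_mem i₂ hψ₂ e₂))
  exact isPBlock_eq_of_mem hB₁ hB₂ hψ₁ (mem_of_bomega_eq hB₂ hψ₂ h.symm)

include hS hb in
/-- Every member of a covering block of `G` has a constituent in `b`. -/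
theorem exists_over_b {B : Set (IrrCharacter G)} (hB : IsPBlock M B)
    (hcov : ∃ χ ∈ B, ∃ θ ∈ b, classInner (fun n : N => (χ : G → ℂ) n) (θ : N → ℂ) ≠ 0)
    {χ : IrrCharacter G} (hχ : χ ∈ B) : ∃ θ ∈ b, classInner (fun n : N => (χ : G → ℂ) n) (θ : N → ℂ) ≠ 0 := by
  obtain ⟨χ₀, hχ₀, θ₀, hθ₀, hne₀⟩ := hcov
  obtain ⟨θ, hθ⟩ := exists_over (N := N) χ.2
  obtain ⟨g, hg⟩ := exists_conj_sameBlock_of_congr (M := M) χ.2 hθ (θ' := θ₀) fun n => by
    rw [← centralChar_eq_icc_of_over χ₀.2 hne₀ n.2]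
    exact (sameBlock_iff χ χ₀).mpr (bomega_eq_of_mem hB hχ hχ₀) n
  refine ⟨conjIrr N g θ, mem_of_bomega_eq hb hθ₀ ((sameBlock_iff (conjIrr N g θ) θ₀).mp hg).symm, ?_⟩
  rw [conjIrr_coe, classInner_res_conjFun N (CfsgLib.Char.isClassFunction_of_isIrr χ.2)]
  exact hθ

include hS hb in
/-- A character over `b` is induced from the stabilizer. -/
theorem exists_constituent_over (hNT : N ≤ T) {χ : IrrCharacter G} {θ : IrrCharacter N} (hθ : θ ∈ b)
    (hne : classInner (fun n : N => (χ : G → ℂ) n) (θ : N → ℂ) ≠ 0) :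
    ∃ ψ : IrrCharacter T, mul' N T hNT (ψ : T → ℂ) θ ≠ 0 ∧ (χ : G → ℂ) = indFun T (ψ : T → ℂ) := by
  classical
  obtain ⟨a, hadec, ha⟩ := CfsgLib.Char.char_decomp (CfsgLib.Char.isCharacter_res T
    (CfsgLib.Char.isCharacter_of_isIrr χ.2))
  have h1 : classInner (fun n : N => (χ : G → ℂ) n) (θ : N → ℂ) =
      ∑ φ : IrrCharacter T, (a φ : ℂ) * mul' N T hNT (φ : T → ℂ) θ := by
    have : (fun n : N => (χ : G → ℂ) n) =
        ∑ φ : IrrCharacter T, (a φ : ℂ) • fun n : N => (φ : T → ℂ) ⟨(n : G), hNT n.2⟩ :=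
      funext fun n => by simpa [Finset.sum_apply] using congrFun hadec ⟨(n : G), hNT n.2⟩
    rw [this, CfsgLib.Char.classInner_sum_left]
    exact Finset.sum_congr rfl fun φ _ => CfsgLib.Char.classInner_smul_left _
  obtain ⟨ψ, -, hψ⟩ := Finset.exists_ne_zero_of_sum_ne_zero (h1 ▸ hne)
  obtain ⟨haψ, hm⟩ := mul_ne_zero_iff.mp hψ
  refine ⟨ψ, hm, (degree_bound hNT hS hθ hm (χ := χ) ?_).1.symm⟩
  rw [CfsgLib.Char.frobenius_reciprocity T _ (CfsgLib.Char.isClassFunction_of_isIrr χ.2),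
    ← CfsgLib.Char.classInner_conj_symm, ha, map_natCast]
  exact haψ

include hS hb hNT in
/-- The induced block. -/
theorem exists_induced {B' : Set (IrrCharacter T)} (hB' : IsPBlock M B')
    (hcov : ∃ ψ ∈ B', ∃ θ ∈ b, mul' N T hNT (ψ : T → ℂ) θ ≠ 0) :
    ∃ B : Set (IrrCharacter G), IsInducedBlock M T B' B ∧
      (∃ χ ∈ B, ∃ θ ∈ b, classInner (fun n : N => (χ : G → ℂ) n) (θ : N → ℂ) ≠ 0) ∧
      (∀ ψ ∈ B', IsIrrCharacter G (indFun T (ψ : T → ℂ))) ∧
      ∀ χ : IrrCharacter G, χ ∈ B ↔ ∃ ψ ∈ B', (χ : G → ℂ) = indFun T (ψ : T → ℂ) := by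
  have hall : ∀ ψ ∈ B', ∃ χ : IrrCharacter G, (χ : G → ℂ) = indFun T (ψ : T → ℂ) ∧
      ∃ θ ∈ b, classInner (fun n : N => (χ : G → ℂ) n) (θ : N → ℂ) ≠ 0 := fun ψ hψ => by
    obtain ⟨θ, hθ, hne⟩ := covers_of_sameBlock hNT hS hb hB' hcov hψ
    obtain ⟨χ, hχ, h⟩ := exists_ind_eq hNT hS hθ hne
    exact ⟨χ, hχ, θ, hθ, h⟩
  obtain ⟨ψ₀, hψ₀, hψ₀cov⟩ := hcov
  obtain ⟨χ₀, hχ₀, hover₀⟩ := hall ψ₀ hψ₀
  have hB : IsPBlock M (blockOf M (χ₀ : G → ℂ)) := isPBlock_blockOf χ₀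
  have hind : IsInducedBlock M T B' (blockOf M (χ₀ : G → ℂ)) := by
    refine ⟨hB', hB, fun ψ hψ η hη g => ?_⟩
    rw [← coe_zomega_rclass T M ψ g, ← coe_zomega_zclass (M := M) η g, memLocalIdeal_sub_iff]
    show bomega ψ (resZ T M (zclass M g)) = bomega η (zclass M g)
    rw [bomega_eq_of_mem hB' hψ hψ₀, bomega_link hχ₀, (mem_blockOf_iff χ₀ η).mp hη]
  refine ⟨_, hind, ⟨χ₀, mem_blockOf_self χ₀, hover₀⟩, fun ψ hψ => ?_, fun χ => ⟨fun hχ => ?_, ?_⟩⟩
  · obtain ⟨χ, hχ, -⟩ := hall ψ hψ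
    exact hχ ▸ χ.2
  · obtain ⟨θ, hθ, hne⟩ := exists_over_b hS hb hB ⟨χ₀, mem_blockOf_self χ₀, hover₀⟩ hχ
    obtain ⟨ψ, hm, hψχ⟩ := exists_constituent_over hS hb hNT hθ hne
    exact ⟨ψ, mem_of_bomega_eq hB' hψ₀ (bomega_eq_of_ind hNT hS hb hψ₀cov ⟨θ, hθ, hm⟩ hχ₀ hψχ (bomega_eq_of_mem hB (mem_blockOf_self χ₀) hχ)), hψχ⟩
  · rintro ⟨ψ, hψ, hψχ⟩
    exact ind_mem hind hψ hψχ

include hS hb hNT in
/-- Every covering block is induced. -/
theorem exists_inducing {B : Set (IrrCharacter G)} (hB : IsPBlock M B)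
    (hcov : ∃ χ ∈ B, ∃ θ ∈ b, classInner (fun n : N => (χ : G → ℂ) n) (θ : N → ℂ) ≠ 0) :
    ∃ B' : Set (IrrCharacter T), IsPBlock M B' ∧ (∃ ψ ∈ B', ∃ θ ∈ b, mul' N T hNT (ψ : T → ℂ) θ ≠ 0) ∧
      IsInducedBlock M T B' B := by
  obtain ⟨χ, hχ, θ, hθ, hne⟩ := hcov
  obtain ⟨ψ, hm, hψχ⟩ := exists_constituent_over hS hb hNT hθ hne
  have hc : ∃ ψ' ∈ blockOf M (ψ : T → ℂ), ∃ θ ∈ b, mul' N T hNT (ψ' : T → ℂ) θ ≠ 0 :=
    ⟨ψ, mem_blockOf_self ψ, θ, hθ, hm⟩
  obtain ⟨B₁, hind, -, -, hmem⟩ := exists_induced hNT hS hb (isPBlock_blockOf ψ) hc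
  refine ⟨_, isPBlock_blockOf ψ, hc, ?_⟩
  rwa [isPBlock_eq_of_mem hB hind.2.1 hχ ((hmem χ).mpr ⟨ψ, mem_blockOf_self ψ, hψχ⟩)]

include hS hb hNT in
/-- The induced block has the same defect groups and the same heights. -/
theorem defect_of_induced {p : ℕ} [Fact p.Prime] (hM : IsPModular p M) {B' : Set (IrrCharacter T)}
    (hB' : IsPBlock M B') (hcov : ∃ ψ ∈ B', ∃ θ ∈ b, mul' N T hNT (ψ : T → ℂ) θ ≠ 0)
    {B : Set (IrrCharacter G)} (hind : IsInducedBlock M T B' B) :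
    (∀ D : Subgroup T, IsDefectGroup p M B' D → IsDefectGroup p M B (D.map T.subtype)) ∧
    ∀ ψ ∈ B', ∃ χ ∈ B, (χ : G → ℂ) = indFun T (ψ : T → ℂ) ∧
      blockHeight p B (χ : G → ℂ) = blockHeight p B' (ψ : T → ℂ) := by
  classical
  obtain ⟨B₁, hind₁, -, hirr, hmem₁⟩ := exists_induced hNT hS hb hB' hcov
  obtain ⟨ψ₀, hψ₀, -⟩ := hcov
  have e : B = B₁ := by
    have h1 : (⟨_, hirr ψ₀ hψ₀⟩ : IrrCharacter G) ∈ B := ind_mem hind hψ₀ rfl
    exact isPBlock_eq_of_mem hind.2.1 hind₁.2.1 h1 ((hmem₁ _).mpr ⟨ψ₀, hψ₀, rfl⟩)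
  subst e
  have hdeg : ∀ (ψ : IrrCharacter T) (χ : IrrCharacter G), (χ : G → ℂ) = indFun T (ψ : T → ℂ) →
      (charDegree (χ : G → ℂ)).factorization p =
        T.index.factorization p + (charDegree (ψ : T → ℂ)).factorization p := fun ψ χ h => by
    have h1 := congrFun h 1
    rw [CfsgLib.Char.indFun_one, charDegree_eq (CfsgLib.Char.isCharacter_of_isIrr χ.2),
      charDegree_eq (CfsgLib.Char.isCharacter_of_isIrr ψ.2)] at h1
    have h2 : charDegree (χ : G → ℂ) = T.index * charDegree (ψ : T → ℂ) := by exact_mod_cast h1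
    rw [h2, Nat.factorization_mul Subgroup.index_ne_zero_of_finite (CfsgLib.CharBlocks.charDegree_pos ψ.2).ne']
    rfl
  have hG : (Nat.card G).factorization p = T.index.factorization p + (Nat.card T).factorization p := by
    rw [← T.index_mul_card, Nat.factorization_mul Subgroup.index_ne_zero_of_finite Nat.card_pos.ne']
    rfl
  have hd : blockDefect p B = blockDefect p B' := by
    obtain ⟨η, hη, hη0⟩ := exists_height_zero (p := p) hM hind.2.1
    obtain ⟨ζ, hζ, hζ0⟩ := exists_height_zero (p := p) hM hB'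
    obtain ⟨ψ, hψ, hψη⟩ := (hmem₁ η).mp hη
    let χ : IrrCharacter G := ⟨_, hirr ζ hζ⟩
    have hχ : χ ∈ B := (hmem₁ χ).mpr ⟨ζ, hζ, rfl⟩
    have h1 := degree_height (p := p) hM hind.2.1 hη
    have h2 := degree_height (p := p) hM hind.2.1 hχ
    have h3 := degree_height (p := p) hM hB' hψ
    have h4 := degree_height (p := p) hM hB' hζ
    have h5 := hdeg ψ η hψη
    have h6 := hdeg ζ χ rfl
    omega
  refine ⟨fun D hD => ?_, fun ψ hψ => ⟨⟨_, hirr ψ hψ⟩, (hmem₁ _).mpr ⟨ψ, hψ, rfl⟩, rfl, ?_⟩⟩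
  · obtain ⟨E, hE⟩ := exists_isDefectGroup (p := p) hind.2.1
    obtain ⟨x, hx⟩ := defect_le_of_induced hM hind hD hE
    have hcard : Nat.card E = Nat.card (D.map T.subtype) := by
      rw [card_defectGroup hM hind.2.1 hE, hd, ← card_defectGroup hM hB' hD,
        Subgroup.card_map_of_injective T.subtype_injective]
    have hEq := cj_eq_of_le hx hcard.le
    have h' := IsDefectGroup.conj hind.2.1 hE x⁻¹
    rwa [← hEq, cj_cj, inv_mul_cancel, show cj (1 : G) (D.map T.subtype) = D.map T.subtype from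
      Subgroup.ext fun g => by rw [mem_cj]; simp] at h'
  · have h1 := degree_height (p := p) hM hind.2.1 ((hmem₁ ⟨_, hirr ψ hψ⟩).mpr ⟨ψ, hψ, rfl⟩)
    have h2 := degree_height (p := p) hM hB' hψ
    have h3 := hdeg ψ ⟨_, hirr ψ hψ⟩ rfl
    omega

end CfsgLib.Blocks.FongReynolds
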