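import Cfsg.Agent.Lib.Blocks.GroupAlgebra
import Mathlib.LinearAlgebra.Eigenspace.Zero
import Mathlib.GroupTheory.PGroup
import Mathlib.Algebra.Module.ZMod
import Mathlib.LinearAlgebra.Quotient.Basic

/-!
# Class-function fixed-point sums and nilpotent central elements in characteristic `p`
-/

set_option autoImplicit false

noncomputable section

namespace CfsgLib.Blocks

/-- In characteristic `p`, a sum of a function invariant under a `p`-group reduces to the fixed points. -/
theorem sum_eq_sum_fixedPoints {P α k : Type*} [Group P] [Fintype α] [MulAction P α] [CommRing k]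
    {p : ℕ} [Fact p.Prime] [CharP k p] (hP : IsPGroup p P) (f : α → k)
    (hf : ∀ (x : P) (a : α), f (x • a) = f a) [DecidablePred (· ∈ MulAction.fixedPoints P α)] :
    ∑ a : α, f a = ∑ a ∈ Finset.univ.filter (· ∈ MulAction.fixedPoints P α), f a := by
  classical
  rw [← Finset.sum_fiberwise_of_maps_to (t := Finset.univ.image f) (g := f)
      (fun a _ => Finset.mem_image_of_mem f (Finset.mem_univ a)) f,
    ← Finset.sum_fiberwise_of_maps_to (s := Finset.univ.filter (· ∈ MulAction.fixedPoints P α))
      (t := Finset.univ.image f) (g := f) (fun a _ => Finset.mem_image_of_mem f (Finset.mem_univ a)) f]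
  refine Finset.sum_congr rfl (fun v _ => ?_)
  rw [Finset.sum_congr rfl (fun a ha => (Finset.mem_filter.mp ha).2),
    Finset.sum_congr rfl (fun a ha => (Finset.mem_filter.mp ha).2), Finset.sum_const, Finset.sum_const,
    nsmul_eq_mul, nsmul_eq_mul]
  congr 1
  rw [CharP.natCast_eq_natCast k p]
  let act : MulAction P {a : α // f a = v} :=
    { smul := fun x a => ⟨x • a.1, by rw [hf, a.2]⟩
      one_smul := fun a => Subtype.ext (one_smul P a.1)
      mul_smul := fun x y a => Subtype.ext (mul_smul x y a.1) }
  have h := hP.card_modEq_card_fixedPoints {a : α // f a = v}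
  have e1 : Nat.card {a : α // f a = v} = (Finset.univ.filter fun a => f a = v).card := by
    rw [Nat.card_eq_fintype_card, Fintype.card_subtype]
  have e2 : Nat.card (MulAction.fixedPoints P {a : α // f a = v}) =
      ((Finset.univ.filter (· ∈ MulAction.fixedPoints P α)).filter fun a => f a = v).card := by
    rw [Finset.filter_filter, ← Fintype.card_subtype, ← Nat.card_eq_fintype_card]
    refine Nat.card_congr
      { toFun := fun a => ⟨a.1.1, fun x => congrArg Subtype.val (a.2 x), a.1.2⟩
        invFun := fun a => ⟨⟨a.1, a.2.2⟩, fun x => Subtype.ext (a.2.1 x)⟩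
        left_inv := fun a => rfl
        right_inv := fun a => rfl }
  rwa [e1, e2] at h

variable {G : Type*} [Group G] [Fintype G] {k : Type*} [Field k] {p : ℕ} [Fact p.Prime] [CharP k p]

/-- A central element whose coefficient sums over the cosets of a normal `p`-subgroup vanish is
nilpotent. -/
theorem isNilpotent_of_cosetSum_eq_zero {Q : Subgroup G} [Q.Normal] (hQ : IsPGroup p Q)
    [Fintype Q] {z : MonoidAlgebra k G} (hz : z ∈ Subsemiring.center (MonoidAlgebra k G))
    (hsum : ∀ g : G, ∑ q : Q, z.coeff (g * q) = 0) : IsNilpotent z := by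
  classical
  have := Fintype.ofFinite (G ⧸ Q)
  have : Module.Finite k (MonoidAlgebra k G) :=
    Module.Finite.equiv ((MonoidAlgebra.coeffLinearEquiv k).trans
      (Finsupp.linearEquivFunOnFinite k k G)).symm
  let L : Module.End k (MonoidAlgebra k G) := LinearMap.mulLeft k z
  set n := Module.finrank k (MonoidAlgebra k G)
  have hL : ∀ (i : ℕ) (v : MonoidAlgebra k G), (L ^ i) v = z ^ i * v := by
    intro i v
    simp [L, LinearMap.pow_mulLeft]
  refine ⟨n, ?_⟩
  have key : LinearMap.ker (L ^ n) = ⊤ := by
    by_contra hne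
    set W := LinearMap.ker (L ^ n) with hW
    have hstab : ∀ g : G, ∀ v ∈ W, MonoidAlgebra.single g (1 : k) * v ∈ W := fun g v hv => by
      rw [hW, LinearMap.mem_ker, hL] at hv ⊢
      rw [← mul_assoc, ← Subsemiring.mem_center_iff.mp (pow_mem hz n) (MonoidAlgebra.single g 1),
        mul_assoc, hv, mul_zero]
    -- the left action on the quotient
    let act : G → (MonoidAlgebra k G ⧸ W) →ₗ[k] (MonoidAlgebra k G ⧸ W) := fun g =>
      Submodule.mapQ W W (LinearMap.mulLeft k (MonoidAlgebra.single g 1)) (fun v hv => hstab g v hv)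
    have hact : ∀ g v, act g (Submodule.Quotient.mk v) =
        Submodule.Quotient.mk (MonoidAlgebra.single g (1 : k) * v) := fun g v => rfl
    have hnt : Nontrivial (MonoidAlgebra k G ⧸ W) :=
      (Submodule.Quotient.nontrivial_iff).mpr hne
    obtain ⟨x, hx⟩ := exists_ne (0 : MonoidAlgebra k G ⧸ W)
    have hp0 : ∀ v : MonoidAlgebra k G ⧸ W, p • v = 0 := fun v => by
      rw [← Nat.cast_smul_eq_nsmul k, CharP.cast_eq_zero, zero_smul]
    let φ : (Q → ZMod p) →+ (MonoidAlgebra k G ⧸ W) :=
      ∑ r : Q, (ZMod.lift p ⟨zmultiplesHom _ (act r x),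
        (natCast_zsmul _ p).trans (hp0 _)⟩).comp (Pi.evalAddMonoidHom (fun _ : Q => ZMod p) r)
    have hφ : ∀ f, φ f = ∑ r : Q, ((f r).cast : ℤ) • act r x := fun f => by
      simp only [φ, AddMonoidHom.finsetSum_apply, AddMonoidHom.comp_apply, Pi.evalAddMonoidHom_apply]
      refine Finset.sum_congr rfl (fun r _ => ?_)
      conv_lhs => rw [← ZMod.intCast_zmod_cast (f r)]
      rw [ZMod.lift_coe]
      rfl
    let U : AddSubgroup (MonoidAlgebra k G ⧸ W) := φ.range
    have : Finite U := Finite.of_surjective φ.rangeRestrict φ.rangeRestrict_surjective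
    have hone : ∀ v, act 1 v = v := fun v => by
      obtain ⟨v, rfl⟩ := Submodule.Quotient.mk_surjective W v
      rw [hact, ← MonoidAlgebra.one_def, one_mul]
    have hmul : ∀ a b v, act (a * b) v = act a (act b v) := fun a b v => by
      obtain ⟨v, rfl⟩ := Submodule.Quotient.mk_surjective W v
      rw [hact, hact, hact, ← mul_assoc, MonoidAlgebra.single_mul_single, one_mul]
    have hgen : ∀ r : Q, act r x ∈ U := fun r => ⟨Pi.single r 1, by
      rw [hφ, Finset.sum_eq_single r]
      · rw [Pi.single_eq_same]
        have h1 : (((1 : ZMod p).cast : ℤ)) = 1 := by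
          rw [ZMod.cast_eq_val, ZMod.val_one]; rfl
        rw [h1, one_smul]
      · intro b _ hb; rw [Pi.single_eq_of_ne hb, ZMod.cast_zero, zero_smul]
      · simp⟩
    have hU : ∀ (q : Q) (v : MonoidAlgebra k G ⧸ W), v ∈ U → act q v ∈ U := by
      rintro q _ ⟨f, rfl⟩
      rw [hφ, map_sum]
      refine U.sum_mem (fun r _ => ?_)
      rw [map_zsmul, ← hmul, ← Subgroup.coe_mul]
      exact U.zsmul_mem (hgen _) _
    let _ : MulAction Q U :=
      { smul := fun q v => ⟨act q v.1, hU q v.1 v.2⟩
        one_smul := fun v => Subtype.ext (hone v.1)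
        mul_smul := fun a b v => Subtype.ext (by
          show act ((a * b : Q) : G) v.1 = act a (act b v.1)
          rw [Subgroup.coe_mul]; exact hmul _ _ _) }
    have hxU : x ∈ U := by
      have := hgen 1
      rwa [Subgroup.coe_one, hone] at this
    have hdvd : p ∣ Nat.card U := by
      have hord : addOrderOf (⟨x, hxU⟩ : U) = p :=
        addOrderOf_eq_prime (Subtype.ext (hp0 x)) (fun h => hx (congrArg Subtype.val h))
      rw [← hord]
      exact addOrderOf_dvd_natCard _
    obtain ⟨⟨y, hyU⟩, hyfix, hy0⟩ := hQ.exists_fixed_point_of_prime_dvd_card_of_fixed_point U hdvd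
      (a := 0) (fun q => Subtype.ext (map_zero (act q)))
    have hfix : ∀ q : Q, act q y = y := fun q => congrArg Subtype.val (hyfix q)
    obtain ⟨v, rfl⟩ := Submodule.Quotient.mk_surjective W y
    -- `z` annihilates the fixed vectors of the quotient
    have hzero : (Submodule.Quotient.mk (z * v) : MonoidAlgebra k G ⧸ W) = 0 := by
      have hexp : z = ∑ g : G, z.coeff g • MonoidAlgebra.single g (1 : k) := by
        apply MonoidAlgebra.coeff_injective
        ext g
        simp [MonoidAlgebra.coeff_sum]
      rw [hexp, Finset.sum_mul]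
      rw [show (Submodule.Quotient.mk (∑ g, z.coeff g • MonoidAlgebra.single g (1 : k) * v) :
          MonoidAlgebra k G ⧸ W) = ∑ g, z.coeff g • act g (Submodule.Quotient.mk v) by
        rw [← Submodule.mkQ_apply, map_sum]
        exact Finset.sum_congr rfl (fun g _ => by
          rw [smul_mul_assoc, map_smul, hact]; rfl)]
      let e : (G ⧸ Q) × Q ≃ G :=
        { toFun := fun cq => cq.1.out * cq.2
          invFun := fun g => (QuotientGroup.mk g,
            ⟨((QuotientGroup.mk g : G ⧸ Q)).out⁻¹ * g, QuotientGroup.eq.mp (Quotient.out_eq _)⟩)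
          left_inv := fun cq => by
            obtain ⟨c, q⟩ := cq
            have hc : (QuotientGroup.mk (c.out * (q : G)) : G ⧸ Q) = c := by
              rw [QuotientGroup.mk_mul_of_mem _ q.2]
              exact Quotient.out_eq c
            refine Prod.ext hc (Subtype.ext ?_)
            show ((QuotientGroup.mk (c.out * (q : G)) : G ⧸ Q)).out⁻¹ * (c.out * (q : G)) = (q : G)
            rw [hc, inv_mul_cancel_left]
          right_inv := fun g => mul_inv_cancel_left _ g }
      rw [← Equiv.sum_comp e, Fintype.sum_prod_type]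
      refine Finset.sum_eq_zero (fun c _ => ?_)
      show (∑ q : Q, z.coeff (c.out * (q : G)) • act (c.out * (q : G)) (Submodule.Quotient.mk v)) = 0
      rw [Finset.sum_congr rfl (fun q _ => by rw [hmul, hfix q]), ← Finset.sum_smul, hsum, zero_smul]
    have hvW : v ∈ W := by
      have h1 : (L ^ (n + 1)) v = 0 := by
        rw [hL, pow_succ, mul_assoc]
        have := (Submodule.Quotient.mk_eq_zero W).mp hzero
        rw [hW, LinearMap.mem_ker, hL] at this
        exact this
      have h2 : v ∈ LinearMap.ker (L ^ (n + 1)) := h1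
      rw [show LinearMap.ker (L ^ (n + 1)) = W from ?_] at h2
      · exact h2
      rw [hW]
      exact Module.End.ker_pow_eq_ker_pow_finrank_of_le (Nat.le_succ n)
    exact hy0 (Subtype.ext ((Submodule.Quotient.mk_eq_zero W).mpr hvW).symm)
  have h1 : (1 : MonoidAlgebra k G) ∈ LinearMap.ker (L ^ n) := key ▸ Submodule.mem_top
  rw [LinearMap.mem_ker, hL, mul_one] at h1
  exact h1

/-- A central element supported off the centraliser of a normal `p`-subgroup is nilpotent. -/
theorem isNilpotent_of_support {Q : Subgroup G} [Q.Normal] (hQ : IsPGroup p Q)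
    {z : MonoidAlgebra k G} (hz : z ∈ Subsemiring.center (MonoidAlgebra k G))
    (hs : ∀ g ∈ Subgroup.centralizer (Q : Set G), z.coeff g = 0) : IsNilpotent z := by
  classical
  have := Fintype.ofFinite Q
  refine isNilpotent_of_cosetSum_eq_zero hQ hz (fun g => ?_)
  let C := {x : G // g⁻¹ * x ∈ Q}
  let _ : MulAction Q C :=
    { smul := fun q x => ⟨(q : G) * x.1 * (q : G)⁻¹, by
        have h : g⁻¹ * ((q : G) * x.1 * (q : G)⁻¹) =
            (g⁻¹ * (q : G) * g) * ((g⁻¹ * x.1) * (q : G)⁻¹) := by group
        rw [h]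
        refine Q.mul_mem ?_ (Q.mul_mem x.2 (Q.inv_mem q.2))
        have := (‹Q.Normal›).conj_mem _ q.2 g⁻¹
        rwa [inv_inv] at this⟩
      one_smul := fun x => Subtype.ext (show ((1 : Q) : G) * x.1 * ((1 : Q) : G)⁻¹ = x.1 by simp)
      mul_smul := fun a b x => Subtype.ext (show ((a * b : Q) : G) * x.1 * ((a * b : Q) : G)⁻¹ =
        (a : G) * ((b : G) * x.1 * (b : G)⁻¹) * (a : G)⁻¹ by push_cast; group) }
  let e : Q ≃ C :=
    { toFun := fun q => ⟨g * q, by simp⟩
      invFun := fun x => ⟨g⁻¹ * x.1, x.2⟩
      left_inv := fun q => Subtype.ext (by simp)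
      right_inv := fun x => Subtype.ext (by simp) }
  rw [← Equiv.sum_comp e.symm, show (∑ x : C, z.coeff (g * (e.symm x : G))) = ∑ x : C, z.coeff x.1 from
    Finset.sum_congr rfl (fun x _ => by simp [e]),
    sum_eq_sum_fixedPoints (p := p) hQ (fun x : C => z.coeff x.1)
      (fun q x => (mem_center_iff z).mp hz x.1 q)]
  refine Finset.sum_eq_zero (fun x hx => hs _ ?_)
  rw [Subgroup.mem_centralizer_iff]
  intro q hq
  have := congrArg Subtype.val ((Finset.mem_filter.mp hx).2 ⟨q, hq⟩)
  exact mul_inv_eq_iff_eq_mul.mp this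

end CfsgLib.Blocks
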