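import Cfsg.Agent.Lib.Blocks.Basic
import Cfsg.Agent.Lib.Blocks.Nilpotent

/-!
# Reduction modulo `M`, the Brauer map and block induction
-/

set_option autoImplicit false

noncomputable section

namespace CfsgLib.Blocks

open Cfsg
open scoped ComplexConjugate

variable {M : Ideal AlgInt} [M.IsMaximal] {G : Type*} [Group G] [Fintype G] {p : ℕ}

/-- The residue of the coefficient of `a` at `g`. -/
def rcoeff (a : Zint M G) (g : G) : Res M := res M ⟨(a : CA G).coeff g, (mem_Zint_iff.mp a.2).1 g⟩

theorem rcoeff_eq_zero_iff (a : Zint M G) (g : G) :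
    rcoeff a g = 0 ↔ MemLocalIdeal M ((a : CA G).coeff g) := res_eq_zero_iff M _

theorem rcoeff_eq_of_isConj (a : Zint M G) {g h : G} (hgh : IsConj g h) : rcoeff a g = rcoeff a h :=
  congrArg (res M) (Subtype.ext (coeff_eq_of_isConj a hgh))

theorem rcoeff_zero (g : G) : rcoeff (0 : Zint M G) g = 0 :=
  (congrArg (res M) (Subtype.ext (by simp))).trans (map_zero (res M))

theorem rcoeff_add (a b : Zint M G) (g : G) : rcoeff (a + b) g = rcoeff a g + rcoeff b g :=
  (congrArg (res M) (Subtype.ext (by simp))).trans (map_add (res M) _ _)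

theorem rcoeff_neg (a : Zint M G) (g : G) : rcoeff (-a) g = -rcoeff a g :=
  (congrArg (res M) (Subtype.ext (by simp))).trans (map_neg (res M) _)

theorem rcoeff_sub (a b : Zint M G) (g : G) : rcoeff (a - b) g = rcoeff a g - rcoeff b g := by
  rw [sub_eq_add_neg, rcoeff_add, rcoeff_neg, sub_eq_add_neg]

theorem rcoeff_mul (a b : Zint M G) (g : G) :
    rcoeff (a * b) g = ∑ h : G, rcoeff a h * rcoeff b (h⁻¹ * g) := by
  simp only [rcoeff, ← map_mul, ← map_sum]
  exact congrArg (res M) (Subtype.ext (by
    rw [AddSubmonoidClass.coe_finsetSum]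
    exact coeff_mul_eq_sum _ _ g))

theorem rcoeff_one (g : G) [Decidable (g = 1)] :
    rcoeff (1 : Zint M G) g = if g = 1 then 1 else 0 := by
  classical
  have : rcoeff (1 : Zint M G) g = res M (if g = 1 then 1 else 0) :=
    congrArg (res M) (Subtype.ext (by
      change (1 : CA G).coeff g = _
      rw [MonoidAlgebra.one_def, MonoidAlgebra.coeff_single, Finsupp.single_apply]
      by_cases h : g = 1
      · subst h; simp
      · simp [h, Ne.symm h]))
  rw [this]
  split_ifs <;> simp

theorem rcoeff_zclass (g x : G) [Decidable (IsConj g x)] :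
    rcoeff (zclass M g) x = if IsConj g x then 1 else 0 := by
  have : rcoeff (zclass M g) x = res M (if IsConj g x then 1 else 0) :=
    congrArg (res M) (Subtype.ext (by
      change (classSum g).coeff x = _
      rw [classSum_coeff]
      split_ifs <;> simp))
  rw [this]
  split_ifs <;> simp

theorem rcoeff_scal_mul (c : locRing M) (a : Zint M G) (g : G) :
    rcoeff (scal M c * a) g = res M c * rcoeff a g := by
  rw [rcoeff, rcoeff, ← map_mul]
  refine congrArg (res M) (Subtype.ext ?_)
  simp only [Subring.coe_mul]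
  rw [coe_scal, MonoidAlgebra.coeff_single_one_mul]

/-- Reduction of the integral centre modulo `M`. -/
def red : Zint M G →+* MonoidAlgebra (Res M) G where
  toFun a := ofFun (rcoeff a)
  map_one' := by
    classical
    apply MonoidAlgebra.coeff_injective
    ext g
    rw [coeff_ofFun, rcoeff_one, MonoidAlgebra.one_def, MonoidAlgebra.coeff_single, Finsupp.single_apply]
    by_cases h : g = 1
    · subst h; simp
    · simp [h, Ne.symm h]
  map_zero' := by
    apply MonoidAlgebra.coeff_injective
    ext g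
    simp [rcoeff_zero]
  map_add' a b := by
    apply MonoidAlgebra.coeff_injective
    ext g
    simp [rcoeff_add]
  map_mul' a b := by
    apply MonoidAlgebra.coeff_injective
    ext g
    rw [coeff_ofFun, coeff_mul_eq_sum, rcoeff_mul]
    rfl

theorem coeff_red (a : Zint M G) (g : G) : (red a).coeff g = rcoeff a g := rfl

theorem red_mem_center (a : Zint M G) : red a ∈ Subsemiring.center (MonoidAlgebra (Res M) G) := by
  rw [mem_center_iff]
  exact fun g h => rcoeff_eq_of_isConj a ((isConj_iff.mpr ⟨h, rfl⟩).symm)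

theorem bomega_eq_sum [Fintype (ConjClasses G)] (χ : IrrCharacter G) (a : Zint M G) :
    bomega χ a = ∑ C : ConjClasses G, rcoeff a C.out * bomega χ (zclass M C.out) := by
  conv_lhs => rw [Zint_eq_sum a]
  rw [map_sum]
  exact Finset.sum_congr rfl (fun C _ => by rw [map_mul, bomega_scal]; rfl)

theorem bomega_eq_zero_of_rcoeff_eq_zero (χ : IrrCharacter G) {a : Zint M G}
    (h : ∀ g, rcoeff a g = 0) : bomega χ a = 0 := by
  have : Finite (ConjClasses G) := Finite.of_surjective _ ConjClasses.mk_surjective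
  have := Fintype.ofFinite (ConjClasses G)
  rw [bomega_eq_sum]
  exact Finset.sum_eq_zero (fun C _ => by rw [h, zero_mul])

theorem bomega_eq_of_red_eq (χ : IrrCharacter G) {a b : Zint M G} (h : red a = red b) :
    bomega χ a = bomega χ b := by
  rw [← sub_eq_zero, ← map_sub]
  refine bomega_eq_zero_of_rcoeff_eq_zero χ (fun g => ?_)
  rw [rcoeff_sub, ← coeff_red, ← coeff_red, h, sub_self]

theorem bomega_eq_zero_of_isNilpotent (χ : IrrCharacter G) {a : Zint M G} (h : IsNilpotent (red a)) :
    bomega χ a = 0 := by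
  let _ : Field (Res M) := Ideal.Quotient.field M
  obtain ⟨n, hn⟩ := h
  refine eq_zero_of_pow_eq_zero (n := n) ?_
  rw [← map_pow, ← map_zero (bomega (M := M) χ)]
  exact bomega_eq_of_red_eq χ (by rw [map_pow, hn, map_zero])

/-- Reduced central characters vanish on elements supported mod `M` off the centraliser of a normal
`p`-subgroup. -/
theorem bomega_eq_zero_of_support (hM : IsPModular p M) {Q : Subgroup G} [Q.Normal] (hQ : IsPGroup p Q)
    (χ : IrrCharacter G) {a : Zint M G}
    (h : ∀ g ∈ Subgroup.centralizer (Q : Set G), rcoeff a g = 0) : bomega χ a = 0 := by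
  let _ : Field (Res M) := Ideal.Quotient.field M
  have : Fact p.Prime := ⟨hM.1⟩
  have : CharP (Res M) p := res_charP M hM
  exact bomega_eq_zero_of_isNilpotent χ (isNilpotent_of_support hQ (red_mem_center a) h)

omit [Fintype G] in
/-- The normaliser of `P` permutes its centraliser. -/
theorem conj_mem_centralizer {P : Subgroup G} {h g : G} (hh : h ∈ Subgroup.normalizer (P : Set G))
    (hg : g ∈ Subgroup.centralizer (P : Set G)) :
    h * g * h⁻¹ ∈ Subgroup.centralizer (P : Set G) := by
  rw [Subgroup.mem_centralizer_iff] at hg ⊢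
  intro x hx
  have hx' : h⁻¹ * x * h ∈ P := by
    have := (Subgroup.mem_set_normalizer_iff.mp (Subgroup.inv_mem _ hh) x).mp hx
    rwa [inv_inv] at this
  calc x * (h * g * h⁻¹) = h * ((h⁻¹ * x * h) * g) * h⁻¹ := by group
    _ = h * (g * (h⁻¹ * x * h)) * h⁻¹ := by rw [hg _ hx']
    _ = h * g * h⁻¹ * x := by group

/-- **The Brauer congruence**: products reduce to the centraliser of a `p`-subgroup. -/
theorem rcoeff_mul_centralizer (hM : IsPModular p M) {P : Subgroup G} (hP : IsPGroup p P)
    (a b : Zint M G) {c : G} (hc : c ∈ Subgroup.centralizer (P : Set G))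
    [DecidablePred (· ∈ Subgroup.centralizer (P : Set G))] :
    rcoeff (a * b) c = ∑ h : G, if h ∈ Subgroup.centralizer (P : Set G) then
      rcoeff a h * rcoeff b (h⁻¹ * c) else 0 := by
  classical
  have : Fact p.Prime := ⟨hM.1⟩
  have : CharP (Res M) p := res_charP M hM
  let _ : MulAction P G :=
    { smul := fun x g => (x : G) * g * (x : G)⁻¹
      one_smul := fun g => show ((1 : P) : G) * g * ((1 : P) : G)⁻¹ = g by simp
      mul_smul := fun x y g => show ((x * y : P) : G) * g * ((x * y : P) : G)⁻¹ =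
        (x : G) * ((y : G) * g * (y : G)⁻¹) * (x : G)⁻¹ by push_cast; group }
  rw [rcoeff_mul, sum_eq_sum_fixedPoints (p := p) hP _ (fun x g => ?_), ← Finset.sum_filter]
  · refine Finset.sum_congr (Finset.filter_congr (fun g _ => ?_)) (fun _ _ => rfl)
    rw [Subgroup.mem_centralizer_iff]
    exact ⟨fun h x hx => mul_inv_eq_iff_eq_mul.mp (h ⟨x, hx⟩),
      fun h x => mul_inv_eq_iff_eq_mul.mpr (h x x.2)⟩
  · change rcoeff a ((x : G) * g * (x : G)⁻¹) * rcoeff b (((x : G) * g * (x : G)⁻¹)⁻¹ * c) = _
    have h1 : ((x : G) * g * (x : G)⁻¹)⁻¹ * c = (x : G) * (g⁻¹ * c) * (x : G)⁻¹ := by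
      calc ((x : G) * g * (x : G)⁻¹)⁻¹ * c = (x : G) * g⁻¹ * (x : G)⁻¹ * (c * (x : G)) * (x : G)⁻¹ := by
            group
        _ = (x : G) * g⁻¹ * (x : G)⁻¹ * ((x : G) * c) * (x : G)⁻¹ := by
            rw [← Subgroup.mem_centralizer_iff.mp hc x x.2]
        _ = _ := by group
    rw [h1, ← rcoeff_eq_of_isConj a (g := g) (isConj_iff.mpr ⟨x, rfl⟩),
      ← rcoeff_eq_of_isConj b (g := g⁻¹ * c) (isConj_iff.mpr ⟨x, rfl⟩)]

section subgroup

variable (H : Subgroup G) [Fintype H]

/-- Restriction of coefficients to a subgroup. -/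
def resIn : Zint M G →+ Zint M H where
  toFun a := ⟨ofFun (fun h : H => (a : CA G).coeff h), mem_Zint_iff.mpr
    ⟨fun h => (mem_Zint_iff.mp a.2).1 h, fun g h => by
      simp only [coeff_ofFun, Subgroup.coe_mul, Subgroup.coe_inv]
      exact (mem_Zint_iff.mp a.2).2 g h⟩⟩
  map_zero' := Subtype.ext (MonoidAlgebra.coeff_injective (Finsupp.ext fun h => by simp))
  map_add' a b := Subtype.ext (MonoidAlgebra.coeff_injective (Finsupp.ext fun h => by simp))

theorem rcoeff_resIn (a : Zint M G) (h : H) : rcoeff (resIn H a) h = rcoeff a (h : G) := rfl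

theorem resIn_scal_mul (c : locRing M) (a : Zint M G) :
    resIn H (scal M c * a) = scal M c * resIn H a := by
  refine Subtype.ext (MonoidAlgebra.coeff_injective (Finsupp.ext fun h => ?_))
  simp [resIn, Subring.coe_mul, coe_scal]

/-- The reduced central character of `ξ` induced to `G`, as a map. -/
def indBomega (ξ : IrrCharacter H) : Zint M G →+ Res M :=
  (bomega (M := M) ξ).toAddMonoidHom.comp (resIn H)

theorem indBomega_apply (ξ : IrrCharacter H) (a : Zint M G) :
    indBomega H ξ a = bomega ξ (resIn H a) := rfl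

theorem omega_resIn_classSum (ξ : IrrCharacter H) (g : G) :
    omega (ξ : H → ℂ) ((resIn H (zclass M g) : Zint M H) : CA H) = inducedCentralChar H (ξ : H → ℂ) g := by
  classical
  rw [inducedCentralChar, finsum_mem_eq_finite_toFinset_sum _ (Set.toFinite _), omega, charLin_apply,
    Finset.sum_div]
  simp only [resIn, AddMonoidHom.coe_mk, ZeroHom.coe_mk, coeff_ofFun, coe_zclass, classSum_coeff,
    ite_mul, one_mul, zero_mul]
  rw [Finset.sum_congr rfl (fun h _ => apply_ite (fun z : ℂ => z / (ξ : H → ℂ) 1) _ _ _)]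
  simp only [zero_div]
  rw [← Finset.sum_filter]
  exact Finset.sum_congr (by ext; simp) (fun _ _ => rfl)

theorem indBomega_zclass_eq_iff (ξ : IrrCharacter H) (χ : IrrCharacter G) (g : G) :
    indBomega H ξ (zclass M g) = bomega χ (zclass M g) ↔
      MemLocalIdeal M (inducedCentralChar H (ξ : H → ℂ) g - centralChar (χ : G → ℂ) g) := by
  rw [indBomega_apply, bomega_apply, bomega_apply, ← memLocalIdeal_sub_iff, coe_zomega, coe_zomega_zclass,
    omega_resIn_classSum]

theorem indBomega_scal_mul (ξ : IrrCharacter H) (c : locRing M) (a : Zint M G) :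
    indBomega H ξ (scal M c * a) = res M c * indBomega H ξ a := by
  rw [indBomega_apply, resIn_scal_mul, map_mul, bomega_scal]; rfl

theorem indBomega_eq_iff (ξ : IrrCharacter H) (χ : IrrCharacter G) :
    (∀ a, indBomega (M := M) H ξ a = bomega χ a) ↔ ∀ g : G,
      MemLocalIdeal M (inducedCentralChar H (ξ : H → ℂ) g - centralChar (χ : G → ℂ) g) := by
  classical
  have : Finite (ConjClasses G) := Finite.of_surjective _ ConjClasses.mk_surjective
  have := Fintype.ofFinite (ConjClasses G)
  refine ⟨fun h g => (indBomega_zclass_eq_iff H ξ χ g).mp (h _), fun h a => ?_⟩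
  rw [Zint_eq_sum a, map_sum, map_sum]
  exact Finset.sum_congr rfl (fun C _ => by
    rw [indBomega_scal_mul, map_mul, bomega_scal, (indBomega_zclass_eq_iff H ξ χ _).mpr (h _)])

/-- Block induction in terms of reduced central characters. -/
theorem isInducedBlock_iff {b : Set (IrrCharacter H)} {B : Set (IrrCharacter G)} :
    IsInducedBlock M H b B ↔ IsPBlock M b ∧ IsPBlock M B ∧
      ∀ ξ ∈ b, ∀ χ ∈ B, ∀ a, indBomega (M := M) H ξ a = bomega χ a := by
  simp only [IsInducedBlock, indBomega_eq_iff]

theorem isInducedBlock_of_mem {ξ : IrrCharacter H} {χ : IrrCharacter G}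
    (h : ∀ a, indBomega (M := M) H ξ a = bomega χ a) :
    IsInducedBlock M H (blockOf M (ξ : H → ℂ)) (blockOf M (χ : G → ℂ)) := by
  rw [isInducedBlock_iff]
  refine ⟨isPBlock_blockOf ξ, isPBlock_blockOf χ, fun ξ' hξ' χ' hχ' a => ?_⟩
  rw [indBomega_apply, ← (mem_blockOf_iff ξ ξ').mp hξ', ← (mem_blockOf_iff χ χ').mp hχ']
  exact h a

theorem inducedBlock_unique {b : Set (IrrCharacter H)} {B B' : Set (IrrCharacter G)}
    (h : IsInducedBlock M H b B) (h' : IsInducedBlock M H b B') : B = B' := by
  rw [isInducedBlock_iff] at h h'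
  obtain ⟨ξ, hξ⟩ := IsPBlock.nonempty h.1
  obtain ⟨χ, hχ⟩ := IsPBlock.nonempty h.2.1
  obtain ⟨χ', hχ'⟩ := IsPBlock.nonempty h'.2.1
  exact isPBlock_eq_of_mem h.2.1 h'.2.1 hχ (mem_of_bomega_eq h'.2.1 hχ'
    (RingHom.ext fun a => (h'.2.2 ξ hξ χ' hχ' a).symm.trans (h.2.2 ξ hξ χ hχ a)))

variable {H}

/-- Truncation to the centraliser of a subgroup normalised by the whole group. -/
def truncC (P : Subgroup G) (hHN : H ≤ Subgroup.normalizer (P : Set G)) (a : Zint M H) : Zint M H :=
  haveI := Classical.propDecidable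
  ⟨ofFun (fun h : H => if (h : G) ∈ Subgroup.centralizer (P : Set G) then (a : CA H).coeff h else 0),
    mem_Zint_iff.mpr ⟨fun h => by
      rw [coeff_ofFun]
      split_ifs
      · exact (mem_Zint_iff.mp a.2).1 h
      · exact Subring.zero_mem _, fun g h => by
      simp only [coeff_ofFun, Subgroup.coe_mul, Subgroup.coe_inv, (mem_Zint_iff.mp a.2).2 g h]
      refine if_congr ⟨fun hc => ?_, conj_mem_centralizer (hHN h.2)⟩ rfl rfl
      have := conj_mem_centralizer (Subgroup.inv_mem _ (hHN h.2)) hc
      simpa [mul_assoc] using this⟩⟩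

omit [Fintype G] in
theorem rcoeff_truncC (P : Subgroup G) (hHN : H ≤ Subgroup.normalizer (P : Set G)) (a : Zint M H) (h : H)
    [Decidable ((h : G) ∈ Subgroup.centralizer (P : Set G))] :
    rcoeff (truncC P hHN a) h = if (h : G) ∈ Subgroup.centralizer (P : Set G) then rcoeff a h else 0 := by
  classical
  by_cases hc : (h : G) ∈ Subgroup.centralizer (P : Set G)
  · rw [if_pos hc]
    exact congrArg (res M) (Subtype.ext (by simp [truncC, hc]))
  · rw [if_neg hc]
    exact (congrArg (res M) (Subtype.ext (by simp [truncC, hc]))).trans (map_zero _)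

variable {P : Subgroup G}

omit [Fintype G] in
theorem bomega_truncC (hM : IsPModular p M) (hP : IsPGroup p P) (hPH : P ≤ H)
    (hHN : H ≤ Subgroup.normalizer (P : Set G)) (ξ : IrrCharacter H) (a : Zint M H) :
    bomega ξ (truncC P hHN a) = bomega ξ a := by
  classical
  have : (P.subgroupOf H).Normal := (Subgroup.normal_subgroupOf_iff_le_normalizer hPH).mpr hHN
  have hQ : IsPGroup p (P.subgroupOf H) :=
    hP.of_injective (Subgroup.subgroupOfEquivOfLe hPH).toMonoidHom (MulEquiv.injective _)
  rw [← sub_eq_zero, ← map_sub]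
  refine bomega_eq_zero_of_support hM hQ ξ (fun h hh => ?_)
  have hc : (h : G) ∈ Subgroup.centralizer (P : Set G) := by
    rw [Subgroup.mem_centralizer_iff] at hh ⊢
    intro x hx
    exact congrArg Subtype.val (hh ⟨x, hPH hx⟩ hx)
  rw [rcoeff_sub, rcoeff_truncC, if_pos hc, sub_self]

theorem red_truncC_mul (hM : IsPModular p M) (hP : IsPGroup p P)
    (hCH : Subgroup.centralizer (P : Set G) ≤ H) (hHN : H ≤ Subgroup.normalizer (P : Set G))
    (a b : Zint M G) :
    red (truncC P hHN (resIn H (a * b))) =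
      red (truncC P hHN (resIn H a) * truncC P hHN (resIn H b)) := by
  classical
  apply MonoidAlgebra.coeff_injective
  ext h
  rw [coeff_red, coeff_red, rcoeff_mul, rcoeff_truncC, rcoeff_resIn]
  simp only [rcoeff_truncC, rcoeff_resIn, Subgroup.coe_mul, Subgroup.coe_inv]
  split_ifs with hc
  · rw [rcoeff_mul_centralizer hM hP a b hc]
    symm
    refine (Finset.sum_map (Finset.univ : Finset H) (Function.Embedding.subtype (· ∈ H))
      (fun x : G => (if x ∈ Subgroup.centralizer (P : Set G) then rcoeff a x else 0) *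
        (if x⁻¹ * (h : G) ∈ Subgroup.centralizer (P : Set G) then rcoeff b (x⁻¹ * h) else 0))).symm.trans ?_
    rw [← Finset.sum_subset (Finset.subset_univ _) (fun x _ hx => ?_)]
    · refine Finset.sum_congr rfl (fun x _ => ?_)
      by_cases hx : x ∈ Subgroup.centralizer (P : Set G)
      · rw [if_pos hx, if_pos hx, if_pos (Subgroup.mul_mem _ (Subgroup.inv_mem _ hx) hc)]
      · rw [if_neg hx, if_neg hx, zero_mul]
    · rw [if_neg]
      intro hxc
      exact hx (Finset.mem_map.mpr ⟨⟨x, hCH hxc⟩, Finset.mem_univ _, rfl⟩)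
  · symm
    refine Finset.sum_eq_zero (fun x _ => ?_)
    by_cases hx : (x : G) ∈ Subgroup.centralizer (P : Set G)
    · rw [if_pos hx, if_neg (fun h2 => hc ?_), mul_zero]
      have h3 := Subgroup.mul_mem _ hx h2
      rwa [mul_inv_cancel_left] at h3
    · rw [if_neg hx, zero_mul]

theorem resIn_one : resIn (M := M) H (1 : Zint M G) = 1 := by
  classical
  refine Subtype.ext (MonoidAlgebra.coeff_injective (Finsupp.ext fun h => ?_))
  change (1 : CA G).coeff (h : G) = (1 : CA H).coeff h
  simp only [MonoidAlgebra.one_def, MonoidAlgebra.coeff_single, Finsupp.single_apply]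
  exact if_congr ⟨fun e => Subtype.ext e, fun e => congrArg Subtype.val e⟩ rfl rfl

/-- The induced reduced central character, as a ring homomorphism, for `P·C(P) ≤ H ≤ N(P)`. -/
def brauerHom (hM : IsPModular p M) (hP : IsPGroup p P) (hPH : P ≤ H)
    (hCH : Subgroup.centralizer (P : Set G) ≤ H) (hHN : H ≤ Subgroup.normalizer (P : Set G))
    (ξ : IrrCharacter H) : Zint M G →+* Res M :=
  { indBomega H ξ with
    map_one' := by
      show bomega ξ (resIn H 1) = 1
      rw [resIn_one, map_one]
    map_mul' := fun a b => by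
      show bomega ξ (resIn H (a * b)) = bomega ξ (resIn H a) * bomega ξ (resIn H b)
      rw [← bomega_truncC hM hP hPH hHN ξ (resIn H (a * b)),
        bomega_eq_of_red_eq ξ (red_truncC_mul hM hP hCH hHN a b), map_mul,
        bomega_truncC hM hP hPH hHN, bomega_truncC hM hP hPH hHN] }

/-- A block of a subgroup between `P·C(P)` and `N(P)` induces a block. -/
theorem exists_inducedBlock (hM : IsPModular p M) (hP : IsPGroup p P) (hPH : P ≤ H)
    (hCH : Subgroup.centralizer (P : Set G) ≤ H) (hHN : H ≤ Subgroup.normalizer (P : Set G))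
    {b : Set (IrrCharacter H)} (hb : IsPBlock M b) :
    ∃ B, IsInducedBlock M H b B := by
  obtain ⟨ξ, hξ⟩ := IsPBlock.nonempty hb
  obtain ⟨χ, hχ⟩ := exists_bomega_eq (brauerHom hM hP hPH hCH hHN ξ) (fun c => by
    show indBomega H ξ (scal M c) = res M c
    rw [← mul_one (scal M c : Zint M G), indBomega_scal_mul, indBomega_apply, resIn_one, map_one,
      mul_one])
  exact ⟨blockOf M (χ : G → ℂ), isPBlock_eq_blockOf hb hξ ▸
    isInducedBlock_of_mem H (fun a => RingHom.congr_fun hχ a)⟩

end subgroup

end CfsgLib.Blocks
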