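import Cfsg.Agent.Lib.Blocks.Consequences
import Cfsg.Agent.Lib.Blocks.Covering
import Cfsg.Agent.Lib.CharNormal.Basic

/-!
# Roots of a block in `P C(P)`

Transitivity of induction and conjugacy of the blocks of `P C(P)` inducing a block with defect
group `P`.
-/

set_option autoImplicit false

noncomputable section

namespace CfsgLib.Blocks

open Cfsg CfsgLib.CharNormal
open scoped ComplexConjugate

section iso

variable {M : Ideal AlgInt} [M.IsMaximal] {H K : Type*} [Group H] [Group K] [Fintype H] [Fintype K]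

/-- Transport of central characters along an isomorphism. -/
theorem bomega_comp_mulEquiv (e : K ≃* H) (ξ : IrrCharacter H) (ξ' : IrrCharacter K)
    (hξ : (ξ' : K → ℂ) = (ξ : H → ℂ) ∘ e) (a : Zint M H) (a' : Zint M K)
    (ha : ∀ k : K, (a' : CA K).coeff k = (a : CA H).coeff (e k)) : bomega ξ' a' = bomega ξ a := by
  rw [bomega_apply, bomega_apply]
  refine congrArg _ (Subtype.ext ?_)
  rw [coe_zomega, coe_zomega, omega, omega, hξ, Function.comp_apply, map_one, charLin_apply, charLin_apply]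
  congr 1
  exact Fintype.sum_equiv e.toEquiv _ _ fun k => by simp [ha]

end iso

variable {M : Ideal AlgInt} [M.IsMaximal] {G : Type*} [Group G] [Fintype G] {p : ℕ} [hp : Fact p.Prime]

omit [Fintype G] in
theorem normalizer_le_normalizer_sup (P : Subgroup G) :
    Subgroup.normalizer (P : Set G) ≤
      Subgroup.normalizer ((P ⊔ Subgroup.centralizer (P : Set G) : Subgroup G) : Set G) := by
  have h : ∀ n ∈ Subgroup.normalizer (P : Set G), ∀ w ∈ P ⊔ Subgroup.centralizer (P : Set G),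
      n * w * n⁻¹ ∈ P ⊔ Subgroup.centralizer (P : Set G) := by
    intro n hn w hw
    have : P ⊔ Subgroup.centralizer (P : Set G) ≤
        (P ⊔ Subgroup.centralizer (P : Set G)).comap (MulAut.conj n).toMonoidHom := by
      refine sup_le (fun v hv => ?_) fun v hv => ?_
      · exact Subgroup.mem_sup_left ((Subgroup.mem_normalizer_iff.mp hn v).mp hv)
      · exact Subgroup.mem_sup_right (conj_mem_centralizer hn hv)
    exact this hw
  intro n hn
  refine Subgroup.mem_normalizer_iff.mpr fun w => ⟨h n hn w, fun hw => ?_⟩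
  have h2 := h n⁻¹ (inv_mem hn) _ hw
  simpa [mul_assoc] using h2

/-- A block of `H` inducing a block with defect group `P`, for `P C(P) ≤ H ≤ N(P)`, has defect group `P`. -/
theorem defectGroup_of_inducing (hM : IsPModular p M) {P H : Subgroup G} [Fintype H] (hPH : P ≤ H)
    (hHN : H ≤ Subgroup.normalizer (P : Set G)) {b : Set (IrrCharacter H)} {B : Set (IrrCharacter G)}
    (hind : IsInducedBlock M H b B) (hP : IsDefectGroup p M B P) :
    IsDefectGroup p M b (P.subgroupOf H) := by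
  have hb := ((isInducedBlock_iff H).mp hind).1
  obtain ⟨E, hE⟩ := exists_isDefectGroup (p := p) hb
  have hn : (P.subgroupOf H).Normal := (Subgroup.normal_subgroupOf_iff_le_normalizer hPH).mpr hHN
  have hle : P.subgroupOf H ≤ E := normal_le_defect hM hb hE
    ((IsDefectGroup.isPGroup hP).of_equiv (Subgroup.subgroupOfEquivOfLe hPH).symm)
  obtain ⟨x, hx⟩ := defect_le_of_induced hM hind hE hP
  have h1 := card_le_of_cj_le hx
  rw [Subgroup.card_map_of_injective H.subtype_injective,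
    ← Nat.card_congr (Subgroup.subgroupOfEquivOfLe hPH).toEquiv] at h1
  rwa [Subgroup.eq_of_le_of_card_ge hle h1]

set_option maxHeartbeats 800000 in
/-- Blocks of `P C(P)` inducing a block with defect group `P` are conjugate under `N(P)`. -/
theorem roots_conj (hM : IsPModular p M) {P : Subgroup G} {B : Set (IrrCharacter G)} (hB : IsPBlock M B)
    (hP : IsDefectGroup p M B P) [Fintype ↥(P ⊔ Subgroup.centralizer (P : Set G))]
    {b b' : Set (IrrCharacter ↥(P ⊔ Subgroup.centralizer (P : Set G)))}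
    (hb : IsInducedBlock M (P ⊔ Subgroup.centralizer (P : Set G)) b B)
    (hb' : IsInducedBlock M (P ⊔ Subgroup.centralizer (P : Set G)) b' B) :
    ∃ n ∈ Subgroup.normalizer (P : Set G), ∀ θ ∈ b, ∃ θ' ∈ b',
      ∀ x : ↥(P ⊔ Subgroup.centralizer (P : Set G)),
        ∀ hx : n * (x : G) * n⁻¹ ∈ P ⊔ Subgroup.centralizer (P : Set G),
          (θ' : ↥(P ⊔ Subgroup.centralizer (P : Set G)) → ℂ) x =
            (θ : ↥(P ⊔ Subgroup.centralizer (P : Set G)) → ℂ) ⟨n * (x : G) * n⁻¹, hx⟩ := by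
  classical
  obtain ⟨hbb, -, hbB⟩ := (isInducedBlock_iff _).mp hb
  obtain ⟨hb'b, -, hb'B⟩ := (isInducedBlock_iff _).mp hb'
  have hPp := IsDefectGroup.isPGroup hP
  have hLN : P ⊔ Subgroup.centralizer (P : Set G) ≤ Subgroup.normalizer (P : Set G) :=
    sup_le Subgroup.le_normalizer (Subgroup.centralizer_le_normalizer _)
  let _ := Fintype.ofFinite (Subgroup.normalizer (P : Set G))
  obtain ⟨L', hL'⟩ : ∃ L' : Subgroup (Subgroup.normalizer (P : Set G)),
      L' = (P ⊔ Subgroup.centralizer (P : Set G)).subgroupOf (Subgroup.normalizer (P : Set G)) := ⟨_, rfl⟩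
  let _ := Fintype.ofFinite L'
  have hL'n : L'.Normal := by
    rw [hL']
    exact (Subgroup.normal_subgroupOf_iff_le_normalizer hLN).mpr (normalizer_le_normalizer_sup P)
  let e : L' ≃* ↥(P ⊔ Subgroup.centralizer (P : Set G)) :=
    (MulEquiv.subgroupCongr hL').trans (Subgroup.subgroupOfEquivOfLe hLN)
  have he : ∀ x : L', ((e x : ↥(P ⊔ Subgroup.centralizer (P : Set G))) : G) =
      ((x : Subgroup.normalizer (P : Set G)) : G) := fun x => rfl
  -- the block of the normaliser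
  obtain ⟨B₁, ⟨hB₁, -, hB₁B⟩, hB₁u⟩ := existsUnique_inducing_with_defect hM hPp hB hP
  have hn' : (P.subgroupOf (Subgroup.normalizer (P : Set G))).Normal := Subgroup.normal_in_normalizer
  have key : ∀ (c : Set (IrrCharacter ↥(P ⊔ Subgroup.centralizer (P : Set G)))),
      IsInducedBlock M (P ⊔ Subgroup.centralizer (P : Set G)) c B → ∀ ξ ∈ c,
        ∀ η ∈ B₁, ∀ a : Zint M (Subgroup.normalizer (P : Set G)),
          indBomega L' (⟨_, isIrr_comp_mulEquiv ξ.2 e⟩ : IrrCharacter L') a = bomega η a := by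
    intro c hc ξ hξ η hη a
    obtain ⟨-, -, hcB⟩ := (isInducedBlock_iff _).mp hc
    set ξ' : IrrCharacter L' := ⟨_, isIrr_comp_mulEquiv ξ.2 e⟩
    obtain ⟨B₂, hB₂⟩ := exists_inducedBlock (H := L') hM
      (P := P.subgroupOf (Subgroup.normalizer (P : Set G)))
      (hPp.of_equiv (Subgroup.subgroupOfEquivOfLe Subgroup.le_normalizer).symm)
      (by rw [hL']; exact Subgroup.comap_mono le_sup_left)
      (fun v hv => by
        rw [hL', Subgroup.mem_subgroupOf]
        refine Subgroup.mem_sup_right (Subgroup.mem_centralizer_iff.mpr fun w hw => ?_)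
        exact congrArg Subtype.val (Subgroup.mem_centralizer_iff.mp hv ⟨w, Subgroup.le_normalizer hw⟩
          (Subgroup.mem_subgroupOf.mpr hw)))
      (le_top.trans (Subgroup.normalizer_eq_top (H := P.subgroupOf (Subgroup.normalizer (P : Set G)))).ge)
      (isPBlock_blockOf (M := M) ξ')
    obtain ⟨-, hB₂b, hB₂i⟩ := (isInducedBlock_iff L').mp hB₂
    obtain ⟨η₂, hη₂⟩ := IsPBlock.nonempty hB₂b
    obtain ⟨χ, hχ⟩ := IsPBlock.nonempty hB
    have htrans : IsInducedBlock M (Subgroup.normalizer (P : Set G)) B₂ B := by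
      have h : ∀ a : Zint M G, indBomega (Subgroup.normalizer (P : Set G)) η₂ a = bomega χ a := by
        intro a
        rw [indBomega_apply, ← hB₂i ξ' (mem_blockOf_self ξ') η₂ hη₂, ← hcB ξ hξ χ hχ, indBomega_apply,
          indBomega_apply]
        refine bomega_comp_mulEquiv e ξ ξ' rfl _ _ fun k => ?_
        simp only [resIn, AddMonoidHom.coe_mk, ZeroHom.coe_mk, coeff_ofFun, he]
      have h2 := isInducedBlock_of_mem (M := M) (Subgroup.normalizer (P : Set G)) h
      rwa [← isPBlock_eq_blockOf hB₂b hη₂, ← isPBlock_eq_blockOf hB hχ] at h2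
    have hB₂def := defectGroup_of_inducing hM Subgroup.le_normalizer le_rfl htrans hP
    have h12 : B₂ = B₁ := hB₁u B₂ ⟨hB₂b, hB₂def, htrans⟩
    exact hB₂i ξ' (mem_blockOf_self ξ') η (h12.symm ▸ hη) a
  obtain ⟨η, hη⟩ := IsPBlock.nonempty hB₁
  obtain ⟨ψ, hψ⟩ := exists_over (N := L') η.2
  have hconj : ∀ (c : Set (IrrCharacter ↥(P ⊔ Subgroup.centralizer (P : Set G)))),
      IsInducedBlock M (P ⊔ Subgroup.centralizer (P : Set G)) c B → ∀ ξ ∈ c,
        ∃ g, SameBlock M (conjFun L' g (ψ : L' → ℂ)) ((ξ : _ → ℂ) ∘ e) := by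
    intro c hc ξ hξ
    refine exists_conj_sameBlock_of_congr (M := M) η.2 hψ
      (θ' := (⟨_, isIrr_comp_mulEquiv ξ.2 e⟩ : IrrCharacter L')) fun n => ?_
    have h := (indBomega_eq_iff L' _ η).mp (key c hc ξ hξ η hη) (n : Subgroup.normalizer (P : Set G))
    rw [← neg_sub]
    obtain ⟨u, v, hu, hv, huv⟩ := h
    exact ⟨-u, v, M.neg_mem hu, hv, by rw [← huv]; push_cast; ring⟩
  obtain ⟨θ₀, hθ₀⟩ := IsPBlock.nonempty hbb
  obtain ⟨θ₁, hθ₁⟩ := IsPBlock.nonempty hb'b
  obtain ⟨g, hg⟩ := hconj b hb θ₀ hθ₀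
  obtain ⟨g', hg'⟩ := hconj b' hb' θ₁ hθ₁
  refine ⟨((g⁻¹ * g' : Subgroup.normalizer (P : Set G)) : G), SetLike.coe_mem _, fun θ hθ => ?_⟩
  set θe : IrrCharacter L' := ⟨_, isIrr_comp_mulEquiv θ.2 e⟩
  set θ₀e : IrrCharacter L' := ⟨_, isIrr_comp_mulEquiv θ₀.2 e⟩
  have h1 : SameBlock M (θ₀e : L' → ℂ) (θe : L' → ℂ) :=
    sameBlock_comp_mulEquiv M e ((sameBlock_iff θ₀ θ).mpr (bomega_eq_of_mem hbb hθ₀ hθ))
  have h2 : SameBlock M (conjFun L' g (ψ : L' → ℂ)) (θe : L' → ℂ) :=
    (sameBlock_iff (conjIrr L' g ψ) θe).mpr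
      (((sameBlock_iff (conjIrr L' g ψ) θ₀e).mp hg).trans ((sameBlock_iff θ₀e θe).mp h1))
  have h3 := sameBlock_conjFun h2 (g⁻¹ * g')
  rw [conjFun_conjFun, mul_inv_cancel_left] at h3
  set θ' : IrrCharacter ↥(P ⊔ Subgroup.centralizer (P : Set G)) :=
    ⟨_, isIrr_comp_mulEquiv (conjIrr L' (g⁻¹ * g') θe).2 e.symm⟩
  refine ⟨θ', mem_of_bomega_eq hb'b hθ₁ ((sameBlock_iff θ₁ θ').mp ?_), fun x hx => ?_⟩
  · have h5 : SameBlock M ((θ₁ : _ → ℂ) ∘ e) (conjFun L' (g⁻¹ * g') (θe : L' → ℂ)) :=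
      (sameBlock_iff (⟨_, isIrr_comp_mulEquiv θ₁.2 e⟩ : IrrCharacter L') (conjIrr L' (g⁻¹ * g') θe)).mpr
        (((sameBlock_iff (conjIrr L' g' ψ) (⟨_, isIrr_comp_mulEquiv θ₁.2 e⟩ : IrrCharacter L')).mp hg').symm.trans
          ((sameBlock_iff (conjIrr L' g' ψ) (conjIrr L' (g⁻¹ * g') θe)).mp h3))
    have h4 := sameBlock_comp_mulEquiv M e.symm h5
    have e1 : ((θ₁ : _ → ℂ) ∘ e) ∘ e.symm = (θ₁ : ↥(P ⊔ Subgroup.centralizer (P : Set G)) → ℂ) :=
      funext fun y => by simp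
    rw [e1] at h4
    exact h4
  · change (conjFun L' (g⁻¹ * g') (θe : L' → ℂ)) (e.symm x) = _
    rw [conjFun_apply]
    change (θ : _ → ℂ) (e _) = _
    refine congrArg _ (Subtype.ext ?_)
    rw [he]
    simp only [Subgroup.coe_mul, Subgroup.coe_inv]
    rw [← he, MulEquiv.apply_symm_apply]

end CfsgLib.Blocks
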