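import Cfsg.Prelude.Def_Blocks
import Mathlib.RingTheory.Polynomial.RationalRoot
import Mathlib.RingTheory.Localization.Basic
import Mathlib.RingTheory.Ideal.Quotient.Operations
import Mathlib.Algebra.CharP.Quotient
import Mathlib.Analysis.Complex.Polynomial.Basic
import Mathlib.RingTheory.RootsOfUnity.Complex
import Mathlib.RingTheory.RootsOfUnity.Minpoly
import Mathlib.RingTheory.Polynomial.Cyclotomic.Basic
import Mathlib.Algebra.Algebra.ZMod
import Mathlib.FieldTheory.Finite.Basic
import Mathlib.FieldTheory.IntermediateField.Adjoin.Basic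

/-!
# The ring of local integers at a modular ideal

`locRing M` is the subring of `ℂ` of the numbers `a / b` with `b ∉ M`; `res M` is the map onto the
residue field `AlgInt ⧸ M`.
-/

set_option autoImplicit false

noncomputable section

namespace CfsgLib.Blocks

open Cfsg

variable {M : Ideal AlgInt}

theorem isIntegral_rat_iff (q : ℚ) : IsIntegral ℤ (q : ℂ) ↔ ∃ n : ℤ, (n : ℚ) = q := by
  constructor
  · intro h
    have h' : IsIntegral ℤ q :=
      (isIntegral_algebraMap_iff (B := ℂ) (algebraMap ℚ ℂ).injective).mp h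
    exact IsIntegrallyClosed.algebraMap_eq_of_integral h'
  · rintro ⟨n, rfl⟩
    rw [Rat.cast_intCast]
    exact isIntegral_algebraMap

theorem mem_algInt {z : ℂ} : z ∈ AlgInt ↔ IsIntegral ℤ z := Iff.rfl

theorem coe_ne_zero_of_notMem {b : AlgInt} (hb : b ∉ M) : (b : ℂ) ≠ 0 := by
  intro h
  apply hb
  have : b = 0 := Subtype.ext h
  rw [this]; exact M.zero_mem

theorem natCast_mem_iff {p : ℕ} (hM : IsPModular p M) (n : ℕ) : (n : AlgInt) ∈ M ↔ p ∣ n := by
  obtain ⟨hp, hmax, hpM⟩ := hM
  constructor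
  · intro hn
    by_contra hdvd
    have hc : Nat.Coprime p n := hp.coprime_iff_not_dvd.mpr hdvd
    have := Nat.Coprime.isCoprime hc
    obtain ⟨a, b, hab⟩ := this
    apply hmax.ne_top
    rw [Ideal.eq_top_iff_one]
    have h1 : ((a : AlgInt) * (p : AlgInt) + (b : AlgInt) * (n : AlgInt)) = 1 := by
      exact_mod_cast congrArg (fun z : ℤ => (z : AlgInt)) hab
    rw [← h1]
    exact M.add_mem (M.mul_mem_left _ hpM) (M.mul_mem_left _ hn)
  · rintro ⟨k, rfl⟩
    push_cast
    exact M.mul_mem_right _ hpM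

theorem intCast_mem_iff {p : ℕ} (hM : IsPModular p M) (n : ℤ) :
    (n : AlgInt) ∈ M ↔ (p : ℤ) ∣ n := by
  rw [Int.natCast_dvd]
  rcases Int.natAbs_eq n with h | h
  · conv_lhs => rw [h]
    simpa using natCast_mem_iff hM n.natAbs
  · conv_lhs => rw [h]
    simpa using natCast_mem_iff hM n.natAbs

section locRing

variable (M) [M.IsPrime]

/-- The local integers at `M`, as a subring of `ℂ`. -/
def locRing : Subring ℂ where
  carrier := {z | MemLocalRing M z}
  zero_mem' := ⟨0, 1, fun h => Ideal.IsPrime.ne_top ‹_› ((Ideal.eq_top_iff_one _).mpr h), by simp⟩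
  one_mem' := ⟨1, 1, fun h => Ideal.IsPrime.ne_top ‹_› ((Ideal.eq_top_iff_one _).mpr h), by simp⟩
  add_mem' := by
    rintro x y ⟨a, b, hb, rfl⟩ ⟨c, d, hd, rfl⟩
    refine ⟨a * d + b * c, b * d, fun h => (Ideal.IsPrime.mem_or_mem ‹_› h).elim hb hd, ?_⟩
    have := coe_ne_zero_of_notMem hb
    have := coe_ne_zero_of_notMem hd
    push_cast
    field_simp
  mul_mem' := by
    rintro x y ⟨a, b, hb, rfl⟩ ⟨c, d, hd, rfl⟩
    refine ⟨a * c, b * d, fun h => (Ideal.IsPrime.mem_or_mem ‹_› h).elim hb hd, ?_⟩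
    push_cast
    rw [div_mul_div_comm]
  neg_mem' := by
    rintro x ⟨a, b, hb, rfl⟩
    exact ⟨-a, b, hb, by push_cast; rw [neg_div]⟩

theorem mem_locRing {z : ℂ} : z ∈ locRing M ↔ MemLocalRing M z := Iff.rfl

theorem algInt_le_locRing {z : ℂ} (hz : IsIntegral ℤ z) : z ∈ locRing M :=
  ⟨⟨z, hz⟩, 1, fun h => Ideal.IsPrime.ne_top ‹_› ((Ideal.eq_top_iff_one _).mpr h), by simp⟩

/-- Inclusion of the algebraic integers in the local ring. -/
def ofInt : AlgInt →+* locRing M :=
  (AlgInt.val.toRingHom).codRestrict (locRing M) (fun a => algInt_le_locRing M a.2)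

@[simp] theorem coe_ofInt (a : AlgInt) : ((ofInt M a : locRing M) : ℂ) = (a : ℂ) := rfl

end locRing

section res

variable (M) [M.IsMaximal]

/-- Residue field at `M`. -/
abbrev Res : Type := AlgInt ⧸ M

/-- The numerator in a fixed presentation of a local integer. -/
def num (z : locRing M) : AlgInt := Classical.choose z.2

/-- The denominator in a fixed presentation of a local integer. -/
def den (z : locRing M) : AlgInt := Classical.choose (Classical.choose_spec z.2)

theorem den_notMem (z : locRing M) : den M z ∉ M :=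
  (Classical.choose_spec (Classical.choose_spec z.2)).1

theorem num_eq (z : locRing M) : (num M z : ℂ) = (z : ℂ) * (den M z : ℂ) :=
  (div_eq_iff (coe_ne_zero_of_notMem (den_notMem M z))).mp
    (Classical.choose_spec (Classical.choose_spec z.2)).2

attribute [local instance] Ideal.Quotient.field

omit [M.IsMaximal] in
theorem mk_ne_zero {b : AlgInt} (hb : b ∉ M) : (Ideal.Quotient.mk M b : Res M) ≠ 0 :=
  fun h => hb (Ideal.Quotient.eq_zero_iff_mem.mp h)

/-- Auxiliary residue map. -/
def resFun (z : locRing M) : Res M :=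
  Ideal.Quotient.mk M (num M z) / Ideal.Quotient.mk M (den M z)

theorem resFun_eq (z : locRing M) (a b : AlgInt) (hb : b ∉ M) (h : (z : ℂ) * (b : ℂ) = (a : ℂ)) :
    resFun M z = Ideal.Quotient.mk M a / Ideal.Quotient.mk M b := by
  rw [resFun, div_eq_div_iff (mk_ne_zero M (den_notMem M z)) (mk_ne_zero M hb), ← map_mul, ← map_mul]
  congr 1
  apply Subtype.ext
  push_cast
  rw [num_eq, ← h]
  ring

/-- The residue map of the local ring. -/
def res : locRing M →+* Res M where
  toFun := resFun M
  map_one' := by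
    rw [resFun_eq M 1 1 1 (fun h => Ideal.IsMaximal.ne_top ‹_› ((Ideal.eq_top_iff_one _).mpr h))
      (by simp)]
    simp
  map_zero' := by
    rw [resFun_eq M 0 0 1 (fun h => Ideal.IsMaximal.ne_top ‹_› ((Ideal.eq_top_iff_one _).mpr h))
      (by simp)]
    simp
  map_add' x y := by
    rw [resFun_eq M (x + y) (num M x * den M y + num M y * den M x) (den M x * den M y)
      (fun h => ((Ideal.IsMaximal.isPrime ‹_›).mem_or_mem h).elim (den_notMem M x) (den_notMem M y))
      (by push_cast; rw [num_eq, num_eq]; ring)]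
    rw [resFun, resFun, map_add, map_mul, map_mul, map_mul,
      div_add_div _ _ (mk_ne_zero M (den_notMem M x)) (mk_ne_zero M (den_notMem M y))]
    ring
  map_mul' x y := by
    rw [resFun_eq M (x * y) (num M x * num M y) (den M x * den M y)
      (fun h => ((Ideal.IsMaximal.isPrime ‹_›).mem_or_mem h).elim (den_notMem M x) (den_notMem M y))
      (by push_cast; rw [num_eq, num_eq]; ring)]
    rw [resFun, resFun, map_mul, map_mul, div_mul_div_comm]

theorem res_ofInt (a : AlgInt) : res M (ofInt M a) = Ideal.Quotient.mk M a := by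
  change resFun M (ofInt M a) = _
  rw [resFun_eq M (ofInt M a) a 1
    (fun h => Ideal.IsMaximal.ne_top ‹_› ((Ideal.eq_top_iff_one _).mpr h)) (by simp)]
  simp

theorem res_eq_zero_iff (z : locRing M) : res M z = 0 ↔ MemLocalIdeal M (z : ℂ) := by
  constructor
  · intro h
    refine ⟨num M z, den M z, ?_, den_notMem M z, ?_⟩
    · change resFun M z = 0 at h
      rw [resFun, div_eq_zero_iff] at h
      exact Ideal.Quotient.eq_zero_iff_mem.mp (h.resolve_right (mk_ne_zero M (den_notMem M z)))
    · rw [num_eq, mul_div_assoc, div_self (coe_ne_zero_of_notMem (den_notMem M z)), mul_one]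
  · rintro ⟨a, b, ha, hb, h⟩
    change resFun M z = 0
    rw [resFun_eq M z a b hb (by rw [← h, div_mul_cancel₀ _ (coe_ne_zero_of_notMem hb)]),
      Ideal.Quotient.eq_zero_iff_mem.mpr ha, zero_div]

theorem res_surjective : Function.Surjective (res M) := fun x => by
  obtain ⟨a, rfl⟩ := Ideal.Quotient.mk_surjective x
  exact ⟨ofInt M a, res_ofInt M a⟩

theorem memLocalRing_of_memLocalIdeal {z : ℂ} (h : MemLocalIdeal M z) : z ∈ locRing M := by
  obtain ⟨a, b, -, hb, h⟩ := h
  exact ⟨a, b, hb, h⟩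

theorem memLocalIdeal_sub_iff {x y : locRing M} :
    MemLocalIdeal M ((x : ℂ) - (y : ℂ)) ↔ res M x = res M y := by
  rw [← sub_eq_zero, ← map_sub, res_eq_zero_iff]
  rfl

theorem isUnit_iff_res_ne_zero (z : locRing M) : IsUnit z ↔ res M z ≠ 0 := by
  constructor
  · intro h h0
    have := h.map (res M)
    rw [h0] at this
    exact not_isUnit_zero this
  · intro h
    have hn : num M z ∉ M := fun hn => h (by
      change resFun M z = 0
      rw [resFun, Ideal.Quotient.eq_zero_iff_mem.mpr hn, zero_div])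
    refine IsUnit.of_mul_eq_one (⟨(den M z : ℂ) / (num M z : ℂ), den M z, num M z, hn, rfl⟩) ?_
    apply Subtype.ext
    push_cast
    rw [← mul_div_assoc, ← num_eq, div_self (coe_ne_zero_of_notMem hn)]

theorem memLocalIdeal_intInt_iff {z : ℂ} (hz : IsIntegral ℤ z) :
    MemLocalIdeal M z ↔ (⟨z, hz⟩ : AlgInt) ∈ M := by
  have := res_eq_zero_iff M (ofInt M ⟨z, hz⟩)
  rw [res_ofInt, Ideal.Quotient.eq_zero_iff_mem] at this
  exact this.symm

omit [M.IsMaximal] in
theorem res_charP {p : ℕ} (hM : IsPModular p M) : CharP (Res M) p :=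
  ⟨fun n => by rw [← map_natCast (Ideal.Quotient.mk M), Ideal.Quotient.eq_zero_iff_mem,
    natCast_mem_iff hM]⟩

theorem res_natCast_eq_zero_iff {p : ℕ} (hM : IsPModular p M) (n : ℕ) :
    res M (n : locRing M) = 0 ↔ p ∣ n := by
  rw [map_natCast, ← map_natCast (Ideal.Quotient.mk M), Ideal.Quotient.eq_zero_iff_mem,
    natCast_mem_iff hM]

theorem res_intCast_eq_zero_iff {p : ℕ} (hM : IsPModular p M) (n : ℤ) :
    res M (n : locRing M) = 0 ↔ (p : ℤ) ∣ n := by
  rw [map_intCast, ← map_intCast (Ideal.Quotient.mk M), Ideal.Quotient.eq_zero_iff_mem,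
    intCast_mem_iff hM]

omit [M.IsMaximal] in
/-- Roots of unity of order prime to `p` are separated modulo `M`. -/
theorem rootOfUnity_eq_of_sub_mem {p m : ℕ} (hM : IsPModular p M) (hm : ¬ p ∣ m) {a b : AlgInt}
    (ha : (a : ℂ) ^ m = 1) (hb : (b : ℂ) ^ m = 1) (h : a - b ∈ M) : a = b := by
  by_contra hne
  apply hm
  rw [← natCast_mem_iff hM]
  have ha' : a ^ m = 1 := Subtype.ext (by push_cast; exact ha)
  have hb' : b ^ m = 1 := Subtype.ext (by push_cast; exact hb)
  have hm0 : m ≠ 0 := fun h0 => hm (h0 ▸ dvd_zero p)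
  -- the sum `∑ a^i b^(m-1-i)` vanishes, and is congruent to `m * a^(m-1)`
  have hgeom := geom_sum₂_mul a b m
  rw [ha', hb', sub_self, mul_eq_zero] at hgeom
  have hsum := hgeom.resolve_right (sub_ne_zero.mpr hne)
  have hmk : (Ideal.Quotient.mk M a) = Ideal.Quotient.mk M b := Ideal.Quotient.eq.mpr h
  have : (m : Res M) * (Ideal.Quotient.mk M a) ^ (m - 1) = 0 := by
    have h2 := congrArg (Ideal.Quotient.mk M) hsum
    rw [map_sum, map_zero] at h2
    have h3 : ∀ i ∈ Finset.range m, Ideal.Quotient.mk M (a ^ i * b ^ (m - 1 - i)) =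
        (Ideal.Quotient.mk M a) ^ (m - 1) := by
      intro i hi
      rw [Finset.mem_range] at hi
      rw [map_mul, map_pow, map_pow, ← hmk, ← pow_add, Nat.add_sub_cancel' (by omega)]
    rw [Finset.sum_congr rfl h3, Finset.sum_const, Finset.card_range, nsmul_eq_mul] at h2
    exact h2
  have hu : (Ideal.Quotient.mk M a) ^ (m - 1) * Ideal.Quotient.mk M a = 1 := by
    rw [← pow_succ, Nat.sub_add_cancel (Nat.pos_of_ne_zero hm0), ← map_pow, ha', map_one]
  have h4 : (m : Res M) = 0 := by
    calc (m : Res M) = (m : Res M) * ((Ideal.Quotient.mk M a) ^ (m - 1) * Ideal.Quotient.mk M a) := by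
          rw [hu, mul_one]
      _ = 0 := by rw [← mul_assoc, this, zero_mul]
  rwa [← map_natCast (Ideal.Quotient.mk M), Ideal.Quotient.eq_zero_iff_mem] at h4

theorem locRing_not_ideal_one : ¬ MemLocalIdeal M 1 := fun h =>
  one_ne_zero (α := Res M) (by
    rw [← map_one (res M)]
    exact (res_eq_zero_iff M 1).mpr h)

/-- A root of unity of `p`-power order is congruent to one. -/
theorem res_pPow_rootOfUnity {p : ℕ} (hM : IsPModular p M) {z : locRing M} {k : ℕ}
    (hz : z ^ (p ^ k) = 1) : res M z = 1 := by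
  have : Fact p.Prime := ⟨hM.1⟩
  have : CharP (Res M) p := res_charP M hM
  have : ExpChar (Res M) p := .prime hM.1
  apply iterateFrobenius_inj (Res M) p k
  rw [iterateFrobenius_def, iterateFrobenius_def, ← map_pow, hz, map_one, one_pow]

end res

section residueField

variable (M)

/-- The residue field is algebraic over its prime field: every nonzero residue is a root of unity. -/
theorem exists_pow_sub_one_mem {p : ℕ} (hM : IsPModular p M) (a : AlgInt) (ha : a ∉ M) :
    ∃ m : ℕ, 0 < m ∧ ¬ p ∣ m ∧ a ^ m - 1 ∈ M := by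
  have hp := hM.1
  have hpF : Fact p.Prime := ⟨hp⟩
  have := hM.2.1
  let _ : Field (Res M) := Ideal.Quotient.field M
  have := res_charP M hM
  let _ : Algebra (ZMod p) (Res M) := ZMod.algebra _ p
  set x : Res M := Ideal.Quotient.mk M a with hx
  have hx0 : x ≠ 0 := mk_ne_zero M ha
  have hintZ : IsIntegral ℤ x :=
    IsIntegral.map (Ideal.Quotient.mkₐ ℤ M) (Algebra.IsIntegral.isIntegral a)
  have hint : IsIntegral (ZMod p) x := hintZ.tower_top
  have : FiniteDimensional (ZMod p) (IntermediateField.adjoin (ZMod p) {x}) :=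
    IntermediateField.adjoin.finiteDimensional hint
  have : Finite (IntermediateField.adjoin (ZMod p) {x}) := Module.finite_of_finite (ZMod p)
  let F := IntermediateField.adjoin (ZMod p) {x}
  let _ : Fintype F := Fintype.ofFinite _
  let y : F := ⟨x, IntermediateField.mem_adjoin_simple_self _ x⟩
  have hy0 : y ≠ 0 := fun h => hx0 (congrArg Subtype.val h)
  refine ⟨Fintype.card F - 1, Nat.sub_pos_of_lt Fintype.one_lt_card, ?_, ?_⟩
  · intro hdvd
    have hc : (p : ℕ) ∣ Fintype.card F := by
      have : CharP F p := charP_of_injective_algebraMap (algebraMap (ZMod p) F).injective p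
      obtain ⟨n, -, hn⟩ := FiniteField.card F p
      rw [hn]; exact dvd_pow_self p n.ne_zero
    have h1 := Nat.dvd_sub hc hdvd
    rw [Nat.sub_sub_self Fintype.one_lt_card.le] at h1
    exact hp.one_lt.not_ge (Nat.le_of_dvd one_pos h1)
  · rw [← Ideal.Quotient.eq_zero_iff_mem, map_sub, map_pow, map_one, sub_eq_zero, ← hx]
    exact congrArg Subtype.val (FiniteField.pow_card_sub_one_eq_one y hy0)

/-- Every algebraic integer outside `M` is congruent to a root of unity of order prime to `p`. -/
theorem exists_rootOfUnity_sub_mem {p : ℕ} (hM : IsPModular p M) (a : AlgInt) (ha : a ∉ M) :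
    ∃ ε : AlgInt, (∃ m : ℕ, ¬ p ∣ m ∧ (ε : ℂ) ^ m = 1) ∧ a - ε ∈ M := by
  obtain ⟨m, hm0, hpm, hmem⟩ := exists_pow_sub_one_mem M hM a ha
  have hmax := hM.2.1
  have hζ := Complex.isPrimitiveRoot_exp m hm0.ne'
  set ζ : ℂ := Complex.exp (2 * Real.pi * Complex.I / m)
  let z : AlgInt := ⟨ζ, hζ.isIntegral hm0⟩
  have hz : IsPrimitiveRoot z m :=
    IsPrimitiveRoot.of_map_of_injective (f := AlgInt.val) hζ Subtype.val_injective
  have hfac : a ^ m - 1 = ∏ i ∈ Polynomial.nthRootsFinset m (1 : AlgInt), (a - i) := by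
    have h := congrArg (Polynomial.eval a) (Polynomial.X_pow_sub_one_eq_prod hm0 hz)
    rw [Polynomial.eval_prod] at h
    simp only [Polynomial.eval_sub, Polynomial.eval_pow, Polynomial.eval_X, Polynomial.eval_one,
      Polynomial.eval_C] at h
    exact h
  rw [hfac] at hmem
  obtain ⟨i, him, hi⟩ := hmax.isPrime.prod_mem_iff.mp hmem
  refine ⟨i, ⟨m, hpm, ?_⟩, hi⟩
  rw [Polynomial.mem_nthRootsFinset hm0] at him
  exact_mod_cast congrArg Subtype.val him

end residueField

end CfsgLib.Blocks
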