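import Cfsg.Agent.Lib.Blocks.Defect

/-!
# Brauer's first main theorem
-/

set_option autoImplicit false

noncomputable section

namespace CfsgLib.Blocks

open Cfsg

variable {M : Ideal AlgInt} [M.IsMaximal] {G : Type*} [Group G] [Fintype G] {p : ℕ} [hp : Fact p.Prime]

omit hp in
/-- An element idempotent modulo `M` and nonzero there is seen by some reduced central character. -/
theorem exists_bomega_ne_zero {a : Zint M G} (hid : red (a * a) = red a) (hne : red a ≠ 0) :
    ∃ ξ : IrrCharacter G, bomega ξ a ≠ 0 := by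
  by_contra hc
  push Not at hc
  obtain ⟨u, hu⟩ := Zint_isUnit (a := 1 - a) (fun ξ => by
    rw [map_sub, map_one, hc, sub_zero]; exact one_ne_zero)
  apply hne
  have h : red a * red (u : Zint M G) = 0 := by
    rw [← map_mul, hu, mul_sub, mul_one, map_sub, hid, sub_self]
  calc red a = red a * red (u : Zint M G) * red ((u⁻¹ : (Zint M G)ˣ) : Zint M G) := by
        rw [mul_assoc, ← map_mul, Units.mul_inv, map_one, mul_one]
    _ = 0 := by rw [h, zero_mul]

variable {P : Subgroup G} [hN : Fintype ↥(Subgroup.normalizer (P : Set G))]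

omit hp in
theorem isPBlock_idem_bomega {B : Set (IrrCharacter G)} (hB : IsPBlock M B) {χ : IrrCharacter G}
    (h : bomega χ (idem hB) ≠ 0) : χ ∈ B := by
  classical
  rw [bomega_idem] at h
  by_contra hn
  exact h (if_neg hn)

/-- A class with defect group `P` meets `C(P)` in the class of `N(P)`. -/
theorem bomega_zclass_induced (hM : IsPModular p M) (hP : IsPGroup p P)
    (ξ : IrrCharacter ↥(Subgroup.normalizer (P : Set G))) (c : ↥(Subgroup.normalizer (P : Set G)))
    (hc : IsClassDefect p (c : G) P) :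
    indBomega (Subgroup.normalizer (P : Set G)) ξ (zclass M (c : G)) = bomega ξ (zclass M c) := by
  classical
  rw [indBomega_apply, ← bomega_truncC hM hP Subgroup.le_normalizer le_rfl ξ (resIn _ _),
    ← bomega_truncC hM hP Subgroup.le_normalizer le_rfl ξ (zclass M c)]
  refine bomega_eq_of_red_eq ξ (MonoidAlgebra.coeff_injective (Finsupp.ext fun h => ?_))
  rw [coeff_red, coeff_red, rcoeff_truncC, rcoeff_truncC, rcoeff_resIn, rcoeff_zclass, rcoeff_zclass]
  by_cases hh : (h : G) ∈ Subgroup.centralizer (P : Set G)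
  · rw [if_pos hh, if_pos hh]
    refine if_congr ⟨fun hg => ?_, fun hg => ?_⟩ rfl rfl
    · obtain ⟨n, hn, hne⟩ := exists_normalizer_conj hc (IsConj.refl (c : G)) hg hc.mem_centralizer hh
      exact isConj_iff.mpr ⟨⟨n, hn⟩, Subtype.ext hne⟩
    · obtain ⟨n, rfl⟩ := isConj_iff.mp hg
      exact isConj_iff.mpr ⟨n, rfl⟩
  · rw [if_neg hh, if_neg hh]

omit [Fintype G] hN in
/-- An element of `N(P)` whose centraliser there has Sylow subgroup `P` has the same defect in `G`. -/
theorem isClassDefect_lift [Finite G] (c : ↥(Subgroup.normalizer (P : Set G)))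
    (hc : IsClassDefect p c (P.subgroupOf (Subgroup.normalizer (P : Set G)))) :
    IsClassDefect p (c : G) P := by
  have hPN : P ≤ Subgroup.normalizer (P : Set G) := Subgroup.le_normalizer
  have hcP : (c : G) ∈ Subgroup.centralizer (P : Set G) := by
    rw [Subgroup.mem_centralizer_iff]
    intro x hx
    have := Subgroup.mem_centralizer_iff.mp hc.mem_centralizer ⟨x, hPN hx⟩
      (Subgroup.mem_subgroupOf.mpr hx)
    exact congrArg Subtype.val this
  refine isClassDefect_of_normalizer ?_ hcP ?_
  · exact hc.isPGroup.of_injective (Subgroup.subgroupOfEquivOfLe hPN).symm.toMonoidHom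
      (MulEquiv.injective _)
  · rw [← Nat.card_congr (Subgroup.subgroupOfEquivOfLe hPN).toEquiv, hc.card]
    congr 3
    refine Nat.card_congr
      { toFun := fun x => ⟨x.1.1, fun y hy => ?_, x.1.2⟩
        invFun := fun x => ⟨⟨x.1, x.2.2⟩, fun y hy => ?_⟩
        left_inv := fun x => rfl
        right_inv := fun x => rfl }
    · rw [Set.mem_singleton_iff.mp hy]
      exact congrArg Subtype.val (x.2 c rfl)
    · rw [Set.mem_singleton_iff.mp hy]
      exact Subtype.ext (x.2.1 (c : G) rfl)

/-- First main theorem, upward direction. -/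
theorem exists_induced_with_defect (hM : IsPModular p M) (hP : IsPGroup p P)
    {b : Set (IrrCharacter ↥(Subgroup.normalizer (P : Set G)))} (hb : IsPBlock M b)
    (hD : IsDefectGroup p M b (P.subgroupOf (Subgroup.normalizer (P : Set G)))) :
    ∃ B, IsPBlock M B ∧ IsDefectGroup p M B P ∧
      IsInducedBlock M (Subgroup.normalizer (P : Set G)) b B := by
  classical
  obtain ⟨B, hB⟩ := exists_inducedBlock (H := Subgroup.normalizer (P : Set G)) hM hP
    Subgroup.le_normalizer (Subgroup.centralizer_le_normalizer _) le_rfl hb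
  obtain ⟨-, hBb, hind⟩ := (isInducedBlock_iff _).mp hB
  refine ⟨B, hBb, ?_, hB⟩
  obtain ⟨ξ, hξ⟩ := IsPBlock.nonempty hb
  obtain ⟨χ, hχ⟩ := IsPBlock.nonempty hBb
  obtain ⟨c, hc, hcD⟩ := isDefectGroup_iff.mp hD
  have hcG := isClassDefect_lift c hcD
  have h1 := ((isDefectClass_iff hb hξ c).mp hc).2
  rw [← bomega_zclass_induced hM hP ξ c hcG, hind ξ hξ χ hχ] at h1
  obtain ⟨E, hE⟩ := exists_isDefectGroup (p := p) hBb
  obtain ⟨x, hx⟩ := defect_le_of_bomega_ne_zero hM hBb hE hχ h1 hcG
  obtain ⟨y, hy⟩ := defect_le_of_induced hM hB hD hE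
  rw [Subgroup.map_subgroupOf_eq_of_le Subgroup.le_normalizer] at hy
  have := cj_eq_of_le hx (card_le_of_cj_le hy)
  rw [← this]
  exact IsDefectGroup.conj hBb hE x

set_option maxHeartbeats 1600000 in
/-- First main theorem, downward direction. -/
theorem existsUnique_inducing_with_defect (hM : IsPModular p M) (hP : IsPGroup p P)
    {B : Set (IrrCharacter G)} (hB : IsPBlock M B) (hD : IsDefectGroup p M B P) :
    ∃! b : Set (IrrCharacter ↥(Subgroup.normalizer (P : Set G))), IsPBlock M b ∧
      IsDefectGroup p M b (P.subgroupOf (Subgroup.normalizer (P : Set G))) ∧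
      IsInducedBlock M (Subgroup.normalizer (P : Set G)) b B := by
  classical
  have hCN : Subgroup.centralizer (P : Set G) ≤ Subgroup.normalizer (P : Set G) :=
    Subgroup.centralizer_le_normalizer _
  have hPN : (P.subgroupOf (Subgroup.normalizer (P : Set G))).Normal :=
    (Subgroup.normal_subgroupOf_iff_le_normalizer Subgroup.le_normalizer).mpr le_rfl
  have hPp : IsPGroup p (P.subgroupOf (Subgroup.normalizer (P : Set G))) :=
    hP.of_injective (Subgroup.subgroupOfEquivOfLe Subgroup.le_normalizer).toMonoidHom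
      (MulEquiv.injective _)
  obtain ⟨χ, hχ⟩ := IsPBlock.nonempty hB
  obtain ⟨y, hy, hyP⟩ := isDefectGroup_iff.mp hD
  set t := truncC P (le_refl (Subgroup.normalizer (P : Set G)))
    (resIn (Subgroup.normalizer (P : Set G)) (idem hB)) with ht
  have hid : red (t * t) = red t := by
    rw [ht, ← red_truncC_mul hM hP hCN, idem_mul_self]
  have hne : red t ≠ 0 := fun h0 => by
    have h1 := congrArg (fun z => z.coeff ⟨y, hCN hyP.mem_centralizer⟩) h0
    simp only [MonoidAlgebra.coeff_zero, Finsupp.coe_zero, Pi.zero_apply, coeff_red, ht] at h1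
    rw [rcoeff_truncC, if_pos hyP.mem_centralizer, rcoeff_resIn] at h1
    exact ((isDefectClass_iff hB hχ y).mp hy).1 h1
  obtain ⟨ξ, hξ⟩ := exists_bomega_ne_zero hid hne
  rw [ht, bomega_truncC hM hP Subgroup.le_normalizer] at hξ
  obtain ⟨B', hB'⟩ := exists_inducedBlock (H := Subgroup.normalizer (P : Set G)) hM hP
    Subgroup.le_normalizer hCN le_rfl (isPBlock_blockOf (M := M) ξ)
  obtain ⟨-, hB'b, hind⟩ := (isInducedBlock_iff _).mp hB'
  obtain ⟨χ', hχ'⟩ := IsPBlock.nonempty hB'b
  have hχ'B : χ' ∈ B := by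
    refine isPBlock_idem_bomega hB ?_
    rw [← hind ξ (mem_blockOf_self ξ) χ' hχ']
    exact hξ
  obtain rfl := isPBlock_eq_of_mem hB'b hB hχ' hχ'B
  obtain ⟨F, hF⟩ := exists_isDefectGroup (p := p) (isPBlock_blockOf (M := M) ξ)
  have hle := normal_le_defect hM (isPBlock_blockOf ξ) hF hPp
  obtain ⟨z, hz⟩ := defect_le_of_induced hM hB' hF hD
  have hFeq : P.subgroupOf (Subgroup.normalizer (P : Set G)) = F := by
    refine Subgroup.eq_of_le_of_card_ge hle ?_
    have := card_le_of_cj_le hz
    rwa [Subgroup.card_map_of_injective (Subgroup.subtype_injective _),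
      ← Nat.card_congr (Subgroup.subgroupOfEquivOfLe (Subgroup.le_normalizer (H := P))).toEquiv] at this
  refine ⟨blockOf M (ξ : ↥(Subgroup.normalizer (P : Set G)) → ℂ), ⟨isPBlock_blockOf ξ, hFeq ▸ hF, hB'⟩, ?_⟩
  rintro b ⟨hb, hbD, hbB⟩
  obtain ⟨η, hη⟩ := IsPBlock.nonempty hb
  have hindb := ((isInducedBlock_iff _).mp hbB).2.2 η hη χ' hχ'
  refine isPBlock_eq_of_mem hb (isPBlock_blockOf ξ) (isPBlock_idem_bomega hb ?_) (mem_blockOf_self ξ)
  have : Finite (ConjClasses ↥(Subgroup.normalizer (P : Set G))) :=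
    Finite.of_surjective _ ConjClasses.mk_surjective
  have := Fintype.ofFinite (ConjClasses ↥(Subgroup.normalizer (P : Set G)))
  have key : bomega ξ (idem hb) = bomega η (idem hb) := by
    rw [bomega_eq_sum, bomega_eq_sum]
    refine Finset.sum_congr rfl (fun C _ => ?_)
    by_cases h0 : rcoeff (idem hb) C.out = 0
    · rw [h0, zero_mul, zero_mul]
    congr 1
    -- both sides vanish unless the class has defect group `P`
    obtain ⟨E, hE⟩ := exists_isClassDefect (p := p) C.out
    obtain ⟨u, hu⟩ := cj_le_defect_of_rcoeff_ne_zero hM hb hbD hE.isPGroup hE.mem_centralizer h0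
    by_cases hPC : C.out ∈ Subgroup.centralizer
        ((P.subgroupOf (Subgroup.normalizer (P : Set G)) : Subgroup _) : Set _)
    · obtain ⟨w, hwC, hw⟩ := hE.exists_cj_le hPp hPC
      have hEP : E = P.subgroupOf (Subgroup.normalizer (P : Set G)) := by
        rw [← cj_eq_of_le hw (card_le_of_cj_le hu)]
        ext q
        rw [mem_cj]
        constructor
        · intro h
          have := hPN.conj_mem _ h w
          simpa [mul_assoc] using this
        · intro h
          have := hPN.conj_mem _ h w⁻¹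
          simpa [mul_assoc] using this
      rw [hEP] at hE
      have hl := isClassDefect_lift C.out hE
      rw [← bomega_zclass_induced hM hP ξ _ hl, hind ξ (mem_blockOf_self ξ) χ' hχ', ← hindb,
        bomega_zclass_induced hM hP η _ hl]
    · have hz : ∀ ζ : IrrCharacter ↥(Subgroup.normalizer (P : Set G)), bomega ζ (zclass M C.out) = 0 :=
        fun ζ => by
          by_contra hne'
          exact hPC (mem_centralizer_of_bomega_ne_zero hM hPp hne')
      rw [hz, hz]
  rw [key, bomega_idem, if_pos hη]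
  exact one_ne_zero

end CfsgLib.Blocks
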