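import Cfsg.Agent.Lib.Blocks.Heights
import Cfsg.Agent.Lib.Blocks.FirstMain
import Mathlib.LinearAlgebra.Dimension.Finite
import Mathlib.LinearAlgebra.Dimension.Constructions

/-!
# Existence of inducing blocks, counting blocks by defect, values at defect classes
-/

set_option autoImplicit false

noncomputable section

namespace CfsgLib.Blocks

open Cfsg
open scoped ComplexConjugate

variable {M : Ideal AlgInt} [M.IsMaximal] {G : Type*} [Group G] [Fintype G] {p : ℕ} [hp : Fact p.Prime]

/-- A block is induced from `H` (`P C(P) ≤ H ≤ N(P)`) iff `P` is conjugate into a defect group. -/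
theorem exists_inducing_iff (hM : IsPModular p M) {P H : Subgroup G} [Fintype H] (hP : IsPGroup p P)
    (hPH : P ≤ H) (hCH : Subgroup.centralizer (P : Set G) ≤ H)
    (hHN : H ≤ Subgroup.normalizer (P : Set G)) {B : Set (IrrCharacter G)} (hB : IsPBlock M B) :
    (∃ b : Set (IrrCharacter H), IsInducedBlock M H b B) ↔
      ∃ D : Subgroup G, IsDefectGroup p M B D ∧ ∃ x : G, cj x P ≤ D := by
  classical
  constructor
  · rintro ⟨b, hb⟩
    obtain ⟨D, hD⟩ := exists_isDefectGroup (p := p) hB
    obtain ⟨E, hE⟩ := exists_isDefectGroup (p := p) ((isInducedBlock_iff H).mp hb).1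
    obtain ⟨x, hx⟩ := defect_le_of_induced hM hb hE hD
    have hn : (P.subgroupOf H).Normal := (Subgroup.normal_subgroupOf_iff_le_normalizer hPH).mpr hHN
    have hle : P.subgroupOf H ≤ E :=
      normal_le_defect hM ((isInducedBlock_iff H).mp hb).1 hE
        (hP.of_equiv (Subgroup.subgroupOfEquivOfLe hPH).symm)
    refine ⟨D, hD, x, (cj_mono x ?_).trans hx⟩
    rw [← Subgroup.map_subgroupOf_eq_of_le hPH]
    exact Subgroup.map_mono hle
  · rintro ⟨D, hD, x, hx⟩
    obtain ⟨c, hc, hne⟩ := (exists_rcoeff_ne_zero_iff hM hB hD hP).mpr ⟨x, hx⟩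
    set t : Zint M H := truncC P hHN (resIn H (idem hB)) with ht
    have hid : red (t * t) = red t := by
      rw [ht, ← red_truncC_mul hM hP hCH hHN, idem_mul_self]
    have hne' : red t ≠ 0 := fun h => hne <| by
      have := congrArg (fun z => z.coeff (⟨c, hCH hc⟩ : H)) h
      simp only [coeff_red, ht, rcoeff_truncC, rcoeff_resIn, if_pos hc, MonoidAlgebra.coeff_zero,
        Finsupp.zero_apply] at this
      exact this
    obtain ⟨ξ, hξ⟩ := exists_bomega_ne_zero hid hne'
    obtain ⟨B', hB'⟩ := exists_inducedBlock hM hP hPH hCH hHN (isPBlock_blockOf (M := M) ξ)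
    obtain ⟨-, hB'b, hind⟩ := (isInducedBlock_iff H).mp hB'
    obtain ⟨χ, hχ⟩ := IsPBlock.nonempty hB'b
    have : bomega χ (idem hB) ≠ 0 := by
      rw [← hind ξ (mem_blockOf_self ξ) χ hχ, indBomega_apply, ← bomega_truncC hM hP hPH hHN ξ]
      exact hξ
    refine ⟨blockOf M (ξ : H → ℂ), ?_⟩
    rwa [← isPBlock_eq_of_mem hB'b hB hχ (isPBlock_idem_bomega hB this)]

omit hp in
/-- The number of blocks of defect at least `d` is at most the number of regular classes of defect
at least `d`. -/
theorem count_le (hM : IsPModular p M) (d : ℕ) :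
    Nat.card {B : Set (IrrCharacter G) // IsPBlock M B ∧ d ≤ blockDefect p B} ≤
      Nat.card {C : ConjClasses G // ∃ g : G, ConjClasses.mk g = C ∧ IsPRegular p g ∧
        d ≤ (Nat.card (Subgroup.centralizer ({g} : Set G))).factorization p} := by
  classical
  have : Fact p.Prime := ⟨hM.1⟩
  have : Finite (ConjClasses G) := Finite.of_surjective _ ConjClasses.mk_surjective
  let _ := Fintype.ofFinite (ConjClasses G)
  set Q : ConjClasses G → Prop := fun C => ∃ g : G, ConjClasses.mk g = C ∧ IsPRegular p g ∧
    d ≤ (Nat.card (Subgroup.centralizer ({g} : Set G))).factorization p with hQ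
  let _ : Fintype {B : Set (IrrCharacter G) // IsPBlock M B ∧ d ≤ blockDefect p B} := Fintype.ofFinite _
  set v : {B : Set (IrrCharacter G) // IsPBlock M B ∧ d ≤ blockDefect p B} → {C // Q C} → Res M :=
    fun B C => rcoeff (idem B.2.1) C.1.out with hv
  choose χ hχ using fun B : {B : Set (IrrCharacter G) // IsPBlock M B ∧ d ≤ blockDefect p B} =>
    IsPBlock.nonempty B.2.1
  have hvan : ∀ (B B' : {B : Set (IrrCharacter G) // IsPBlock M B ∧ d ≤ blockDefect p B})
      (C : ConjClasses G), ¬ Q C → rcoeff (idem B.2.1) C.out * bomega (χ B') (zclass M C.out) = 0 := by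
    intro B B' C hC
    by_cases hs : p ∣ orderOf C.out
    · rw [rcoeff_idem_singular hM B.2.1 hs, zero_mul]
    · by_contra hne
      have hb := blockDefect_le_of_bomega_ne_zero hM B'.2.1 (hχ B') (right_ne_zero_of_mul hne)
      exact hC ⟨C.out, Quotient.out_eq C, hs, B'.2.2.trans hb⟩
  have hδ : ∀ B B', (∑ C : {C // Q C}, v B C * bomega (χ B') (zclass M C.1.out)) =
      if B = B' then 1 else 0 := by
    intro B B'
    have h1 : bomega (χ B') (idem B.2.1) = ∑ C : {C // Q C}, v B C * bomega (χ B') (zclass M C.1.out) := by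
      rw [bomega_eq_sum, ← Finset.sum_subtype (Finset.univ.filter Q) (by simp)
        (fun C => rcoeff (idem B.2.1) C.out * bomega (χ B') (zclass M C.out))]
      symm
      exact Finset.sum_filter_of_ne fun C _ h => by_contra fun hC => h (hvan B B' C hC)
    rw [← h1, bomega_idem]
    refine if_congr ⟨fun h => Subtype.ext (isPBlock_eq_of_mem B.2.1 B'.2.1 h (hχ B')), ?_⟩ rfl rfl
    rintro rfl; exact hχ _
  have hli : LinearIndependent (Res M) v := by
    refine Fintype.linearIndependent_iff.mpr fun c hc B' => ?_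
    have := congrArg (fun w => ∑ C : {C // Q C}, w C * bomega (χ B') (zclass M C.1.out)) hc
    simp only [Finset.sum_apply, Pi.smul_apply, smul_eq_mul, Finset.sum_mul, Pi.zero_apply, zero_mul,
      Finset.sum_const_zero] at this
    rw [Finset.sum_comm] at this
    simp only [mul_assoc, ← Finset.mul_sum, hδ, mul_ite, mul_one, mul_zero, Finset.sum_ite_eq',
      Finset.mem_univ, if_true] at this
    exact this
  have := hli.fintype_card_le_finrank
  rw [Module.finrank_fintype_fun_eq_card] at this
  simpa only [Nat.card_eq_fintype_card] using this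

omit hp in
theorem tauClass_ne_zero (hM : IsPModular p M) {B : Set (IrrCharacter G)} {g : G}
    (hg : blockDefect p B = (Nat.card (Subgroup.centralizer ({g} : Set G))).factorization p) :
    tauClass M p B g ≠ 0 := by
  have : Fact p.Prime := ⟨hM.1⟩
  rw [tauClass, dif_pos (tau_frac_mem hM hg.le), Ne,
    res_frac_eq_zero_iff hM (pow_ne_zero _ hM.1.ne_zero) Subgroup.index_ne_zero_of_finite,
    hM.1.factorization_pow, Finsupp.single_eq_same]
  have := index_centralizer_factorization p g
  omega

/-- A character of height zero is nonzero modulo `M` at a defect class. -/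
theorem cval_defectClass_ne_zero (hM : IsPModular p M) {B : Set (IrrCharacter G)} (hB : IsPBlock M B)
    {y : G} (hy : IsDefectClass M B y) {χ : IrrCharacter G} (hχ : χ ∈ B)
    (h0 : blockHeight p B (χ : G → ℂ) = 0) : cval M χ y ≠ 0 := by
  have hd := (blockDefect_eq_of_defectClass hM hB hy).1
  rw [cval_eq_kappa_mul hM hB hχ hd.le]
  exact mul_ne_zero ((kappa_ne_zero_iff hM hB hχ).mpr h0)
    (mul_ne_zero (tauClass_ne_zero hM hd) ((isDefectClass_iff hB hχ y).mp hy).2)

/-- Translating a defect class by a central element of its defect group. -/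
theorem bomega_mul_defectClass_ne_zero (hM : IsPModular p M) {B : Set (IrrCharacter G)}
    (hB : IsPBlock M B) {y : G} (hy : IsDefectClass M B y) {D : Subgroup G} (hD : IsClassDefect p y D)
    {x : G} (hx : x ∈ D) (hz : ∀ w ∈ D, x * w = w * x) {χ : IrrCharacter G} (hχ : χ ∈ B) :
    bomega χ (zclass M (x * y)) ≠ 0 := by
  have hd := (blockDefect_eq_of_defectClass hM hB hy).1
  obtain ⟨η, hη, h0⟩ := exists_height_zero hM hB
  have hxy : Commute x y := Subgroup.mem_centralizer_iff.mp hD.mem_centralizer x hx
  obtain ⟨k, hk⟩ := hD.isPGroup ⟨x, hx⟩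
  have hk' : x ^ (p ^ k) = 1 := by simpa using congrArg Subtype.val hk
  have hle : D ≤ Subgroup.centralizer ({x * y} : Set G) := fun w hw => by
    rw [Subgroup.mem_centralizer_singleton_iff]
    have h1 : Commute w y := Subgroup.mem_centralizer_iff.mp hD.mem_centralizer w hw
    have h2 : Commute w x := (hz w hw).symm
    exact (h2.mul_right h1).eq
  have hge : blockDefect p B ≤
      (Nat.card (Subgroup.centralizer ({x * y} : Set G))).factorization p := by
    refine (hp.out.pow_dvd_iff_le_factorization Nat.card_pos.ne').mp ?_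
    rw [hd, ← hD.card]
    exact Subgroup.card_dvd_of_le hle
  have := cval_defectClass_ne_zero hM hB hy hη h0
  rw [← cval_mul hM η hxy hk', cval_eq_kappa_mul hM hB hη hge] at this
  rw [bomega_eq_of_mem hB hχ hη]
  exact right_ne_zero_of_mul (right_ne_zero_of_mul this)

end CfsgLib.Blocks
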