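import Cfsg.Agent.Lib.Blocks.Heights
import Cfsg.Agent.Lib.Blocks.Consequences

/-!
# The block idempotent lies in the ideal of its defect class; the dimension of a block

* `exists_inv`: an element of the integral centre with nonvanishing reduced characters is invertible;
* `exists_idem_eq_zclass_mul`, `exists_coeff_idem_eq`: `p ^ (c - d)` divides the coefficient at a class
  of defect `c`;
* `exists_coeff_one`: the coefficient at `1` has valuation exactly `a - d`;
* `exists_sum_sq`: `∑ χ(1)²` over a block has valuation exactly `2a - d`.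
-/

set_option autoImplicit false

noncomputable section

namespace CfsgLib.Blocks

open Cfsg
open scoped ComplexConjugate

variable {M : Ideal AlgInt} [M.IsMaximal] {G : Type*} [Group G] [Fintype G] {p : ℕ}

theorem exists_inv {a : Zint M G} (ha : ∀ η : IrrCharacter G, bomega η a ≠ 0) :
    ∃ b : Zint M G, a * b = 1 := by
  classical
  suffices h : ∀ s : Finset (IrrCharacter G), ∃ b : Zint M G, ∀ η ∈ s, zomega η (a * b) = 1 by
    obtain ⟨b, hb⟩ := h Finset.univ
    exact ⟨b, Zint_ext fun η => (hb η (Finset.mem_univ _)).trans (map_one _).symm⟩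
  intro s
  induction s using Finset.induction_on with
  | empty => exact ⟨0, fun η hη => absurd hη (Finset.notMem_empty _)⟩
  | insert η₀ s _ ih =>
    obtain ⟨b, hb⟩ := ih
    obtain ⟨c, hc⟩ := ((isUnit_iff_res_ne_zero M (zomega η₀ a)).mpr (ha η₀)).exists_right_inv
    refine ⟨b + (1 - a * b) * scal M c, fun η hη => ?_⟩
    rw [map_mul, map_add, map_mul, map_sub, map_one, map_mul, zomega_scal]
    rcases Finset.mem_insert.mp hη with rfl | hη
    · rw [mul_add, mul_left_comm, hc, mul_one, add_sub_cancel]
    · have h := hb η hη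
      rw [map_mul] at h
      rw [h, sub_self, zero_mul, add_zero, h]

/-- The block idempotent is a multiple of the class sum of a defect class. -/
theorem exists_idem_eq_zclass_mul {B : Set (IrrCharacter G)} (hB : IsPBlock M B) {y : G}
    (hy : IsDefectClass M B y) : ∃ z : Zint M G, idem hB = zclass M y * z := by
  classical
  obtain ⟨b, hb⟩ := exists_inv (a := idem hB * zclass M y + (1 - idem hB)) fun η => by
    rw [map_add, map_mul, map_sub, map_one, bomega_idem]
    by_cases hη : η ∈ B
    · rw [if_pos hη, one_mul, sub_self, add_zero]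
      exact ((isDefectClass_iff hB hη y).mp hy).2
    · rw [if_neg hη, zero_mul, sub_zero, zero_add]
      exact one_ne_zero
  refine ⟨idem hB * b, ?_⟩
  have h2 : idem hB * (idem hB * zclass M y + (1 - idem hB)) = idem hB * zclass M y := by
    rw [mul_add, ← mul_assoc, idem_mul_self, mul_sub, mul_one, idem_mul_self, sub_self, add_zero]
  calc idem hB = idem hB * (idem hB * zclass M y + (1 - idem hB)) * b := by
        rw [mul_assoc, hb, mul_one]
    _ = _ := by rw [h2, mul_comm (idem hB) (zclass M y), mul_assoc]

variable [hp : Fact p.Prime]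

/-- `p ^ (c - d)` divides the coefficient of the idempotent at a class of defect `c`. -/
theorem exists_coeff_idem_eq (hM : IsPModular p M) {B : Set (IrrCharacter G)} (hB : IsPBlock M B)
    (g : G) : ∃ w : locRing M, ((idem hB : Zint M G) : CA G).coeff g =
      ((p ^ ((Nat.card (Subgroup.centralizer ({g} : Set G))).factorization p - blockDefect p B) : ℕ) : ℂ) *
        (w : ℂ) := by
  classical
  obtain ⟨χ, hχ⟩ := IsPBlock.nonempty hB
  obtain ⟨y, hy⟩ := exists_defectClass hB hχ
  have hd := (blockDefect_eq_of_defectClass hM hB hy).1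
  obtain ⟨z, hz⟩ := exists_idem_eq_zclass_mul hB hy
  set C := Subgroup.centralizer ({g} : Set G)
  set n := p ^ ((Nat.card C).factorization p - blockDefect p B)
  have hn : (n : ℂ) ≠ 0 := by exact_mod_cast pow_ne_zero _ hp.out.ne_zero
  have hcg : ∀ c : C, (c : G) * g = g * (c : G) := fun c => Subgroup.mem_centralizer_singleton_iff.mp c.2
  -- `C` acts by conjugation on the class of `y`
  let Ω := {k : G // IsConj y k}
  let _ : MulAction C Ω :=
    { smul := fun c k => ⟨(c : G) * k.1 * (c : G)⁻¹, k.2.trans (isConj_iff.mpr ⟨c, rfl⟩)⟩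
      one_smul := fun k => Subtype.ext (show ((1 : C) : G) * k.1 * ((1 : C) : G)⁻¹ = k.1 by simp)
      mul_smul := fun c d k => Subtype.ext (show ((c * d : C) : G) * k.1 * ((c * d : C) : G)⁻¹ =
        (c : G) * ((d : G) * k.1 * (d : G)⁻¹) * (c : G)⁻¹ by rw [Subgroup.coe_mul]; group) }
  let F : Ω → ℂ := fun k => (z : CA G).coeff (k.1⁻¹ * g)
  have hF : ∀ (c : C) (k : Ω), F (c • k) = F k := fun c k => by
    show (z : CA G).coeff (((c : G) * k.1 * (c : G)⁻¹)⁻¹ * g) = (z : CA G).coeff (k.1⁻¹ * g)
    conv_rhs => rw [← (mem_Zint_iff.mp z.2).2 (k.1⁻¹ * g) (c : G)]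
    congr 1
    calc ((c : G) * k.1 * (c : G)⁻¹)⁻¹ * g = (c : G) * k.1⁻¹ * ((c : G)⁻¹ * g) := by group
      _ = (c : G) * k.1⁻¹ * (g * (c : G)⁻¹) := by
        rw [(show Commute (c : G) g from hcg c).inv_left.eq]
      _ = _ := by group
  have hcoef : ((idem hB : Zint M G) : CA G).coeff g = ∑ k : Ω, F k := by
    rw [hz, Subring.coe_mul, coeff_mul_eq_sum]
    simp only [coe_zclass, classSum_coeff, ite_mul, one_mul, zero_mul]
    rw [← Finset.sum_filter]
    exact (Finset.sum_subtype _ (fun k => by simp) fun k => (z : CA G).coeff (k⁻¹ * g))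
  have := Fintype.ofFinite (MulAction.orbitRel.Quotient C Ω)
  let e := MulAction.selfEquivSigmaOrbits C Ω
  have hsum : ∑ k : Ω, F k = ∑ o : MulAction.orbitRel.Quotient C Ω,
      (Nat.card (MulAction.orbit C o.out) : ℂ) * F o.out := by
    rw [← Fintype.sum_equiv e.symm (fun s => F (e.symm s)) F (fun _ => rfl), Fintype.sum_sigma]
    refine Finset.sum_congr rfl fun o _ => ?_
    have hk : ∀ k : MulAction.orbit C o.out, F (e.symm ⟨o, k⟩) = F o.out := fun k => by
      obtain ⟨c, hc⟩ := k.2
      show F (k : Ω) = _
      rw [← hc, hF]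
    rw [Finset.sum_congr rfl fun k _ => hk k, Finset.sum_const, Finset.card_univ, nsmul_eq_mul,
      Nat.card_eq_fintype_card]
  have hdvd : ∀ k : Ω, n ∣ Nat.card (MulAction.orbit C k) := by
    intro k
    have h1 : Nat.card (MulAction.orbit C k) * Nat.card (MulAction.stabilizer C k) = Nat.card C := by
      rw [Nat.card_coe_set_eq, ← MulAction.index_stabilizer, Subgroup.index_mul_card]
    have hk0 : Nat.card (MulAction.orbit C k) ≠ 0 := by
      intro h0
      rw [h0, zero_mul] at h1
      exact Nat.card_pos.ne' h1.symm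
    refine (hp.out.pow_dvd_iff_le_factorization hk0).mpr ?_
    have h2 : Nat.card (MulAction.stabilizer C k) ∣ Nat.card (Subgroup.centralizer ({k.1} : Set G)) := by
      let f : MulAction.stabilizer C k →* Subgroup.centralizer ({k.1} : Set G) :=
        (C.subtype.comp (MulAction.stabilizer C k).subtype).codRestrict _ fun c => by
          have hc := congrArg Subtype.val c.2
          exact Subgroup.mem_centralizer_singleton_iff.mpr (mul_inv_eq_iff_eq_mul.mp hc)
      refine Subgroup.card_dvd_of_injective f fun a b hab => ?_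
      exact Subtype.ext (Subtype.ext (congrArg Subtype.val hab :))
    have h3 := (Nat.factorization_le_iff_dvd Nat.card_pos.ne' Nat.card_pos.ne').mpr h2 p
    have h4 : (Nat.card (Subgroup.centralizer ({k.1} : Set G))).factorization p = blockDefect p B :=
      ((blockDefect_eq_of_defectClass hM hB (isDefectClass_conj hB hy k.2)).1).symm
    have h5 := congrArg (fun m => m.factorization p) h1
    simp only [Nat.factorization_mul hk0 Nat.card_pos.ne', Finsupp.add_apply] at h5
    omega
  choose m hm using fun o : MulAction.orbitRel.Quotient C Ω => hdvd o.out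
  refine ⟨∑ o : MulAction.orbitRel.Quotient C Ω,
    (m o : locRing M) * ⟨F o.out, (mem_Zint_iff.mp z.2).1 _⟩, ?_⟩
  rw [hcoef, hsum, AddSubmonoidClass.coe_finsetSum, Finset.mul_sum]
  refine Finset.sum_congr rfl fun o _ => ?_
  rw [hm o, Subring.coe_mul]
  push_cast
  ring

/-- The coefficient of the idempotent at `1` has valuation exactly `a - d`. -/
theorem exists_coeff_one (hM : IsPModular p M) {B : Set (IrrCharacter G)} (hB : IsPBlock M B) :
    ∃ w : locRing M, res M w ≠ 0 ∧ blockCoeff B 1 =
      ((p ^ ((Nat.card G).factorization p - blockDefect p B) : ℕ) : ℂ) * (w : ℂ) := by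
  classical
  have : Finite (ConjClasses G) := Finite.of_surjective _ ConjClasses.mk_surjective
  have := Fintype.ofFinite (ConjClasses G)
  set a := (Nat.card G).factorization p with ha
  set d := blockDefect p B with hd
  have hda : d ≤ a := Nat.sub_le _ _
  obtain ⟨χ, hχ⟩ := IsPBlock.nonempty hB
  obtain ⟨f, hf⟩ := exists_functional hM hB
  set F := ∑ η : IrrCharacter G, if η ∈ B then (f η : Res M) * kappa M p B η else 0 with hF
  let c : ConjClasses G → ℕ :=
    fun C => (Nat.card (Subgroup.centralizer ({C.out} : Set G))).factorization p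
  have hcinv : ∀ g : G, Subgroup.centralizer ({g⁻¹} : Set G) = Subgroup.centralizer ({g} : Set G) := fun g => by
    ext x
    simp only [Subgroup.mem_centralizer_iff, Set.mem_singleton_iff, forall_eq]
    exact ⟨fun h => by simpa using (Commute.inv_left (show Commute g⁻¹ x from h)).eq,
      fun h => (Commute.inv_left (show Commute g x from h)).eq⟩
  -- the idempotent on classes of defect `d`
  have hcoef : ∀ g : G, (Nat.card (Subgroup.centralizer ({g} : Set G))).factorization p = d →
      ¬ p ∣ orderOf g → rcoeff (idem hB) g⁻¹ = F * (tauClass M p B g * bomega χ (zclass M g)) := by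
    intro g hg hreg
    rw [hf g hreg, hF, Finset.sum_mul]
    refine Finset.sum_congr rfl fun η _ => ?_
    split_ifs with hη
    · rw [cval_eq_kappa_mul hM hB hη hg.ge, bomega_eq_of_mem hB hη hχ]
      ring
    · rw [zero_mul]
  have hone : ∑ C : ConjClasses G,
      (if c C = d then rcoeff (idem hB) C.out * bomega χ (zclass M C.out) else 0) = 1 := by
    refine Eq.trans ?_ ((bomega_eq_sum χ (idem hB)).symm.trans (by rw [bomega_idem, if_pos hχ]))
    refine Finset.sum_congr rfl fun C _ => ?_
    split_ifs with hC
    · rfl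
    · rcases lt_or_gt_of_ne hC with hlt | hgt
      · have h0 : bomega χ (zclass M C.out) = 0 := by
          by_contra h
          exact absurd (blockDefect_le_of_bomega_ne_zero hM hB hχ h) (not_le.mpr hlt)
        rw [h0, mul_zero]
      · have h0 : rcoeff (idem hB) C.out = 0 := by
          by_contra h
          exact absurd (le_blockDefect_of_rcoeff_ne_zero hM hB h) (not_le.mpr hgt)
        rw [h0, zero_mul]
  have hF0 : F ≠ 0 := by
    intro h0
    refine one_ne_zero (hone.symm.trans (Finset.sum_eq_zero fun C _ => ?_))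
    split_ifs with hC
    · by_cases hreg : p ∣ orderOf C.out
      · rw [rcoeff_idem_singular hM hB hreg, zero_mul]
      · have h := hcoef C.out⁻¹ (by rw [hcinv]; exact hC) (by rwa [orderOf_inv])
        rw [inv_inv, h0, zero_mul] at h
        rw [h, zero_mul]
    · rfl
  choose w hw using fun g : G => exists_coeff_idem_eq hM hB g
  have hfrac : ∀ g : G, ((Subgroup.centralizer ({g} : Set G)).index : ℂ) /
      ((p ^ (a - (Nat.card (Subgroup.centralizer ({g} : Set G))).factorization p) : ℕ) : ℂ) ∈ locRing M := by
    intro g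
    refine frac_mem_locRing hM (pow_ne_zero _ hp.out.ne_zero) (.inr ?_)
    rw [hp.out.factorization_pow, Finsupp.single_eq_same]
    have := index_centralizer_factorization p g
    omega
  let T : ConjClasses G → locRing M := fun C =>
    (p : locRing M) ^ (a - c C + 2 * (c C - d) - (a - d)) * ⟨_, hfrac C.out⟩ * (w C.out * w C.out⁻¹)
  refine ⟨∑ C, T C, ?_, ?_⟩
  · -- the reduction
    have hp0 : res M (p : locRing M) = 0 := by
      have : CharP (Res M) p := res_charP M hM
      rw [map_natCast, CharP.cast_eq_zero]
    rw [map_sum, show (∑ C, res M (T C)) = F by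
      rw [← mul_one F, ← hone, Finset.mul_sum]
      refine Finset.sum_congr rfl fun C _ => ?_
      have hca : c C ≤ a := by
        have := index_centralizer_factorization p C.out
        simp only [c, ha]; omega
      by_cases hC : c C = d
      · rw [if_pos hC]
        simp only [T, map_mul, map_pow, hp0, hC]
        rw [show a - d + 2 * (d - d) - (a - d) = 0 by omega, pow_zero, one_mul]
        have hC' : (Nat.card (Subgroup.centralizer ({C.out} : Set G))).factorization p = d := hC
        have hwv : ∀ g : G, (Nat.card (Subgroup.centralizer ({g} : Set G))).factorization p = d →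
            res M (w g) = rcoeff (idem hB) g := by
          intro g hg
          rw [rcoeff]
          refine congrArg (res M) (Subtype.ext ?_)
          have h := hw g
          rw [hg, Nat.sub_self, pow_zero, Nat.cast_one, one_mul] at h
          exact h.symm
        rw [hwv _ hC', hwv _ (by rw [hcinv]; exact hC')]
        by_cases hreg : p ∣ orderOf C.out
        · rw [rcoeff_idem_singular hM hB hreg]; ring
        · rw [hcoef _ hC' hreg]
          have htau : res M ⟨_, hfrac C.out⟩ * tauClass M p B C.out = 1 := by
            rw [tauClass, dif_pos (tau_frac_mem hM hC'.ge), ← map_mul, ← map_one (res M)]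
            refine congrArg (res M) (Subtype.ext ?_)
            rw [Subring.coe_mul, Subring.coe_one]
            show _ / ((p ^ (a - (Nat.card (Subgroup.centralizer ({C.out} : Set G))).factorization p) : ℕ) : ℂ) *
              (((p ^ (a - d) : ℕ) : ℂ) / _) = 1
            rw [hC', div_mul_div_cancel₀ (by exact_mod_cast pow_ne_zero _ hp.out.ne_zero),
              div_self (by exact_mod_cast Subgroup.index_ne_zero_of_finite)]
          linear_combination (rcoeff (idem hB) C.out * F * bomega χ (zclass M C.out)) * htau
      · rw [if_neg hC, mul_zero]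
        have he : a - c C + 2 * (c C - d) - (a - d) ≠ 0 := by omega
        simp only [T, map_mul, map_pow, hp0, zero_pow he, zero_mul]]
    exact hF0
  · -- the value
    have hsq : blockCoeff B 1 = ∑ g : G, ((idem hB : Zint M G) : CA G).coeff g *
        ((idem hB : Zint M G) : CA G).coeff g⁻¹ := by
      have h : ((idem hB * idem hB : Zint M G) : CA G).coeff 1 = blockCoeff B 1 := by
        rw [idem_mul_self]; simp [idem, blockElt]
      rw [← h, Subring.coe_mul, coeff_mul_eq_sum]
      exact Finset.sum_congr rfl fun g _ => by rw [mul_one]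
    rw [hsq, AddSubmonoidClass.coe_finsetSum, Finset.mul_sum,
      ← Finset.sum_fiberwise Finset.univ ConjClasses.mk]
    refine Finset.sum_congr rfl fun C _ => ?_
    have hfib : ∀ g ∈ Finset.univ.filter (fun g : G => ConjClasses.mk g = C),
        ((idem hB : Zint M G) : CA G).coeff g * ((idem hB : Zint M G) : CA G).coeff g⁻¹ =
          ((idem hB : Zint M G) : CA G).coeff C.out * ((idem hB : Zint M G) : CA G).coeff C.out⁻¹ := by
      intro g hg
      have hcj : IsConj C.out g := ConjClasses.mk_eq_mk_iff_isConj.mp
        ((Quotient.out_eq C).trans (Finset.mem_filter.mp hg).2.symm)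
      obtain ⟨x, rfl⟩ := isConj_iff.mp hcj
      rw [(mem_Zint_iff.mp (idem hB).2).2, show (x * C.out * x⁻¹)⁻¹ = x * C.out⁻¹ * x⁻¹ by group,
        (mem_Zint_iff.mp (idem hB).2).2]
    rw [Finset.sum_congr rfl hfib, Finset.sum_const, nsmul_eq_mul]
    have hcard : (Finset.univ.filter (fun g : G => ConjClasses.mk g = C)).card =
        (Subgroup.centralizer ({C.out} : Set G)).index := by
      rw [← CfsgLib.Char.card_isConj_eq_index C.out, Nat.card_eq_fintype_card, Fintype.card_subtype]
      refine congrArg Finset.card (Finset.filter_congr fun g _ => ?_)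
      rw [← ConjClasses.mk_eq_mk_iff_isConj]
      exact ⟨fun h => (Quotient.out_eq C).trans h.symm, fun h => h.symm.trans (Quotient.out_eq C)⟩
    rw [hcard, hw C.out, hw C.out⁻¹, hcinv]
    have hca : c C ≤ a := by
      have := index_centralizer_factorization p C.out
      simp only [c, ha]; omega
    simp only [T, c] at hca ⊢
    push_cast
    set m := (Nat.card (Subgroup.centralizer ({C.out} : Set G))).factorization p with hm
    set N := ((Subgroup.centralizer ({C.out} : Set G)).index : ℂ) with hN
    have hpz : (p : ℂ) ≠ 0 := by exact_mod_cast hp.out.ne_zero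
    rw [mul_div_assoc', mul_comm ((p : ℂ) ^ (a - d))]
    field_simp
    rw [show (p : ℂ) ^ (a - m + 2 * (m - d) - (a - d)) = (p : ℂ) ^ (a - m + 2 * (m - d)) / (p : ℂ) ^ (a - d) from
      pow_sub₀ _ hpz (by omega) |>.trans (by rw [div_eq_mul_inv]), pow_add, pow_mul]
    field_simp
    rw [← hd, ← pow_mul, ← pow_mul, mul_comm 2]
    ring

/-- The sum of the squared degrees of a block has valuation exactly `2a - d`. -/
theorem exists_sum_sq (hM : IsPModular p M) {B : Set (IrrCharacter G)} (hB : IsPBlock M B) :
    (∑ᶠ χ ∈ B, charDegree (χ : G → ℂ) ^ 2).factorization p =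
      2 * (Nat.card G).factorization p - blockDefect p B ∧ (∑ᶠ χ ∈ B, charDegree (χ : G → ℂ) ^ 2) ≠ 0 := by
  classical
  obtain ⟨w, hw, he⟩ := exists_coeff_one hM hB
  set a := (Nat.card G).factorization p with ha
  set d := blockDefect p B
  have hda : d ≤ a := Nat.sub_le _ _
  set S := ∑ᶠ χ ∈ B, charDegree (χ : G → ℂ) ^ 2 with hS
  have hsum : (S : ℂ) = (Nat.card G : ℂ) * blockCoeff B 1 := by
    have hS' : S = ∑ χ : IrrCharacter G, if χ ∈ B then charDegree (χ : G → ℂ) ^ 2 else 0 := by
      rw [hS, finsum_mem_def, finsum_eq_sum_of_fintype]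
      simp only [Set.indicator_apply]
    rw [hS', blockCoeff_eq, ← mul_assoc, mul_inv_cancel₀ CfsgLib.Char.card_ne_zero', one_mul, Nat.cast_sum]
    refine Finset.sum_congr rfl fun χ _ => ?_
    split_ifs
    · rw [charDegree_eq (CfsgLib.Char.isCharacter_of_isIrr χ.2), Complex.conj_natCast]; push_cast; ring
    · simp
  have hw0 : (w : ℂ) ≠ 0 := fun h => hw (by rw [show w = 0 from Subtype.ext h, map_zero])
  have hG0 : Nat.card G ≠ 0 := Nat.card_pos.ne'
  have hP : p ^ (a - d) ≠ 0 := pow_ne_zero _ hp.out.ne_zero
  have hS0 : S ≠ 0 := by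
    intro h0
    rw [h0, Nat.cast_zero, he] at hsum
    exact mul_ne_zero (by exact_mod_cast hG0) (mul_ne_zero (by exact_mod_cast hP) hw0) hsum.symm
  refine ⟨?_, hS0⟩
  have hGP : Nat.card G * p ^ (a - d) ≠ 0 := mul_ne_zero hG0 hP
  have hwval : (S : ℂ) / ((Nat.card G * p ^ (a - d) : ℕ) : ℂ) = (w : ℂ) := by
    rw [hsum, he, div_eq_iff (by exact_mod_cast hGP)]
    push_cast
    ring
  obtain ⟨u, hu⟩ := ((isUnit_iff_res_ne_zero M w).mpr hw).exists_right_inv
  have hinv : ((Nat.card G * p ^ (a - d) : ℕ) : ℂ) / (S : ℂ) = (u : ℂ) := by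
    have h1 : (w : ℂ) * (u : ℂ) = 1 := congrArg Subtype.val hu
    rw [← hwval] at h1
    have hSC : (S : ℂ) ≠ 0 := by exact_mod_cast hS0
    have hGPC : ((Nat.card G * p ^ (a - d) : ℕ) : ℂ) ≠ 0 := by exact_mod_cast hGP
    field_simp at h1 ⊢
    linear_combination -h1
  have h1 := factorization_le_of_frac_mem hM (n := S) hS0 hGP (by rw [hwval]; exact w.2)
  have h2 := factorization_le_of_frac_mem hM (n := Nat.card G * p ^ (a - d)) hGP hS0 (by rw [hinv]; exact u.2)
  rw [Nat.factorization_mul hG0 hP, Finsupp.add_apply, hp.out.factorization_pow, Finsupp.single_eq_same,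
    ← ha] at h1 h2
  omega

end CfsgLib.Blocks
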