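import Cfsg.Agent.Lib.Blocks.Covering
import Cfsg.Agent.Lib.Blocks.PrincipalSection
import Cfsg.Agent.Lib.Blocks.BlockDim
import Cfsg.Agent.Lib.Char.Equiv
import Mathlib.RingTheory.Nakayama

/-!
# Isomorphic principal blocks (Alperin, Dade)

For a normal subgroup `N` of index prime to `p` with `G = N C(P)`, `P` a Sylow subgroup, restriction
is a bijection between the principal blocks. The operators `traceOp ρ c = ∑ ρ(r c r⁻¹)`, `r` over
`N / P`, commute with `N` and reduce to scalars modulo the maximal ideal.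
-/

set_option autoImplicit false

noncomputable section

namespace CfsgLib.Blocks.AlperinDade

open Cfsg
open scoped ComplexConjugate

variable {G : Type*} [Group G] [Fintype G] {p : ℕ} [hp : Fact p.Prime] {M : Ideal AlgInt} [M.IsMaximal]

omit [Fintype G] in
/-- A Sylow subgroup lies in a normal subgroup of index prime to `p`. -/
theorem sylow_le [Finite G] {N : Subgroup G} [N.Normal] (hidx : ¬ p ∣ N.index) (P : Sylow p G) :
    (P : Subgroup G) ≤ N := by
  intro x hx
  obtain ⟨k, hk⟩ := P.isPGroup' ⟨x, hx⟩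
  have hk' : x ^ p ^ k = 1 := congrArg Subtype.val hk
  have h1 : orderOf (x : G ⧸ N) ∣ p ^ k := orderOf_dvd_of_pow_eq_one (by
    rw [← QuotientGroup.mk_pow, hk', QuotientGroup.mk_one])
  have h2 : orderOf (x : G ⧸ N) ∣ N.index := by rw [Subgroup.index_eq_card]; exact orderOf_dvd_natCard _
  have := Nat.dvd_gcd h1 h2
  rw [Nat.Coprime.gcd_eq_one (Nat.Coprime.pow_left k (hp.out.coprime_iff_not_dvd.mpr hidx)), Nat.dvd_one,
    orderOf_eq_one_iff] at this
  exact (QuotientGroup.eq_one_iff x).mp this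

variable (M) in
/-- A congruence to a natural number modulo the maximal ideal. -/
def Cong (z : ℂ) (c : ℕ) : Prop := ∃ w : locRing M, (w : ℂ) = z ∧ res M w = (c : Res M)

/-- The action of the group algebra of a subgroup. -/
def actN (N : Subgroup G) {d : ℕ} (ρ : Representation ℂ G (Fin d → ℂ)) :
    CA N →ₐ[ℂ] Module.End ℂ (Fin d → ℂ) :=
  Representation.asAlgebraHom (ρ.comp N.subtype : Representation ℂ N (Fin d → ℂ))

omit [Fintype G] in
theorem actN_single (N : Subgroup G) {d : ℕ} (ρ : Representation ℂ G (Fin d → ℂ)) (n : N) :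
    actN N ρ (MonoidAlgebra.single n 1) = ρ n := by
  rw [actN, Representation.asAlgebraHom_single_one]; rfl

variable (N : Subgroup G) [hN : N.Normal] [Fintype N] (P : Sylow p G)
  [Fintype (N ⧸ (P : Subgroup G).subgroupOf N)]
  {d : ℕ} (ρ : Representation ℂ G (Fin d → ℂ))

/-- The relative trace of an element of `C(P)`. -/
def traceOp (c : G) : Module.End ℂ (Fin d → ℂ) :=
  ∑ q : N ⧸ (P : Subgroup G).subgroupOf N, ρ ((q.out : G) * c * (q.out : G)⁻¹)

omit [Fintype G] hN [Fintype N] hp in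
theorem traceOp_one : traceOp N P ρ 1 = (Fintype.card (N ⧸ (P : Subgroup G).subgroupOf N) : ℂ) • 1 := by
  simp only [traceOp, mul_one, mul_inv_cancel, map_one, Finset.sum_const, Finset.card_univ]
  rw [← Nat.cast_smul_eq_nsmul ℂ]

omit [Fintype G] [Fintype N] hp in
/-- The trace operator commutes with `N`. -/
theorem traceOp_comm {c : G} (hc : c ∈ Subgroup.centralizer ((P : Subgroup G) : Set G)) (n : N) :
    ρ n * traceOp N P ρ c = traceOp N P ρ c * ρ n := by
  simp only [traceOp, Finset.mul_sum, Finset.sum_mul, ← map_mul]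
  refine Fintype.sum_bijective (fun q => n • q) (MulAction.bijective n) _ _ fun q => ?_
  obtain ⟨⟨h, hh⟩, he⟩ := QuotientGroup.mk_out_eq_mul ((P : Subgroup G).subgroupOf N) (n * q.out)
  have h1 : (n • q).out = n * q.out * h := by
    rw [← he]
    congr 1
    conv_lhs => rw [← QuotientGroup.out_eq' q]
    exact MulAction.Quotient.smul_mk _ n q.out
  rw [h1]
  congr 1
  have hc' : (h : G) * c = c * (h : G) :=
    Subgroup.mem_centralizer_iff.mp hc _ (Subgroup.mem_subgroupOf.mp hh)
  push_cast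
  calc (n : G) * ((q.out : G) * c * (q.out : G)⁻¹)
      = (n : G) * (q.out : G) * ((h : G) * c * (h : G)⁻¹) * ((n : G) * (q.out : G))⁻¹ * (n : G) := by
        rw [hc', mul_inv_cancel_right]; group
    _ = _ := by group

omit [Fintype G] [Fintype N] hp in
/-- `traceOp c` lies in `ρ c` times the span of `ρ N`, uniformly in `ρ`. -/
theorem exists_traceOp_eq_all (c : G) : ∃ y : CA N, ∀ {d' : ℕ} (σ : Representation ℂ G (Fin d' → ℂ)),
    traceOp N P σ c = σ c * actN N σ y := by
  refine ⟨∑ q : N ⧸ (P : Subgroup G).subgroupOf N, MonoidAlgebra.single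
    (⟨c⁻¹ * ((q.out : G) * c * (q.out : G)⁻¹), by
      have h := hN.conj_mem (q.out : G) q.out.2 c⁻¹
      rw [inv_inv] at h
      simpa [mul_assoc] using N.mul_mem h (N.inv_mem q.out.2)⟩ : N) 1, fun σ => ?_⟩
  rw [map_sum, Finset.mul_sum, traceOp]
  refine Finset.sum_congr rfl fun q _ => ?_
  rw [actN_single, ← map_mul, mul_inv_cancel_left]

omit [Fintype G] [Fintype N] hp in
/-- `traceOp c` lies in `ρ c` times the span of `ρ N`. -/
theorem exists_traceOp_eq (c : G) : ∃ y : CA N, traceOp N P ρ c = ρ c * actN N ρ y :=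
  let ⟨y, hy⟩ := exists_traceOp_eq_all N P c
  ⟨y, hy ρ⟩

variable {ρ}

/-- Sums over a triple of cosets, as a central element of the group algebra of `N`. -/
theorem exists_triple (hM : IsPModular p M) {c₁ c₂ c₃ : G}
    (h₁ : c₁ ∈ Subgroup.centralizer ((P : Subgroup G) : Set G))
    (h₂ : c₂ ∈ Subgroup.centralizer ((P : Subgroup G) : Set G))
    (h₃ : c₃ ∈ Subgroup.centralizer ((P : Subgroup G) : Set G)) (h : c₁ * c₂ * c₃ ∈ N) :
    ∃ Y : Zint M N, actN N ρ (Y : CA N) = traceOp N P ρ c₁ * traceOp N P ρ c₂ * traceOp N P ρ c₃ ∧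
      bomega (CfsgLib.Char.irrOne : IrrCharacter N) Y =
        ((Fintype.card (N ⧸ (P : Subgroup G).subgroupOf N) ^ 3 : ℕ) : Res M) := by
  classical
  let Q := N ⧸ (P : Subgroup G).subgroupOf N
  let cj : Q → G → G := fun q c => (q.out : G) * c * (q.out : G)⁻¹
  have hmem : ∀ t : Q × Q × Q, cj t.1 c₁ * cj t.2.1 c₂ * cj t.2.2 c₃ ∈ N := fun t => by
    rw [← QuotientGroup.eq_one_iff, ← (QuotientGroup.eq_one_iff _).mpr h]
    simp only [cj, QuotientGroup.mk_mul, QuotientGroup.mk_inv,
      (QuotientGroup.eq_one_iff _).mpr (SetLike.coe_mem _), one_mul, inv_one, mul_one]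
  let F : Q × Q × Q → N := fun t => ⟨_, hmem t⟩
  let f : N → ℕ := fun n => (Finset.univ.filter fun t => F t = n).card
  have hshift : ∀ (g : N) (q : Q) (c : G), c ∈ Subgroup.centralizer ((P : Subgroup G) : Set G) →
      cj (g • q) c = (g : G) * cj q c * (g : G)⁻¹ := by
    intro g q c hc
    obtain ⟨⟨u, hu⟩, he⟩ := QuotientGroup.mk_out_eq_mul ((P : Subgroup G).subgroupOf N) (g * q.out)
    have h1 : (g • q).out = g * q.out * u := by
      rw [← he]
      congr 1
      conv_lhs => rw [← QuotientGroup.out_eq' q]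
      exact MulAction.Quotient.smul_mk _ g q.out
    simp only [cj, h1]
    have hc' : (u : G) * c = c * (u : G) :=
      Subgroup.mem_centralizer_iff.mp hc _ (Subgroup.mem_subgroupOf.mp hu)
    push_cast
    calc (g : G) * (q.out : G) * (u : G) * c * ((g : G) * (q.out : G) * (u : G))⁻¹
        = (g : G) * (q.out : G) * ((u : G) * c * (u : G)⁻¹) * ((g : G) * (q.out : G))⁻¹ := by group
      _ = _ := by rw [hc', mul_inv_cancel_right]; group
  have hf : ∀ n g : N, f (g * n * g⁻¹) = f n := fun n g => by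
    refine (Finset.card_bij (fun t _ => (g • t.1, g • t.2.1, g • t.2.2)) (fun t ht => ?_)
      (fun a _ b _ hab => ?_) fun t ht => ?_).symm
    · refine Finset.mem_filter.mpr ⟨Finset.mem_univ _, Subtype.ext ?_⟩
      have hF := congrArg Subtype.val (Finset.mem_filter.mp ht).2
      simp only [F, hshift g _ _ h₁, hshift g _ _ h₂, hshift g _ _ h₃] at hF ⊢
      push_cast
      rw [← hF]
      group
    · simp only [Prod.mk.injEq, smul_left_cancel_iff] at hab
      exact Prod.ext hab.1 (Prod.ext hab.2.1 hab.2.2)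
    · refine ⟨(g⁻¹ • t.1, g⁻¹ • t.2.1, g⁻¹ • t.2.2), Finset.mem_filter.mpr ⟨Finset.mem_univ _, Subtype.ext ?_⟩,
        by simp⟩
      have hF := congrArg Subtype.val (Finset.mem_filter.mp ht).2
      simp only [F, hshift g⁻¹ _ _ h₁, hshift g⁻¹ _ _ h₂, hshift g⁻¹ _ _ h₃] at hF ⊢
      push_cast at hF ⊢
      calc _ = (g : G)⁻¹ * (cj t.1 c₁ * cj t.2.1 c₂ * cj t.2.2 c₃) * (g : G) := by group
        _ = _ := by rw [hF]; group
  refine ⟨⟨ofFun fun n => (f n : ℂ), mem_Zint_iff.mpr
    ⟨fun n => by rw [coeff_ofFun]; exact natCast_mem _ _, fun n g => by simp only [coeff_ofFun, hf]⟩⟩, ?_, ?_⟩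
  · have hY : (ofFun fun n => (f n : ℂ) : CA N) = ∑ t, MonoidAlgebra.single (F t) 1 := by
      refine MonoidAlgebra.coeff_injective (Finsupp.ext fun n => ?_)
      rw [coeff_ofFun, MonoidAlgebra.coeff_sum, Finset.sum_apply']
      simp [f, Finsupp.single_apply, Finset.sum_boole, eq_comm]
    show actN N ρ (ofFun fun n => (f n : ℂ)) = _
    rw [hY, map_sum]
    simp only [traceOp, actN_single]
    rw [Fintype.sum_prod_type, Finset.sum_mul_sum, Finset.sum_mul]
    refine Finset.sum_congr rfl fun a _ => ?_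
    rw [Fintype.sum_prod_type, Finset.sum_mul]
    refine Finset.sum_congr rfl fun b _ => ?_
    rw [Finset.mul_sum]
    refine Finset.sum_congr rfl fun e _ => ?_
    rw [← map_mul, ← map_mul]
  · rw [bomega_apply, ← map_natCast (res M)]
    refine congrArg (res M) (Subtype.ext ?_)
    rw [coe_zomega, omega, charLin_apply]
    simp only [CfsgLib.Char.irrOne_apply, mul_one, div_one, coeff_ofFun]
    push_cast
    rw [← Nat.cast_sum, ← Finset.card_eq_sum_card_fiberwise (fun t _ => Finset.mem_univ (F t)),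
      Finset.card_univ, Fintype.card_prod, Fintype.card_prod]
    push_cast
    ring

section member

variable (hM : IsPModular p M) [ρ.IsIrreducible] {χ : IrrCharacter G} (hρ : ρ.character = (χ : G → ℂ))
  (hχ : χ ∈ principalBlock M G)

omit [Fintype (N ⧸ (P : Subgroup G).subgroupOf N)] in
include hρ in
theorem trace_actN (y : CA N) (n : N) :
    LinearMap.trace ℂ (Fin d → ℂ) (actN N ρ y * ρ n) = ∑ θ : IrrCharacter N,
      classInner (fun m : N => (χ : G → ℂ) m) (θ : N → ℂ) *
        charLin (θ : N → ℂ) (y * MonoidAlgebra.single n 1) := by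
  classical
  rw [← actN_single, ← map_mul, actN, ← charLin_eq_trace,
    show Representation.character (ρ.comp N.subtype : Representation ℂ N (Fin d → ℂ)) = fun m : N => (χ : G → ℂ) m from
      funext fun m => congrFun hρ m]
  have h := CfsgLib.Char.classFun_eq_sum (CfsgLib.Char.isClassFunction_of_isCharacter
    (CfsgLib.Char.isCharacter_res N (CfsgLib.Char.isCharacter_of_isIrr χ.2)))
  conv_lhs => rw [h]
  simp only [charLin_apply, Finset.sum_apply, Pi.smul_apply, smul_eq_mul, Finset.mul_sum]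
  rw [Finset.sum_comm]
  exact Finset.sum_congr rfl fun θ _ => Finset.sum_congr rfl fun g _ => by ring

omit [Fintype (N ⧸ (P : Subgroup G).subgroupOf N)] hp in
include hχ in
theorem mem_principal_of_over {θ : IrrCharacter N}
    (hθ : classInner (fun n : N => (χ : G → ℂ) n) (θ : N → ℂ) ≠ 0) : θ ∈ principalBlock M N := by
  classical
  have hone : classInner (fun n : N => ((CfsgLib.Char.irrOne : IrrCharacter G) : G → ℂ) n)
      ((CfsgLib.Char.irrOne : IrrCharacter N) : N → ℂ) ≠ 0 :=
    classInner_res_one_ne_zero (CfsgLib.Char.irrOne : IrrCharacter G).2 fun n _ => rfl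
  obtain ⟨g, hg⟩ := exists_conj_sameBlock_of_congr (M := M) χ.2 hθ (θ' := CfsgLib.Char.irrOne) fun n => by
    rw [← centralChar_eq_icc_of_over (CfsgLib.Char.irrOne : IrrCharacter G).2 hone n.2]
    have h2 := (sameBlock_iff _ _).mpr (((mem_blockOf_iff (CfsgLib.Char.irrOne : IrrCharacter G) χ).mp hχ).symm)
    exact h2 n
  have h2 := sameBlock_conjFun hg g⁻¹
  rw [CfsgLib.CharNormal.conjFun_conjFun, mul_inv_cancel, CfsgLib.CharNormal.conjFun_one] at h2
  rw [show CfsgLib.CharNormal.conjFun N g⁻¹ ((CfsgLib.Char.irrOne : IrrCharacter N) : N → ℂ) =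
    ((CfsgLib.Char.irrOne : IrrCharacter N) : N → ℂ) from funext fun n => rfl] at h2
  exact (mem_blockOf_iff (CfsgLib.Char.irrOne : IrrCharacter N) θ).mpr ((sameBlock_iff θ _).mp h2).symm

omit [Fintype (N ⧸ (P : Subgroup G).subgroupOf N)] hp in
include hρ hχ in
/-- An integral central element of `N` with unit augmentation acts invertibly. -/
theorem isUnit_actN {Y : Zint M N} (hY : bomega (CfsgLib.Char.irrOne : IrrCharacter N) Y ≠ 0) :
    IsUnit (actN N ρ (Y : CA N)) := by
  classical
  set b := principalBlock M N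
  have hb : IsPBlock M b := isPBlock_principalBlock
  set e : Zint M N := idem hb
  obtain ⟨Y', hY'⟩ := exists_inv (a := Y * e + (1 - e)) fun η => by
    rw [map_add, map_mul, map_sub, map_one, bomega_idem]
    split_ifs with hη
    · rw [mul_one, sub_self, add_zero, ← (mem_blockOf_iff (CfsgLib.Char.irrOne : IrrCharacter N) η).mp hη]
      exact hY
    · rw [mul_zero, sub_zero, zero_add]; exact one_ne_zero
  have he : actN N ρ (e : CA N) = 1 := by
    have htr : LinearMap.trace ℂ (Fin d → ℂ) (actN N ρ (e : CA N)) = (d : ℂ) := by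
      have h := trace_actN N hρ (e : CA N) 1
      rw [Subgroup.coe_one, map_one, mul_one] at h
      rw [h]
      have h2 := trace_actN N hρ (1 : CA N) 1
      rw [map_one, one_mul, Subgroup.coe_one, map_one, LinearMap.trace_one, Module.finrank_fin_fun] at h2
      rw [h2]
      refine Finset.sum_congr rfl fun θ _ => ?_
      by_cases h0 : classInner (fun n : N => (χ : G → ℂ) n) (θ : N → ℂ) = 0
      · rw [h0, zero_mul, zero_mul]
      congr 1
      rw [MonoidAlgebra.one_def, charLin_mul_of_central θ.2 (Zint_center e), MonoidAlgebra.single_mul_single,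
        one_mul, mul_one, ← MonoidAlgebra.one_def, ← coe_zomega, zomega_idem,
        if_pos (mem_principal_of_over N hχ h0)]
      simp
    have hidem : actN N ρ (e : CA N) * actN N ρ (e : CA N) = actN N ρ (e : CA N) := by
      rw [← map_mul, ← Subring.coe_mul, idem_mul_self]
    have hproj : LinearMap.IsProj (LinearMap.range (actN N ρ (e : CA N))) (actN N ρ (e : CA N)) :=
      ⟨fun x => LinearMap.mem_range_self _ x, fun x hx => by
        obtain ⟨v, rfl⟩ := hx
        exact LinearMap.congr_fun hidem v⟩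
    rw [hproj.trace] at htr
    have htop : LinearMap.range (actN N ρ (e : CA N)) = ⊤ := Submodule.eq_top_of_finrank_eq (by
      rw [Module.finrank_fin_fun]; exact_mod_cast htr)
    exact LinearMap.ext fun v => hproj.map_id v (htop ▸ Submodule.mem_top)
  have hY2 : actN N ρ (Y : CA N) * actN N ρ (Y' : CA N) = 1 := by
    have h := congrArg (fun z : Zint M N => actN N ρ (z : CA N)) hY'
    simp only [Subring.coe_mul, Subring.coe_add, AddSubgroupClass.coe_sub, Subring.coe_one, map_mul, map_add, map_sub,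
      map_one, he, mul_one, sub_self, add_zero] at h
    exact h
  exact IsUnit.of_mul_eq_one _ hY2

omit hN [ρ.IsIrreducible] [Fintype N] in
include hM in
theorem card_cosets_ne_zero (hPN : (P : Subgroup G) ≤ N) :
    ((Fintype.card (N ⧸ (P : Subgroup G).subgroupOf N) : ℕ) : Res M) ≠ 0 := by
  have := res_charP M hM
  rw [Ne, CharP.cast_eq_zero_iff (Res M) p, ← Nat.card_eq_fintype_card, ← Subgroup.index_eq_card]
  exact fun h => P.not_dvd_index (h.trans (Subgroup.relIndex_dvd_index_of_le hPN))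

variable (hidx : ¬ p ∣ N.index)

include hρ hχ hM hidx in
theorem isUnit_traceOp {c : G} (hc : c ∈ Subgroup.centralizer ((P : Subgroup G) : Set G)) :
    IsUnit (traceOp N P ρ c) := by
  obtain ⟨Y, hY, hYr⟩ := exists_triple (ρ := ρ) N P hM (Subgroup.one_mem _) hc (Subgroup.inv_mem _ hc)
    (by simp : (1 : G) * c * c⁻¹ ∈ N)
  have h := isUnit_actN N hρ hχ (Y := Y) (by
    rw [hYr, Nat.cast_pow]; exact pow_ne_zero _ (card_cosets_ne_zero N P hM (sylow_le hidx P)))
  rw [hY] at h
  obtain ⟨u, hu⟩ := h.exists_right_inv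
  have h0 : (Fintype.card (N ⧸ (P : Subgroup G).subgroupOf N) : ℂ) ≠ 0 :=
    Nat.cast_ne_zero.mpr Fintype.card_ne_zero
  rw [traceOp_one, smul_mul_assoc, one_mul, smul_mul_assoc, smul_mul_assoc, mul_assoc,
    ← mul_smul_comm] at hu
  exact IsUnit.of_mul_eq_one _ hu

variable (hsup : N ⊔ Subgroup.centralizer ((P : Subgroup G) : Set G) = ⊤)

include hsup in
omit [Fintype G] [Fintype N] [Fintype (N ⧸ (P : Subgroup G).subgroupOf N)] [M.IsMaximal] hp in
theorem exists_decomp (g : G) : ∃ c ∈ Subgroup.centralizer ((P : Subgroup G) : Set G), c⁻¹ * g ∈ N := by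
  have hg : g ∈ ((Subgroup.centralizer ((P : Subgroup G) : Set G) ⊔ N : Subgroup G) : Set G) := by
    rw [sup_comm, hsup]; exact Subgroup.mem_top g
  rw [Subgroup.mul_normal] at hg
  obtain ⟨c, hc, n, hn, rfl⟩ := Set.mem_mul.mp hg
  exact ⟨c, hc, by simpa using hn⟩

include hρ hχ hM hsup hidx in
/-- An integral central element of `N` acts as a scalar congruent to its augmentation. -/
theorem exists_scalar {Y : Zint M N} {k : ℕ}
    (hY : bomega (CfsgLib.Char.irrOne : IrrCharacter N) Y = (k : Res M)) :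
    ∃ s : ℂ, Cong M s k ∧ actN N ρ (Y : CA N) = s • 1 := by
  classical
  set T := actN N ρ (Y : CA N) with hT
  have hTN : ∀ n : N, ρ n * T = T * ρ n := fun n => by
    rw [hT, ← actN_single, ← map_mul, ← map_mul, Subsemiring.mem_center_iff.mp (Zint_center Y)]
  have hTy : ∀ y : CA N, actN N ρ y * T = T * actN N ρ y := fun y => by
    rw [hT, ← map_mul, ← map_mul, Subsemiring.mem_center_iff.mp (Zint_center Y)]
  have hTc : ∀ c ∈ Subgroup.centralizer ((P : Subgroup G) : Set G), T * traceOp N P ρ c = traceOp N P ρ c * T := by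
    intro c hc
    have hcy : ∀ y : CA N, actN N ρ y * traceOp N P ρ c = traceOp N P ρ c * actN N ρ y := fun y => by
      induction y using MonoidAlgebra.induction_on with
      | of n =>
        rw [MonoidAlgebra.of_apply, actN_single]
        exact traceOp_comm N P ρ hc n
      | add a b ha hb => rw [map_add, add_mul, mul_add, ha, hb]
      | smul r a ha => rw [map_smul, smul_mul_assoc, mul_smul_comm, ha]
    exact hcy _
  have hTG : ∀ g : G, T ∘ₗ ρ g = ρ g ∘ₗ T := fun g => by
    obtain ⟨c, hc, hn⟩ := exists_decomp N P hsup g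
    obtain ⟨y, hy⟩ := exists_traceOp_eq N P ρ c
    have hyu : IsUnit (actN N ρ y) := by
      have hu := isUnit_traceOp N P hM hρ hχ hidx hc
      rw [hy] at hu
      have hρc : IsUnit (ρ c) := (Group.isUnit c).map ρ
      obtain ⟨u, hu'⟩ := hρc
      rw [← hu'] at hu
      exact (Units.isUnit_units_mul u _).mp hu
    have h1 : T * ρ c = ρ c * T := by
      refine hyu.mul_right_cancel ?_
      rw [mul_assoc, ← hy, hTc c hc, hy, mul_assoc, mul_assoc, hTy]
    have h2 := hTN ⟨c⁻¹ * g, hn⟩
    show T * ρ g = ρ g * T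
    rw [show g = c * (c⁻¹ * g) by group, map_mul, ← mul_assoc, h1, mul_assoc]
    exact (congrArg (ρ c * ·) h2.symm).trans (mul_assoc _ _ _).symm
  obtain ⟨s, hs⟩ := CfsgLib.Char.exists_eq_smul_id ρ T hTG
  obtain ⟨θ, hθ⟩ := exists_over (N := N) χ.2
  refine ⟨s, ⟨zomega θ Y, ?_, ?_⟩, hs⟩
  · have key : ∀ n : N, (∑ η : IrrCharacter N, classInner (fun m : N => (χ : G → ℂ) m) (η : N → ℂ) *
        (((zomega η Y : locRing M) : ℂ) * (η : N → ℂ) n)) = s * (χ : G → ℂ) n := fun n => by
      have h := trace_actN N hρ (Y : CA N) n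
      rw [← hT, hs, smul_mul_assoc, map_smul, smul_eq_mul] at h
      rw [← congrFun hρ (n : G), Representation.character]
      refine Eq.trans (Finset.sum_congr rfl fun η _ => ?_) h.symm
      rw [charLin_mul_of_central η.2 (Zint_center Y), ← coe_zomega, charLin_single, one_mul]
    have h1 : classInner (fun n : N => ∑ η : IrrCharacter N, classInner (fun m : N => (χ : G → ℂ) m) (η : N → ℂ) *
        (((zomega η Y : locRing M) : ℂ) * (η : N → ℂ) n)) (θ : N → ℂ) =
        classInner (fun n : N => s * (χ : G → ℂ) n) (θ : N → ℂ) := by simp only [key]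
    rw [show (fun n : N => s * (χ : G → ℂ) n) = s • fun n : N => (χ : G → ℂ) n from rfl,
      CfsgLib.Char.classInner_smul_left,
      show (fun n : N => ∑ η : IrrCharacter N, classInner (fun m : N => (χ : G → ℂ) m) (η : N → ℂ) *
        (((zomega η Y : locRing M) : ℂ) * (η : N → ℂ) n)) = ∑ η : IrrCharacter N,
        (classInner (fun m : N => (χ : G → ℂ) m) (η : N → ℂ) * ((zomega η Y : locRing M) : ℂ)) • (η : N → ℂ) from
        funext fun n => by simp [Finset.sum_apply, mul_assoc], CfsgLib.Char.classInner_sum_left,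
      Finset.sum_eq_single θ (fun η _ hne => by
        rw [CfsgLib.Char.classInner_smul_left, CfsgLib.Char.classInner_irrCharacter, if_neg hne, mul_zero])
        (by simp), CfsgLib.Char.classInner_smul_left, CfsgLib.Char.classInner_irrCharacter, if_pos rfl,
      mul_one, mul_comm] at h1
    exact mul_right_cancel₀ hθ h1
  · rw [← bomega_apply, ← (mem_blockOf_iff (CfsgLib.Char.irrOne : IrrCharacter N) θ).mp
      (mem_principal_of_over N hχ hθ), hY]

include hρ hχ hM hsup hidx in
/-- Multiplicativity up to a unit congruent to one. -/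
theorem exists_mul_eq {c c' f : G} (hc : c ∈ Subgroup.centralizer ((P : Subgroup G) : Set G))
    (hc' : c' ∈ Subgroup.centralizer ((P : Subgroup G) : Set G))
    (hf : f ∈ Subgroup.centralizer ((P : Subgroup G) : Set G)) (h : c * c' * f⁻¹ ∈ N) :
    ∃ u : ℂ, Cong M u 1 ∧
      ((Fintype.card (N ⧸ (P : Subgroup G).subgroupOf N) : ℂ)⁻¹ • traceOp N P ρ c) * ((Fintype.card (N ⧸ (P : Subgroup G).subgroupOf N) : ℂ)⁻¹ • traceOp N P ρ c') =
        u • ((Fintype.card (N ⧸ (P : Subgroup G).subgroupOf N) : ℂ)⁻¹ • traceOp N P ρ f) := by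
  classical
  set A : G → Module.End ℂ (Fin d → ℂ) := fun c : G => (Fintype.card (N ⧸ (P : Subgroup G).subgroupOf N) : ℂ)⁻¹ • traceOp N P ρ c with hA
  have hm : (Fintype.card (N ⧸ (P : Subgroup G).subgroupOf N) : ℂ) ≠ 0 := Nat.cast_ne_zero.mpr Fintype.card_ne_zero
  have hmr := card_cosets_ne_zero N P hM (sylow_le hidx P)
  have hA1 : A 1 = 1 := by simp only [hA, traceOp_one, inv_smul_smul₀ hm]
  have key : ∀ {a b g : G}, a ∈ Subgroup.centralizer ((P : Subgroup G) : Set G) →
      b ∈ Subgroup.centralizer ((P : Subgroup G) : Set G) →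
      g ∈ Subgroup.centralizer ((P : Subgroup G) : Set G) → a * b * g ∈ N →
      ∃ u : ℂ, Cong M u 1 ∧ A a * A b * A g = u • 1 := by
    intro a b g ha hb hg habg
    obtain ⟨Y, hY, hYr⟩ := exists_triple (ρ := ρ) N P hM ha hb hg habg
    obtain ⟨s, ⟨w, hw, hwr⟩, hYs⟩ := exists_scalar N P hM hρ hχ hidx hsup hYr
    have hu : IsUnit ((Fintype.card (N ⧸ (P : Subgroup G).subgroupOf N) : locRing M) ^ 3) := by
      rw [isUnit_iff_res_ne_zero, map_pow, map_natCast]; exact pow_ne_zero _ hmr
    obtain ⟨v, hv⟩ := hu.exists_right_inv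
    have hvc : ((Fintype.card (N ⧸ (P : Subgroup G).subgroupOf N) : ℂ) ^ 3) * (v : ℂ) = 1 := by
      have := congrArg Subtype.val hv
      push_cast at this
      exact this
    refine ⟨(v : ℂ) * s, ⟨v * w, by rw [Subring.coe_mul, hw], ?_⟩, ?_⟩
    · have := congrArg (res M) hv
      rw [map_mul, map_pow, map_natCast, map_one] at this
      rw [map_mul, hwr, Nat.cast_one, Nat.cast_pow, mul_comm, this]
    · simp only [hA, smul_mul_assoc, mul_smul_comm, smul_smul]
      rw [← hY, hYs, smul_smul]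
      congr 1
      rw [show (v : ℂ) = ((Fintype.card (N ⧸ (P : Subgroup G).subgroupOf N) : ℂ) ^ 3)⁻¹ from eq_inv_of_mul_eq_one_right hvc]
      ring
  clear_value A
  obtain ⟨u, ⟨wu, hwu, hwur⟩, hu⟩ := key hc hc' (Subgroup.inv_mem _ hf) h
  obtain ⟨t, ⟨wt, hwt, hwtr⟩, ht⟩ := key (Subgroup.one_mem _) (Subgroup.inv_mem _ hf) hf (by simp)
  rw [hA1, one_mul] at ht
  rw [Nat.cast_one] at hwtr hwur
  have hwt0 : res M wt ≠ 0 := by rw [hwtr]; exact one_ne_zero
  obtain ⟨v, hv⟩ := ((isUnit_iff_res_ne_zero M wt).mpr hwt0).exists_right_inv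
  refine ⟨(v : ℂ) * u, ⟨v * wu, by rw [Subring.coe_mul, hwu], ?_⟩, ?_⟩
  · have := congrArg (res M) hv
    rw [map_mul, hwtr, map_one, one_mul] at this
    rw [map_mul, this, hwur, one_mul, Nat.cast_one]
  · have hvc : t * (v : ℂ) = 1 := by rw [← hwt]; exact_mod_cast congrArg Subtype.val hv
    suffices hfin : A c * A c' = ((v : ℂ) * u) • A f by simpa only [hA] using hfin
    calc A c * A c' = ((v : ℂ) * t) • (A c * A c') := by rw [mul_comm, hvc, one_smul]
      _ = (v : ℂ) • (A c * A c' * (A f⁻¹ * A f)) := by rw [ht, mul_smul_comm, mul_one, smul_smul]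
      _ = ((v : ℂ) * u) • A f := by rw [← mul_assoc, hu, smul_mul_assoc, one_mul, smul_smul]

include hρ hχ hM hsup hidx in
set_option maxHeartbeats 3200000 in
/-- The normalised trace operators are scalars congruent to one. -/
theorem traceOp_scalar {c : G} (hc : c ∈ Subgroup.centralizer ((P : Subgroup G) : Set G)) :
    ∃ r : ℂ, Cong M r 1 ∧
      ((Fintype.card (N ⧸ (P : Subgroup G).subgroupOf N) : ℂ)⁻¹ • traceOp N P ρ c) = r • 1 := by
  classical
  set A : G → Module.End ℂ (Fin d → ℂ) := fun c : G => (Fintype.card (N ⧸ (P : Subgroup G).subgroupOf N) : ℂ)⁻¹ • traceOp N P ρ c with hA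
  have hm : (Fintype.card (N ⧸ (P : Subgroup G).subgroupOf N) : ℂ) ≠ 0 := Nat.cast_ne_zero.mpr Fintype.card_ne_zero
  have hA1 : A 1 = 1 := by simp only [hA, traceOp_one, inv_smul_smul₀ hm]
  clear_value A
  let C := Subgroup.centralizer ((P : Subgroup G) : Set G)
  let Λ : Submodule (locRing M) (Module.End ℂ (Fin d → ℂ)) := Submodule.span (locRing M) (Set.range fun c : C => A c)
  let mI : Ideal (locRing M) := RingHom.ker (res M)
  let I := mI • Λ
  have hAΛ : ∀ c ∈ C, A c ∈ Λ := fun c hc => Submodule.subset_span ⟨⟨c, hc⟩, rfl⟩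
  have hsm : ∀ (r : ℂ) (w : locRing M) (X : Module.End ℂ (Fin d → ℂ)), (w : ℂ) = r → r • X = w • X :=
    fun r w X h => by subst h; rfl
  have hsub : ∀ (r : locRing M) (X Y : Module.End ℂ (Fin d → ℂ)), r • X - r • Y = r • (X - Y) :=
    fun r X Y => (smul_sub r X Y).symm
  have hsub1 : ∀ (r : locRing M) (X : Module.End ℂ (Fin d → ℂ)), r • X - X = (r - 1) • X :=
    fun r X => ((sub_smul r 1 X).trans (congrArg (r • X - ·) (one_smul (locRing M) X))).symm
  have hunit : ∀ u : ℂ, Cong M u 1 → ∀ X ∈ Λ, u • X - X ∈ I := fun u ⟨w, hw, hwr⟩ X hX => by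
    rw [hsm u w X hw, hsub1]
    exact Submodule.smul_mem_smul (by rw [RingHom.mem_ker, map_sub, hwr, Nat.cast_one, map_one, sub_self]) hX
  have hprod : ∀ a ∈ C, ∀ b ∈ C, ∀ f ∈ C, a * b * f⁻¹ ∈ N → A a * A b - A f ∈ I := fun a ha b hb f hf h => by
    obtain ⟨u, hu, e⟩ := exists_mul_eq N P hM hρ hχ hidx hsup ha hb hf h
    rw [hA] at *
    simp only at e ⊢
    rw [e]
    exact hunit u hu _ (hAΛ f hf)
  have hmulΛ : ∀ a ∈ C, ∀ b ∈ C, A a * A b ∈ Λ := fun a ha b hb => by
    obtain ⟨u, ⟨w, hw, -⟩, e⟩ := exists_mul_eq N P hM hρ hχ hidx hsup ha hb (Subgroup.mul_mem _ ha hb) (by simp)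
    show A a * A b ∈ Λ
    rw [show A a * A b = u • A (a * b) by simp only [hA]; exact e, hsm u w _ hw]
    exact Submodule.smul_mem _ _ (hAΛ _ (Subgroup.mul_mem _ ha hb))
  have hIl : ∀ a ∈ C, ∀ X ∈ I, A a * X ∈ I := fun a ha X hX => by
    refine Submodule.smul_induction_on hX (fun r hr Y hY => ?_) fun u v hu hv => by
      rw [mul_add]; exact add_mem hu hv
    rw [mul_smul_comm]
    refine Submodule.smul_mem_smul hr ?_
    induction hY using Submodule.span_induction with
    | mem x hx => obtain ⟨⟨b, hb⟩, rfl⟩ := hx; exact hmulΛ a ha b hb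
    | zero => rw [mul_zero]; exact Λ.zero_mem
    | add u v _ _ hu hv => rw [mul_add]; exact add_mem hu hv
    | smul r u _ hu => rw [mul_smul_comm]; exact Λ.smul_mem r hu
  have hIr : ∀ a ∈ C, ∀ X ∈ I, X * A a ∈ I := fun a ha X hX => by
    refine Submodule.smul_induction_on hX (fun r hr Y hY => ?_) fun u v hu hv => by
      rw [add_mul]; exact add_mem hu hv
    rw [smul_mul_assoc]
    refine Submodule.smul_mem_smul hr ?_
    induction hY using Submodule.span_induction with
    | mem x hx => obtain ⟨⟨b, hb⟩, rfl⟩ := hx; exact hmulΛ b hb a ha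
    | zero => rw [zero_mul]; exact Λ.zero_mem
    | add u v _ _ hu hv => rw [add_mul]; exact add_mem hu hv
    | smul r u _ hu => rw [smul_mul_assoc]; exact Λ.smul_mem r hu
  -- the average over `G / N`
  let _ := Fintype.ofFinite (G ⧸ N)
  choose rep hrepC hrepN using fun q : G ⧸ N => exists_decomp N P hsup q.out
  have hrepq : ∀ q : G ⧸ N, ((rep q : G) : G ⧸ N) = q := fun q => by
    rw [← QuotientGroup.out_eq' q]
    simpa using QuotientGroup.eq.mpr (hrepN q)
  have hiN : IsUnit ((N.index : ℕ) : locRing M) := by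
    have := res_charP M hM
    rw [isUnit_iff_res_ne_zero, map_natCast, Ne, CharP.cast_eq_zero_iff (Res M) p]
    exact hidx
  obtain ⟨iQ, hiQ⟩ := hiN.exists_right_inv
  set E : Module.End ℂ (Fin d → ℂ) := iQ • ∑ q : G ⧸ N, A (rep q) with hE
  have hEabs : ∀ a ∈ C, A a * E - E ∈ I ∧ E * A a - E ∈ I := by
    intro a ha
    constructor
    · rw [hE, mul_smul_comm, hsub, Finset.mul_sum,
        ← Fintype.sum_equiv (Equiv.mulLeft (a : G ⧸ N)) (fun q => A (rep ((a : G ⧸ N) * q)))
          (fun q => A (rep q)) (fun q => rfl), ← Finset.sum_sub_distrib]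
      refine Submodule.smul_mem _ _ (Submodule.sum_mem _ fun q _ => hprod a ha _ (hrepC q) _ (hrepC _) ?_)
      rw [← QuotientGroup.eq_one_iff, QuotientGroup.mk_mul, QuotientGroup.mk_mul, QuotientGroup.mk_inv, hrepq, hrepq,
        mul_inv_cancel]
    · rw [hE, smul_mul_assoc, hsub, Finset.sum_mul,
        ← Fintype.sum_equiv (Equiv.mulRight (a : G ⧸ N)) (fun q => A (rep (q * (a : G ⧸ N))))
          (fun q => A (rep q)) (fun q => rfl), ← Finset.sum_sub_distrib]
      refine Submodule.smul_mem _ _ (Submodule.sum_mem _ fun q _ => hprod _ (hrepC q) a ha _ (hrepC _) ?_)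
      rw [← QuotientGroup.eq_one_iff, QuotientGroup.mk_mul, QuotientGroup.mk_mul, QuotientGroup.mk_inv, hrepq, hrepq,
        mul_inv_cancel]
  -- conjugation by `ρ`
  have hconj : ∀ h ∈ C, ∀ X : Module.End ℂ (Fin d → ℂ), (∀ n : N, ρ n * X = X * ρ n) →
      ρ h * X * ρ h⁻¹ * A h = A h * X := by
    intro h hh X hX
    obtain ⟨y, hy⟩ := exists_traceOp_eq N P ρ h
    have hXy : actN N ρ y * X = X * actN N ρ y := by
      clear hy
      induction y using MonoidAlgebra.induction_on with
      | of n => rw [MonoidAlgebra.of_apply, actN_single]; exact hX n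
      | add a b ha hb => rw [map_add, add_mul, mul_add, ha, hb]
      | smul r a ha => rw [map_smul, smul_mul_assoc, mul_smul_comm, ha]
    simp only [hA, hy, mul_smul_comm, smul_mul_assoc]
    congr 1
    calc ρ h * X * ρ h⁻¹ * (ρ h * actN N ρ y) = ρ h * X * (ρ h⁻¹ * ρ h) * actN N ρ y := by simp only [mul_assoc]
      _ = ρ h * actN N ρ y * X := by
        rw [← map_mul, inv_mul_cancel, map_one, mul_one, mul_assoc, ← hXy, ← mul_assoc]
  have hEN : ∀ n : N, ρ n * E = E * ρ n := fun n => by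
    rw [hE, mul_smul_comm, smul_mul_assoc, Finset.mul_sum, Finset.sum_mul]
    refine congrArg (iQ • ·) (Finset.sum_congr rfl fun q _ => ?_)
    simp only [hA, mul_smul_comm, smul_mul_assoc]
    rw [traceOp_comm N P ρ (hrepC q) n]
  clear_value E
  -- the average of the conjugates is congruent to one
  have ht : ∀ c₀ ∈ C, ∃ t : ℂ, Cong M t 1 ∧
      ∑ h : G ⧸ N, ρ (rep h) * A c₀ * ρ (rep h)⁻¹ = ((N.index : ℂ) * t) • 1 := by
    intro c₀ hc₀
    have hid : IsUnit (((Subgroup.centralizer ({c₀} : Set G)).index : ℕ) : locRing M) := by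
      have := res_charP M hM
      rw [isUnit_iff_res_ne_zero, map_natCast, Ne, CharP.cast_eq_zero_iff (Res M) p]
      intro h
      exact P.not_dvd_index (h.trans (Subgroup.index_dvd_of_le (fun x hx =>
        Subgroup.mem_centralizer_singleton_iff.mpr (Subgroup.mem_centralizer_iff.mp hc₀ x hx))))
    obtain ⟨v, hv⟩ := hid.exists_right_inv
    refine ⟨(χ : G → ℂ) c₀ / (χ : G → ℂ) 1, ⟨v * zomega χ (zclass M c₀), ?_, ?_⟩, ?_⟩
    · rw [Subring.coe_mul, coe_zomega_zclass, centralChar]
      have hvc : (((Subgroup.centralizer ({c₀} : Set G)).index : ℕ) : ℂ) * (v : ℂ) = 1 := by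
        exact_mod_cast congrArg Subtype.val hv
      rw [mul_div_assoc, ← mul_assoc, mul_comm (v : ℂ), hvc, one_mul]
    · rw [map_mul, ← bomega_apply, ← (mem_blockOf_iff (CfsgLib.Char.irrOne : IrrCharacter G) χ).mp hχ,
        bomega_apply, ← map_mul, ← map_natCast (res M)]
      refine congrArg (res M) (Subtype.ext ?_)
      have hvc : (((Subgroup.centralizer ({c₀} : Set G)).index : ℕ) : ℂ) * (v : ℂ) = 1 := by
        exact_mod_cast congrArg Subtype.val hv
      rw [Subring.coe_mul, coe_zomega_zclass, centralChar]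
      simp only [CfsgLib.Char.irrOne_apply]
      push_cast
      linear_combination hvc
    · have hS : ∀ g : G, (∑ x : G, ρ (x * c₀ * x⁻¹)) ∘ₗ ρ g = ρ g ∘ₗ (∑ x : G, ρ (x * c₀ * x⁻¹)) := fun g => by
        change (∑ x : G, ρ (x * c₀ * x⁻¹)) * ρ g = ρ g * (∑ x : G, ρ (x * c₀ * x⁻¹))
        rw [Finset.sum_mul, Finset.mul_sum]
        symm
        refine Fintype.sum_equiv (Equiv.mulLeft g) _ _ fun x => ?_
        rw [← map_mul, ← map_mul]
        congr 1
        simp [mul_assoc]
      obtain ⟨s, hs⟩ := CfsgLib.Char.exists_eq_smul_id ρ _ hS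
      have hsval : s * (χ : G → ℂ) 1 = (Nat.card G : ℂ) * (χ : G → ℂ) c₀ := by
        have h := congrArg (LinearMap.trace ℂ (Fin d → ℂ)) hs
        rw [map_sum, map_smul, LinearMap.trace_id, smul_eq_mul] at h
        rw [← hρ, Representation.char_one, ← h, Finset.sum_congr rfl fun x _ => show
          LinearMap.trace ℂ (Fin d → ℂ) (ρ (x * c₀ * x⁻¹)) = ρ.character c₀ from Representation.char_conj ρ c₀ x,
          Finset.sum_const, Finset.card_univ, nsmul_eq_mul, Nat.card_eq_fintype_card]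
      have hsum : ∑ x : G, ρ (x : G) * A c₀ * ρ x⁻¹ = s • 1 := by
        simp only [hA, mul_smul_comm, smul_mul_assoc, traceOp, Finset.mul_sum, Finset.sum_mul, ← map_mul]
        rw [← Finset.smul_sum, Finset.sum_comm, Finset.sum_congr rfl fun q _ => show
          ∑ x : G, ρ (x * ((q.out : G) * c₀ * (q.out : G)⁻¹) * x⁻¹) = s • 1 by
          rw [show (1 : Module.End ℂ (Fin d → ℂ)) = LinearMap.id from rfl, ← hs]
          exact Fintype.sum_equiv (Equiv.mulRight (q.out : G)) _ _ fun x => by simp [mul_assoc],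
          Finset.sum_const, Finset.card_univ, ← Nat.cast_smul_eq_nsmul ℂ, inv_smul_smul₀ hm]
      have hcoset : ∀ x : G, ρ x * A c₀ * ρ x⁻¹ =
          ρ (rep (x : G ⧸ N)) * A c₀ * ρ (rep (x : G ⧸ N))⁻¹ := fun x => by
        have hn : (rep (x : G ⧸ N))⁻¹ * x ∈ N := QuotientGroup.eq.mp (hrepq _)
        have h1 := traceOp_comm N P ρ hc₀ ⟨_, hn⟩
        simp only at h1
        simp only [hA, mul_smul_comm, smul_mul_assoc]
        congr 1
        set u := (rep (x : G ⧸ N))⁻¹ * x with hu
        have hxu : x = rep (x : G ⧸ N) * u := by rw [hu]; group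
        set a := rep (x : G ⧸ N)
        rw [show ρ x = ρ a * ρ u by rw [← map_mul, ← hxu],
          show ρ x⁻¹ = ρ u⁻¹ * ρ a⁻¹ by rw [← map_mul, ← mul_inv_rev, ← hxu], mul_assoc (ρ a), h1]
        simp only [mul_assoc]
        rw [← mul_assoc (ρ u), ← map_mul, mul_inv_cancel, map_one, one_mul]
      rw [Finset.sum_congr rfl fun x _ => hcoset x,
        ← Finset.sum_fiberwise Finset.univ (fun x : G => (x : G ⧸ N))] at hsum
      rw [Finset.sum_congr rfl fun q _ => show ∑ x ∈ Finset.univ.filter (fun x : G => (x : G ⧸ N) = q),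
          ρ (rep (x : G ⧸ N)) * A c₀ * ρ (rep (x : G ⧸ N))⁻¹ =
          (Nat.card N : ℂ) • (ρ (rep q) * A c₀ * ρ (rep q)⁻¹) by
        rw [Finset.sum_congr rfl fun x hx => by rw [(Finset.mem_filter.mp hx).2], Finset.sum_const,
          Nat.cast_smul_eq_nsmul ℂ]
        congr 1
        rw [Nat.card_eq_fintype_card, ← Finset.card_univ]
        refine (Finset.card_bij (fun (n : N) _ => rep q * (n : G)) (fun n _ => Finset.mem_filter.mpr
          ⟨Finset.mem_univ _, by rw [QuotientGroup.mk_mul_of_mem _ n.2, hrepq]⟩)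
          (fun a _ b _ h => Subtype.ext (mul_left_cancel h)) fun x hx => ?_).symm
        have hx' := (Finset.mem_filter.mp hx).2
        exact ⟨⟨(rep q)⁻¹ * x, QuotientGroup.eq.mp ((hrepq q).trans hx'.symm)⟩, Finset.mem_univ _, by simp⟩,
        ← Finset.smul_sum] at hsum
      rw [← inv_smul_smul₀ (Nat.cast_ne_zero.mpr (Nat.card_pos (α := N)).ne' : (Nat.card N : ℂ) ≠ 0)
        (∑ h : G ⧸ N, ρ (rep h) * A c₀ * ρ (rep h)⁻¹), hsum, smul_smul]
      congr 1
      have hG : (Nat.card G : ℂ) = (Nat.card N : ℂ) * (N.index : ℂ) := by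
        rw [← Nat.cast_mul, Subgroup.card_mul_index]
      have h1 := CfsgLib.Char.irr_one_ne_zero χ.2
      have h2 : (Nat.card N : ℂ) ≠ 0 := CfsgLib.Char.card_ne_zero'
      field_simp
      rw [hsval, hG]
  -- assemble
  have hstep : ∀ h ∈ C, ρ h * E * ρ h⁻¹ - E ∈ I := by
    intro h hh
    obtain ⟨u, ⟨w, hw, hwr⟩, he⟩ := exists_mul_eq N P hM hρ hχ hidx hsup hh (Subgroup.inv_mem _ hh) (Subgroup.one_mem C)
      (by simp)
    have he' : A h * A h⁻¹ = (w : ℂ) • 1 := by rw [hw, ← hA1]; simp only [hA]; exact he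
    have hw0 : IsUnit w := (isUnit_iff_res_ne_zero M w).mpr (by rw [hwr, Nat.cast_one]; exact one_ne_zero)
    obtain ⟨v, hv⟩ := hw0.exists_right_inv
    have h1 : ρ h * E * ρ h⁻¹ = v • (A h * E * A h⁻¹) := by
      rw [← hconj h hh E hEN, mul_assoc _ (A h) (A h⁻¹), he', mul_smul_comm, mul_one,
        hsm _ w _ rfl, smul_smul, mul_comm v w, hv, one_smul]
    rw [h1, show v • (A h * E * A h⁻¹) - E = v • ((A h * E - E) * A h⁻¹) + (v • (E * A h⁻¹ - E) + (v - 1) • E) by
      simp only [sub_mul, smul_sub]; rw [← hsub1]; abel]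
    refine add_mem (Submodule.smul_mem _ _ (hIr _ (Subgroup.inv_mem _ hh) _ (hEabs h hh).1))
      (add_mem (Submodule.smul_mem _ _ (hEabs _ (Subgroup.inv_mem _ hh)).2) (Submodule.smul_mem_smul ?_ ?_))
    · rw [RingHom.mem_ker, map_sub, map_one]
      have := congrArg (res M) hv
      rw [map_mul, hwr, Nat.cast_one, one_mul, map_one] at this
      rw [this, sub_self]
    · rw [hE]; exact Submodule.smul_mem _ _ (Submodule.sum_mem _ fun q _ => hAΛ _ (hrepC q))
  have h1Λ : (1 : Module.End ℂ (Fin d → ℂ)) ∈ Λ := hA1 ▸ hAΛ 1 (Subgroup.one_mem C)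
  have hE1 : E - 1 ∈ I := by
    choose t ht' hts using fun q : G ⧸ N => ht _ (hrepC q)
    choose w hw hwr using ht'
    have hiQc : (N.index : ℂ) * (iQ : ℂ) = 1 := by exact_mod_cast congrArg Subtype.val hiQ
    have hsum : iQ • ∑ h : G ⧸ N, ρ (rep h) * E * ρ (rep h)⁻¹ = (iQ * ∑ q : G ⧸ N, w q) • 1 := by
      simp only [hE, mul_smul_comm, smul_mul_assoc, Finset.mul_sum, Finset.sum_mul]
      rw [← Finset.smul_sum, Finset.sum_comm]
      simp only [← Finset.mul_sum, hts]
      rw [smul_smul, Finset.smul_sum, Finset.mul_sum]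
      refine Eq.trans ?_ (Finset.sum_smul).symm
      refine Finset.sum_congr rfl fun q _ => ?_
      rw [← hsm (((iQ * w q : locRing M) : ℂ)) (iQ * w q) 1 rfl]
      show ((iQ * iQ : locRing M) : ℂ) • ((N.index : ℂ) * t q) • (1 : Module.End ℂ (Fin d → ℂ)) = _
      rw [smul_smul, Subring.coe_mul, Subring.coe_mul, hw]
      congr 1
      linear_combination (iQ : ℂ) * t q * hiQc
    have h2 : iQ • ∑ h : G ⧸ N, ρ (rep h) * E * ρ (rep h)⁻¹ - E ∈ I := by
      have hEsum : E = iQ • ∑ _h : G ⧸ N, E := by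
        rw [Finset.sum_const, Finset.card_univ, ← Nat.card_eq_fintype_card, ← Subgroup.index_eq_card,
          ← Nat.cast_smul_eq_nsmul (locRing M), smul_smul, mul_comm iQ, hiQ, one_smul]
      nth_rw 2 [hEsum]
      rw [hsub, ← Finset.sum_sub_distrib]
      exact Submodule.smul_mem _ _ (Submodule.sum_mem _ fun h _ => hstep _ (hrepC h))
    rw [hsum] at h2
    have h3 : (iQ * ∑ q : G ⧸ N, w q) • (1 : Module.End ℂ (Fin d → ℂ)) - 1 ∈ I := by
      rw [hsub1]
      refine Submodule.smul_mem_smul ?_ h1Λ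
      rw [RingHom.mem_ker, map_sub, map_mul, map_sum, map_one, Finset.sum_congr rfl fun q _ => hwr q,
        Finset.sum_const, Finset.card_univ, ← Nat.card_eq_fintype_card, ← Subgroup.index_eq_card, Nat.cast_one,
        nsmul_one, ← map_natCast (res M), ← map_mul, mul_comm iQ, hiQ, map_one, sub_self]
    have := sub_mem h3 h2
    rwa [sub_sub_sub_cancel_left] at this
  have hA_one : ∀ a ∈ C, A a - 1 ∈ I := by
    intro a ha
    rw [show A a - 1 = (A a * E - E) - A a * (E - 1) + (E - 1) by rw [mul_sub, mul_one]; abel]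
    exact add_mem (sub_mem (hEabs a ha).1 (hIl a ha _ hE1)) hE1
  have hle : Λ ≤ Submodule.span (locRing M) {(1 : Module.End ℂ (Fin d → ℂ))} := by
    refine Submodule.le_of_le_smul_of_le_jacobson_bot (I := mI) (Submodule.fg_span (Set.finite_range _))
      (fun x hx => Ideal.mem_jacobson_bot.mpr fun y => ?_) (Submodule.span_le.mpr ?_)
    · rw [isUnit_iff_res_ne_zero, map_add, map_mul, (RingHom.mem_ker).mp hx, zero_mul, zero_add, map_one]
      exact one_ne_zero
    · rintro _ ⟨⟨a, ha⟩, rfl⟩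
      exact Submodule.mem_sup.mpr ⟨1, Submodule.mem_span_singleton_self 1, A a - 1, hA_one a ha,
        add_sub_cancel _ _⟩
  obtain ⟨r, hr⟩ := Submodule.mem_span_singleton.mp (hle (hAΛ c hc))
  refine ⟨(r : ℂ), ?_, by have h := hr.symm; simp only [hA] at h; exact h⟩
  -- the scalar is congruent to one
  obtain ⟨t, ⟨w, hw, hwr⟩, hts⟩ := ht c hc
  have hconst : ∀ h : G ⧸ N, ρ (rep h) * A c * ρ (rep h)⁻¹ = (r : ℂ) • 1 := fun h => by
    rw [← hr, hsm (r : ℂ) r _ rfl, mul_smul_comm, mul_one, smul_mul_assoc, ← map_mul, mul_inv_cancel, map_one]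
  rw [Finset.sum_congr rfl fun h _ => hconst h, Finset.sum_const, Finset.card_univ, ← Nat.card_eq_fintype_card,
    ← Subgroup.index_eq_card, ← Nat.cast_smul_eq_nsmul ℂ, smul_smul] at hts
  have h1 := congrArg (LinearMap.trace ℂ (Fin d → ℂ)) hts
  have hd0 : (Module.finrank ℂ (Fin d → ℂ) : ℂ) ≠ 0 :=
    Nat.cast_ne_zero.mpr (CfsgLib.Char.finrank_pos_of_irreducible ρ).ne'
  rw [map_smul, map_smul, LinearMap.trace_one, smul_eq_mul, smul_eq_mul] at h1
  have h2 := mul_left_cancel₀ (Nat.cast_ne_zero.mpr Subgroup.index_ne_zero_of_finite : (N.index : ℂ) ≠ 0)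
    (mul_right_cancel₀ hd0 h1)
  exact ⟨w, hw.trans h2.symm, hwr⟩

include hρ hχ hM hsup hidx in
set_option maxHeartbeats 1600000 in
/-- The restriction of a member of the principal block is irreducible. -/
theorem isIrr_res : IsIrrCharacter N (fun n : N => (χ : G → ℂ) n) := by
  classical
  refine CfsgLib.Char.irr_of_norm_one (CfsgLib.Char.isCharacter_res N (CfsgLib.Char.isCharacter_of_isIrr χ.2)) ?_
  have hd : d ≠ 0 := fun h => by
    have := CfsgLib.Char.finrank_pos_of_irreducible ρ
    rw [Module.finrank_fin_fun, h] at this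
    exact lt_irrefl 0 this
  -- operators commuting with `N` are scalars
  have hsch : ∀ T : Module.End ℂ (Fin d → ℂ), (∀ n : N, ρ n * T = T * ρ n) → ∃ s : ℂ, T = s • 1 := by
    intro T hT
    refine CfsgLib.Char.exists_eq_smul_id ρ T fun g => ?_
    obtain ⟨c, hc, hn⟩ := exists_decomp N P hsup g
    obtain ⟨y, hy⟩ := exists_traceOp_eq N P ρ c
    obtain ⟨r, -, hr⟩ := traceOp_scalar N P hM hρ hχ hidx hsup hc
    have hm : (Fintype.card (N ⧸ (P : Subgroup G).subgroupOf N) : ℂ) ≠ 0 := Nat.cast_ne_zero.mpr Fintype.card_ne_zero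
    have hTy : actN N ρ y * T = T * actN N ρ y := by
      clear hy
      induction y using MonoidAlgebra.induction_on with
      | of n => rw [MonoidAlgebra.of_apply, actN_single]; exact hT n
      | add a b ha hb => rw [map_add, add_mul, mul_add, ha, hb]
      | smul r a ha => rw [map_smul, smul_mul_assoc, mul_smul_comm, ha]
    have htr : traceOp N P ρ c = ((Fintype.card (N ⧸ (P : Subgroup G).subgroupOf N) : ℂ) * r) • 1 := by
      rw [mul_smul, ← hr, smul_inv_smul₀ hm]
    have hyu : IsUnit (actN N ρ y) := by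
      have hu := isUnit_traceOp N P hM hρ hχ hidx hc
      rw [hy] at hu
      obtain ⟨u, hu'⟩ := ((Group.isUnit c).map ρ : IsUnit (ρ c))
      rw [← hu'] at hu
      exact (Units.isUnit_units_mul u _).mp hu
    have h1 : T * ρ c = ρ c * T := by
      refine hyu.mul_right_cancel ?_
      rw [mul_assoc, ← hy, mul_assoc, ← hTy, ← mul_assoc, ← hy, htr, mul_smul_comm, smul_mul_assoc, one_mul,
        mul_one]
    show T * ρ g = ρ g * T
    rw [show g = c * (c⁻¹ * g) by group, map_mul, ← mul_assoc, h1, mul_assoc]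
    exact (congrArg (ρ c * ·) (hT ⟨c⁻¹ * g, hn⟩).symm).trans (mul_assoc _ _ _).symm
  -- averaging elementary operators
  have hent : ∀ i j : Fin d, ∑ n : N, LinearMap.toMatrix' (ρ n) i i * LinearMap.toMatrix' (ρ (n : G)⁻¹) j j =
      if i = j then (Nat.card N : ℂ) / d else 0 := by
    intro i j
    set X := Matrix.toLin' (Matrix.single i j (1 : ℂ)) with hX
    obtain ⟨s, hs⟩ := hsch (∑ n : N, ρ n * X * ρ (n : G)⁻¹) fun m => by
      rw [Finset.mul_sum, Finset.sum_mul]
      refine Fintype.sum_equiv (Equiv.mulLeft m) _ _ fun n => ?_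
      simp only [Equiv.coe_mulLeft, Subgroup.coe_mul, mul_inv_rev, map_mul, mul_assoc]
      rw [← map_mul ρ (m : G)⁻¹, inv_mul_cancel, map_one, mul_one]
    have h1 := congrArg LinearMap.toMatrix' hs
    simp only [map_sum, LinearMap.toMatrix'_mul, hX, LinearMap.toMatrix'_toLin', map_smul, Module.End.one_eq_id,
      LinearMap.toMatrix'_id] at h1
    have h2 := congrFun (congrFun h1 i) j
    simp only [Matrix.sum_apply, Matrix.smul_apply, Matrix.one_apply, smul_eq_mul] at h2
    have h3 : s * d = if i = j then (Nat.card N : ℂ) else 0 := by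
      have h := congrArg (LinearMap.trace ℂ (Fin d → ℂ)) hs
      rw [map_sum, map_smul, LinearMap.trace_one, Module.finrank_fin_fun, smul_eq_mul] at h
      rw [← h, Finset.sum_congr rfl fun (n : N) _ => show LinearMap.trace ℂ (Fin d → ℂ) (ρ n * X * ρ (n : G)⁻¹) =
        if i = j then 1 else 0 by
        rw [LinearMap.trace_mul_cycle, ← map_mul, inv_mul_cancel, map_one, one_mul, hX, Matrix.trace_toLin'_eq]
        split_ifs with hij
        · subst hij; exact Matrix.trace_single_eq_same i 1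
        · exact Matrix.trace_single_eq_of_ne i j 1 hij]
      simp [Nat.card_eq_fintype_card]
    rw [Finset.sum_congr rfl fun (n : N) _ => show LinearMap.toMatrix' (ρ n) i i * LinearMap.toMatrix' (ρ (n : G)⁻¹) j j =
      (LinearMap.toMatrix' (ρ n) * Matrix.single i j (1 : ℂ) * LinearMap.toMatrix' (ρ (n : G)⁻¹) : Matrix (Fin d) (Fin d) ℂ) i j by
        simp [Matrix.mul_apply, Matrix.single_apply, ite_and, Finset.sum_ite_eq', mul_comm], h2]
    by_cases hij : i = j
    · rw [if_pos hij, if_pos hij] at *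
      rw [mul_one, eq_div_iff (Nat.cast_ne_zero.mpr hd), h3]
    · rw [if_neg hij] at *
      rw [if_neg hij, mul_zero]
  rw [CfsgLib.Char.classInner_def, inv_mul_eq_one₀ CfsgLib.Char.card_ne_zero']
  have hval : ∀ g : G, (χ : G → ℂ) g = ∑ i : Fin d, LinearMap.toMatrix' (ρ g) i i := fun g => by
    rw [← congrFun hρ g, Representation.character, LinearMap.trace_eq_matrix_trace ℂ (Pi.basisFun ℂ (Fin d)),
      LinearMap.toMatrix_eq_toMatrix']
    rfl
  rw [Finset.sum_congr rfl fun (n : N) _ => show (χ : G → ℂ) n * conj ((χ : G → ℂ) n) =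
      ∑ i : Fin d, ∑ j : Fin d, LinearMap.toMatrix' (ρ n) i i * LinearMap.toMatrix' (ρ (n : G)⁻¹) j j by
    rw [← CfsgLib.Char.char_inv (CfsgLib.Char.isCharacter_of_isIrr χ.2), hval, hval, Finset.sum_mul_sum],
    Finset.sum_comm, Finset.sum_congr rfl fun i _ => Finset.sum_comm]
  simp only [hent, Finset.sum_ite_eq, Finset.mem_univ, if_true, Finset.sum_const, Finset.card_univ,
    Fintype.card_fin, nsmul_eq_mul]
  field_simp

end member

omit [Fintype G] in
/-- A root of unity of order prime to `p` congruent to one is one. -/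
theorem eq_one_of_pow {w : locRing M} {n : ℕ} (hM : IsPModular p M) (hn : ¬ p ∣ n) (h : w ^ n = 1)
    (hw : res M w = 1) : w = 1 := by
  have := res_charP M hM
  have hS : IsUnit (∑ i ∈ Finset.range n, w ^ i) := by
    rw [isUnit_iff_res_ne_zero, map_sum, Finset.sum_congr rfl fun i _ => by rw [map_pow, hw, one_pow],
      Finset.sum_const, Finset.card_range, nsmul_one, Ne, CharP.cast_eq_zero_iff (Res M) p]
    exact hn
  have h2 := geom_sum_mul w n
  rw [h, sub_self] at h2
  exact sub_eq_zero.mp ((hS.mul_right_eq_zero).mp h2)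

variable (hM : IsPModular p M) (hidx : ¬ p ∣ N.index)
  (hsup : N ⊔ Subgroup.centralizer ((P : Subgroup G) : Set G) = ⊤)

include hM hidx hsup in
/-- Two members of the principal block with the same restriction are equal. -/
theorem eq_of_res_eq {χ₁ χ₂ : IrrCharacter G} (h₁ : χ₁ ∈ principalBlock M G) (h₂ : χ₂ ∈ principalBlock M G)
    (h : ∀ n : N, (χ₁ : G → ℂ) n = (χ₂ : G → ℂ) n) : χ₁ = χ₂ := by
  classical
  obtain ⟨d₁, ρ₁, hi₁, hρ₁⟩ := χ₁.2
  obtain ⟨d₂, ρ₂, hi₂, hρ₂⟩ := χ₂.2
  obtain ⟨e⟩ := CfsgLib.Char.nonempty_equiv_of_character_eq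
    (ρ₂.comp N.subtype : Representation ℂ N (Fin d₂ → ℂ)) (ρ₁.comp N.subtype : Representation ℂ N (Fin d₁ → ℂ))
    (funext fun n => by
      show ρ₂.character n = ρ₁.character n
      rw [hρ₁, hρ₂, h])
  set σ : Representation ℂ G (Fin d₁ → ℂ) := CfsgLib.Char.transport ρ₂ e.toLinearEquiv with hσ
  have : ρ₂.IsIrreducible := hi₂
  have hσi : σ.IsIrreducible := CfsgLib.Char.isIrreducible_of_equiv (CfsgLib.Char.transportEquiv ρ₂ e.toLinearEquiv)
  have hσc : σ.character = (χ₂ : G → ℂ) := by rw [hσ, CfsgLib.Char.character_transport, hρ₂]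
  have hN' : ∀ n : N, σ n = ρ₁ n := fun n => e.conj_apply_self n
  have hact : ∀ y : CA N, actN N σ y = actN N ρ₁ y := fun y => by
    induction y using MonoidAlgebra.induction_on with
    | of n => rw [MonoidAlgebra.of_apply, actN_single, actN_single, hN']
    | add a b ha hb => rw [map_add, map_add, ha, hb]
    | smul r a ha => rw [map_smul, map_smul, ha]
  have hc : ∀ c ∈ Subgroup.centralizer ((P : Subgroup G) : Set G), σ c = ρ₁ c := by
    intro c hc
    obtain ⟨y, hy⟩ := exists_traceOp_eq_all N P c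
    obtain ⟨r₁, ⟨w₁, hw₁, hwr₁⟩, hr₁⟩ := traceOp_scalar N P hM hρ₁ h₁ hidx hsup hc
    obtain ⟨r₂, ⟨w₂, hw₂, hwr₂⟩, hr₂⟩ := traceOp_scalar N P hM hσc h₂ hidx hsup hc
    have hm : (Fintype.card (N ⧸ (P : Subgroup G).subgroupOf N) : ℂ) ≠ 0 := Nat.cast_ne_zero.mpr Fintype.card_ne_zero
    rw [hy ρ₁] at hr₁
    rw [hy σ, hact] at hr₂
    rw [Nat.cast_one] at hwr₁ hwr₂
    have hu₁ : IsUnit w₁ := (isUnit_iff_res_ne_zero M w₁).mpr (by rw [hwr₁]; exact one_ne_zero)
    obtain ⟨v, hv⟩ := hu₁.exists_right_inv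
    have hvc : r₁ * (v : ℂ) = 1 := by rw [← hw₁]; exact_mod_cast congrArg Subtype.val hv
    set Y := actN N ρ₁ y
    have hY : IsUnit Y := by
      have hu := isUnit_traceOp N P hM hρ₁ h₁ hidx hc
      rw [hy ρ₁] at hu
      obtain ⟨u, hu'⟩ := ((Group.isUnit c).map ρ₁ : IsUnit (ρ₁ c))
      rw [← hu'] at hu
      exact (Units.isUnit_units_mul u _).mp hu
    set m := (Fintype.card (N ⧸ (P : Subgroup G).subgroupOf N) : ℂ)
    rw [inv_smul_eq_iff₀ hm] at hr₁ hr₂
    have hlam : σ c = (r₂ * (v : ℂ)) • ρ₁ c := by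
      refine hY.mul_right_cancel ?_
      rw [smul_mul_assoc, hr₁, hr₂, smul_smul, smul_smul, smul_smul]
      congr 1
      linear_combination -(m * r₂) * hvc
    have hpow : (r₂ * (v : ℂ)) ^ N.index = 1 := by
      have hcN : c ^ N.index ∈ N := Subgroup.pow_index_mem N c
      have h3 : σ (c ^ N.index) = ρ₁ (c ^ N.index) := hN' ⟨_, hcN⟩
      rw [map_pow, map_pow, hlam, smul_pow] at h3
      have hu : IsUnit (ρ₁ c ^ N.index) := ((Group.isUnit c).map ρ₁).pow _
      have : Nontrivial (Fin d₁ → ℂ) := Module.nontrivial_of_finrank_pos (CfsgLib.Char.finrank_pos_of_irreducible ρ₁)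
      have h4 : ((r₂ * (v : ℂ)) ^ N.index - 1) • (ρ₁ c ^ N.index) = 0 :=
        (sub_smul _ _ _).trans (sub_eq_zero.mpr (h3.trans (one_smul ℂ _).symm))
      exact sub_eq_zero.mp ((smul_eq_zero.mp h4).resolve_right hu.ne_zero)
    have hone : w₂ * v = 1 := eq_one_of_pow hM hidx (Subtype.ext (by push_cast; rw [hw₂]; exact hpow)) (by
      have := congrArg (res M) hv
      rw [map_mul, hwr₁, one_mul, map_one] at this
      rw [map_mul, hwr₂, this, one_mul])
    rw [hlam, ← hw₂, show ((w₂ : ℂ) * (v : ℂ)) = 1 by exact_mod_cast congrArg Subtype.val hone, one_smul]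
  apply Subtype.ext
  rw [← hρ₁, ← hσc]
  funext g
  obtain ⟨c, hcC, hn⟩ := exists_decomp N P hsup g
  have hg : σ g = ρ₁ g := by
    rw [show g = c * (c⁻¹ * g) by group, map_mul σ c (c⁻¹ * g), map_mul ρ₁ c (c⁻¹ * g), hc c hcC, hN' ⟨_, hn⟩]
  simp only [Representation.character, hg]

include hM hidx hsup in
/-- Every member of the principal block of `N` is a restriction from the principal block of `G`. -/
theorem exists_res_eq {θ : IrrCharacter N} (hθ : θ ∈ principalBlock M N) :
    ∃ χ : IrrCharacter G, χ ∈ principalBlock M G ∧ ∀ n : N, (χ : G → ℂ) n = (θ : N → ℂ) n := by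
  classical
  have hB : IsPBlock M (principalBlock M G) := isPBlock_principalBlock
  have hirr : ∀ χ ∈ principalBlock M G, IsIrrCharacter N (fun n : N => ((χ : IrrCharacter G) : G → ℂ) n) :=
    fun χ hχ => by
    obtain ⟨d, ρ, hi, hρ⟩ := χ.2
    exact isIrr_res N P hM hρ hχ hidx hsup
  let x : Zint M N := resZ N M (idem hB)
  -- pairing with a character of `N`
  have hpair : ∀ η : IrrCharacter N, ((zomega η x : locRing M) : ℂ) * (η : N → ℂ) 1 =
      (Nat.card G : ℂ)⁻¹ * ∑ χ : IrrCharacter G, (if χ ∈ principalBlock M G then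
        (χ : G → ℂ) 1 * ((Nat.card N : ℂ) * classInner (η : N → ℂ) (fun n : N => (χ : G → ℂ) n)) else 0) := by
    intro η
    rw [coe_zomega, omega, div_mul_cancel₀ _ (CfsgLib.Char.irr_one_ne_zero η.2), charLin_apply]
    simp only [x, coe_resZ, idem, resCA, blockElt, LinearMap.coe_mk, AddHom.coe_mk, coeff_ofFun, blockCoeff_eq,
      Finset.mul_sum, Finset.sum_mul]
    rw [Finset.sum_comm]
    refine Finset.sum_congr rfl fun χ _ => ?_
    split_ifs
    · simp only [CfsgLib.Char.classInner_def, Finset.mul_sum]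
      refine Finset.sum_congr rfl fun n _ => ?_
      field_simp
    · simp
  have hx1 : bomega (CfsgLib.Char.irrOne : IrrCharacter N) x ≠ 0 := by
    have h := hpair CfsgLib.Char.irrOne
    rw [Finset.sum_eq_single (CfsgLib.Char.irrOne : IrrCharacter G), if_pos irrOne_mem_principalBlock,
      show classInner ((CfsgLib.Char.irrOne : IrrCharacter N) : N → ℂ)
        (fun n : N => ((CfsgLib.Char.irrOne : IrrCharacter G) : G → ℂ) n) = 1 from
        CfsgLib.Char.classInner_irr_self (CfsgLib.Char.irrOne : IrrCharacter N).2] at h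
    · simp only [CfsgLib.Char.irrOne_apply, mul_one, one_mul] at h
      have hwN : ((N.index : ℕ) : locRing M) * zomega (CfsgLib.Char.irrOne : IrrCharacter N) x = 1 := by
        refine Subtype.ext ?_
        push_cast
        rw [h, ← Subgroup.card_mul_index N]
        push_cast
        have := Nat.cast_ne_zero (R := ℂ).mpr (Subgroup.index_ne_zero_of_finite (H := N))
        have := CfsgLib.Char.card_ne_zero' (G := N)
        field_simp
      intro h0
      have h1 := congrArg (res M) hwN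
      rw [map_mul, ← bomega_apply, h0, mul_zero, map_one] at h1
      exact zero_ne_one h1
    · intro χ _ hne
      split_ifs with hχ
      · rw [show classInner ((CfsgLib.Char.irrOne : IrrCharacter N) : N → ℂ) (fun n : N => (χ : G → ℂ) n) = 0 from ?_,
          mul_zero, mul_zero]
        refine (CfsgLib.Char.classInner_irrCharacter (CfsgLib.Char.irrOne : IrrCharacter N) ⟨_, hirr χ hχ⟩).trans
          (if_neg fun he => hne (eq_of_res_eq N P hM hidx hsup hχ irrOne_mem_principalBlock fun n => ?_))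
        exact (congrFun (congrArg Subtype.val he) n).symm
      · rfl
    · simp
  by_contra hcon
  push Not at hcon
  have h0 : bomega θ x = 0 := by
    have h := hpair θ
    rw [Finset.sum_eq_zero fun χ _ => ?_, mul_zero] at h
    · rw [bomega_apply, show zomega θ x = 0 from Subtype.ext ((mul_eq_zero.mp h).resolve_right
        (CfsgLib.Char.irr_one_ne_zero θ.2)), map_zero]
    · split_ifs with hχ
      · rw [show classInner (θ : N → ℂ) (fun n : N => (χ : G → ℂ) n) = 0 from ?_, mul_zero, mul_zero]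
        refine (CfsgLib.Char.classInner_irrCharacter θ ⟨_, hirr χ hχ⟩).trans (if_neg fun he => ?_)
        obtain ⟨n, hn⟩ := hcon χ hχ
        exact hn (congrFun (congrArg Subtype.val he) n).symm
      · rfl
  exact hx1 (((mem_blockOf_iff (CfsgLib.Char.irrOne : IrrCharacter N) θ).mp hθ) ▸ h0)

end CfsgLib.Blocks.AlperinDade
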