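import Cfsg.Agent.Lib.Blocks.Brauer
import Cfsg.Agent.Lib.Blocks.FirstMain
import Cfsg.Agent.Lib.Blocks.Higman
import Cfsg.Agent.Lib.Blocks.PPart

/-!
# A character outside the induced block annihilates `f_b h`

The analytic core of the second main theorem, proved in the integral group algebra.
-/

set_option autoImplicit false

noncomputable section

namespace CfsgLib.Blocks

open Cfsg
open scoped ComplexConjugate

variable (M : Ideal AlgInt) [M.IsMaximal] (G : Type*) [Group G]

/-- The group algebra over the local ring. -/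
abbrev LA : Type _ := MonoidAlgebra (locRing M) G

/-- Local group algebra inside the complex one. -/
def toCA : LA M G →+* CA G := MonoidAlgebra.mapRingHom G (locRing M).subtype

/-- Reduction of the local group algebra. -/
def redLA : LA M G →+* MonoidAlgebra (Res M) G := MonoidAlgebra.mapRingHom G (res M)

variable {M G}

@[simp] theorem coeff_toCA (a : LA M G) (g : G) : (toCA M G a).coeff g = (a.coeff g : ℂ) := by
  simp [toCA]

@[simp] theorem coeff_redLA (a : LA M G) (g : G) : (redLA M G a).coeff g = res M (a.coeff g) := by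
  simp [redLA]

theorem toCA_injective : Function.Injective (toCA M G) := fun a b h =>
  MonoidAlgebra.coeff_injective (Finsupp.ext fun g => Subtype.ext (by
    have := congrArg (fun z => z.coeff g) h
    simpa using this))

variable [Fintype G]

/-- A local integral central element as an element of the local group algebra. -/
def toLA : Zint M G →+* LA M G where
  toFun a := ofFun fun g => ⟨(a : CA G).coeff g, (mem_Zint_iff.mp a.2).1 g⟩
  map_one' := toCA_injective (MonoidAlgebra.coeff_injective (Finsupp.ext fun g => by simp))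
  map_zero' := toCA_injective (MonoidAlgebra.coeff_injective (Finsupp.ext fun g => by simp))
  map_add' a b := toCA_injective (MonoidAlgebra.coeff_injective (Finsupp.ext fun g => by simp))
  map_mul' a b := toCA_injective (MonoidAlgebra.coeff_injective (Finsupp.ext fun g => by
    simp [coeff_mul_eq_sum, Subring.coe_mul]))

theorem coeff_toLA (a : Zint M G) (g : G) : ((toLA a).coeff g : ℂ) = (a : CA G).coeff g := by
  simp [toLA]

theorem toCA_toLA (a : Zint M G) : toCA M G (toLA a) = (a : CA G) :=
  MonoidAlgebra.coeff_injective (Finsupp.ext fun g => by simp [coeff_toLA])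

theorem toLA_comm (a : Zint M G) (x : LA M G) : toLA a * x = x * toLA a := by
  refine toCA_injective ?_
  rw [map_mul, map_mul, toCA_toLA]
  exact (Subsemiring.mem_center_iff.mp (Zint_center a) _).symm

/-- The matrix of left multiplication. -/
def leftMat (a : LA M G) : Matrix G G (locRing M) := Matrix.of fun x y => a.coeff (x * y⁻¹)

theorem leftMat_mul (a b : LA M G) : leftMat (a * b) = leftMat a * leftMat b := by
  ext x y
  simp only [leftMat, Matrix.of_apply, Matrix.mul_apply, coeff_mul_eq_sum]
  refine congrArg Subtype.val (Fintype.sum_equiv ((Equiv.inv G).trans (Equiv.mulRight x)) _ _ fun h => ?_)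
  simp only [Equiv.trans_apply, Equiv.inv_apply, Equiv.coe_mulRight, mul_inv_rev, inv_inv, ← mul_assoc,
    mul_inv_cancel, one_mul]

theorem leftMat_injective : Function.Injective (leftMat (M := M) (G := G)) := fun a b h =>
  MonoidAlgebra.coeff_injective (Finsupp.ext fun g => by
    have := congrFun (congrFun h g) 1
    simpa [leftMat] using this)

/-- An element congruent to one is invertible. -/
theorem isUnit_of_redLA_eq_one {a : LA M G} (h : redLA M G a = 1) :
    ∃ b : LA M G, a * b = 1 ∧ b * a = 1 := by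
  classical
  have h1 : leftMat (1 : LA M G) = 1 := by
    ext x y
    simp only [leftMat, Matrix.of_apply, Matrix.one_apply, MonoidAlgebra.one_def,
      MonoidAlgebra.coeff_single, Finsupp.single_apply]
    by_cases hxy : x = y
    · simp [hxy]
    · have : ¬ (1 : G) = x * y⁻¹ := fun he => hxy (mul_inv_eq_one.mp he.symm)
      simp [hxy, this]
  have hu : IsUnit (leftMat a) := by
    refine isUnit_of_res_eq_one ?_
    ext x y
    have := congrArg (fun z => z.coeff (x * y⁻¹)) h
    simp only [coeff_redLA, MonoidAlgebra.one_def, MonoidAlgebra.coeff_single, Finsupp.single_apply] at this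
    simp only [Matrix.map_apply, leftMat, Matrix.of_apply, this, Matrix.one_apply]
    by_cases hxy : x = y
    · simp [hxy]
    · have : ¬ (1 : G) = x * y⁻¹ := fun he => hxy (mul_inv_eq_one.mp he.symm)
      simp [hxy, this]
  obtain ⟨L, hL⟩ := hu.exists_right_inv
  set b : LA M G := ofFun fun x => L x 1
  have hab : a * b = 1 := by
    refine MonoidAlgebra.coeff_injective (Finsupp.ext fun g => ?_)
    have h2 := congrFun (congrFun hL g) 1
    rw [Matrix.mul_apply] at h2
    simp only [coeff_mul_eq_sum, MonoidAlgebra.one_def, MonoidAlgebra.coeff_single, Finsupp.single_apply]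
    rw [Matrix.one_apply] at h2
    rw [if_congr (eq_comm (a := (1 : G)) (b := g)) rfl rfl, ← h2]
    refine Fintype.sum_equiv ((Equiv.inv G).trans (Equiv.mulRight g)) _ _ fun k => ?_
    simp only [Equiv.trans_apply, Equiv.inv_apply, Equiv.coe_mulRight, leftMat, Matrix.of_apply,
      mul_inv_rev, inv_inv, ← mul_assoc, mul_inv_cancel, one_mul, b, coeff_ofFun]
  refine ⟨b, hab, leftMat_injective ?_⟩
  rw [leftMat_mul, h1]
  refine mul_eq_one_comm.mp ?_
  rw [← leftMat_mul, hab, h1]

omit [M.IsMaximal] in
theorem charLin_mul_comm {χ : G → ℂ} (hχ : IsClassFunction G χ) (a b : CA G) :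
    charLin χ (a * b) = charLin χ (b * a) := by
  have key : ∀ a b : CA G, charLin χ (a * b) = ∑ x : G, ∑ u : G, a.coeff x * b.coeff u * χ (x * u) := by
    intro a b
    simp only [charLin_apply, coeff_mul_eq_sum, Finset.sum_mul]
    rw [Finset.sum_comm]
    exact Finset.sum_congr rfl fun x _ => Fintype.sum_equiv (Equiv.mulLeft x⁻¹) _ _ fun g => by simp
  rw [key, key, Finset.sum_comm]
  refine Finset.sum_congr rfl fun u _ => Finset.sum_congr rfl fun x _ => ?_
  rw [← hχ (x * u) u, mul_comm (b.coeff u)]
  congr 2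
  group

variable {p : ℕ} [hp : Fact p.Prime] {H : Subgroup G} [Fintype H]

/-- Inclusion of the local group algebra of a subgroup. -/
def incl (H : Subgroup G) : LA M H →+* LA M G := MonoidAlgebra.mapDomainRingHom (locRing M) H.subtype

omit [Fintype G] [Fintype H] hp in
theorem coeff_incl_of_mem (a : LA M H) (k : H) : (incl H a).coeff k = a.coeff k := by
  simp only [incl, MonoidAlgebra.mapDomainRingHom, RingHom.coe_mk, MonoidHom.coe_mk, OneHom.coe_mk,
    MonoidAlgebra.mapDomain, MonoidAlgebra.coeff_ofCoeff]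
  exact Finsupp.mapDomain_apply Subtype.val_injective _ _

omit [Fintype G] [Fintype H] hp in
theorem coeff_incl_of_notMem (a : LA M H) {g : G} (hg : g ∉ H) : (incl H a).coeff g = 0 := by
  simp only [incl, MonoidAlgebra.mapDomainRingHom, RingHom.coe_mk, MonoidHom.coe_mk, OneHom.coe_mk,
    MonoidAlgebra.mapDomain, MonoidAlgebra.coeff_ofCoeff]
  refine Finsupp.mapDomain_notin_range _ _ ?_
  rintro ⟨k, rfl⟩
  exact hg k.2

omit hp in
theorem toCA_incl_charLin (χ : G → ℂ) (a : LA M H) :
    charLin χ (toCA M G (incl H a)) = ∑ k : H, (a.coeff k : ℂ) * χ k := by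
  rw [charLin_apply, ← Finset.sum_subset (Finset.subset_univ (Finset.univ.map (⟨Subtype.val, Subtype.val_injective⟩ : H ↪ G)))]
  · rw [Finset.sum_map]
    exact Finset.sum_congr rfl fun k _ => by simp [coeff_incl_of_mem]
  · intro g _ hg
    rw [coeff_toCA, coeff_incl_of_notMem a (fun h => hg (Finset.mem_map.mpr ⟨⟨g, h⟩, Finset.mem_univ _, rfl⟩))]
    simp

/-- **Annihilation.** If `b` induces `B`, `C(h_p) ≤ H` and `χ ∉ B`, then `χ` kills `f_b h`. -/
theorem annihilate (hM : IsPModular p M) {b : Set (IrrCharacter H)} {B : Set (IrrCharacter G)}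
    (hind : IsInducedBlock M H b B) (h : H) {z : G} (hz : IsPPart p (h : G) z)
    (hC : Subgroup.centralizer ({z} : Set G) ≤ H) {χ : IrrCharacter G} (hχ : χ ∉ B) :
    ∑ k : H, blockCoeff b k * (χ : G → ℂ) ((k : G) * (h : G)) = 0 := by
  classical
  obtain ⟨hb, hBb, hbB⟩ := (isInducedBlock_iff H).mp hind
  set B' := blockOf M (χ : G → ℂ)
  have hB' : IsPBlock M B' := isPBlock_blockOf χ
  -- `1 - e|_H e_b` is invertible in the integral centre of `H`
  set n : Zint M H := resIn H (idem hB') * idem hb with hn
  obtain ⟨u, hu⟩ : ∃ u : Zint M H, (1 - n) * u = 1 := by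
    refine (Zint_isUnit fun ξ => ?_).exists_right_inv
    have : bomega ξ n = 0 := by
      rw [hn, map_mul, bomega_idem hb]
      split_ifs with hξ
      · obtain ⟨χ', hχ'⟩ := IsPBlock.nonempty hBb
        rw [← indBomega_apply, hbB ξ hξ χ' hχ', bomega_idem hB', if_neg, zero_mul]
        exact fun hmem => hχ (by rw [← isPBlock_eq_of_mem hB' hBb hmem hχ']; exact mem_blockOf_self χ)
      · rw [mul_zero]
    rw [map_sub, map_one, this, sub_zero]
    exact one_ne_zero
  set eA : LA M G := toLA (idem hB')
  set eb : LA M H := toLA (idem hb)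
  set r : LA M H := toLA (resIn H (idem hB'))
  set s₀ : LA M G := eA - incl H r
  set E : LA M G := eA * incl H eb
  set s : LA M G := s₀ * incl H (eb * toLA u) with hs
  set hS : LA M G := MonoidAlgebra.single (h : G) 1
  have hcomm : ∀ x : LA M H, toLA (idem hb) * x = x * toLA (idem hb) := toLA_comm _
  have hEE : E * E = E := by
    calc E * E = eA * (incl H eb * eA) * incl H eb := by simp only [E, mul_assoc]
      _ = (eA * eA) * (incl H eb * incl H eb) := by rw [← toLA_comm (idem hB')]; simp only [eA, mul_assoc]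
      _ = E := by rw [← map_mul (toLA (M := M) (G := G)), idem_mul_self, ← map_mul, ← map_mul, idem_mul_self]
  have hEs : E * s = E := by
    have h1 : E = incl H (toLA n) + s₀ * incl H eb := by
      rw [hn, map_mul, map_mul]
      simp only [E, s₀, r, eb, sub_mul, add_sub_cancel]
    have h2 : E * (1 - incl H (toLA n)) = E * (s₀ * incl H eb) := by
      rw [mul_sub, mul_one]
      nth_rewrite 1 [← hEE]
      nth_rewrite 2 [h1]
      rw [mul_add, add_sub_cancel_left]
    calc E * s = E * (s₀ * incl H eb) * incl H (toLA u) := by rw [hs, map_mul]; simp only [mul_assoc]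
      _ = E * (1 - incl H (toLA n)) * incl H (toLA u) := by rw [h2]
      _ = E * incl H (toLA ((1 - n) * u)) := by simp only [map_mul, map_sub, map_one, mul_assoc]
      _ = E := by rw [hu, map_one, map_one, mul_one]
  -- `s` is supported off `H` and commutes with `h`
  have hsH : ∀ g ∈ H, s.coeff g = 0 := by
    intro g hg
    rw [hs, coeff_mul_eq_sum]
    refine Finset.sum_eq_zero fun k _ => ?_
    by_cases hk : k ∈ H
    · rw [show s₀.coeff k = 0 from ?_, zero_mul]
      obtain ⟨k, rfl⟩ : ∃ k' : H, (k' : G) = k := ⟨⟨k, hk⟩, rfl⟩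
      simp only [s₀, MonoidAlgebra.coeff_sub, Finsupp.sub_apply, coeff_incl_of_mem, sub_eq_zero]
      refine Subtype.ext ?_
      rw [coeff_toLA, coeff_toLA]
      simp [resIn]
    · rw [coeff_incl_of_notMem _ (fun hm => hk ?_), mul_zero]
      have := H.mul_mem hg (H.inv_mem hm)
      simpa using this
  have hH : incl H (MonoidAlgebra.single h (1 : locRing M)) = hS := by
    simp [incl, hS, MonoidAlgebra.mapDomainRingHom, MonoidAlgebra.mapDomain_single]
  have hcH : ∀ a : Zint M H, hS * incl H (toLA a) = incl H (toLA a) * hS := by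
    intro a; rw [← hH, ← map_mul, ← map_mul, toLA_comm a]
  have hA : ∀ x : LA M G, eA * x = x * eA := toLA_comm _
  have hEh : E * hS = hS * E := by
    calc E * hS = eA * (incl H eb * hS) := mul_assoc _ _ _
      _ = (eA * hS) * incl H eb := by rw [← hcH (idem hb), mul_assoc]
      _ = hS * E := by rw [hA, mul_assoc]
  have hsh : s * hS = hS * s := by
    have h0 : s₀ * hS = hS * s₀ := by
      rw [sub_mul, mul_sub, hA, ← hcH (resIn H (idem hB'))]
    have h1 : incl H (eb * toLA u) * hS = hS * incl H (eb * toLA u) := by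
      rw [← map_mul (toLA (M := M) (G := H))]; exact (hcH _).symm
    calc s * hS = s₀ * (incl H (eb * toLA u) * hS) := mul_assoc _ _ _
      _ = (s₀ * hS) * incl H (eb * toLA u) := by rw [h1, mul_assoc]
      _ = hS * s := by rw [h0, mul_assoc]
  -- grading of the complement
  set σ : Equiv.Perm {g : G // g ∉ H} :=
    { toFun := fun g => ⟨(h : G) * g * (h : G)⁻¹, fun hm => g.2 (by
        have := H.mul_mem (H.mul_mem (H.inv_mem h.2) hm) h.2; simpa [mul_assoc] using this)⟩
      invFun := fun g => ⟨(h : G)⁻¹ * g * (h : G), fun hm => g.2 (by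
        have := H.mul_mem (H.mul_mem h.2 hm) (H.inv_mem h.2); simpa [mul_assoc] using this)⟩
      left_inv := fun g => Subtype.ext (by simp [mul_assoc])
      right_inv := fun g => Subtype.ext (by simp [mul_assoc]) }
  have hσ : ∀ (g : {g : G // g ∉ H}) (n : ℕ),
      (((σ ^ n) g : {g : G // g ∉ H}) : G) = (h : G) ^ n * g * ((h : G) ^ n)⁻¹ := by
    intro g n
    induction n with
    | zero => simp
    | succ n ih => rw [pow_succ', Equiv.Perm.mul_apply, pow_succ']
                   simp only [σ, Equiv.coe_fn_mk] at ih ⊢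
                   rw [ih]; group
  have hcyc : ∀ (g : {g : G // g ∉ H}) (n : ℕ), (σ ^ n) g = g → p ∣ n := by
    intro g n hg
    by_contra hn
    have h1 : Commute (g : G) ((h : G) ^ n) := by
      have := congrArg Subtype.val hg
      rw [hσ, mul_inv_eq_iff_eq_mul] at this
      exact this.symm
    exact g.2 (hC (Subgroup.mem_centralizer_singleton_iff.mpr (commute_pPart hz hn h1).eq))
  have hζ := Complex.isPrimitiveRoot_exp p hM.1.ne_zero
  set ζ : locRing M := ofInt M ⟨_, hζ.isIntegral hM.1.pos⟩
  have hζp : ζ ^ p = 1 := Subtype.ext (by push_cast; exact hζ.pow_eq_one)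
  have hζ1 : ζ ≠ 1 := fun h => hζ.ne_one hM.1.one_lt (congrArg Subtype.val h)
  obtain ⟨w, hwp, hwσ⟩ := exists_grading σ hζp hcyc
  set T : LA M G := ofFun fun g => if hg : g ∈ H then 0 else w ⟨g, hg⟩ * s.coeff g
  have hTh : hS * T = ζ ^ (p - 1) • (T * hS) := by
    refine MonoidAlgebra.coeff_injective (Finsupp.ext fun g => ?_)
    rw [MonoidAlgebra.coeff_smul_apply, smul_eq_mul]
    simp only [hS, MonoidAlgebra.coeff_single_mul_apply, MonoidAlgebra.coeff_mul_single_apply, one_mul, mul_one, T, coeff_ofFun]
    have hsc : s.coeff ((h : G)⁻¹ * g) = s.coeff (g * (h : G)⁻¹) := by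
      have := congrArg (fun z => z.coeff g) hsh
      simpa [hS, MonoidAlgebra.coeff_single_mul_apply, MonoidAlgebra.coeff_mul_single_apply] using this.symm
    by_cases hg : g ∈ H
    · rw [dif_pos (H.mul_mem (H.inv_mem h.2) hg), dif_pos (H.mul_mem hg (H.inv_mem h.2)), mul_zero]
    · have h1 : (h : G)⁻¹ * g ∉ H := fun hm => hg (by simpa using H.mul_mem h.2 hm)
      have h2 : g * (h : G)⁻¹ ∉ H := fun hm => hg (by simpa using H.mul_mem hm h.2)
      rw [dif_neg h1, dif_neg h2, hsc, ← mul_assoc]
      refine congrArg (· * _) ?_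
      have h3 : σ ⟨(h : G)⁻¹ * g, h1⟩ = ⟨g * (h : G)⁻¹, h2⟩ := Subtype.ext (by simp [σ])
      rw [← h3, hwσ, ← mul_assoc, ← pow_succ, Nat.sub_add_cancel hM.1.pos, hζp, one_mul]
  have hT : redLA M G T = redLA M G s := by
    refine MonoidAlgebra.coeff_injective (Finsupp.ext fun g => ?_)
    simp only [coeff_redLA, T, coeff_ofFun]
    split_ifs with hg
    · rw [hsH g hg]
    · rw [map_mul, res_pPow_rootOfUnity M hM (k := 1) (by rw [pow_one]; exact hwp _), one_mul]
  set X : LA M G := 1 - E + E * T * E
  obtain ⟨X', hX1, hX2⟩ := isUnit_of_redLA_eq_one (a := X) (by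
    simp only [X, map_add, map_sub, map_one, map_mul, hT]
    rw [← map_mul, hEs, ← map_mul, hEE, sub_add_cancel])
  obtain ⟨Y, hY⟩ : ∃ Y, Y = hS * E := ⟨_, rfl⟩
  have hYX : Y * X = ζ ^ (p - 1) • (X * Y) := by
    have hYE : Y * E = Y := by rw [hY, mul_assoc, hEE]
    have hEY : E * Y = Y := by rw [hY, ← hEh, ← mul_assoc, hEE]
    have h1 : Y * X = E * (hS * T) * E := by
      simp only [X, mul_add, mul_sub, mul_one, hYE, sub_self, zero_add]
      rw [← mul_assoc Y (E * T) E, ← mul_assoc Y E T, hYE, hY, ← hEh, mul_assoc E hS T]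
    have h2 : X * Y = E * (T * hS) * E := by
      simp only [X, add_mul, sub_mul, one_mul, hEY, sub_self, zero_add]
      rw [mul_assoc, hEY, hY, ← mul_assoc, mul_assoc E T hS]
    rw [h1, h2, hTh, Algebra.mul_smul_comm, Algebra.smul_mul_assoc]
  set φ : LA M G → ℂ := fun a => charLin (χ : G → ℂ) (toCA M G a)
  have hsmul : ∀ (c : locRing M) (a : LA M G), φ (c • a) = (c : ℂ) * φ a := by
    intro c a
    simp [φ, charLin_apply, Finset.mul_sum, mul_assoc]
  have hφ : φ Y = 0 := by
    have h3 : φ Y = ((ζ ^ (p - 1) : locRing M) : ℂ) * φ Y := by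
      calc φ Y = φ (Y * X * X') := by rw [mul_assoc, hX1, mul_one]
        _ = ((ζ ^ (p - 1) : locRing M) : ℂ) * φ (X * Y * X') := by rw [hYX, smul_mul_assoc, hsmul]
        _ = _ := by
          congr 1
          simp only [φ, map_mul]
          rw [mul_assoc, charLin_mul_comm (CfsgLib.Char.isClassFunction_of_isIrr χ.2), mul_assoc,
            ← map_mul, hX2, map_one, mul_one]
    have h4 : ((ζ ^ (p - 1) : locRing M) : ℂ) ≠ 1 := by
      intro hc
      refine hζ1 ?_
      have : ζ ^ (p - 1) = 1 := Subtype.ext hc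
      calc ζ = ζ * ζ ^ (p - 1) := by rw [this, mul_one]
        _ = 1 := by rw [← pow_succ', Nat.sub_add_cancel hM.1.pos, hζp]
    have : (1 - ((ζ ^ (p - 1) : locRing M) : ℂ)) * φ Y = 0 := by rw [sub_mul, one_mul, ← h3, sub_self]
    exact (mul_eq_zero.mp this).resolve_left (sub_ne_zero.mpr (Ne.symm h4))
  have hval : φ (E * hS) = φ (incl H (eb * MonoidAlgebra.single h 1)) := by
    simp only [φ, E, map_mul (incl H), hH, mul_assoc]
    rw [map_mul (toCA M G), toCA_toLA, charLin_mul_of_central χ.2 (Zint_center _),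
      ← coe_zomega, zomega_idem hB', if_pos (mem_blockOf_self χ)]
    simp
  rw [hEh, ← hY, hφ] at hval
  refine Eq.trans ?_ hval.symm
  simp only [φ, toCA_incl_charLin, eb, MonoidAlgebra.coeff_mul_single_apply, mul_one]
  refine Fintype.sum_equiv (Equiv.mulRight h) _ _ fun k => ?_
  rw [Equiv.coe_mulRight, coeff_toLA, mul_inv_cancel_right]
  simp [idem, blockElt]

end CfsgLib.Blocks
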