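import Cfsg.Agent.Lib.Blocks.GroupAlgebra
import Mathlib.RingTheory.Coprime.Lemmas
import Mathlib.Algebra.Polynomial.BigOperators

/-!
# The integral centre of the group algebra, blocks and block idempotents

`Zint M G` is the centre of the group algebra over the local ring at `M`, `zomega χ` the central
character of `χ` on it with values in the local ring and `bomega χ` its reduction.
-/

set_option autoImplicit false

noncomputable section

namespace CfsgLib.Blocks

open Cfsg Polynomial
open scoped ComplexConjugate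

variable (M : Ideal AlgInt) [M.IsMaximal] (G : Type*) [Group G] [Fintype G]

/-- The group algebra elements with local integral coefficients. -/
def intCA : Subring (CA G) where
  carrier := {a | ∀ g, a.coeff g ∈ locRing M}
  zero_mem' g := by simp
  one_mem' g := by
    classical
    rw [MonoidAlgebra.one_def, MonoidAlgebra.coeff_single, Finsupp.single_apply]
    split_ifs
    · exact Subring.one_mem _
    · exact Subring.zero_mem _
  add_mem' ha hb g := by
    rw [MonoidAlgebra.coeff_add, Finsupp.add_apply]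
    exact Subring.add_mem _ (ha g) (hb g)
  neg_mem' {a} ha g := by
    rw [MonoidAlgebra.coeff_neg, Finsupp.neg_apply]
    exact Subring.neg_mem _ (ha g)
  mul_mem' ha hb g := by
    rw [coeff_mul_eq_sum]
    exact Subring.sum_mem _ (fun h _ => Subring.mul_mem _ (ha h) (hb _))

/-- The integral centre. -/
def Zint : Subring (CA G) := intCA M G ⊓ Subring.center (CA G)

variable {M G}

theorem mem_intCA {a : CA G} : a ∈ intCA M G ↔ ∀ g, a.coeff g ∈ locRing M := Iff.rfl

theorem mem_Zint_iff {a : CA G} :
    a ∈ Zint M G ↔ a ∈ intCA M G ∧ ∀ g h : G, a.coeff (h * g * h⁻¹) = a.coeff g := by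
  rw [← mem_center_iff, Subsemiring.mem_center_iff, Zint, Subring.mem_inf, Subring.mem_center_iff]

theorem Zint_center (a : Zint M G) : (a : CA G) ∈ Subsemiring.center (CA G) :=
  (mem_center_iff _).mpr (mem_Zint_iff.mp a.2).2

instance instCommRingZint : CommRing (Zint M G) :=
  { (Zint M G).toRing with
    mul_comm := fun a b => Subtype.ext (Subring.mem_center_iff.mp b.2.2 a) }

/-- The class sum as an integral central element. -/
def zclass (M : Ideal AlgInt) [M.IsMaximal] (g : G) : Zint M G :=
  ⟨classSum g, by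
    classical
    rw [mem_Zint_iff]
    refine ⟨fun x => ?_, (mem_center_iff _).mp (classSum_mem_center g)⟩
    rw [classSum_coeff]
    split_ifs
    · exact Subring.one_mem _
    · exact Subring.zero_mem _⟩

@[simp] theorem coe_zclass (g : G) : ((zclass M g : Zint M G) : CA G) = classSum g := rfl

/-- Scalars. -/
def scal (M : Ideal AlgInt) [M.IsMaximal] : locRing M →+* Zint M G :=
  ((MonoidAlgebra.singleOneRingHom (R := ℂ) (M := G)).comp (locRing M).subtype).codRestrict (Zint M G)
    (fun c => by
      classical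
      rw [mem_Zint_iff]
      refine ⟨fun g => ?_, fun g h => ?_⟩
      · change (MonoidAlgebra.single (1 : G) (c : ℂ)).coeff g ∈ locRing M
        rw [MonoidAlgebra.coeff_single, Finsupp.single_apply]
        split_ifs
        · exact c.2
        · exact Subring.zero_mem _
      · change (MonoidAlgebra.single (1 : G) (c : ℂ)).coeff (h * g * h⁻¹) =
          (MonoidAlgebra.single (1 : G) (c : ℂ)).coeff g
        simp only [MonoidAlgebra.coeff_single, Finsupp.single_apply]
        congr 1
        simp [eq_comm, conj_eq_one_iff])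

theorem coe_scal (c : locRing M) :
    ((scal M c : Zint M G) : CA G) = MonoidAlgebra.single (1 : G) (c : ℂ) := rfl

theorem coeff_eq_of_isConj (a : Zint M G) {g h : G} (hgh : IsConj g h) :
    (a : CA G).coeff g = (a : CA G).coeff h := by
  obtain ⟨c, rfl⟩ := isConj_iff.mp hgh
  rw [(mem_Zint_iff.mp a.2).2]

/-- A central element is the combination of class sums given by its coefficients. -/
theorem Zint_eq_sum [Fintype (ConjClasses G)] (a : Zint M G) :
    a = ∑ C : ConjClasses G,
      scal M ⟨(a : CA G).coeff C.out, (mem_Zint_iff.mp a.2).1 _⟩ * zclass M C.out := by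
  classical
  apply Subtype.ext
  apply MonoidAlgebra.coeff_injective
  ext x
  rw [AddSubmonoidClass.coe_finsetSum, MonoidAlgebra.coeff_sum, Finsupp.finsetSum_apply]
  rw [Finset.sum_eq_single (ConjClasses.mk x)]
  · rw [Subring.coe_mul, coe_scal, coe_zclass, MonoidAlgebra.coeff_single_one_mul, classSum_coeff]
    have hc : IsConj (ConjClasses.mk x).out x :=
      ConjClasses.mk_eq_mk_iff_isConj.mp (Quotient.out_eq _)
    rw [if_pos hc, mul_one]
    exact (coeff_eq_of_isConj a hc).symm
  · intro C _ hne
    rw [Subring.coe_mul, coe_scal, coe_zclass, MonoidAlgebra.coeff_single_one_mul, classSum_coeff,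
      if_neg, mul_zero]
    exact fun h => hne ((Quotient.out_eq C).symm.trans (ConjClasses.mk_eq_mk_iff_isConj.mpr h))
  · simp

theorem omega_scal_mul {χ : G → ℂ} (hχ : IsIrrCharacter G χ) (c : locRing M) (b : Zint M G) :
    omega χ ((scal M c * b : Zint M G) : CA G) = (c : ℂ) * omega χ (b : CA G) := by
  rw [Subring.coe_mul, omega_mul hχ (Zint_center _)]
  congr 1
  rw [coe_scal, omega, charLin_single, mul_div_assoc, div_self (CfsgLib.Char.irr_one_ne_zero hχ), mul_one]

theorem omega_mem_locRing (χ : IrrCharacter G) (a : Zint M G) :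
    omega (χ : G → ℂ) (a : CA G) ∈ locRing M := by
  classical
  have : Finite (ConjClasses G) := Finite.of_surjective _ ConjClasses.mk_surjective
  have := Fintype.ofFinite (ConjClasses G)
  rw [Zint_eq_sum a, AddSubmonoidClass.coe_finsetSum, omega, map_sum, Finset.sum_div]
  refine Subring.sum_mem _ (fun C _ => ?_)
  rw [← omega, omega_scal_mul χ.2, coe_zclass,
    omega_classSum (CfsgLib.Char.isClassFunction_of_isIrr χ.2)]
  exact Subring.mul_mem _ (SetLike.coe_mem _) (algInt_le_locRing M (isIntegral_centralChar χ.2 _))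

/-- The central character on the integral centre. -/
def zomega (χ : IrrCharacter G) : Zint M G →+* locRing M where
  toFun a := ⟨omega (χ : G → ℂ) (a : CA G), omega_mem_locRing χ a⟩
  map_one' := Subtype.ext (omega_one χ.2)
  map_mul' a b := Subtype.ext (omega_mul χ.2 (Zint_center a) b)
  map_zero' := Subtype.ext (by simp [omega])
  map_add' a b := Subtype.ext (by simp [omega, add_div])

theorem coe_zomega (χ : IrrCharacter G) (a : Zint M G) :
    ((zomega χ a : locRing M) : ℂ) = omega (χ : G → ℂ) (a : CA G) := rfl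

theorem zomega_scal (χ : IrrCharacter G) (c : locRing M) : zomega χ (scal M c) = c := by
  apply Subtype.ext
  rw [coe_zomega, coe_scal, omega, charLin_single, mul_div_assoc,
    div_self (CfsgLib.Char.irr_one_ne_zero χ.2), mul_one]

theorem coe_zomega_zclass (χ : IrrCharacter G) (g : G) :
    ((zomega χ (zclass M g) : locRing M) : ℂ) = centralChar (χ : G → ℂ) g := by
  rw [coe_zomega, coe_zclass, omega_classSum (CfsgLib.Char.isClassFunction_of_isIrr χ.2)]

theorem Zint_ext {a b : Zint M G} (h : ∀ χ : IrrCharacter G, zomega χ a = zomega χ b) : a = b :=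
  Subtype.ext (eq_of_omega_eq (Zint_center a) (Zint_center b)
    (fun χ => congrArg Subtype.val (h χ)))

/-- The reduced central character. -/
def bomega (χ : IrrCharacter G) : Zint M G →+* Res M := (res M).comp (zomega χ)

theorem bomega_apply (χ : IrrCharacter G) (a : Zint M G) : bomega χ a = res M (zomega χ a) := rfl

theorem bomega_scal (χ : IrrCharacter G) (c : locRing M) : bomega χ (scal M c) = res M c := by
  rw [bomega_apply, zomega_scal]

theorem bomega_zclass_eq_zero_iff (χ : IrrCharacter G) (g : G) :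
    bomega χ (zclass M g) = 0 ↔ MemLocalIdeal M (centralChar (χ : G → ℂ) g) := by
  rw [bomega_apply, res_eq_zero_iff, coe_zomega_zclass]

theorem ringHom_eq_of_scal_zclass {A : Type*} [CommRing A] {φ ψ : Zint M G →+* A}
    (hs : ∀ c, φ (scal M c) = ψ (scal M c)) (hc : ∀ g, φ (zclass M g) = ψ (zclass M g)) : φ = ψ := by
  classical
  have : Finite (ConjClasses G) := Finite.of_surjective _ ConjClasses.mk_surjective
  have := Fintype.ofFinite (ConjClasses G)
  refine RingHom.ext (fun a => ?_)
  rw [Zint_eq_sum a, map_sum, map_sum]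
  simp only [map_mul, hs, hc]

theorem sameBlock_iff (χ ψ : IrrCharacter G) :
    SameBlock M (χ : G → ℂ) (ψ : G → ℂ) ↔ bomega (M := M) χ = bomega ψ := by
  constructor
  · intro h
    refine ringHom_eq_of_scal_zclass (fun c => by simp [bomega_scal]) (fun g => ?_)
    rw [bomega_apply, bomega_apply, ← memLocalIdeal_sub_iff, coe_zomega_zclass, coe_zomega_zclass]
    exact h g
  · intro h g
    rw [← coe_zomega_zclass (M := M), ← coe_zomega_zclass (M := M), memLocalIdeal_sub_iff]
    exact RingHom.congr_fun h (zclass M g)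

theorem sameBlock_refl (χ : IrrCharacter G) : SameBlock M (χ : G → ℂ) (χ : G → ℂ) :=
  (sameBlock_iff χ χ).mpr rfl

theorem mem_blockOf_iff (χ ψ : IrrCharacter G) :
    ψ ∈ blockOf M (χ : G → ℂ) ↔ bomega (M := M) χ = bomega ψ := sameBlock_iff χ ψ

theorem mem_blockOf_self (χ : IrrCharacter G) : χ ∈ blockOf M (χ : G → ℂ) := sameBlock_refl χ

omit [M.IsMaximal] [Fintype G] in
theorem isPBlock_blockOf (χ : IrrCharacter G) : IsPBlock M (blockOf M (χ : G → ℂ)) := ⟨χ, rfl⟩

theorem blockOf_eq_of_mem {χ ψ : IrrCharacter G} (h : ψ ∈ blockOf M (χ : G → ℂ)) :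
    blockOf M (ψ : G → ℂ) = blockOf M (χ : G → ℂ) := by
  rw [mem_blockOf_iff] at h
  ext η
  rw [mem_blockOf_iff, mem_blockOf_iff, h]

theorem isPBlock_eq_blockOf {B : Set (IrrCharacter G)} (hB : IsPBlock M B) {χ : IrrCharacter G}
    (h : χ ∈ B) : B = blockOf M (χ : G → ℂ) := by
  obtain ⟨χ₀, rfl⟩ := hB
  exact (blockOf_eq_of_mem h).symm

theorem bomega_eq_of_mem {B : Set (IrrCharacter G)} (hB : IsPBlock M B) {χ ψ : IrrCharacter G}
    (hχ : χ ∈ B) (hψ : ψ ∈ B) : bomega (M := M) χ = bomega ψ := by
  rw [isPBlock_eq_blockOf hB hχ] at hψ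
  exact (mem_blockOf_iff χ ψ).mp hψ

theorem mem_of_bomega_eq {B : Set (IrrCharacter G)} (hB : IsPBlock M B) {χ ψ : IrrCharacter G}
    (hχ : χ ∈ B) (h : bomega (M := M) χ = bomega ψ) : ψ ∈ B := by
  rw [isPBlock_eq_blockOf hB hχ, mem_blockOf_iff]
  exact h

theorem IsPBlock.nonempty {B : Set (IrrCharacter G)} (hB : IsPBlock M B) : B.Nonempty := by
  obtain ⟨χ, rfl⟩ := hB
  exact ⟨χ, mem_blockOf_self χ⟩

theorem isPBlock_eq_of_mem {B B' : Set (IrrCharacter G)} (hB : IsPBlock M B) (hB' : IsPBlock M B')
    {χ : IrrCharacter G} (h : χ ∈ B) (h' : χ ∈ B') : B = B' := by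
  rw [isPBlock_eq_blockOf hB h, isPBlock_eq_blockOf hB' h']

omit [M.IsMaximal] [Fintype G] in
theorem principalBlock_eq :
    principalBlock M G = blockOf M ((CfsgLib.Char.irrOne : IrrCharacter G) : G → ℂ) := by
  rw [principalBlock]
  congr 1

/-- Polynomial evaluation at an element of the integral centre. -/
def evalZ (a : Zint M G) : (locRing M)[X] →+* Zint M G := Polynomial.eval₂RingHom (scal M) a

theorem zomega_evalZ (χ : IrrCharacter G) (a : Zint M G) (f : (locRing M)[X]) :
    zomega χ (evalZ a f) = f.eval (zomega χ a) := by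
  have hid : (zomega χ).comp (scal M) = RingHom.id (locRing M) :=
    RingHom.ext (fun c => zomega_scal χ c)
  rw [evalZ, Polynomial.coe_eval₂RingHom, Polynomial.hom_eval₂, hid, Polynomial.eval]

/-- The polynomial with the values of all central characters at `a` as roots. -/
def rootsPoly (a : Zint M G) : (locRing M)[X] := ∏ χ : IrrCharacter G, (X - C (zomega χ a))

theorem evalZ_rootsPoly (a : Zint M G) : evalZ a (rootsPoly a) = 0 := by
  refine Zint_ext (fun χ => ?_)
  rw [zomega_evalZ, map_zero, rootsPoly, Polynomial.eval_prod]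
  exact Finset.prod_eq_zero (Finset.mem_univ χ) (by simp)

/-- An element with unit central character values is invertible in the integral centre. -/
theorem Zint_isUnit {a : Zint M G} (h : ∀ χ : IrrCharacter G, bomega χ a ≠ 0) : IsUnit a := by
  obtain ⟨q, hq⟩ := Polynomial.X_dvd_iff.mpr (show (rootsPoly a - C ((rootsPoly a).coeff 0)).coeff 0 = 0
    by simp)
  have hu : IsUnit ((rootsPoly a).coeff 0) := by
    rw [rootsPoly, Polynomial.coeff_zero_eq_eval_zero, Polynomial.eval_prod]
    refine IsUnit.prod_iff.mpr (fun χ _ => ?_)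
    rw [Polynomial.eval_sub, Polynomial.eval_X, Polynomial.eval_C, zero_sub, IsUnit.neg_iff,
      isUnit_iff_res_ne_zero]
    exact h χ
  have he := congrArg (evalZ a) hq
  rw [map_sub, evalZ_rootsPoly, zero_sub, map_mul] at he
  have hX : evalZ a X = a := by simp [evalZ]
  have hC : evalZ a (C ((rootsPoly a).coeff 0)) = scal M ((rootsPoly a).coeff 0) := by simp [evalZ]
  rw [hX, hC, neg_eq_iff_eq_neg] at he
  have : IsUnit (a * evalZ a q) := by
    have h2 := (hu.map (scal M : locRing M →+* Zint M G))
    rw [he, IsUnit.neg_iff] at h2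
    exact h2
  exact isUnit_of_mul_isUnit_left this

/-- Coordinates in `Finset` form. -/
theorem blockCoeff_eq (B : Set (IrrCharacter G)) [DecidablePred (· ∈ B)] (g : G) :
    blockCoeff B g = (Nat.card G : ℂ)⁻¹ *
      ∑ χ : IrrCharacter G, if χ ∈ B then (χ : G → ℂ) 1 * conj ((χ : G → ℂ) g) else 0 := by
  classical
  rw [blockCoeff, ← Finset.sum_filter, finsum_mem_eq_finite_toFinset_sum _ (Set.toFinite B)]
  congr 1
  exact Finset.sum_congr (by ext; simp) (fun _ _ => rfl)

theorem blockCoeff_conj (B : Set (IrrCharacter G)) (g h : G) :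
    blockCoeff B (h * g * h⁻¹) = blockCoeff B g := by
  classical
  rw [blockCoeff_eq, blockCoeff_eq]
  congr 1
  refine Finset.sum_congr rfl (fun χ _ => ?_)
  rw [CfsgLib.Char.isClassFunction_of_isIrr χ.2 g h]

/-- The sum of the central idempotents of the members of `B`. -/
def blockElt (B : Set (IrrCharacter G)) : CA G := ofFun (blockCoeff B)

theorem blockElt_mem_center (B : Set (IrrCharacter G)) :
    blockElt B ∈ Subsemiring.center (CA G) := by
  rw [mem_center_iff]
  exact fun g h => blockCoeff_conj B g h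

theorem omega_blockElt (B : Set (IrrCharacter G)) [DecidablePred (· ∈ B)] (η : IrrCharacter G) :
    omega (η : G → ℂ) (blockElt B) = if η ∈ B then 1 else 0 := by
  classical
  have h1 : charLin (η : G → ℂ) (blockElt B) =
      ∑ χ : IrrCharacter G, if χ ∈ B then
        (χ : G → ℂ) 1 * Cfsg.classInner (η : G → ℂ) (χ : G → ℂ) else 0 := by
    rw [charLin_apply]
    simp only [blockElt, coeff_ofFun, blockCoeff_eq, Finset.mul_sum, Finset.sum_mul]
    rw [Finset.sum_comm]
    refine Finset.sum_congr rfl (fun χ _ => ?_)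
    split_ifs with hχ
    · rw [Cfsg.classInner, Finset.mul_sum, Finset.mul_sum]
      exact Finset.sum_congr rfl (fun g _ => by ring)
    · simp
  rw [omega, h1]
  simp only [CfsgLib.Char.classInner_irrCharacter, mul_ite, mul_one, mul_zero]
  rw [Finset.sum_eq_single η (fun b _ hb => by simp [Ne.symm hb]) (by simp)]
  simp only [if_true]
  split_ifs
  · exact div_self (CfsgLib.Char.irr_one_ne_zero η.2)
  · simp

theorem exists_separating (χ ψ : IrrCharacter G) (h : bomega (M := M) χ ≠ bomega ψ) :
    ∃ e : Zint M G, zomega ψ e = 0 ∧ ∀ η : IrrCharacter G,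
      (bomega (M := M) η = bomega χ → zomega η e = 1) ∧ (zomega η e = 0 ∨ zomega η e = 1) := by
  classical
  obtain ⟨g, hg⟩ : ∃ g, bomega χ (zclass M g) ≠ bomega ψ (zclass M g) := by
    by_contra hc
    push Not at hc
    exact h (ringHom_eq_of_scal_zclass (fun c => by simp [bomega_scal]) hc)
  set a := zclass M g
  let S : Finset (IrrCharacter G) := Finset.univ.filter fun η => bomega η a = bomega χ a
  let f : (locRing M)[X] := ∏ η ∈ S, (X - C (zomega η a))
  let k : (locRing M)[X] := ∏ η ∈ Sᶜ, (X - C (zomega η a))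
  have hcop : IsCoprime f k := by
    refine IsCoprime.prod_left (fun i hi => IsCoprime.prod_right (fun j hj => ?_))
    refine Polynomial.isCoprime_X_sub_C_of_isUnit_sub ?_
    rw [isUnit_iff_res_ne_zero, map_sub, sub_ne_zero]
    intro he
    simp only [S, Finset.mem_compl, Finset.mem_filter, Finset.mem_univ, true_and] at hi hj
    exact hj (he.symm.trans hi)
  obtain ⟨u, v, huv⟩ := hcop
  have h1 : ∀ η, η ∈ S → zomega η (evalZ a (v * k)) = 1 := fun η hη => by
    have := congrArg (Polynomial.eval (zomega η a)) huv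
    rw [Polynomial.eval_add, Polynomial.eval_mul, Polynomial.eval_mul, Polynomial.eval_one,
      show f.eval (zomega η a) = 0 by
        rw [Polynomial.eval_prod]; exact Finset.prod_eq_zero hη (by simp), mul_zero, zero_add] at this
    rw [zomega_evalZ, Polynomial.eval_mul]
    exact this
  have h0 : ∀ η, η ∉ S → zomega η (evalZ a (v * k)) = 0 := fun η hη => by
    rw [zomega_evalZ, Polynomial.eval_mul, show k.eval (zomega η a) = 0 by
      rw [Polynomial.eval_prod]; exact Finset.prod_eq_zero (Finset.mem_compl.mpr hη) (by simp), mul_zero]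
  refine ⟨evalZ a (v * k), h0 ψ (by simp [S, Ne.symm hg]), fun η => ⟨fun hη => h1 η ?_, ?_⟩⟩
  · simp [S, hη]
  · by_cases hη : η ∈ S
    · exact .inr (h1 η hη)
    · exact .inl (h0 η hη)

theorem blockElt_mem_Zint {B : Set (IrrCharacter G)} (hB : IsPBlock M B) : blockElt B ∈ Zint M G := by
  classical
  obtain ⟨χ, rfl⟩ := hB
  choose e he0 he using fun ψ : {ψ : IrrCharacter G // ψ ∉ blockOf M (χ : G → ℂ)} =>
    exists_separating χ ψ.1 (fun hc => ψ.2 ((mem_blockOf_iff χ ψ.1).mpr hc))
  have : (∏ ψ, e ψ : Zint M G).1 = blockElt (blockOf M (χ : G → ℂ)) := by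
    refine eq_of_omega_eq (Zint_center _) (blockElt_mem_center _) (fun η => ?_)
    rw [omega_blockElt, ← coe_zomega, map_prod]
    split_ifs with hη
    · rw [Finset.prod_eq_one (fun ψ _ => (he ψ η).1 ((mem_blockOf_iff χ η).mp hη).symm)]
      rfl
    · rw [Finset.prod_eq_zero (Finset.mem_univ ⟨η, hη⟩) (he0 ⟨η, hη⟩)]
      rfl
  rw [← this]
  exact Subtype.coe_prop _

/-- **Osima's theorem.** -/
theorem blockCoeff_mem_locRing {B : Set (IrrCharacter G)} (hB : IsPBlock M B) (g : G) :
    blockCoeff B g ∈ locRing M :=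
  (mem_Zint_iff.mp (blockElt_mem_Zint hB)).1 g

/-- The block idempotent in the integral centre. -/
def idem {B : Set (IrrCharacter G)} (hB : IsPBlock M B) : Zint M G :=
  ⟨blockElt B, blockElt_mem_Zint hB⟩

theorem zomega_idem {B : Set (IrrCharacter G)} (hB : IsPBlock M B) [DecidablePred (· ∈ B)]
    (η : IrrCharacter G) : zomega η (idem hB) = if η ∈ B then 1 else 0 := by
  apply Subtype.ext
  rw [coe_zomega, idem, omega_blockElt]
  split_ifs <;> rfl

theorem bomega_idem {B : Set (IrrCharacter G)} (hB : IsPBlock M B) [DecidablePred (· ∈ B)]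
    (η : IrrCharacter G) : bomega η (idem hB) = if η ∈ B then 1 else 0 := by
  rw [bomega_apply, zomega_idem]
  split_ifs <;> simp

theorem idem_mul_self {B : Set (IrrCharacter G)} (hB : IsPBlock M B) :
    idem hB * idem hB = idem hB := by
  classical
  refine Zint_ext (fun η => ?_)
  rw [map_mul, zomega_idem]
  split_ifs <;> simp

theorem idem_mul_of_ne {B B' : Set (IrrCharacter G)} (hB : IsPBlock M B) (hB' : IsPBlock M B')
    (hne : B ≠ B') : idem hB * idem hB' = 0 := by
  classical
  refine Zint_ext (fun η => ?_)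
  rw [map_mul, zomega_idem, zomega_idem, map_zero]
  by_cases h : η ∈ B <;> by_cases h' : η ∈ B' <;> simp [h, h']
  exact hne (isPBlock_eq_of_mem hB hB' h h')

theorem prod_one_sub_idem :
    ∏ χ : IrrCharacter G, (1 - idem (isPBlock_blockOf (M := M) χ)) = 0 := by
  classical
  refine Zint_ext (fun η => ?_)
  rw [map_prod, map_zero]
  refine Finset.prod_eq_zero (Finset.mem_univ η) ?_
  rw [map_sub, map_one, zomega_idem, if_pos (mem_blockOf_self η), sub_self]

/-- Every residue-valued character of the integral centre is a reduced central character. -/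
theorem exists_bomega_eq (φ : Zint M G →+* Res M) (hφ : ∀ c, φ (scal M c) = res M c) :
    ∃ χ : IrrCharacter G, φ = bomega χ := by
  classical
  let _ : Field (Res M) := Ideal.Quotient.field M
  have h := congrArg φ (prod_one_sub_idem (M := M) (G := G))
  rw [map_prod, map_zero, Finset.prod_eq_zero_iff] at h
  obtain ⟨χ, -, hχ⟩ := h
  rw [map_sub, map_one, sub_eq_zero] at hχ
  refine ⟨χ, RingHom.ext (fun a => ?_)⟩
  set e := idem (isPBlock_blockOf (M := M) χ)
  set w : Zint M G := (a - scal M (zomega χ a)) * e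
  have hw : ∀ η, bomega η w = 0 := fun η => by
    rw [map_mul, bomega_idem]
    split_ifs with hη
    · rw [mul_one, map_sub, bomega_scal, sub_eq_zero, ← bomega_apply,
        ← (mem_blockOf_iff χ η).mp hη]
    · rw [mul_zero]
  have hroot := congrArg φ (evalZ_rootsPoly w)
  rw [map_zero, evalZ, Polynomial.coe_eval₂RingHom, Polynomial.hom_eval₂,
    RingHom.ext (f := φ.comp (scal M)) (g := res M) hφ, rootsPoly, Polynomial.eval₂_finsetProd] at hroot
  simp only [Polynomial.eval₂_sub, Polynomial.eval₂_X, Polynomial.eval₂_C] at hroot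
  rw [Finset.prod_congr rfl (fun η _ => by rw [← bomega_apply, hw η, sub_zero]), Finset.prod_const] at hroot
  have hw0 := eq_zero_of_pow_eq_zero hroot
  rwa [map_mul, ← hχ, mul_one, map_sub, hφ, ← bomega_apply, sub_eq_zero] at hw0

theorem centralChar_memLocalIdeal_iff {B : Set (IrrCharacter G)} (hB : IsPBlock M B)
    {χ ψ : IrrCharacter G} (hχ : χ ∈ B) (hψ : ψ ∈ B) (g : G) :
    MemLocalIdeal M (centralChar (χ : G → ℂ) g) ↔ MemLocalIdeal M (centralChar (ψ : G → ℂ) g) := by
  rw [← bomega_zclass_eq_zero_iff, ← bomega_zclass_eq_zero_iff, bomega_eq_of_mem hB hχ hψ]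

/-- Every block has a defect class. -/
theorem exists_defectClass {B : Set (IrrCharacter G)} (hB : IsPBlock M B) {χ : IrrCharacter G}
    (hχ : χ ∈ B) : ∃ g : G, IsDefectClass M B g := by
  classical
  have : Finite (ConjClasses G) := Finite.of_surjective _ ConjClasses.mk_surjective
  have := Fintype.ofFinite (ConjClasses G)
  let _ : Field (Res M) := Ideal.Quotient.field M
  have h := congrArg (bomega χ) (Zint_eq_sum (idem hB))
  rw [bomega_idem, if_pos hχ, map_sum] at h
  obtain ⟨C, -, hC⟩ := Finset.exists_ne_zero_of_sum_ne_zero (h.symm.trans_ne one_ne_zero)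
  rw [map_mul, bomega_scal, mul_ne_zero_iff] at hC
  refine ⟨C.out, blockCoeff_mem_locRing hB _, fun hi => hC.1 ((res_eq_zero_iff M _).mpr hi), ?_⟩
  intro ψ hψ hi
  exact hC.2 ((bomega_zclass_eq_zero_iff χ _).mpr ((centralChar_memLocalIdeal_iff hB hψ hχ _).mp hi))

/-- A set of characters with integral idempotent coefficients is a union of blocks. -/
theorem blockOf_subset_of_integral {A : Set (IrrCharacter G)}
    (hA : ∀ g : G, blockCoeff A g ∈ locRing M) {χ : IrrCharacter G} (hχ : χ ∈ A) :
    blockOf M (χ : G → ℂ) ⊆ A := by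
  classical
  intro ψ hψ
  let a : Zint M G := ⟨blockElt A, mem_Zint_iff.mpr
    ⟨hA, (mem_center_iff _).mp (blockElt_mem_center A)⟩⟩
  have h := RingHom.congr_fun ((mem_blockOf_iff χ ψ).mp hψ) a
  have hz : ∀ η, zomega η a = if η ∈ A then 1 else 0 := fun η => Subtype.ext (by
    rw [coe_zomega, omega_blockElt]; split_ifs <;> rfl)
  rw [bomega_apply, bomega_apply, hz, hz, if_pos hχ, map_one] at h
  by_contra hc
  rw [if_neg hc, map_zero] at h
  exact one_ne_zero h

end CfsgLib.Blocks
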