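import Cfsg.Agent.Lib.Blocks.SecondMain
import Mathlib.GroupTheory.PGroup

/-!
# Elements with nonzero central character and centres of defect groups
-/

set_option autoImplicit false

noncomputable section

namespace CfsgLib.Blocks

open Cfsg
open scoped ComplexConjugate

variable {M : Ideal AlgInt} [M.IsMaximal] {G : Type*} [Group G] [Fintype G] {p : ℕ} [hp : Fact p.Prime]

omit [Fintype G] hp in
theorem memLocalIdeal_zero : MemLocalIdeal M 0 :=
  (res_eq_zero_iff M 0).mp (map_zero _)

/-- A nonzero central character forces a class meeting `C(P)` with `p`-part in `Z(P)`. -/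
theorem exists_conj_central_pPart (hM : IsPModular p M) {B : Set (IrrCharacter G)} (hB : IsPBlock M B)
    {P : Subgroup G} (hP : IsDefectGroup p M B P) {χ : IrrCharacter G} (hχ : χ ∈ B) {g : G}
    (hg : bomega χ (zclass M g) ≠ 0) :
    ∃ x : G, IsConj g x ∧ x ∈ Subgroup.centralizer (P : Set G) ∧
      ∀ z : G, IsPPart p x z → z ∈ P ∧ ∀ w ∈ P, z * w = w * z := by
  classical
  let _ := Fintype.ofFinite (Subgroup.normalizer (P : Set G))
  obtain ⟨b, ⟨hb, hbP, hind⟩, -⟩ :=
    existsUnique_inducing_with_defect hM (IsDefectGroup.isPGroup hP) hB hP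
  obtain ⟨ξ, hξ⟩ := IsPBlock.nonempty hb
  rw [← ((isInducedBlock_iff _).mp hind).2.2 ξ hξ χ hχ, indBomega_apply] at hg
  have : Finite (ConjClasses (Subgroup.normalizer (P : Set G))) :=
    Finite.of_surjective _ ConjClasses.mk_surjective
  have := Fintype.ofFinite (ConjClasses (Subgroup.normalizer (P : Set G)))
  rw [bomega_eq_sum] at hg
  obtain ⟨C, -, hC⟩ := Finset.exists_ne_zero_of_sum_ne_zero hg
  rw [mul_ne_zero_iff, rcoeff_resIn, rcoeff_zclass] at hC
  have hconj : IsConj g ((C.out : Subgroup.normalizer (P : Set G)) : G) := by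
    by_contra hn
    exact hC.1 (if_neg hn)
  set c : Subgroup.normalizer (P : Set G) := C.out
  have hn : (P.subgroupOf (Subgroup.normalizer (P : Set G))).Normal := Subgroup.normal_in_normalizer
  have hcP := mem_centralizer_of_bomega_ne_zero hM
    (Q := P.subgroupOf (Subgroup.normalizer (P : Set G))) (IsDefectGroup.isPGroup hbP) hC.2
  have hcP' : (c : G) ∈ Subgroup.centralizer (P : Set G) := Subgroup.mem_centralizer_iff.mpr fun w hw =>
    congrArg Subtype.val (Subgroup.mem_centralizer_iff.mp hcP ⟨w, Subgroup.le_normalizer hw⟩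
      (Subgroup.mem_subgroupOf.mpr hw))
  refine ⟨c, hconj, hcP', fun z hz => ?_⟩
  obtain ⟨z', hz'⟩ := exists_isPPart (p := p) c
  have hzG : IsPPart p (c : G) (z' : G) := by
    obtain ⟨y, hzy, hcomm, hk, hy⟩ := hz'
    exact ⟨y, congrArg Subtype.val hzy, congrArg Subtype.val hcomm.eq,
      by rwa [Subgroup.orderOf_coe], by rwa [Subgroup.orderOf_coe]⟩
  rw [isPPart_unique hz hzG]
  have hne : (ξ : Subgroup.normalizer (P : Set G) → ℂ) c ≠ 0 := by
    intro h0
    refine hC.2 ((bomega_zclass_eq_zero_iff ξ c).mpr ?_)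
    rw [centralChar, h0, mul_zero, zero_div]
    exact memLocalIdeal_zero
  obtain ⟨D, hD, hzD⟩ := mem_defect_of_ne_zero hM hb hξ hz' hne
  obtain ⟨w, hw⟩ := defectGroups_conj hM hb hbP hD
  rw [← hw, mem_cj, hn.mem_comm_iff, mul_inv_cancel_left] at hzD
  refine ⟨hzD, fun v hv => ?_⟩
  obtain ⟨i, hi⟩ := Subgroup.mem_zpowers_iff.mp (isPPart_mem_zpowers hzG)
  have hcv : Commute (c : G) v := (Subgroup.mem_centralizer_iff.mp hcP' v hv).symm
  rw [← hi]
  exact hcv.zpow_left i

/-- The centre of a defect group of the induced block is conjugate into that of the inducing one. -/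
theorem exists_conj_mem_center (hM : IsPModular p M) {H : Subgroup G} [Fintype H]
    {b : Set (IrrCharacter H)} {B : Set (IrrCharacter G)} (hind : IsInducedBlock M H b B) {D : Subgroup H}
    (hD : IsDefectGroup p M b D) {P : Subgroup G} (hP : IsDefectGroup p M B P) {x : G} (hx : x ∈ P)
    (hxc : ∀ w ∈ P, x * w = w * x) :
    ∃ g : G, g * x * g⁻¹ ∈ D.map H.subtype ∧
      ∀ w ∈ D.map H.subtype, (g * x * g⁻¹) * w = w * (g * x * g⁻¹) := by
  classical
  obtain ⟨hb, hB, hind'⟩ := (isInducedBlock_iff H).mp hind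
  obtain ⟨ξ, hξ⟩ := IsPBlock.nonempty hb
  obtain ⟨χ, hχ⟩ := IsPBlock.nonempty hB
  obtain ⟨y, hy, hyP⟩ := isDefectGroup_iff.mp hP
  have h1 := bomega_mul_defectClass_ne_zero hM hB hy hyP hx hxc hχ
  rw [← hind' ξ hξ χ hχ, indBomega_apply] at h1
  have : Finite (ConjClasses H) := Finite.of_surjective _ ConjClasses.mk_surjective
  have := Fintype.ofFinite (ConjClasses H)
  rw [bomega_eq_sum] at h1
  obtain ⟨C, -, hC⟩ := Finset.exists_ne_zero_of_sum_ne_zero h1
  rw [mul_ne_zero_iff, rcoeff_resIn, rcoeff_zclass] at hC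
  have hconj : IsConj (x * y) (C.out : G) := by
    by_contra hn
    exact hC.1 (if_neg hn)
  obtain ⟨h', hh', -, hall⟩ := exists_conj_central_pPart hM hb hD hξ hC.2
  obtain ⟨z, hz⟩ := exists_isPPart (p := p) h'
  obtain ⟨hzD, hzc⟩ := hall z hz
  have hzG : IsPPart p (h' : G) (z : G) := by
    obtain ⟨u, hzu, hcomm, hk, hu⟩ := hz
    exact ⟨u, congrArg Subtype.val hzu, congrArg Subtype.val hcomm.eq,
      by rwa [Subgroup.orderOf_coe], by rwa [Subgroup.orderOf_coe]⟩
  obtain ⟨a, ha⟩ := isConj_iff.mp hconj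
  obtain ⟨b', hb'⟩ := isConj_iff.mp hh'
  have hfin : (((b' : G) * a) * (x * y) * ((b' : G) * a)⁻¹) = (h' : G) := by
    rw [← hb']
    push_cast
    rw [← ha]
    group
  obtain ⟨k, hk⟩ := hyP.isPGroup ⟨x, hx⟩
  have hk' : x ^ (p ^ k) = 1 := by simpa using congrArg Subtype.val hk
  obtain ⟨j, -, hj⟩ := (Nat.dvd_prime_pow hp.out).mp (orderOf_dvd_of_pow_eq_one hk')
  have hxy : IsPPart p (x * y) x := isPPart_mul
    (Subgroup.mem_centralizer_iff.mp hyP.mem_centralizer x hx) ⟨j, hj⟩ (defectClass_pRegular hM hB hy)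
  have h3 : IsPPart p (h' : G) ((b' : G) * a * x * ((b' : G) * a)⁻¹) := by
    rw [← hfin]; exact isPPart_conj hxy _
  refine ⟨(b' : G) * a, ?_, ?_⟩
  · rw [isPPart_unique h3 hzG]
    exact Subgroup.mem_map_of_mem _ hzD
  · intro w hw
    obtain ⟨w', hw', rfl⟩ := Subgroup.mem_map.mp hw
    rw [isPPart_unique h3 hzG]
    exact congrArg Subtype.val (hzc w' hw')

/-- An inducing block has defect zero iff the induced block has. -/
theorem blockDefect_eq_zero_iff_induced (hM : IsPModular p M) {H : Subgroup G} [Fintype H]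
    {b : Set (IrrCharacter H)} {B : Set (IrrCharacter G)} (hind : IsInducedBlock M H b B) :
    blockDefect p b = 0 ↔ blockDefect p B = 0 := by
  obtain ⟨hb, hB, -⟩ := (isInducedBlock_iff H).mp hind
  obtain ⟨D, hD⟩ := exists_isDefectGroup (p := p) hb
  obtain ⟨E, hE⟩ := exists_isDefectGroup (p := p) hB
  have cD := card_defectGroup hM hb hD
  have cE := card_defectGroup hM hB hE
  constructor
  · intro h
    rw [h, pow_zero] at cD
    by_contra hne
    have : Nontrivial E := Finite.one_lt_card_iff_nontrivial.mp (cE ▸ Nat.one_lt_pow hne hp.out.one_lt)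
    have := (IsDefectGroup.isPGroup hE).center_nontrivial
    obtain ⟨⟨z, hz⟩, hz1⟩ := exists_ne (1 : Subgroup.center E)
    obtain ⟨g, hg, -⟩ := exists_conj_mem_center hM hind hD hE z.2 fun w hw =>
      congrArg Subtype.val (Subgroup.mem_center_iff.mp hz ⟨w, hw⟩).symm
    rw [Subgroup.eq_bot_of_card_eq D cD, Subgroup.map_bot, Subgroup.mem_bot, conj_eq_one_iff] at hg
    exact hz1 (Subtype.ext (Subtype.ext hg))
  · intro h
    obtain ⟨x, hx⟩ := defect_le_of_induced hM hind hD hE
    have h1 := card_le_of_cj_le hx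
    rw [Subgroup.card_map_of_injective H.subtype_injective, cD, cE] at h1
    exact Nat.le_zero.mp (h ▸ (Nat.pow_le_pow_iff_right hp.out.one_lt).mp h1)

end CfsgLib.Blocks
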