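import Cfsg.Agent.Lib.Blocks.CentralProduct
import Cfsg.Agent.Lib.Blocks.DefectElements
import Cfsg.Agent.Lib.BlockArith.QuotientRank

/-!
# The members of a block of `G = D C_G(D)` with defect group `D`

They are the functions `θ(yx) = ζ(y) χ(x)`, `χ` the canonical character, `ζ` irreducible on `D`.
-/

set_option autoImplicit false

noncomputable section

namespace CfsgLib.Blocks.CanonicalChar

open Cfsg
open scoped ComplexConjugate

variable {M : Ideal AlgInt} [M.IsMaximal] {G : Type*} [Group G] [Fintype G] {p : ℕ} [hp : Fact p.Prime]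
  {D : Subgroup G} (hM : IsPModular p M) (hD : IsPGroup p D)
  (hG : D ⊔ Subgroup.centralizer (D : Set G) = ⊤) {B : Set (IrrCharacter G)} (hB : IsPBlock M B)
  (hBD : IsDefectGroup p M B D)

/-- The product formula. -/
def Form (p : ℕ) (D : Subgroup G) (χ θ : IrrCharacter G) (ζ : IrrCharacter D) : Prop :=
  (∀ (y : D) (x : G), ¬ p ∣ orderOf x → Commute (y : G) x →
    (θ : G → ℂ) ((y : G) * x) = (ζ : D → ℂ) y * (χ : G → ℂ) x) ∧
  ∀ z : G, (∀ y : G, IsPPart p z y → y ∉ D) → (θ : G → ℂ) z = 0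

omit [Fintype G] hp in
include hG in
theorem normal : D.Normal := Subgroup.normalizer_eq_top_iff.mp (eq_top_iff.mpr (hG ▸ sup_le
    Subgroup.le_normalizer (Subgroup.centralizer_le_normalizer _)))

omit [Fintype G] in
include hD hG in
theorem index_pow [Finite G] : ∃ k : ℕ, (Subgroup.centralizer (D : Set G)).index = p ^ k := by
  have := normal hG
  have h1 : (Subgroup.centralizer (D : Set G)).index = (Subgroup.centralizer (D : Set G)).relIndex D := by
    rw [← Subgroup.relIndex_sup_right (K := Subgroup.centralizer (D : Set G)) (H := D), hG,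
      Subgroup.relIndex_top_right]
  obtain ⟨n, hn⟩ := IsPGroup.iff_card.mp hD
  have h2 : (Subgroup.centralizer (D : Set G)).relIndex D ∣ p ^ n := hn ▸ Subgroup.relIndex_dvd_card _ _
  obtain ⟨k, -, hk⟩ := (Nat.dvd_prime_pow hp.out).mp h2
  exact ⟨k, h1.trans hk⟩

include hD hG in
theorem mem_cen {x : G} (hx : ¬ p ∣ orderOf x) : x ∈ Subgroup.centralizer (D : Set G) :=
  have := normal hG
  mem_centralizer_of_regular (index_pow hD hG) hx

omit [Fintype G] in
include hD in
theorem pPart_mul {y : D} {x : G} (hx : ¬ p ∣ orderOf x) (hc : Commute (y : G) x) :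
    IsPPart p ((y : G) * x) (y : G) := by
  obtain ⟨k, hk⟩ := IsPGroup.iff_orderOf.mp hD y
  exact isPPart_mul hc ⟨k, by rwa [Subgroup.orderOf_coe]⟩ hx

omit hp in
include hM in
/-- The formula puts a character in the block. -/
theorem mem_of_form {χ θ : IrrCharacter G} (hχ : χ ∈ B) (hB : IsPBlock M B) {ζ : IrrCharacter D}
    (h : Form p D χ θ ζ) : θ ∈ B := by
  refine mem_of_bomega_eq hB hχ ((sameBlock_iff χ θ).mp (sameBlock_of_regular hM fun x hx => ?_))
  have h1 : (θ : G → ℂ) x = (ζ : D → ℂ) 1 * (χ : G → ℂ) x := by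
    simpa using h.1 1 x hx (Commute.one_left x)
  have h2 : (θ : G → ℂ) 1 = (ζ : D → ℂ) 1 * (χ : G → ℂ) 1 := by
    simpa using h.1 1 1 (by rw [orderOf_one]; exact hM.1.not_dvd_one) (Commute.one_left 1)
  rw [bomega_apply, bomega_apply]
  refine congrArg (res M) (Subtype.ext ?_)
  rw [coe_zomega_zclass, coe_zomega_zclass, centralChar, centralChar, h1, h2]
  have := CfsgLib.Char.irr_one_ne_zero ζ.2
  have := CfsgLib.Char.irr_one_ne_zero χ.2
  field_simp

include hD hG in
/-- The norm of a character vanishing off `D ×` regular elements and factorising there. -/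
theorem card_eq_of_factor {θ : IrrCharacter G} {ν : D → ℂ} {f : G → ℂ}
    (h : ∀ (y : D) (x : G), ¬ p ∣ orderOf x → (θ : G → ℂ) ((y : G) * x) = ν y * f x)
    (hv : ∀ z : G, (∀ y : G, IsPPart p z y → y ∉ D) → (θ : G → ℂ) z = 0) [Fintype D] :
    (Nat.card G : ℂ) = (∑ y : D, ν y * conj (ν y)) *
      ∑ x ∈ Finset.univ.filter (fun x : G => ¬ p ∣ orderOf x), f x * conj (f x) := by
  classical
  set R := Finset.univ.filter (fun x : G => ¬ p ∣ orderOf x)
  have hn : ∑ g : G, (θ : G → ℂ) g * conj ((θ : G → ℂ) g) = (Nat.card G : ℂ) := by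
    have := CfsgLib.Char.classInner_irr_self θ.2
    rw [CfsgLib.Char.classInner_def, inv_mul_eq_one₀ CfsgLib.Char.card_ne_zero'] at this
    exact this.symm
  have hmem : ∀ v : D × G, v ∈ (Finset.univ : Finset D) ×ˢ R → IsPPart p ((v.1 : G) * v.2) (v.1 : G) :=
    fun v hv => pPart_mul hD (Finset.mem_filter.mp (Finset.mem_product.mp hv).2).2
      (Subgroup.mem_centralizer_iff.mp (mem_cen hD hG (Finset.mem_filter.mp (Finset.mem_product.mp hv).2).2) _ v.1.2)
  rw [← hn, Finset.sum_mul_sum, ← Finset.sum_product',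
    ← Finset.sum_subset (Finset.subset_univ (((Finset.univ : Finset D) ×ˢ R).image fun v => (v.1 : G) * v.2)),
    Finset.sum_image]
  · refine Finset.sum_congr rfl fun v hv' => ?_
    rw [h v.1 v.2 (Finset.mem_filter.mp (Finset.mem_product.mp hv').2).2, map_mul]
    ring
  · intro a ha b hb e
    have h1 : (a.1 : G) = (b.1 : G) := isPPart_unique (hmem a ha) (by
      rw [show (a.1 : G) * a.2 = (b.1 : G) * b.2 from e]; exact hmem b hb)
    refine Prod.ext (Subtype.ext h1) ?_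
    have e' : (a.1 : G) * a.2 = (b.1 : G) * b.2 := e
    rw [h1] at e'
    exact mul_left_cancel e'
  · intro z _ hz
    rw [hv z fun y hy hyD => hz (Finset.mem_image.mpr ?_), zero_mul]
    obtain ⟨x, he, -, -, hx⟩ := hy
    exact ⟨(⟨y, hyD⟩, x), Finset.mem_product.mpr ⟨Finset.mem_univ _, Finset.mem_filter.mpr ⟨Finset.mem_univ _, hx⟩⟩, he⟩

include hM hD hG hB hBD in
/-- Every member of the block has the formula. -/
theorem exists_form {χ : IrrCharacter G} (hχ : χ ∈ B) (hχD : ∀ y ∈ D, (χ : G → ℂ) y = (χ : G → ℂ) 1)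
    {θ : IrrCharacter G} (hθ : θ ∈ B) : ∃ ζ : IrrCharacter D, Form p D χ θ ζ := by
  classical
  have hn := normal hG
  let _ := Fintype.ofFinite D
  let _ := Fintype.ofFinite (Subgroup.centralizer (D : Set G))
  let _ := Fintype.ofFinite (G ⧸ D)
  have hC := index_pow hD hG
  have hvan : ∀ η ∈ B, ∀ z : G, (∀ y : G, IsPPart p z y → y ∉ D) → (η : G → ℂ) z = 0 := by
    intro η hη z hz
    by_contra hne
    obtain ⟨y, hy⟩ := exists_isPPart (p := p) z
    obtain ⟨E, hE, hyE⟩ := mem_defect_of_ne_zero hM hB hη hy hne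
    obtain ⟨w, hw⟩ := defectGroups_conj hM hB hBD hE
    rw [← hw, mem_cj] at hyE
    exact hz y hy (by simpa [mul_assoc] using hn.conj_mem _ hyE w)
  -- restriction to regular elements is a multiple of `χ`
  have hreg : ∃ c : ℂ, conj c = c ∧ ∀ x : G, ¬ p ∣ orderOf x → (θ : G → ℂ) x = c * (χ : G → ℂ) x := by
    obtain ⟨huniq, -, -⟩ := central_product_block hM hD hG hB hBD
    obtain ⟨c, hc⟩ := CfsgLib.BlockArith.exists_quotient_combination (P := D) hM hD hC hB hθ
    refine ⟨∑ ψ : IrrCharacter (G ⧸ D), if ψ ∈ CfsgLib.BlockArith.inflSet D B then (c ψ : ℂ) else 0, ?_,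
      fun x hx => ?_⟩
    · rw [map_sum]
      refine Finset.sum_congr rfl fun ψ _ => ?_
      split_ifs <;> simp
    rw [hc x hx, Finset.sum_mul]
    refine Finset.sum_congr rfl fun ψ _ => ?_
    split_ifs with hψ
    · let η : IrrCharacter G := ⟨_, CfsgLib.CharNormal.isIrr_comp_mk' D ψ.2⟩
      have e : η = χ := huniq.unique ⟨show η ∈ B from hψ, fun y hy => by
        show (ψ : G ⧸ D → ℂ) (y : G ⧸ D) = (ψ : G ⧸ D → ℂ) ((1 : G) : G ⧸ D)
        rw [(QuotientGroup.eq_one_iff y).mpr hy, QuotientGroup.mk_one]⟩ ⟨hχ, hχD⟩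
      rw [← e]
      rfl
    · rw [zero_mul]
  obtain ⟨c, hcr, hc⟩ := hreg
  obtain ⟨ν, γ, hfac⟩ := exists_factors hG θ
  obtain ⟨ν₀, γ₀, hfac₀⟩ := exists_factors hG χ
  set k : ℂ := c / (ν : D → ℂ) 1
  have hν1 := CfsgLib.Char.irr_one_ne_zero ν.2
  have hν₀1 := CfsgLib.Char.irr_one_ne_zero ν₀.2
  have hθf : ∀ (y : D) (x : G), ¬ p ∣ orderOf x →
      (θ : G → ℂ) ((y : G) * x) = (ν : D → ℂ) y * (k * (χ : G → ℂ) x) := by
    intro y x hx
    have h1 := hfac y ⟨x, mem_cen hD hG hx⟩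
    have h2 := hfac 1 ⟨x, mem_cen hD hG hx⟩
    rw [OneMemClass.coe_one, one_mul] at h2
    rw [show (⟨x, mem_cen hD hG hx⟩ : Subgroup.centralizer (D : Set G)).1 = x from rfl] at h1 h2
    rw [hc x hx] at h2
    rw [h1]
    simp only [k]
    field_simp
    linear_combination (-((ν : D → ℂ) y)) * h2
  have hχf : ∀ (y : D) (x : G), ¬ p ∣ orderOf x →
      (χ : G → ℂ) ((y : G) * x) = (fun _ : D => (1 : ℂ)) y * (χ : G → ℂ) x := by
    intro y x hx
    have h1 := hfac₀ y ⟨x, mem_cen hD hG hx⟩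
    have h2 := hfac₀ 1 ⟨x, mem_cen hD hG hx⟩
    have h3 := hfac₀ y 1
    have h4 := hfac₀ 1 1
    simp only [OneMemClass.coe_one, one_mul, mul_one] at h2 h3 h4
    rw [hχD y y.2, h4] at h3
    have h5 := mul_right_cancel₀ (CfsgLib.Char.irr_one_ne_zero γ₀.2) h3
    rw [h1, ← h5, ← h2, one_mul]
  have e1 := card_eq_of_factor hD hG hθf (hvan θ hθ)
  have e2 := card_eq_of_factor hD hG hχf (hvan χ hχ)
  have hνn : ∑ y : D, (ν : D → ℂ) y * conj ((ν : D → ℂ) y) = (Nat.card D : ℂ) := by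
    have := CfsgLib.Char.classInner_irr_self ν.2
    rw [CfsgLib.Char.classInner_def, inv_mul_eq_one₀ CfsgLib.Char.card_ne_zero'] at this
    exact this.symm
  have hone : ∑ _y : D, (1 : ℂ) * conj (1 : ℂ) = (Nat.card D : ℂ) := by
    simp [Nat.card_eq_fintype_card]
  rw [hνn, Finset.sum_congr rfl fun x _ => show k * (χ : G → ℂ) x * conj (k * (χ : G → ℂ) x) =
    k * conj k * ((χ : G → ℂ) x * conj ((χ : G → ℂ) x)) by rw [map_mul]; ring, ← Finset.mul_sum] at e1
  rw [hone] at e2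
  have hk2 : k * conj k = 1 := by
    have hne : (Nat.card D : ℂ) * ∑ x ∈ Finset.univ.filter (fun x : G => ¬ p ∣ orderOf x),
        (χ : G → ℂ) x * conj ((χ : G → ℂ) x) ≠ 0 := e2 ▸ CfsgLib.Char.card_ne_zero'
    refine mul_right_cancel₀ hne ?_
    linear_combination e2 - e1
  have h1r : ¬ p ∣ orderOf (1 : G) := by rw [orderOf_one]; exact hp.out.not_dvd_one
  have hθ1 : (charDegree (θ : G → ℂ) : ℂ) = (charDegree (ν : D → ℂ) : ℂ) * (k * (charDegree (χ : G → ℂ) : ℂ)) := by
    rw [← charDegree_eq (CfsgLib.Char.isCharacter_of_isIrr θ.2), ← charDegree_eq (CfsgLib.Char.isCharacter_of_isIrr ν.2),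
      ← charDegree_eq (CfsgLib.Char.isCharacter_of_isIrr χ.2)]
    simpa using hθf 1 1 h1r
  have hk1 : k = 1 := by
    have hkr : conj k = k := by
      simp only [k, map_div₀, hcr, charDegree_eq (CfsgLib.Char.isCharacter_of_isIrr ν.2), map_natCast]
    rw [hkr] at hk2
    rcases mul_self_eq_one_iff.mp hk2 with h | h
    · exact h
    · exfalso
      rw [h] at hθ1
      have h2 : ((charDegree (θ : G → ℂ) + charDegree (ν : D → ℂ) * charDegree (χ : G → ℂ) : ℕ) : ℂ) = 0 := by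
        push_cast; linear_combination hθ1
      exact charDegree_ne_zero θ (Nat.add_eq_zero_iff.mp (Nat.cast_eq_zero.mp h2)).1
  refine ⟨ν, fun y x hx _ => ?_, hvan θ hθ⟩
  rw [hθf y x hx, hk1, one_mul]

include hM hD hG hB hBD in
/-- The members of the block. -/
theorem mem_iff {χ : IrrCharacter G} (hχ : χ ∈ B) (hχD : ∀ y ∈ D, (χ : G → ℂ) y = (χ : G → ℂ) 1) :
    (∀ θ : IrrCharacter G, θ ∈ B ↔ ∃ ζ : IrrCharacter D, Form p D χ θ ζ) ∧
      ∀ ζ : IrrCharacter D, ∃ θ ∈ B, Form p D χ θ ζ := by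
  classical
  let _ := Fintype.ofFinite D
  refine ⟨fun θ => ⟨exists_form hM hD hG hB hBD hχ hχD, fun ⟨ζ, h⟩ => mem_of_form hM hχ hB h⟩, ?_⟩
  choose f hf using fun θ : B => exists_form hM hD hG hB hBD hχ hχD θ.2
  have hinj : Function.Injective f := by
    intro a b e
    refine Subtype.ext (Subtype.ext (funext fun z => ?_))
    obtain ⟨y, hy⟩ := exists_isPPart (p := p) z
    by_cases hyD : y ∈ D
    · obtain ⟨x, he, hc, -, hx⟩ := hy
      rw [← he, (hf a).1 ⟨y, hyD⟩ x hx hc, (hf b).1 ⟨y, hyD⟩ x hx hc, e]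
    · have hz : ∀ y' : G, IsPPart p z y' → y' ∉ D := fun y' h' => isPPart_unique h' hy ▸ hyD
      rw [(hf a).2 z hz, (hf b).2 z hz]
  have hcard : Nat.card B = Nat.card (IrrCharacter D) :=
    (central_product_block hM hD hG hB hBD).2.2.trans CfsgLib.Char.card_irr_eq_card_conjClasses.symm
  have hsurj := ((Nat.bijective_iff_injective_and_card f).mpr ⟨hinj, hcard⟩).2
  intro ζ
  obtain ⟨θ, rfl⟩ := hsurj ζ
  exact ⟨θ.1, θ.2, hf θ⟩

end CfsgLib.Blocks.CanonicalChar
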