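import Cfsg.Agent.Lib.Blocks.Covering
import Cfsg.Agent.Lib.Char.Induced

/-!
# Induced central characters and induced blocks

* `sum_conj_apply`: a sum over conjugates as a sum over the conjugacy class;
* `icc_eq_centralChar_indFun`: the induced central character is the central character of the
  induced function;
* `bomega_resZ_of_isInduced`: an induced block links the reduced central characters linearly;
* `exists_over_of_isInduced`: some character of the induced block lies over each member.
-/

set_option autoImplicit false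

noncomputable section

namespace CfsgLib.Blocks

open Cfsg
open scoped ComplexConjugate

variable {G : Type*} [Group G] [Fintype G]

theorem sum_conj_apply (g : G) (F : G → ℂ) [DecidablePred (IsConj g)] :
    ∑ x : G, F (x⁻¹ * g * x) =
      (Nat.card (Subgroup.centralizer ({g} : Set G)) : ℂ) *
        ∑ y ∈ Finset.univ.filter (IsConj g), F y := by
  classical
  rw [← Finset.sum_fiberwise_of_maps_to (t := Finset.univ.filter (IsConj g))
    (g := fun x : G => x⁻¹ * g * x)
    (fun x _ => Finset.mem_filter.mpr ⟨Finset.mem_univ _, isConj_iff.mpr ⟨x⁻¹, by group⟩⟩),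
    Finset.mul_sum]
  refine Finset.sum_congr rfl (fun y hy => ?_)
  obtain ⟨c, hc⟩ := isConj_iff.mp (Finset.mem_filter.mp hy).2
  rw [Finset.sum_congr rfl (fun x hx => by rw [(Finset.mem_filter.mp hx).2]), Finset.sum_const,
    nsmul_eq_mul, ← Nat.card_eq_finsetCard]
  congr 2
  have h1 : ∀ a : Subgroup.centralizer ({g} : Set G),
      (a : G) * c⁻¹ ∈ Finset.univ.filter (fun x => x⁻¹ * g * x = y) := by
    intro a
    have ha := Subgroup.mem_centralizer_singleton_iff.mp a.2
    simp only [Finset.mem_filter, Finset.mem_univ, true_and]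
    calc ((a : G) * c⁻¹)⁻¹ * g * ((a : G) * c⁻¹) = c * ((a : G)⁻¹ * (g * (a : G))) * c⁻¹ := by group
      _ = y := by rw [← ha, inv_mul_cancel_left, hc]
  have h2 : ∀ x : {x // x ∈ Finset.univ.filter (fun x => x⁻¹ * g * x = y)},
      (x : G) * c ∈ Subgroup.centralizer ({g} : Set G) := by
    intro x
    have hx : (x : G)⁻¹ * g * (x : G) = c * g * c⁻¹ := (Finset.mem_filter.mp x.2).2.trans hc.symm
    rw [Subgroup.mem_centralizer_singleton_iff]
    calc (x : G) * c * g = (x : G) * (c * g * c⁻¹) * c := by group
      _ = (x : G) * ((x : G)⁻¹ * g * (x : G)) * c := by rw [hx]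
      _ = g * ((x : G) * c) := by group
  exact (Nat.card_congr
    { toFun := fun a => ⟨(a : G) * c⁻¹, h1 a⟩, invFun := fun x => ⟨(x : G) * c, h2 x⟩,
      left_inv := fun a => by ext; simp, right_inv := fun x => by ext; simp }).symm

/-- The induced central character is the central character of the induced function. -/
theorem icc_eq_centralChar_indFun (H : Subgroup G) (θ : H → ℂ) (g : G) :
    inducedCentralChar H θ g = centralChar (indFun H θ) g := by
  classical
  have := Fintype.ofFinite H
  have hS : ∑ y ∈ Finset.univ.filter (IsConj g), extendByZero H θ y =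
      ∑ h ∈ Finset.univ.filter (fun h : H => IsConj g (h : G)), θ h := by
    rw [Finset.sum_filter, Finset.sum_filter]
    have h0 := CfsgLib.Char.sum_extendByZero θ (fun y => if IsConj g y then (1 : ℂ) else 0)
    simpa [mul_ite] using h0
  rw [inducedCentralChar, finsum_mem_eq_finite_toFinset_sum _ (Set.toFinite _), centralChar,
    CfsgLib.Char.indFun_apply, sum_conj_apply, hS, CfsgLib.Char.indFun_one, ← Finset.sum_div]
  have hfilt : (Set.toFinite {h : H | IsConj g (h : G)}).toFinset =
      Finset.univ.filter (fun h : H => IsConj g (h : G)) := by ext; simp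
  rw [hfilt]
  by_cases hθ : θ 1 = 0
  · simp [hθ]
  have hH := CfsgLib.Char.card_subgroup_ne_zero H
  have hC := CfsgLib.Char.card_subgroup_ne_zero (Subgroup.centralizer ({g} : Set G))
  have hidx : (H.index : ℂ) ≠ 0 := Nat.cast_ne_zero.mpr Subgroup.index_ne_zero_of_finite
  have e : ((Subgroup.centralizer ({g} : Set G)).index : ℂ) *
      (Nat.card (Subgroup.centralizer ({g} : Set G)) : ℂ) = (H.index : ℂ) * (Nat.card H : ℂ) := by
    rw [← Nat.cast_mul, ← Nat.cast_mul, Subgroup.index_mul_card, Subgroup.index_mul_card]
  field_simp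
  linear_combination (-(∑ h ∈ Finset.univ.filter (fun h : H => IsConj g (h : G)), θ h)) * e

variable {M : Ideal AlgInt} [M.IsMaximal] {H : Subgroup G} [Fintype H]

/-- An induced block links the reduced central characters on the whole integral centre. -/
theorem bomega_resZ_of_isInduced {b : Set (IrrCharacter H)} {B : Set (IrrCharacter G)}
    (h : IsInducedBlock M H b B) {ξ : IrrCharacter H} (hξ : ξ ∈ b) {χ : IrrCharacter G} (hχ : χ ∈ B)
    (a : Zint M G) : bomega ξ (resZ H M a) = bomega χ a := by
  refine bomega_resZ_eq H M (fun g => ?_) a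
  rw [bomega_apply, bomega_apply, eq_comm, ← memLocalIdeal_sub_iff, coe_zomega_rclass,
    coe_zomega_zclass]
  exact h.2.2 ξ hξ χ hχ g

/-- Some character of the induced block lies over each member. -/
theorem exists_over_of_isInduced {b : Set (IrrCharacter H)} {B : Set (IrrCharacter G)}
    (h : IsInducedBlock M H b B) {ξ : IrrCharacter H} (hξ : ξ ∈ b) :
    ∃ χ ∈ B, classInner (fun x : H => (χ : G → ℂ) x) (ξ : H → ℂ) ≠ 0 := by
  classical
  obtain ⟨χ, hχ⟩ := IsPBlock.nonempty h.2.1
  have h1 := bomega_resZ_of_isInduced h hξ hχ (idem h.2.1)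
  rw [bomega_idem, if_pos hχ] at h1
  by_contra hc
  push Not at hc
  have h0 : omega (ξ : H → ℂ) (resCA H (blockElt B)) = 0 := by
    rw [omega, charLin_apply]
    simp only [coeff_resCA, blockElt, coeff_ofFun, blockCoeff_eq, Finset.mul_sum, Finset.sum_mul]
    rw [Finset.sum_comm, Finset.sum_eq_zero, zero_div]
    intro η _
    by_cases hη : η ∈ B
    · simp only [if_pos hη]
      have h2 : classInner (ξ : H → ℂ) (fun x : H => (η : G → ℂ) x) = 0 := by
        rw [← CfsgLib.Char.classInner_conj_symm, hc η hη, map_zero]
      calc ∑ x : H, (Nat.card G : ℂ)⁻¹ * ((η : G → ℂ) 1 * conj ((η : G → ℂ) (x : G))) * (ξ : H → ℂ) x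
          = (Nat.card G : ℂ)⁻¹ * (η : G → ℂ) 1 *
              ((Nat.card H : ℂ) * classInner (ξ : H → ℂ) (fun x : H => (η : G → ℂ) x)) := by
            rw [CfsgLib.Char.card_mul_classInner, Finset.mul_sum]
            exact Finset.sum_congr rfl (fun x _ => by ring)
        _ = 0 := by rw [h2, mul_zero, mul_zero]
    · simp [hη]
  have hz : zomega ξ (resZ H M (idem h.2.1)) = 0 := Subtype.ext (by
    rw [coe_zomega, coe_resZ]; exact h0)
  rw [bomega_apply, hz, map_zero] at h1
  exact zero_ne_one h1

end CfsgLib.Blocks
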