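import Cfsg.Agent.Lib.Blocks.GroupAlgebra
import Mathlib.Data.Nat.Factorization.Basic
import Mathlib.Algebra.CharP.Lemmas

/-!
# Character values and rational numbers modulo `M`
-/

set_option autoImplicit false

noncomputable section

namespace CfsgLib.Blocks

open Cfsg
open scoped ComplexConjugate

variable {M : Ideal AlgInt} [M.IsMaximal] {p : ℕ}

theorem res_val_congr {a b : ℂ} (ha : a ∈ locRing M) (hb : b ∈ locRing M) (h : a = b) :
    res M ⟨a, ha⟩ = res M ⟨b, hb⟩ := congrArg (res M) (Subtype.ext h)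

/-- `n / m` is a local integer when `v_p(m) ≤ v_p(n)`. -/
theorem frac_mem_locRing (hM : IsPModular p M) {n m : ℕ} (hm : m ≠ 0)
    (h : n = 0 ∨ m.factorization p ≤ n.factorization p) : (n : ℂ) / (m : ℂ) ∈ locRing M := by
  rcases h with rfl | h
  · simp
  obtain ⟨c, hc⟩ := Nat.exists_eq_add_of_le h
  refine ⟨((p ^ c * (n / p ^ n.factorization p) : ℕ) : AlgInt),
    ((m / p ^ m.factorization p : ℕ) : AlgInt), ?_, ?_⟩
  · rw [natCast_mem_iff hM]
    exact Nat.not_dvd_ordCompl hM.1 hm
  · have hp : (p : ℂ) ≠ 0 := by exact_mod_cast hM.1.ne_zero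
    have h1 := (Nat.ordProj_mul_ordCompl_eq_self n p).symm
    have h2 := (Nat.ordProj_mul_ordCompl_eq_self m p).symm
    generalize hn' : n / p ^ n.factorization p = n' at h1 ⊢
    generalize hm' : m / p ^ m.factorization p = m' at h2 ⊢
    conv_rhs => rw [h1, h2, hc]
    push_cast
    rw [pow_add, mul_assoc, mul_div_mul_left _ _ (pow_ne_zero _ hp)]

/-- The converse of `frac_mem_locRing`. -/
theorem factorization_le_of_frac_mem (hM : IsPModular p M) {n m : ℕ} (hn : n ≠ 0) (hm : m ≠ 0)
    (h : (n : ℂ) / (m : ℂ) ∈ locRing M) : m.factorization p ≤ n.factorization p := by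
  by_contra hlt
  push Not at hlt
  obtain ⟨c, hc⟩ := Nat.exists_eq_add_of_lt hlt
  have hn' : res M ((n / p ^ n.factorization p : ℕ) : locRing M) ≠ 0 := by
    rw [Ne, res_natCast_eq_zero_iff M hM]
    exact Nat.not_dvd_ordCompl hM.1 hn
  apply hn'
  have hp : (p : ℂ) ≠ 0 := by exact_mod_cast hM.1.ne_zero
  have he : ((n / p ^ n.factorization p : ℕ) : locRing M) =
      ⟨_, h⟩ * (p : locRing M) ^ (c + 1) * ((m / p ^ m.factorization p : ℕ) : locRing M) := by
    apply Subtype.ext
    push_cast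
    have h1 : (n : ℂ) = (p : ℂ) ^ n.factorization p * ((n / p ^ n.factorization p : ℕ) : ℂ) := by
      exact_mod_cast (Nat.ordProj_mul_ordCompl_eq_self n p).symm
    have h2 : (m : ℂ) = (p : ℂ) ^ m.factorization p * ((m / p ^ m.factorization p : ℕ) : ℂ) := by
      exact_mod_cast (Nat.ordProj_mul_ordCompl_eq_self m p).symm
    have hm' : ((m / p ^ m.factorization p : ℕ) : ℂ) ≠ 0 := by
      exact_mod_cast (Nat.ordCompl_pos p hm).ne'
    generalize (n / p ^ n.factorization p : ℕ) = n' at h1 ⊢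
    generalize (m / p ^ m.factorization p : ℕ) = m' at h2 hm' ⊢
    rw [h1, h2, hc]
    field_simp
    ring
  rw [he, map_mul, map_mul, map_pow, show res M (p : locRing M) = 0 from
    (res_natCast_eq_zero_iff M hM p).mpr dvd_rfl, zero_pow (Nat.succ_ne_zero c), mul_zero, zero_mul]

theorem res_frac_eq_zero_iff (hM : IsPModular p M) {n m : ℕ} (hn : n ≠ 0) (hm : m ≠ 0)
    (h : (n : ℂ) / (m : ℂ) ∈ locRing M) :
    res M ⟨_, h⟩ = 0 ↔ m.factorization p < n.factorization p := by
  have hle := factorization_le_of_frac_mem hM hn hm h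
  constructor
  · intro h0
    refine lt_of_le_of_ne hle (fun he => ?_)
    have hinv : (m : ℂ) / (n : ℂ) ∈ locRing M := frac_mem_locRing hM hn (.inr he.ge)
    have h1 : res M ⟨_, h⟩ * res M ⟨_, hinv⟩ = 1 := by
      rw [← map_mul, ← map_one (res M)]
      refine congrArg (res M) (Subtype.ext ?_)
      push_cast
      have : (n : ℂ) ≠ 0 := by exact_mod_cast hn
      have : (m : ℂ) ≠ 0 := by exact_mod_cast hm
      field_simp
    rw [h0, zero_mul] at h1
    exact zero_ne_one h1
  · intro hlt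
    have h2 : (n : ℂ) / ((m * p : ℕ) : ℂ) ∈ locRing M := by
      refine frac_mem_locRing hM (mul_ne_zero hm hM.1.ne_zero) (.inr ?_)
      rw [Nat.factorization_mul hm hM.1.ne_zero, Finsupp.add_apply, hM.1.factorization_self]
      omega
    have h3 : (⟨_, h⟩ : locRing M) = ⟨_, h2⟩ * (p : locRing M) := by
      apply Subtype.ext
      push_cast
      have : (p : ℂ) ≠ 0 := by exact_mod_cast hM.1.ne_zero
      field_simp
    rw [h3, map_mul, (res_natCast_eq_zero_iff M hM p).mpr dvd_rfl, mul_zero]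

variable {G : Type*} [Group G] [Finite G]

/-- A character value as an element of the local ring. -/
def cvalR (M : Ideal AlgInt) [M.IsMaximal] {θ : G → ℂ} (hθ : IsCharacter G θ) (g : G) : locRing M :=
  ⟨θ g, algInt_le_locRing M (CfsgLib.Char.char_isIntegral hθ g)⟩

@[simp] theorem coe_cvalR {θ : G → ℂ} (hθ : IsCharacter G θ) (g : G) :
    ((cvalR M hθ g : locRing M) : ℂ) = θ g := rfl

/-- The reduced value of an irreducible character. -/
def cval (M : Ideal AlgInt) [M.IsMaximal] (χ : IrrCharacter G) (g : G) : Res M :=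
  res M (cvalR M (CfsgLib.Char.isCharacter_of_isIrr χ.2) g)

/-- Frobenius on reduced character values. -/
theorem res_cvalR_pow (hM : IsPModular p M) {θ : G → ℂ} (hθ : IsCharacter G θ) (g : G) (k : ℕ) :
    res M (cvalR M hθ (g ^ (p ^ k))) = res M (cvalR M hθ g) ^ (p ^ k) := by
  have : Fact p.Prime := ⟨hM.1⟩
  have : CharP (Res M) p := res_charP M hM
  obtain ⟨n, ρ, rfl⟩ := hθ
  obtain ⟨z, hz, hzk⟩ := CfsgLib.Char.exists_roots_char_pow ρ g
  have hzi : ∀ i, z i ∈ locRing M := fun i => algInt_le_locRing M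
    (IsIntegral.of_pow (orderOf_pos g) (by rw [hz i]; exact isIntegral_one))
  have h1 : ∀ k : ℕ, cvalR M ⟨n, ρ, rfl⟩ (g ^ k) = ∑ i, (⟨z i, hzi i⟩ : locRing M) ^ k := fun k => by
    apply Subtype.ext
    show ρ.character (g ^ k) = _
    rw [hzk]
    push_cast
    rfl
  have h0 := h1 1
  simp only [pow_one] at h0
  rw [h1, h0, map_sum, map_sum, sum_pow_char_pow]
  simp only [map_pow]

/-- A commuting `p`-element does not change reduced character values. -/
theorem res_cvalR_mul (hM : IsPModular p M) {θ : G → ℂ} (hθ : IsCharacter G θ) {x y : G}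
    (hxy : Commute x y) {k : ℕ} (hx : x ^ (p ^ k) = 1) :
    res M (cvalR M hθ (x * y)) = res M (cvalR M hθ y) := by
  have : Fact p.Prime := ⟨hM.1⟩
  have : CharP (Res M) p := res_charP M hM
  have : ExpChar (Res M) p := .prime hM.1
  let _ : Field (Res M) := Ideal.Quotient.field M
  apply iterateFrobenius_inj (Res M) p k
  rw [iterateFrobenius_def, iterateFrobenius_def, ← res_cvalR_pow hM, ← res_cvalR_pow hM,
    hxy.mul_pow, hx, one_mul]

theorem cval_pow (hM : IsPModular p M) (χ : IrrCharacter G) (g : G) (k : ℕ) :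
    cval M χ (g ^ (p ^ k)) = cval M χ g ^ (p ^ k) := res_cvalR_pow hM _ g k

theorem cval_mul (hM : IsPModular p M) (χ : IrrCharacter G) {x y : G} (hxy : Commute x y) {k : ℕ}
    (hx : x ^ (p ^ k) = 1) : cval M χ (x * y) = cval M χ y := res_cvalR_mul hM _ hxy hx

theorem memLocalIdeal_iff_cval (χ : IrrCharacter G) (g : G) :
    MemLocalIdeal M ((χ : G → ℂ) g) ↔ cval M χ g = 0 :=
  (res_eq_zero_iff M (cvalR M (CfsgLib.Char.isCharacter_of_isIrr χ.2) g)).symm

end CfsgLib.Blocks
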