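import Cfsg.Agent.Lib.Blocks.QuotientBlocks
import Cfsg.Agent.Lib.Blocks.PrincipalSection
import Cfsg.Agent.Lib.Blocks.Covering

/-!
# Blocks of a product of commuting subgroups meeting in a `p`-group

At a `p`-regular `g = uv` the class of `g` is the product of the classes of `u` and `v`, so the central
character is multiplicative; hence a block is determined by the blocks of the constituents.
-/

set_option autoImplicit false

noncomputable section

namespace CfsgLib.Blocks.CommutingProduct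

open Cfsg CfsgLib.CharNormal

variable {M : Ideal AlgInt} [M.IsMaximal] {G : Type*} [Group G] [Fintype G] {p : ℕ} [hp : Fact p.Prime]
  {U₁ U₂ : Subgroup G} (hcomm : ∀ u ∈ U₁, ∀ v ∈ U₂, u * v = v * u) (hgen : U₁ ⊔ U₂ = ⊤)
  (hZ : IsPGroup p ↥(U₁ ⊓ U₂))

omit [Fintype G] hp in
include hcomm hgen in
theorem normal_left : U₁.Normal := by
  refine Subgroup.normalizer_eq_top_iff.mp (eq_top_iff.mpr ?_)
  rw [← hgen]
  refine sup_le Subgroup.le_normalizer fun v hv => Subgroup.mem_normalizer_iff.mpr fun y => ⟨fun hy => ?_, fun hy => ?_⟩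
  · show v * y * v⁻¹ ∈ U₁
    rw [← hcomm y hy v hv, mul_inv_cancel_right]; exact hy
  · have h1 := hcomm _ hy v hv
    have h2 : v * y * v⁻¹ = y := by
      have h3 : y = v⁻¹ * (v * y * v⁻¹ * v) := by group
      rw [h1, inv_mul_cancel_left] at h3
      exact h3.symm
    rwa [h2] at hy

omit [Fintype G] hp in
include hcomm hgen in
theorem exists_factor (g : G) : ∃ u ∈ U₁, ∃ v ∈ U₂, g = u * v := by
  have := normal_left hcomm hgen
  obtain ⟨u, hu, v, hv, h⟩ := Subgroup.mem_sup_of_normal_left.mp (hgen.ge (Subgroup.mem_top g))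
  exact ⟨u, hu, v, hv, h.symm⟩

include hcomm hgen in
theorem exists_regular_factor {g : G} (hg : ¬ p ∣ orderOf g) :
    ∃ u ∈ U₁, ∃ v ∈ U₂, g = u * v ∧ ¬ p ∣ orderOf u ∧ ¬ p ∣ orderOf v := by
  obtain ⟨u, hu, v, hv, rfl⟩ := exists_factor hcomm hgen g
  obtain ⟨a, c, hu', ha, hc, ⟨k, hk⟩, hcop⟩ := CfsgLib.Char.exists_pPart_split hp.out u
  obtain ⟨a', c', hv', ha', hc', ⟨k', hk'⟩, hcop'⟩ := CfsgLib.Char.exists_pPart_split hp.out v
  have haU := (Subgroup.zpowers_le.mpr hu) ha
  have hcU := (Subgroup.zpowers_le.mpr hu) hc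
  have haV := (Subgroup.zpowers_le.mpr hv) ha'
  have hcV := (Subgroup.zpowers_le.mpr hv) hc'
  have h1 : Commute c a' := hcomm c hcU a' haV
  have h2 : Commute a c := by
    obtain ⟨i, rfl⟩ := Subgroup.mem_zpowers_iff.mp ha
    obtain ⟨j, rfl⟩ := Subgroup.mem_zpowers_iff.mp hc
    exact Commute.zpow_zpow_self u i j
  have h2' : Commute a' c' := by
    obtain ⟨i, rfl⟩ := Subgroup.mem_zpowers_iff.mp ha'
    obtain ⟨j, rfl⟩ := Subgroup.mem_zpowers_iff.mp hc'
    exact Commute.zpow_zpow_self v i j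
  have hcr : ¬ p ∣ orderOf c := hp.out.coprime_iff_not_dvd.mp hcop.symm
  have hcr' : ¬ p ∣ orderOf c' := hp.out.coprime_iff_not_dvd.mp hcop'.symm
  have hreg : ¬ p ∣ orderOf (c * c') := fun h => by
    rcases hp.out.dvd_mul.mp (h.trans (Commute.orderOf_mul_dvd_mul_orderOf (hcomm c hcU c' hcV))) with h | h
    exacts [hcr h, hcr' h]
  have hpp : ∃ n, orderOf (a * a') = p ^ n := by
    obtain ⟨n, -, hn⟩ := (Nat.dvd_prime_pow hp.out).mp (show orderOf (a * a') ∣ p ^ (k + k') by
      have := Commute.orderOf_mul_dvd_mul_orderOf (show Commute a a' from hcomm a haU a' haV)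
      rwa [hk, hk', ← pow_add] at this)
    exact ⟨n, hn⟩
  have he : u * v = a * a' * (c * c') := by
    calc u * v = (a * c) * (a' * c') := by rw [← hu', ← hv']
      _ = a * (c * a') * c' := by group
      _ = a * (a' * c) * c' := by rw [h1.eq]
      _ = _ := by group
  have hz : IsPPart p (u * v) (a * a') := by
    refine ⟨c * c', he.symm, ?_, hpp, hreg⟩
    exact (h2.mul_right (hcomm a haU c' hcV)).mul_left ((Commute.symm (show Commute c a' from hcomm c hcU a' haV)).mul_right h2')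
  have h3 : a * a' = 1 := (isPPart_unique (isPPart_one_iff.mpr hg) hz).symm
  exact ⟨c, hcU, c', hcV, by rw [he, h3, one_mul], hcr, hcr'⟩

omit [Fintype G] in
include hcomm hgen hZ in
/-- A centraliser of a regular product centralises the factors. -/
theorem centralizer_mul [Finite G] {u v : G} (hu : u ∈ U₁) (hv : v ∈ U₂) (hur : ¬ p ∣ orderOf u) :
    Subgroup.centralizer ({u * v} : Set G) =
      Subgroup.centralizer ({u} : Set G) ⊓ Subgroup.centralizer ({v} : Set G) := by
  have := normal_left hcomm hgen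
  have : U₂.Normal := normal_left (fun a ha b hb => (hcomm b hb a ha).symm) (sup_comm U₁ U₂ ▸ hgen)
  ext c
  rw [Subgroup.mem_inf, Subgroup.mem_centralizer_singleton_iff, Subgroup.mem_centralizer_singleton_iff,
    Subgroup.mem_centralizer_singleton_iff]
  refine ⟨fun h => ?_, fun ⟨h1, h2⟩ => (show Commute c (u * v) from Commute.mul_right h1 h2).eq⟩
  set u' := c * u * c⁻¹ with hu'
  set v' := c * v * c⁻¹ with hv'
  have hu'U : u' ∈ U₁ := ‹U₁.Normal›.conj_mem u hu c
  have hv'U : v' ∈ U₂ := ‹U₂.Normal›.conj_mem v hv c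
  have he : u' * v' = u * v := by
    rw [hu', hv', show c * u * c⁻¹ * (c * v * c⁻¹) = c * (u * v) * c⁻¹ by group, h, mul_inv_cancel_right]
  have hz : u⁻¹ * u' ∈ U₁ ⊓ U₂ := by
    refine Subgroup.mem_inf.mpr ⟨mul_mem (inv_mem hu) hu'U, ?_⟩
    rw [show u⁻¹ * u' = v * v'⁻¹ by
      rw [show u' = u * v * v'⁻¹ by rw [← he, mul_inv_cancel_right]]; group]
    exact mul_mem hv (inv_mem hv'U)
  obtain ⟨k, hk⟩ := IsPGroup.iff_orderOf.mp hZ ⟨_, hz⟩
  rw [Subgroup.orderOf_mk] at hk
  have hz1 : Commute (u⁻¹ * u') u := (hcomm u hu _ (Subgroup.mem_inf.mp hz).2).symm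
  have hord : orderOf u' = orderOf u := orderOf_injective (MulAut.conj c).toMonoidHom (MulAut.conj c).injective u
  have h1 : IsPPart p u' (u⁻¹ * u') := ⟨u, by rw [hz1.eq, mul_inv_cancel_left], hz1, ⟨k, hk⟩, hur⟩
  have h3 : (1 : G) = u⁻¹ * u' := isPPart_unique (isPPart_one_iff.mpr (by rwa [hord])) h1
  have huu : u' = u := (inv_mul_eq_one.mp h3.symm).symm
  have hvv : v' = v := by rw [huu] at he; exact mul_left_cancel he
  exact ⟨mul_inv_eq_iff_eq_mul.mp huu, mul_inv_eq_iff_eq_mul.mp hvv⟩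

omit [Fintype G] hp in
theorem index_inf [Finite G] {A B : Subgroup G} (hA : U₂ ≤ A) (hB : U₁ ≤ B)
    (hfac : ∀ g : G, ∃ u ∈ U₁, ∃ v ∈ U₂, g = u * v) : (A ⊓ B).index = A.index * B.index := by
  rw [← Subgroup.relIndex_mul_index (inf_le_right : A ⊓ B ≤ B), Subgroup.inf_relIndex_right]
  congr 1
  rw [Subgroup.relIndex, Subgroup.index, Subgroup.index]
  refine Nat.card_congr (Equiv.ofBijective (Quotient.map' (fun x : B => (x : G)) fun x y h => ?_) ⟨?_, ?_⟩)
  · rw [QuotientGroup.leftRel_apply] at h ⊢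
    exact Subgroup.mem_subgroupOf.mp h
  · intro x y
    induction x using QuotientGroup.induction_on with | _ x => ?_
    induction y using QuotientGroup.induction_on with | _ y => ?_
    intro h
    have h' : ((x : G) : G ⧸ A) = ((y : G) : G ⧸ A) := h
    exact QuotientGroup.eq.mpr (Subgroup.mem_subgroupOf.mpr (QuotientGroup.eq.mp h'))
  · intro q
    induction q using QuotientGroup.induction_on with | _ g => ?_
    obtain ⟨u, hu, v, hv, rfl⟩ := hfac g
    exact ⟨QuotientGroup.mk (⟨u, hB hu⟩ : B), QuotientGroup.eq.mpr (by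
      show (u : G)⁻¹ * (u * v) ∈ A
      rw [inv_mul_cancel_left]; exact hA hv)⟩

include hcomm hgen hZ in
/-- The central character is multiplicative at regular elements. -/
theorem centralChar_mul {χ : G → ℂ} (hχ : IsIrrCharacter G χ) {u v : G} (hu : u ∈ U₁) (hv : v ∈ U₂)
    (hur : ¬ p ∣ orderOf u) : centralChar χ (u * v) = centralChar χ u * centralChar χ v := by
  classical
  have hcl := CfsgLib.Char.isClassFunction_of_isIrr hχ
  have h := charLin_mul_of_central hχ (classSum_mem_center u) (MonoidAlgebra.single v 1)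
  rw [omega_classSum hcl, charLin_single, one_mul] at h
  have hL : charLin χ (classSum u * MonoidAlgebra.single v 1) =
      ((Subgroup.centralizer ({u} : Set G)).index : ℂ) * χ (u * v) := by
    have hexp : classSum u * MonoidAlgebra.single v (1 : ℂ) =
        ∑ y ∈ Finset.univ.filter (IsConj u), MonoidAlgebra.single (y * v) (1 : ℂ) := by
      rw [show classSum u = ∑ y ∈ Finset.univ.filter (IsConj u), MonoidAlgebra.single y (1 : ℂ) from
        MonoidAlgebra.coeff_injective (by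
          ext x
          simp [classSum_coeff, MonoidAlgebra.coeff_sum, Finsupp.finsetSum_apply, Finsupp.single_apply,
            Finset.sum_filter]), Finset.sum_mul]
      exact Finset.sum_congr rfl fun y _ => by rw [MonoidAlgebra.single_mul_single, one_mul]
    rw [hexp, map_sum, Finset.sum_congr rfl fun y hy => show charLin χ (MonoidAlgebra.single (y * v) (1 : ℂ)) = χ (u * v) by
      rw [charLin_single, one_mul]
      obtain ⟨c, hc⟩ := isConj_iff.mp (Finset.mem_filter.mp hy).2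
      obtain ⟨a, ha, b, hb, rfl⟩ := exists_factor hcomm hgen c
      have e : y * v = a * (u * v) * a⁻¹ := by
        rw [← hc, show a * b * u * (a * b)⁻¹ = a * (b * u) * b⁻¹ * a⁻¹ by group, ← hcomm u hu b hb,
          show a * (u * b) * b⁻¹ * a⁻¹ * v = a * u * (a⁻¹ * v) by group, hcomm a⁻¹ (inv_mem ha) v hv]
        group
      rw [e, hcl (u * v) a], Finset.sum_const, nsmul_eq_mul, ← CfsgLib.Char.card_isConj_eq_index u,
      Nat.card_eq_fintype_card, Fintype.card_subtype]
  rw [hL] at h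
  have h1 := CfsgLib.Char.irr_one_ne_zero hχ
  have hi : (Subgroup.centralizer ({u * v} : Set G)).index =
      (Subgroup.centralizer ({u} : Set G)).index * (Subgroup.centralizer ({v} : Set G)).index := by
    rw [centralizer_mul hcomm hgen hZ hu hv hur]
    exact index_inf (fun b hb => Subgroup.mem_centralizer_singleton_iff.mpr (hcomm u hu b hb).symm)
      (fun a ha => Subgroup.mem_centralizer_singleton_iff.mpr (hcomm a ha v hv)) (exists_factor hcomm hgen)
  rw [centralChar] at h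
  rw [centralChar, centralChar, centralChar, hi]
  push_cast
  field_simp at h ⊢
  linear_combination ((Subgroup.centralizer ({v} : Set G)).index : ℂ) * h

include hcomm hgen in
/-- On `U₁` the central character is that of any constituent. -/
theorem centralChar_res [Fintype U₁] {χ : G → ℂ} (hχ : IsIrrCharacter G χ) {ψ : IrrCharacter U₁}
    (h : classInner (fun u : U₁ => χ u) (ψ : U₁ → ℂ) ≠ 0) (u : U₁) :
    centralChar χ (u : G) = centralChar (ψ : U₁ → ℂ) u := by
  classical
  have := normal_left hcomm hgen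
  rw [centralChar_eq_icc_of_over hχ h u.2, ← omega_resCA_classSum,
    show resCA U₁ (classSum (u : G)) = classSum u from ?_, omega_classSum (CfsgLib.Char.isClassFunction_of_isIrr ψ.2)]
  apply MonoidAlgebra.coeff_injective
  ext x
  rw [coeff_resCA, classSum_coeff, classSum_coeff]
  refine if_congr ⟨fun hc => ?_, fun hc => ?_⟩ rfl rfl
  · obtain ⟨c, hc⟩ := isConj_iff.mp hc
    obtain ⟨a, ha, b, hb, rfl⟩ := exists_factor hcomm hgen c
    refine isConj_iff.mpr ⟨⟨a, ha⟩, Subtype.ext ?_⟩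
    rw [← hc]
    push_cast
    rw [show a * b * (u : G) * (a * b)⁻¹ = a * (b * (u : G)) * b⁻¹ * a⁻¹ by group, ← hcomm u u.2 b hb]
    group
  · obtain ⟨c, hc⟩ := isConj_iff.mp hc
    exact isConj_iff.mpr ⟨c, congrArg Subtype.val hc⟩

include hcomm hgen hZ in
/-- A block is determined by the blocks of the constituents. -/
theorem sameBlock_iff_factors (hM : IsPModular p M) [Fintype U₁] [Fintype U₂] {χ χ' : IrrCharacter G}
    {ψ₁ ψ₁' : IrrCharacter U₁} {ψ₂ ψ₂' : IrrCharacter U₂}
    (h₁ : classInner (fun u : U₁ => (χ : G → ℂ) u) (ψ₁ : U₁ → ℂ) ≠ 0)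
    (h₂ : classInner (fun u : U₂ => (χ : G → ℂ) u) (ψ₂ : U₂ → ℂ) ≠ 0)
    (h₁' : classInner (fun u : U₁ => (χ' : G → ℂ) u) (ψ₁' : U₁ → ℂ) ≠ 0)
    (h₂' : classInner (fun u : U₂ => (χ' : G → ℂ) u) (ψ₂' : U₂ → ℂ) ≠ 0) :
    SameBlock M (χ : G → ℂ) (χ' : G → ℂ) ↔
      SameBlock M (ψ₁ : U₁ → ℂ) (ψ₁' : U₁ → ℂ) ∧ SameBlock M (ψ₂ : U₂ → ℂ) (ψ₂' : U₂ → ℂ) := by
  have hcomm' : ∀ u ∈ U₂, ∀ v ∈ U₁, u * v = v * u := fun a ha b hb => (hcomm b hb a ha).symm
  have hgen' : U₂ ⊔ U₁ = ⊤ := sup_comm U₁ U₂ ▸ hgen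
  refine ⟨fun h => ⟨fun u => ?_, fun u => ?_⟩, fun ⟨ha, hb⟩ => sameBlock_of_regular hM fun g hg => ?_⟩
  · rw [← centralChar_res hcomm hgen χ.2 h₁, ← centralChar_res hcomm hgen χ'.2 h₁']; exact h u
  · rw [← centralChar_res hcomm' hgen' χ.2 h₂, ← centralChar_res hcomm' hgen' χ'.2 h₂']; exact h u
  · obtain ⟨u, hu, v, hv, rfl, hur, -⟩ := exists_regular_factor hcomm hgen hg
    have key : ∀ (η : IrrCharacter G) (a : IrrCharacter U₁) (b : IrrCharacter U₂),
        classInner (fun u : U₁ => (η : G → ℂ) u) (a : U₁ → ℂ) ≠ 0 →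
        classInner (fun u : U₂ => (η : G → ℂ) u) (b : U₂ → ℂ) ≠ 0 →
        bomega η (zclass M (u * v)) = bomega a (zclass M ⟨u, hu⟩) * bomega b (zclass M ⟨v, hv⟩) := by
      intro η a b hη₁ hη₂
      rw [bomega_apply, bomega_apply, bomega_apply, ← map_mul]
      refine congrArg (res M) (Subtype.ext ?_)
      push_cast
      rw [coe_zomega_zclass, coe_zomega_zclass, coe_zomega_zclass,
        centralChar_mul hcomm hgen hZ η.2 hu hv hur,
        centralChar_res hcomm hgen η.2 hη₁ ⟨u, hu⟩ |>.symm, centralChar_res hcomm' hgen' η.2 hη₂ ⟨v, hv⟩ |>.symm]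
    rw [key χ ψ₁ ψ₂ h₁ h₂, key χ' ψ₁' ψ₂' h₁' h₂', (sameBlock_iff ψ₁ ψ₁').mp ha, (sameBlock_iff ψ₂ ψ₂').mp hb]

end CfsgLib.Blocks.CommutingProduct
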