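import Cfsg.Agent.Lib.Blocks.Consequences
import Cfsg.Agent.Lib.Blocks.Covering

/-!
# Defect groups of blocks covering an invariant block
-/

set_option autoImplicit false

noncomputable section

namespace CfsgLib.Blocks

open Cfsg CfsgLib.CharNormal
open scoped ComplexConjugate

variable {M : Ideal AlgInt} [M.IsMaximal] {G : Type*} [Group G] [Fintype G] {N : Subgroup G} [hN : N.Normal]
  [Fintype N]

omit [Fintype G] in
theorem card_inf_mul_card_map (H : Subgroup G) [Finite G] :
    Nat.card (N ⊓ H : Subgroup G) * Nat.card (H.map (QuotientGroup.mk' N)) = Nat.card H := by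
  have h1 : N.relIndex H = Nat.card (H.map (QuotientGroup.mk' N)) := by
    rw [← Subgroup.relIndex_ker, QuotientGroup.ker_mk']
  have h2 : Nat.card (N.subgroupOf H) = Nat.card (N ⊓ H : Subgroup G) := by
    rw [← Subgroup.inf_subgroupOf_right]
    exact Nat.card_congr (Subgroup.subgroupOfEquivOfLe inf_le_right).toEquiv
  rw [← h1, ← h2]
  exact (N.subgroupOf H).card_mul_index

omit [Fintype N] in
theorem isConj_inv_self (a b : G) : IsConj a (b⁻¹ * a * b) := isConj_iff.mpr ⟨b⁻¹, by rw [inv_inv]⟩

/-- The exact value, and the residue, of a class of `G` inside `N` seen from a block of `N` invariant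
under `G`. -/
theorem exists_class_multiplicity {b : Set (IrrCharacter N)} (hb : IsPBlock M b)
    (hinv : ∀ g : G, ∀ θ ∈ b, conjIrr N g θ ∈ b) {θ : IrrCharacter N} (hθ : θ ∈ b) (y : N) :
    ∃ r : ℕ, (Subgroup.centralizer ({(y : G)} : Set G)).index =
        r * (Subgroup.centralizer ({y} : Set N)).index ∧
      bomega θ (resIn N (zclass M (y : G))) = (r : Res M) * bomega θ (zclass M y) := by
  classical
  have : Finite (ConjClasses N) := Finite.of_surjective _ ConjClasses.mk_surjective
  let _ := Fintype.ofFinite (ConjClasses N)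
  set S : Finset (ConjClasses N) := Finset.univ.filter fun C => IsConj (y : G) ((C.out : N) : G)
  have hexp : resIn (M := M) N (zclass M (y : G)) = ∑ C ∈ S, zclass M C.out := by
    rw [Zint_eq_sum (resIn (M := M) N (zclass M (y : G))), Finset.sum_filter]
    refine Finset.sum_congr rfl fun C _ => ?_
    have hc : (⟨((resIn (M := M) N (zclass M (y : G)) : Zint M N) : CA N).coeff C.out,
        (mem_Zint_iff.mp (resIn (M := M) N (zclass M (y : G))).2).1 _⟩ : locRing M) =
          if IsConj (y : G) ((C.out : N) : G) then 1 else 0 := by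
      refine Subtype.ext ?_
      simp only [resIn, AddMonoidHom.coe_mk, ZeroHom.coe_mk, coeff_ofFun, coe_zclass, classSum_coeff]
      split_ifs <;> rfl
    rw [hc]
    split_ifs
    · rw [map_one, one_mul]
    · rw [map_zero, zero_mul]
  have hconj : ∀ C ∈ S, ∃ g : G, (MulAut.conjNormal g : MulAut N) y = C.out := fun C hC => by
    obtain ⟨g, hg⟩ := isConj_iff.mp (Finset.mem_filter.mp hC).2
    exact ⟨g, Subtype.ext ((MulAut.conjNormal_apply g y).trans hg)⟩
  refine ⟨S.card, ?_, ?_⟩
  · set one : IrrCharacter N := CfsgLib.Char.irrOne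
    have hidx : ∀ C ∈ S, centralChar (one : N → ℂ) C.out = centralChar (one : N → ℂ) y := by
      intro C hC
      obtain ⟨g, hg⟩ := hconj C hC
      rw [← hg, ← centralChar_comp_mulEquiv (MulAut.conjNormal g : MulAut N) (one : N → ℂ) y]
      rfl
    have h1 : centralChar ((CfsgLib.Char.irrOne : IrrCharacter G) : G → ℂ) (y : G) =
        (S.card : ℂ) * centralChar (one : N → ℂ) y := by
      rw [centralChar_eq_icc_of_over (CfsgLib.Char.irrOne : IrrCharacter G).2 (θ := one)
        (classInner_res_one_ne_zero (CfsgLib.Char.irrOne : IrrCharacter G).2 (fun _ _ => rfl)) y.2,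
        ← omega_resIn_classSum (M := M), ← coe_zomega, hexp, map_sum, AddSubmonoidClass.coe_finsetSum]
      simp only [coe_zomega_zclass]
      rw [Finset.sum_congr rfl hidx, Finset.sum_const, nsmul_eq_mul]
    simp only [centralChar, CfsgLib.Char.irrOne_apply, one, mul_one, div_one] at h1
    exact_mod_cast h1
  · rw [hexp, map_sum, ← nsmul_eq_mul, ← Finset.sum_const]
    refine Finset.sum_congr rfl fun C hC => ?_
    obtain ⟨g, hg⟩ := hconj C hC
    rw [← hg]
    have h1 : bomega θ (zclass M ((MulAut.conjNormal g : MulAut N) y)) = bomega (conjIrr N g θ) (zclass M y) := by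
      rw [bomega_apply, bomega_apply]
      refine congrArg _ (Subtype.ext ?_)
      rw [coe_zomega_zclass, coe_zomega_zclass, conjIrr_coe, conjFun_eq_comp, centralChar_comp_mulEquiv]
    rw [h1, bomega_eq_of_mem hb (hinv g θ hθ) hθ]

variable {p : ℕ} [hp : Fact p.Prime]

/-- **Fong.** The defect groups of a covering block of largest defect. -/
theorem covering_max_defect (hM : IsPModular p M) {b : Set (IrrCharacter N)} (hb : IsPBlock M b)
    (hinv : ∀ g : G, ∀ θ ∈ b, conjIrr N g θ ∈ b) {B : Set (IrrCharacter G)} (hB : IsPBlock M B)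
    (hcov : ∃ χ ∈ B, ∃ θ ∈ b, classInner (fun n : N => (χ : G → ℂ) n) (θ : N → ℂ) ≠ 0)
    (hmax : ∀ B' : Set (IrrCharacter G), IsPBlock M B' →
      (∃ χ ∈ B', ∃ θ ∈ b, classInner (fun n : N => (χ : G → ℂ) n) (θ : N → ℂ) ≠ 0) →
        blockDefect p B' ≤ blockDefect p B)
    {P : Subgroup G} (hP : IsDefectGroup p M B P) :
    ¬ p ∣ (P ⊔ N).index ∧ IsDefectGroup p M b ((P ⊓ N).subgroupOf N) ∧
      blockDefect p B = blockDefect p b + N.index.factorization p := by
  classical
  have : Finite (ConjClasses G) := Finite.of_surjective _ ConjClasses.mk_surjective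
  let _ := Fintype.ofFinite (ConjClasses G)
  obtain ⟨a, hac, hsupp, hcoe, hres⟩ := exists_central_ext (blockCoeff_conjFun hinv)
  let F : Zint M G := ⟨a, mem_Zint_iff.mpr ⟨fun g => by
    by_cases hg : g ∈ N
    · rw [hcoe ⟨g, hg⟩]; exact blockCoeff_mem_locRing hb _
    · rw [hsupp g hg]; exact Subring.zero_mem _, (mem_center_iff a).mp hac⟩⟩
  -- `F` separates the covering blocks
  have hF : ∀ (χ : IrrCharacter G) (θ : IrrCharacter N),
      classInner (fun n : N => (χ : G → ℂ) n) (θ : N → ℂ) ≠ 0 →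
        zomega χ F = if θ ∈ b then 1 else 0 := by
    intro χ θ h
    refine Subtype.ext ?_
    rw [coe_zomega, omega_eq_omega_resCA_of_over χ.2 h hac hsupp, hres]
    change omega (θ : N → ℂ) (blockElt b) = _
    rw [omega_blockElt]
    split_ifs <;> rfl
  obtain ⟨χ₀, hχ₀, θ₀, hθ₀, hover⟩ := hcov
  have h1 : bomega χ₀ F = 1 := by rw [bomega_apply, hF χ₀ θ₀ hover, if_pos hθ₀, map_one]
  rw [bomega_eq_sum] at h1
  obtain ⟨C, -, hC⟩ := Finset.exists_ne_zero_of_sum_ne_zero (h1.trans_ne one_ne_zero)
  obtain ⟨hFC, hωC⟩ := mul_ne_zero_iff.mp hC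
  have hy₀N : C.out ∈ N := by
    by_contra h
    refine hFC ?_
    rw [rcoeff_eq_zero_iff]
    change MemLocalIdeal M (a.coeff C.out)
    rw [hsupp _ h]
    exact (res_eq_zero_iff M 0).mp (map_zero _)
  -- every covering block has nonzero central character at the class
  have hωcov : ∀ (χ : IrrCharacter G) (θ : IrrCharacter N), θ ∈ b →
      classInner (fun n : N => (χ : G → ℂ) n) (θ : N → ℂ) ≠ 0 → ∀ y : N,
      bomega χ (zclass M (y : G)) = bomega θ₀ (resIn N (zclass M (y : G))) := by
    intro χ θ hθ h y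
    rw [bomega_eq_of_mem hb hθ₀ hθ, bomega_apply, bomega_apply]
    refine congrArg _ (Subtype.ext ?_)
    rw [coe_zomega_zclass, coe_zomega, omega_resIn_classSum, centralChar_eq_icc_of_over χ.2 h y.2]
  -- the coefficient of `F` is carried by a covering block
  obtain ⟨B₀, hB₀, hcov₀, hne₀⟩ : ∃ B₀ : Set (IrrCharacter G), IsPBlock M B₀ ∧
      (∃ χ ∈ B₀, ∃ θ ∈ b, classInner (fun n : N => (χ : G → ℂ) n) (θ : N → ℂ) ≠ 0) ∧
      ∀ hB₀ : IsPBlock M B₀, rcoeff (idem hB₀) C.out ≠ 0 := by
    let _ := Fintype.ofFinite {b' : Set (IrrCharacter G) // IsPBlock M b'}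
    have hsum : F = ∑ B' : {b' : Set (IrrCharacter G) // IsPBlock M b'}, F * idem B'.2 := by
      rw [← Finset.mul_sum]
      conv_lhs => rw [← mul_one F]
      refine congrArg _ (Zint_ext fun χ => ?_)
      rw [map_one, map_sum, Finset.sum_eq_single ⟨_, isPBlock_blockOf χ⟩]
      · rw [zomega_idem, if_pos (mem_blockOf_self χ)]
      · intro B' _ hne
        rw [zomega_idem, if_neg]
        exact fun h => hne (Subtype.ext (isPBlock_eq_blockOf B'.2 h))
      · simp
    have h2 : rcoeff F C.out =
        ∑ B' : {b' : Set (IrrCharacter G) // IsPBlock M b'}, rcoeff (F * idem B'.2) C.out := by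
      conv_lhs => rw [hsum]
      have hadd : ∀ s : Finset {b' : Set (IrrCharacter G) // IsPBlock M b'},
          rcoeff (∑ B' ∈ s, F * idem B'.2) C.out = ∑ B' ∈ s, rcoeff (F * idem B'.2) C.out := by
        intro s
        induction s using Finset.induction_on with
        | empty => rw [Finset.sum_empty, Finset.sum_empty, rcoeff_zero]
        | insert B' s hs ih => rw [Finset.sum_insert hs, Finset.sum_insert hs, rcoeff_add, ih]
      exact hadd Finset.univ
    obtain ⟨⟨B₀, hB₀⟩, -, hne⟩ := Finset.exists_ne_zero_of_sum_ne_zero (h2 ▸ hFC)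
    obtain ⟨χ, hχ⟩ := IsPBlock.nonempty hB₀
    obtain ⟨θ, hθ⟩ := exists_over (N := N) χ.2
    have hθb : θ ∈ b := by
      by_contra hθb
      refine hne ?_
      have h0 : F * idem hB₀ = 0 := Zint_ext fun φ => by
        rw [map_mul, zomega_idem hB₀, map_zero]
        split_ifs with hφ
        · obtain ⟨ψ, hψ⟩ := exists_over (N := N) φ.2
          rw [hF φ ψ hψ, mul_one]
          refine if_neg fun hψb => hθb ?_
          obtain ⟨g, hg⟩ := exists_conj_sameBlock_of_congr (M := M) χ.2 hθ (θ' := ψ) (fun n => by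
            rw [← centralChar_eq_icc_of_over φ.2 hψ n.2]
            exact (sameBlock_iff χ φ).mpr (bomega_eq_of_mem hB₀ hχ hφ) n)
          have hmem : conjIrr N g θ ∈ b :=
            mem_of_bomega_eq hb hψb ((sameBlock_iff (conjIrr N g θ) ψ).mp hg).symm
          have := hinv g⁻¹ _ hmem
          rwa [show conjIrr N g⁻¹ (conjIrr N g θ) = θ from Subtype.ext (conjFun_inv_conjFun N g _)] at this
        · rw [mul_zero]
      rw [h0, rcoeff_zero]
    refine ⟨B₀, hB₀, ⟨χ, hχ, θ, hθb, hθ⟩, fun _ => ?_⟩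
    have h3 : F * idem hB₀ = idem hB₀ := Zint_ext fun φ => by
      rw [map_mul, zomega_idem hB₀]
      split_ifs with hφ
      · obtain ⟨ψ, hψ⟩ := exists_over (N := N) φ.2
        rw [hF φ ψ hψ, mul_one, if_pos]
        obtain ⟨g, hg⟩ := exists_conj_sameBlock_of_congr (M := M) φ.2 hψ (θ' := θ) (fun n => by
          rw [← centralChar_eq_icc_of_over χ.2 hθ n.2]
          exact (sameBlock_iff φ χ).mpr (bomega_eq_of_mem hB₀ hφ hχ) n)
        have hmem : conjIrr N g ψ ∈ b :=
          mem_of_bomega_eq hb hθb ((sameBlock_iff (conjIrr N g ψ) θ).mp hg).symm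
        have := hinv g⁻¹ _ hmem
        rwa [show conjIrr N g⁻¹ (conjIrr N g ψ) = ψ from Subtype.ext (conjFun_inv_conjFun N g _)] at this
      · rw [mul_zero]
    rwa [h3] at hne
  -- the class has full defect for `B`
  set y₀ : N := ⟨C.out, hy₀N⟩
  have hωB : bomega χ₀ (zclass M (y₀ : G)) ≠ 0 := hωC
  obtain ⟨χ₁, hχ₁, θ₁, hθ₁, hover₁⟩ := hcov₀
  have hω₁ : bomega χ₁ (zclass M (y₀ : G)) ≠ 0 := by
    rw [hωcov χ₁ θ₁ hθ₁ hover₁, ← hωcov χ₀ θ₀ hθ₀ hover]
    exact hωB
  have hy₀def : IsDefectClass M B₀ C.out := (isDefectClass_iff hB₀ hχ₁ _).mpr ⟨hne₀ hB₀, hω₁⟩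
  have hle := blockDefect_le_of_bomega_ne_zero hM hB hχ₀ hωB
  have hge : (Nat.card (Subgroup.centralizer ({C.out} : Set G))).factorization p ≤ blockDefect p B := by
    rw [← (blockDefect_eq_of_defectClass hM hB₀ hy₀def).1]
    exact hmax B₀ hB₀ ⟨χ₁, hχ₁, θ₁, hθ₁, hover₁⟩
  have hdB : blockDefect p B = (Nat.card (Subgroup.centralizer ({C.out} : Set G))).factorization p :=
    le_antisymm hle hge
  -- move the class so that `P` is its defect group
  obtain ⟨E, hE⟩ := exists_isClassDefect (p := p) C.out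
  obtain ⟨x, hx⟩ := defect_le_of_bomega_ne_zero hM hB hP hχ₀ hωB hE
  have hxE : cj x P = E := cj_eq_of_le hx (by rw [hE.card, card_defectGroup hM hB hP, hdB])
  have hPy : IsClassDefect p (x⁻¹ * C.out * x) P := by
    have h := hE.conj x⁻¹
    rw [← hxE, cj_cj, inv_mul_cancel, inv_inv] at h
    rwa [show cj (1 : G) P = P by ext w; simp [mem_cj]] at h
  set y : N := ⟨x⁻¹ * C.out * x, by simpa using hN.conj_mem _ hy₀N x⁻¹⟩
  have hconj : IsConj C.out (y : G) := isConj_inv_self _ _
  obtain ⟨r, hr, hrω⟩ := exists_class_multiplicity hb hinv hθ₀ y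
  have hωy : bomega θ₀ (resIn N (zclass M (y : G))) ≠ 0 := by
    rw [← hωcov χ₀ θ₀ hθ₀ hover]
    have : bomega χ₀ (zclass M (y : G)) = bomega χ₀ (zclass M C.out) := by
      rw [bomega_apply, bomega_apply]
      refine congrArg _ (Subtype.ext ?_)
      rw [coe_zomega_zclass, coe_zomega_zclass]
      rw [← omega_classSum (CfsgLib.Char.isClassFunction_of_isIrr χ₀.2),
        ← omega_classSum (CfsgLib.Char.isClassFunction_of_isIrr χ₀.2)]
      refine congrArg _ (MonoidAlgebra.coeff_injective (Finsupp.ext fun w => ?_))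
      rw [classSum_coeff, classSum_coeff]
      exact if_congr ⟨fun h => hconj.trans h, fun h => hconj.symm.trans h⟩ rfl rfl
    rw [this]
    exact hωC
  rw [hrω] at hωy
  obtain ⟨hr0, hωb⟩ := mul_ne_zero_iff.mp hωy
  have hrp : ¬ p ∣ r := fun hd => hr0 (by
    rw [← map_natCast (res M)]; exact (res_natCast_eq_zero_iff M hM _).mpr hd)
  have hcb : rcoeff (idem hb) y ≠ 0 := by
    rw [show rcoeff (idem hb) y = rcoeff F (y : G) from congrArg (res M) (Subtype.ext (by
      change (blockElt b).coeff y = a.coeff (y : G)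
      rw [hcoe, blockElt, coeff_ofFun])), ← rcoeff_eq_of_isConj F hconj]
    exact hFC
  have hdef : IsDefectClass M b y := (isDefectClass_iff hb hθ₀ y).mpr ⟨hcb, hωb⟩
  -- counting
  set K := Subgroup.centralizer ({(y : G)} : Set G)
  set KN := Subgroup.centralizer ({y} : Set N)
  have eKN : Nat.card KN = Nat.card (N ⊓ K : Subgroup G) := by
    refine Nat.card_congr
      { toFun := fun w => ⟨((w : N) : G), (w : N).2, Subgroup.mem_centralizer_singleton_iff.mpr
          (congrArg Subtype.val (Subgroup.mem_centralizer_singleton_iff.mp w.2))⟩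
        invFun := fun w => ⟨⟨(w : G), w.2.1⟩, Subgroup.mem_centralizer_singleton_iff.mpr
          (Subtype.ext (Subgroup.mem_centralizer_singleton_iff.mp w.2.2))⟩
        left_inv := fun w => rfl
        right_inv := fun w => rfl }
  set v := fun n : ℕ => n.factorization p with hv
  have hmul : ∀ m n : ℕ, m ≠ 0 → n ≠ 0 → v (m * n) = v m + v n := fun m n hm hn => by
    simp only [hv, Nat.factorization_mul hm hn, Finsupp.add_apply]
  have hpos : ∀ (α : Type _) [Nonempty α] [Finite α], Nat.card α ≠ 0 := fun α _ _ => Nat.card_pos.ne'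
  have hrv : v r = 0 := Nat.factorization_eq_zero_of_not_dvd hrp
  have hr0' : r ≠ 0 := fun h => hrp (h ▸ dvd_zero p)
  have eG : v (Nat.card K) + (v r + v KN.index) = v (Nat.card G) := by
    rw [← hmul _ _ hr0' Subgroup.index_ne_zero_of_finite, ← hr,
      ← hmul _ _ (hpos K) Subgroup.index_ne_zero_of_finite, Subgroup.card_mul_index]
  have eN : v (Nat.card KN) + v KN.index = v (Nat.card N) := by
    rw [← hmul _ _ (hpos KN) Subgroup.index_ne_zero_of_finite, Subgroup.card_mul_index]
  have eNG : v (Nat.card N) + v N.index = v (Nat.card G) := by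
    rw [← hmul _ _ (hpos N) Subgroup.index_ne_zero_of_finite, Subgroup.card_mul_index]
  have eP : v (Nat.card P) = v (Nat.card K) := by
    simp only [hv]
    rw [hPy.card, hp.out.factorization_pow, Finsupp.single_eq_same]
  have hPK : P ≤ K := hPy.le_centralizer
  have e1 := card_inf_mul_card_map (N := N) P
  have e2 := card_inf_mul_card_map (N := N) K
  have hd : Nat.card (P.map (QuotientGroup.mk' N)) ∣ Nat.card (K.map (QuotientGroup.mk' N)) :=
    Subgroup.card_dvd_of_le (Subgroup.map_mono hPK)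
  have hPN : v (Nat.card (N ⊓ K : Subgroup G)) ≤ v (Nat.card (N ⊓ P : Subgroup G)) := by
    have h5 := hmul _ _ (hpos (N ⊓ P : Subgroup G)) (hpos (P.map (QuotientGroup.mk' N)))
    have h6 := hmul _ _ (hpos (N ⊓ K : Subgroup G)) (hpos (K.map (QuotientGroup.mk' N)))
    rw [e1] at h5
    rw [e2] at h6
    have h7 := (Nat.factorization_le_iff_dvd (hpos _) (hpos _)).mpr hd p
    simp only [hv] at h5 h6 eP ⊢
    omega
  have hPN' : v (Nat.card (N ⊓ P : Subgroup G)) ≤ v (Nat.card KN) := by
    rw [eKN]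
    exact (Nat.factorization_le_iff_dvd (hpos _) (hpos _)).mpr
      (Subgroup.card_dvd_of_le (inf_le_inf_left N hPK)) p
  have hcard : Nat.card ((P ⊓ N).subgroupOf N) = p ^ v (Nat.card KN) := by
    rw [Nat.card_congr (Subgroup.subgroupOfEquivOfLe inf_le_right).toEquiv, inf_comm]
    obtain ⟨k, hk⟩ := IsPGroup.iff_card.mp
      ((IsDefectGroup.isPGroup hP).to_le (inf_le_right : N ⊓ P ≤ P))
    have h8 : v (Nat.card (N ⊓ P : Subgroup G)) = k := by
      simp only [hv, hk, hp.out.factorization_pow, Finsupp.single_eq_same]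
    rw [hk]
    exact congrArg _ (le_antisymm (h8 ▸ hPN') (h8 ▸ eKN ▸ hPN))
  refine ⟨?_, ?_, ?_⟩
  · have hvidx : v (P ⊔ N).index = 0 := by
      have hmap : (P ⊔ N).map (QuotientGroup.mk' N) = P.map (QuotientGroup.mk' N) := by
        rw [Subgroup.map_sup, QuotientGroup.map_mk'_self, sup_bot_eq]
      have e3 := card_inf_mul_card_map (N := N) (P ⊔ N)
      rw [inf_eq_left.mpr le_sup_right, hmap] at e3
      have h9 : v (Nat.card (P ⊔ N : Subgroup G)) + v (P ⊔ N).index = v (Nat.card G) := by
        rw [← hmul _ _ (hpos _) Subgroup.index_ne_zero_of_finite, Subgroup.card_mul_index]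
      have h10 : v (Nat.card N) + v (Nat.card (P.map (QuotientGroup.mk' N))) =
          v (Nat.card (P ⊔ N : Subgroup G)) := by
        rw [← hmul _ _ (hpos _) (hpos _), e3]
      have h5 := hmul _ _ (hpos (N ⊓ P : Subgroup G)) (hpos (P.map (QuotientGroup.mk' N)))
      rw [e1] at h5
      rw [← eKN] at hPN
      omega
    intro hdvd
    have := Nat.Prime.factorization_pos_of_dvd hp.out Subgroup.index_ne_zero_of_finite hdvd
    simp only [hv] at hvidx
    omega
  · refine isDefectGroup_iff.mpr ⟨y, hdef, isClassDefect_of_card (fun w hw => ?_) hcard⟩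
    obtain ⟨hwP, -⟩ := Subgroup.mem_inf.mp (Subgroup.mem_subgroupOf.mp hw)
    exact Subgroup.mem_centralizer_singleton_iff.mpr
      (Subtype.ext (Subgroup.mem_centralizer_singleton_iff.mp (hPK hwP)))
  · have hb' := (blockDefect_eq_of_defectClass hM hb hdef).1
    have hB' := card_defectGroup hM hB hP
    have h11 : v (Nat.card P) = blockDefect p B := by
      simp only [hv, hB', hp.out.factorization_pow, Finsupp.single_eq_same]
    have hb'' : blockDefect p b = v (Nat.card KN) := hb'
    have hfin : blockDefect p B = blockDefect p b + v N.index := by omega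
    exact hfin

end CfsgLib.Blocks
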