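import Cfsg.Agent.Lib.Blocks.CyclicRows
import Cfsg.Agent.Lib.BrauerPairs.Idem
import Cfsg.Agent.Lib.Char.Linear
import Cfsg.Agent.Lib.Char.Ortho
import Mathlib.Algebra.Group.End
import Mathlib.Data.Int.ModEq

/-!
# Invariant characters of an abelian group under a fixed-point-free group of automorphisms

For a group `A` of automorphisms of an abelian group `P` acting freely on the nontrivial elements,
`exists_rows` gives the shape of a family of invariant characters of `P` whose Gram matrix on the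
nontrivial elements is `|P|` times that of the orbits.
-/

set_option autoImplicit false

noncomputable section

namespace CfsgLib.Blocks.CyclicOrbits

open Cfsg CfsgLib.BrauerPairs CfsgLib.Char
open scoped ComplexConjugate

/-- Representatives for the free orbits in an invariant set. -/
theorem exists_orbit_reps {α A : Type*} [Fintype α] [Group A] [Fintype A] [MulAction A α] (S : Set α)
    (hS : ∀ (a : A) x, x ∈ S → a • x ∈ S) (hfree : ∀ x ∈ S, ∀ a : A, a • x = x → a = 1) :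
    ∃ R : Finset α, (↑R ⊆ S) ∧ R.card * Fintype.card A = Nat.card S ∧
      (∀ x ∈ S, ∃ r ∈ R, ∃ a : A, a • r = x) ∧
      ∀ r ∈ R, ∀ r' ∈ R, ∀ a : A, a • r = r' → r = r' ∧ a = 1 := by
  classical
  obtain ⟨rep, hrepd⟩ : ∃ rep : α → α,
      rep = fun x => (Quotient.mk'' x : MulAction.orbitRel.Quotient A α).out := ⟨_, rfl⟩
  have hrepo : ∀ x, ∃ a : A, a • rep x = x := fun x => by
    have h := MulAction.orbitRel_apply.mp
      (Quotient.exact' ((Quotient.mk'' x : MulAction.orbitRel.Quotient A α).out_eq').symm)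
    rw [hrepd]; beta_reduce
    exact MulAction.mem_orbit_iff.mp h
  have hrepi : ∀ (a : A) x, rep (a • x) = rep x := fun a x => by
    rw [hrepd]; beta_reduce
    exact congrArg Quotient.out (Quotient.sound' (MulAction.orbitRel_apply.mpr (MulAction.mem_orbit _ _)))
  obtain ⟨R, hR⟩ : ∃ R : Finset α, R = (Finset.univ.filter (· ∈ S)).image rep := ⟨_, rfl⟩
  have hRS : ∀ r ∈ R, r ∈ S ∧ rep r = r := by
    intro r hr
    rw [hR] at hr
    obtain ⟨x, hx, rfl⟩ := Finset.mem_image.mp hr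
    obtain ⟨a, ha⟩ := hrepo x
    refine ⟨?_, ?_⟩
    · rw [← inv_smul_smul a (rep x), ha]; exact hS _ _ (Finset.mem_filter.mp hx).2
    · conv_rhs => rw [← ha, hrepi]
  have huniq : ∀ r ∈ R, ∀ r' ∈ R, ∀ a : A, a • r = r' → r = r' ∧ a = 1 := by
    intro r hr r' hr' a h
    have h1 : r = r' := by rw [← (hRS r hr).2, ← (hRS r' hr').2, ← h, hrepi]
    exact ⟨h1, hfree r (hRS r hr).1 a (by rw [h, h1])⟩
  have hcov : ∀ x ∈ S, ∃ r ∈ R, ∃ a : A, a • r = x := fun x hx =>
    ⟨rep x, hR ▸ Finset.mem_image_of_mem rep (Finset.mem_filter.mpr ⟨Finset.mem_univ _, hx⟩), hrepo x⟩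
  refine ⟨R, fun r hr => (hRS r hr).1, ?_, hcov, huniq⟩
  have hb : Function.Bijective
      fun q : R × A => (⟨q.2 • (q.1 : α), hS _ _ (hRS _ q.1.2).1⟩ : S) := by
    refine ⟨fun q q' h => ?_, fun x => ?_⟩
    · have h' : q.2 • (q.1 : α) = q'.2 • (q'.1 : α) := congrArg Subtype.val h
      obtain ⟨h1, h2⟩ := huniq _ q.1.2 _ q'.1.2 (q'.2⁻¹ * q.2) (by rw [mul_smul, h', inv_smul_smul])
      exact Prod.ext (Subtype.ext h1) (inv_mul_eq_one.mp h2).symm
    · obtain ⟨r, hr, a, ha⟩ := hcov x x.2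
      exact ⟨(⟨r, hr⟩, a), Subtype.ext ha⟩
  have := Nat.card_congr (Equiv.ofBijective _ hb)
  rwa [Nat.card_prod, Nat.card_eq_fintype_card, Nat.card_eq_fintype_card, Fintype.card_coe] at this

variable {P : Type*} [Group P] [Fintype P]

/-- The principal character. -/
def triv (θ : IrrCharacter P) : Prop := ∀ y, (θ : P → ℂ) y = 1

variable {A : Subgroup (MulAut P)}

/-- The orbit sum of a character. -/
def orb (A : Subgroup (MulAut P)) [Fintype A] (θ : P → ℂ) (y : P) : ℂ := ∑ a : A, θ ((a : MulAut P) y)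

/-- Automorphisms act on the irreducible characters. -/
@[reducible] def irrAction (A : Subgroup (MulAut P)) : MulAction A (IrrCharacter P) where
  smul a θ := tirr (a : MulAut P) θ
  one_smul θ := Subtype.ext (funext fun y => rfl)
  mul_smul a b θ := Subtype.ext (funext fun y => rfl)

theorem card_irr_of_comm (hab : ∀ x y : P, x * y = y * x) : Nat.card (IrrCharacter P) = Nat.card P := by
  rw [card_irr_eq_card_conjClasses]
  refine (Nat.card_congr (Equiv.ofBijective ConjClasses.mk ⟨fun x y h => ?_, ConjClasses.mk_surjective⟩)).symm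
  obtain ⟨c, hc⟩ := isConj_iff.mp (ConjClasses.mk_eq_mk_iff_isConj.mp h)
  rw [← hc, hab c x, mul_inv_cancel_right]

theorem sum_irr_apply (hab : ∀ x y : P, x * y = y * x) {y : P} (hy : y ≠ 1) :
    ∑ θ : IrrCharacter P, (θ : P → ℂ) y = 0 := by
  classical
  have h := second_orthogonality y (1 : P)
  rw [if_neg fun h => hy (isConj_one_left.mp h)] at h
  rw [← h]
  exact Finset.sum_congr rfl fun θ _ => by rw [irr_one_eq_one_of_comm hab θ.2, map_one, mul_one]

theorem irr_mul (hab : ∀ x y : P, x * y = y * x) (θ : IrrCharacter P) (x y : P) :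
    (θ : P → ℂ) (x * y) = (θ : P → ℂ) x * (θ : P → ℂ) y := by
  rw [← linearHom_apply (isCharacter_of_isIrr θ.2) (irr_one_eq_one_of_comm hab θ.2),
    ← linearHom_apply (isCharacter_of_isIrr θ.2) (irr_one_eq_one_of_comm hab θ.2),
    ← linearHom_apply (isCharacter_of_isIrr θ.2) (irr_one_eq_one_of_comm hab θ.2), map_mul, Units.val_mul]

variable (hab : ∀ x y : P, x * y = y * x) (hA : ∀ a ∈ A, ∀ y : P, y ≠ 1 → a y = y → a = 1)
include hab hA

/-- The action on the nontrivial characters is free. -/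
theorem free_irr {θ : IrrCharacter P} (hθ : ¬ triv θ) {a : MulAut P} (ha : a ∈ A)
    (h : ∀ y, (θ : P → ℂ) (a y) = (θ : P → ℂ) y) : a = 1 := by
  by_contra hne
  have hinj : Function.Injective fun y : P => a y * y⁻¹ := by
    intro y z hyz
    by_contra hyz'
    refine hne (hA a ha (y * z⁻¹) (fun h1 => hyz' (mul_inv_eq_one.mp h1)) ?_)
    replace hyz : a y * y⁻¹ = a z * z⁻¹ := hyz
    have h1 : a y = a z * (z⁻¹ * y) := by rw [← mul_assoc, ← hyz, inv_mul_cancel_right]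
    rw [map_mul, map_inv, h1, mul_assoc, hab (z⁻¹ * y) (a z)⁻¹, ← mul_assoc, mul_inv_cancel, one_mul, hab]
  refine hθ fun w => ?_
  obtain ⟨y, rfl⟩ := Finite.injective_iff_surjective.mp hinj w
  show (θ : P → ℂ) (a y * y⁻¹) = 1
  rw [irr_mul hab, h, ← irr_mul hab, mul_inv_cancel, irr_one_eq_one_of_comm hab θ.2]

/-- Representatives of the orbits of the nontrivial characters. -/
theorem exists_irr_reps [Fintype A] :
    ∃ Θ : Finset (IrrCharacter P), (∀ θ ∈ Θ, ¬ triv θ) ∧ Θ.card * Fintype.card A = Nat.card P - 1 ∧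
      (∀ μ : IrrCharacter P, ¬ triv μ → ∃ θ ∈ Θ, ∃ a : A, ∀ y, (μ : P → ℂ) y = (θ : P → ℂ) ((a : MulAut P) y)) ∧
      ∀ θ ∈ Θ, ∀ θ' ∈ Θ, ∀ a : A, (∀ y, (θ' : P → ℂ) y = (θ : P → ℂ) ((a : MulAut P) y)) → θ = θ' ∧ a = 1 := by
  classical
  let _ := irrAction A
  have hsm : ∀ (a : A) (θ : IrrCharacter P) y,
      ((a • θ : IrrCharacter P) : P → ℂ) y = (θ : P → ℂ) ((a : MulAut P).symm y) := fun a θ y => rfl
  have hsymm : ∀ (a : A) y, ((a⁻¹ : A) : MulAut P) y = (a : MulAut P).symm y := fun a y => rfl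
  obtain ⟨R, hRS, hcard, hcov, huniq⟩ := exists_orbit_reps (A := A) {θ : IrrCharacter P | ¬ triv θ}
    (fun a θ hθ h => hθ fun y => by
      have h1 := h ((a : MulAut P) y)
      rwa [hsm, MulEquiv.symm_apply_apply] at h1)
    (fun θ hθ a h => Subtype.ext (free_irr hab hA hθ a.2 fun y => by
      conv_lhs => rw [← h, hsm, MulEquiv.symm_apply_apply]))
  refine ⟨R, fun θ hθ => hRS hθ, ?_, fun μ hμ => ?_, fun θ hθ θ' hθ' a h => ?_⟩
  · rw [hcard, ← card_irr_of_comm hab]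
    obtain ⟨ω, hω⟩ : ∃ ω : IrrCharacter P, triv ω := ⟨irrOne, fun y => rfl⟩
    have h2 : ({θ : IrrCharacter P | ¬ triv θ} : Set _) = (Finset.univ.erase ω : Finset _) := by
      ext θ
      simp only [Set.mem_setOf_eq, Finset.coe_erase, Finset.coe_univ, Set.mem_diff, Set.mem_univ,
        Set.mem_singleton_iff, true_and]
      exact ⟨fun h h' => h (h' ▸ hω), fun h h' => h (Subtype.ext (funext fun y => (h' y).trans (hω y).symm))⟩
    rw [h2, Nat.card_coe_set_eq, Set.ncard_coe_finset, Finset.card_erase_of_mem (Finset.mem_univ _),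
      Finset.card_univ, Nat.card_eq_fintype_card]
  · obtain ⟨θ, hθ, a, ha⟩ := hcov μ hμ
    exact ⟨θ, hθ, a⁻¹, fun y => by rw [← ha, hsm, hsymm]⟩
  · obtain ⟨h1, h2⟩ := huniq θ hθ θ' hθ' a⁻¹ (Subtype.ext (funext fun y => by
      rw [hsm, h]
      exact congrArg _ (congrArg (fun b : MulAut P => b y) (show ((a⁻¹ : A) : MulAut P).symm = (a : MulAut P) from rfl))))
    exact ⟨h1, inv_eq_one.mp h2⟩

variable [Fintype A] {Θ : Finset (IrrCharacter P)}

omit hA in
theorem orb_one (θ : IrrCharacter P) : orb A (θ : P → ℂ) 1 = Fintype.card A := by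
  simp [orb, irr_one_eq_one_of_comm hab θ.2]

omit hab hA in
theorem orb_inv (θ : P → ℂ) (b : A) (y : P) : orb A θ ((b : MulAut P) y) = orb A θ y :=
  Fintype.sum_equiv (Equiv.mulRight b) _ _ fun a => rfl

variable (hnt : ∀ θ ∈ Θ, ¬ triv θ)
  (hcov : ∀ μ : IrrCharacter P, ¬ triv μ → ∃ θ ∈ Θ, ∃ a : A, ∀ y, (μ : P → ℂ) y = (θ : P → ℂ) ((a : MulAut P) y))
  (huniq : ∀ θ ∈ Θ, ∀ θ' ∈ Θ, ∀ a : A, (∀ y, (θ' : P → ℂ) y = (θ : P → ℂ) ((a : MulAut P) y)) → θ = θ' ∧ a = 1)
include hnt huniq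

theorem classInner_orb {θ θ' : IrrCharacter P} (hθ : θ ∈ Θ) (hθ' : θ' ∈ Θ) [DecidableEq (IrrCharacter P)] :
    classInner (orb A (θ : P → ℂ)) (θ' : P → ℂ) = if θ = θ' then 1 else 0 := by
  classical
  have h1 : classInner (orb A (θ : P → ℂ)) (θ' : P → ℂ) =
      ∑ a : A, classInner ((θ : P → ℂ) ∘ (a : MulAut P)) (θ' : P → ℂ) := by
    simp only [classInner_def, orb, Finset.sum_mul, ← Finset.mul_sum]
    rw [Finset.sum_comm]
    rfl
  rw [h1, Finset.sum_eq_single (1 : A)]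
  · split_ifs with h
    · subst h; exact classInner_irr_self θ.2
    · exact classInner_irr_ne θ.2 θ'.2 fun he => h (Subtype.ext he)
  · intro a _ ha
    refine classInner_irr_ne (tirr (a : MulAut P).symm θ).2 θ'.2 fun he => ha ?_
    exact (huniq θ hθ θ' hθ' a fun y => (congrFun he y).symm).2
  · simp

theorem classInner_orb_one {θ : IrrCharacter P} (hθ : θ ∈ Θ) : ∑ y : P, orb A (θ : P → ℂ) y = 0 := by
  classical
  simp only [orb]
  rw [Finset.sum_comm]
  refine Finset.sum_eq_zero fun a _ => ?_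
  rw [Fintype.sum_equiv (a : MulAut P).toEquiv (fun y => (θ : P → ℂ) ((a : MulAut P) y)) (θ : P → ℂ) fun y => rfl]
  have h := classInner_irr_ne θ.2 (irrOne : IrrCharacter P).2 fun he => hnt θ hθ fun y => congrFun he y
  rw [classInner_def, mul_eq_zero] at h
  rw [← h.resolve_left (inv_ne_zero (Nat.cast_ne_zero.mpr Nat.card_pos.ne'))]
  exact Finset.sum_congr rfl fun y _ => by
    rw [show ((irrOne : IrrCharacter P) : P → ℂ) y = 1 from rfl, map_one, mul_one]

/-- The orbit sums are independent away from the identity. -/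
theorem orb_indep (v : IrrCharacter P → ℂ)
    (h : ∀ y : P, y ≠ 1 → ∑ θ ∈ Θ, v θ * orb A (θ : P → ℂ) y = 0) : ∀ θ ∈ Θ, v θ = 0 := by
  classical
  obtain ⟨F, hF⟩ : ∃ F : P → ℂ, F = fun y => ∑ θ ∈ Θ, v θ * orb A (θ : P → ℂ) y := ⟨_, rfl⟩
  have hsum : ∑ y, F y = 0 := by
    rw [hF, Finset.sum_comm]
    exact Finset.sum_eq_zero fun θ hθ => by
      rw [← Finset.mul_sum, classInner_orb_one hab hA hnt huniq hθ, mul_zero]
  have hz : ∀ y, F y = 0 := fun y => by
    by_cases hy : y = 1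
    · rw [hy, ← hsum, Finset.sum_eq_single 1 (fun y _ hy => by rw [hF]; exact h y hy) (by simp)]
    · rw [hF]; exact h y hy
  intro θ' hθ'
  have h1 : classInner F (θ' : P → ℂ) = 0 := by simp [classInner_def, hz]
  have h2 : classInner F (θ' : P → ℂ) = ∑ θ ∈ Θ, v θ * classInner (orb A (θ : P → ℂ)) (θ' : P → ℂ) := by
    simp only [classInner_def, hF, Finset.sum_mul, Finset.mul_sum]
    rw [Finset.sum_comm]
    exact Finset.sum_congr rfl fun θ _ => Finset.sum_congr rfl fun y _ => by ring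
  rw [h2, Finset.sum_eq_single θ' (fun θ hθ hne => by
      rw [classInner_orb hab hA hnt huniq hθ hθ', if_neg hne, mul_zero])
    (fun h => absurd hθ' h), classInner_orb hab hA hnt huniq hθ' hθ', if_pos rfl, mul_one] at h1
  exact h1

include hcov

theorem sum_irr_split (F : IrrCharacter P → ℂ) {ω : IrrCharacter P} (hω : triv ω) :
    ∑ μ, F μ = F ω + ∑ θ ∈ Θ, ∑ a : A, F (tirr (a : MulAut P).symm θ) := by
  classical
  rw [← Finset.add_sum_erase _ _ (Finset.mem_univ ω), ← Finset.sum_product']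
  congr 1
  symm
  refine Finset.sum_bij (fun q _ => tirr (q.2 : MulAut P).symm q.1) (fun q hq => ?_) (fun q hq q' hq' h => ?_)
    (fun μ hμ => ?_) fun q _ => rfl
  · refine Finset.mem_erase.mpr ⟨fun h => hnt _ (Finset.mem_product.mp hq).1 fun y => ?_, Finset.mem_univ _⟩
    rw [← hω ((q.2 : MulAut P).symm y), ← h]
    exact congrArg (q.1 : P → ℂ) ((q.2 : MulAut P).apply_symm_apply y).symm
  · have h1 : ∀ y, (q.1 : P → ℂ) ((q.2 : MulAut P) y) = (q'.1 : P → ℂ) ((q'.2 : MulAut P) y) := fun y =>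
      congrFun (congrArg Subtype.val h) y
    obtain ⟨e1, e2⟩ := huniq q.1 (Finset.mem_product.mp hq).1 q'.1 (Finset.mem_product.mp hq').1
      (q.2 * q'.2⁻¹) fun y => by
        rw [Subgroup.coe_mul, MulAut.mul_apply, h1]
        exact congrArg _ ((q'.2 : MulAut P).apply_symm_apply y).symm
    exact Prod.ext e1 (mul_inv_eq_one.mp e2)
  · obtain ⟨θ, hθ, a, ha⟩ := hcov μ fun h => (Finset.mem_erase.mp hμ).1
      (Subtype.ext (funext fun y => (h y).trans (hω y).symm))
    exact ⟨(θ, a), Finset.mem_product.mpr ⟨hθ, Finset.mem_univ _⟩, Subtype.ext (funext fun y => (ha y).symm)⟩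

theorem sum_orb {y : P} (hy : y ≠ 1) : ∑ θ ∈ Θ, orb A (θ : P → ℂ) y = -1 := by
  obtain ⟨ω, hω⟩ : ∃ ω : IrrCharacter P, triv ω := ⟨irrOne, fun y => rfl⟩
  have h := sum_irr_split hab hA hnt hcov huniq (fun μ => (μ : P → ℂ) y) hω
  rw [sum_irr_apply hab hy, hω] at h
  exact eq_neg_of_add_eq_zero_right h.symm

omit hcov in
/-- **The rows.** -/
theorem exists_rows (hcov : ∀ μ : IrrCharacter P, ¬ triv μ →
      ∃ θ ∈ Θ, ∃ a : A, ∀ y, (μ : P → ℂ) y = (θ : P → ℂ) ((a : MulAut P) y))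
    {α : Type*} [Fintype α] (f : α → P → ℂ) (hf : ∀ χ, IsCharacter P (f χ))
    (hinv : ∀ χ, ∀ a ∈ A, ∀ y, f χ (a y) = f χ y)
    (hsame : ∀ y : P, y ≠ 1 → ∑ χ, f χ y * conj (f χ y) = (Nat.card P : ℂ))
    (hother : ∀ y y' : P, y ≠ 1 → y' ≠ 1 → (∀ a ∈ A, a y ≠ y') → ∑ χ, f χ y * conj (f χ y') = 0)
    (hne : ∀ χ, ∃ y : P, y ≠ 1 ∧ f χ y ≠ 0) (hΘ : Θ.Nonempty)
    (hcard : Fintype.card A + Θ.card ≤ Fintype.card α) :
    Fintype.card α = Fintype.card A + Θ.card ∧
    ∃ (η : IrrCharacter P → α) (σ : IrrCharacter P → ℤ) (s : α → ℤ),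
      Set.InjOn η Θ ∧ (∀ θ ∈ Θ, σ θ = 1 ∨ σ θ = -1) ∧
      (∀ θ ∈ Θ, (∀ y : P, y ≠ 1 → f (η θ) y = σ θ * orb A (θ : P → ℂ) y) ∧
        ∃ n : ℤ, f (η θ) 1 = n ∧ n ≡ σ θ * Fintype.card A [ZMOD Nat.card P]) ∧
      ∀ χ, (∀ θ ∈ Θ, η θ ≠ χ) → (s χ = 1 ∨ s χ = -1) ∧ (∀ y : P, y ≠ 1 → f χ y = -s χ) ∧
        ∃ n : ℤ, f χ 1 = n ∧ n ≡ -s χ [ZMOD Nat.card P] := by
  classical
  obtain ⟨ω, hω⟩ : ∃ ω : IrrCharacter P, triv ω := ⟨irrOne, fun y => rfl⟩
  choose m hm using fun χ (μ : IrrCharacter P) => classInner_char_nat (hf χ) (isCharacter_of_isIrr μ.2)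
  have hminv : ∀ χ (θ : IrrCharacter P) (a : A), m χ (tirr (a : MulAut P).symm θ) = m χ θ := by
    intro χ θ a
    apply Nat.cast_injective (R := ℂ)
    rw [← hm, ← hm, classInner_def, classInner_def]
    congr 1
    refine Fintype.sum_equiv (a : MulAut P).toEquiv _ _ fun y => ?_
    rw [MulEquiv.toEquiv_eq_coe, EquivLike.coe_coe, hinv χ _ a.2]
    rfl
  obtain ⟨r, hrd⟩ : ∃ r : α → Θ → ℤ, r = fun χ (θ : Θ) => (m χ θ.1 : ℤ) - (m χ ω : ℤ) := ⟨_, rfl⟩
  have hrepr : ∀ χ y, f χ y = (m χ ω : ℂ) * (∑ μ : IrrCharacter P, (μ : P → ℂ) y) +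
      ∑ θ : Θ, (r χ θ : ℂ) * orb A ((θ : IrrCharacter P) : P → ℂ) y := by
    intro χ y
    have h := congrFun (classFun_eq_sum (isClassFunction_of_isCharacter (hf χ))) y
    simp only [Finset.sum_apply, Pi.smul_apply, smul_eq_mul, hm] at h
    rw [sum_irr_split hab hA hnt hcov huniq _ hω] at h
    have hcoe : ∑ θ : Θ, (r χ θ : ℂ) * orb A ((θ : IrrCharacter P) : P → ℂ) y =
        ∑ θ ∈ Θ, (((m χ θ : ℤ) - (m χ ω : ℤ) : ℤ) : ℂ) * orb A (θ : P → ℂ) y := by
      rw [hrd]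
      exact Finset.sum_coe_sort Θ (fun θ => (((m χ θ : ℤ) - (m χ ω : ℤ) : ℤ) : ℂ) * orb A (θ : P → ℂ) y)
    rw [h, hcoe, sum_irr_split hab hA hnt hcov huniq (fun μ => (μ : P → ℂ) y) hω, mul_add, Finset.mul_sum,
      add_assoc, ← Finset.sum_add_distrib]
    congr 1
    refine Finset.sum_congr rfl fun θ _ => ?_
    simp only [hminv, orb, Finset.mul_sum, ← Finset.sum_add_distrib]
    refine Finset.sum_congr rfl fun a _ => ?_
    push_cast
    have : ((tirr (a : MulAut P).symm θ : IrrCharacter P) : P → ℂ) y = (θ : P → ℂ) ((a : MulAut P) y) := rfl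
    rw [this]; ring
  have hval : ∀ χ, ∀ y : P, y ≠ 1 → f χ y = ∑ θ : Θ, (r χ θ : ℂ) * orb A ((θ : IrrCharacter P) : P → ℂ) y :=
    fun χ y hy => by rw [hrepr, sum_irr_apply hab hy, mul_zero, zero_add]
  have hone : ∀ χ, ∃ n : ℤ, f χ 1 = n ∧ n ≡ Fintype.card A * ∑ θ : Θ, r χ θ [ZMOD Nat.card P] := by
    intro χ
    refine ⟨(Nat.card P : ℤ) * (m χ ω : ℤ) + Fintype.card A * ∑ θ : Θ, r χ θ, ?_, ?_⟩
    · rw [hrepr, Finset.sum_congr rfl fun μ _ => irr_one_eq_one_of_comm hab μ.2, Finset.sum_const,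
        Finset.card_univ, nsmul_one, ← Nat.card_eq_fintype_card, card_irr_of_comm hab]
      simp only [orb_one hab, Int.cast_add, Int.cast_mul, Int.cast_natCast, Int.cast_sum, Finset.mul_sum]
      congr 1
      · ring
      · exact Finset.sum_congr rfl fun θ _ => mul_comm _ _
    · exact Int.modEq_iff_dvd.mpr ⟨-(m χ ω : ℤ), by ring⟩
  -- the coefficients by inner products
  have hr : ∀ χ (θ : Θ), (r χ θ : ℂ) =
      (Nat.card P : ℂ)⁻¹ * ∑ y, f χ y * (conj (((θ : IrrCharacter P) : P → ℂ) y) - 1) := by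
    intro χ θ
    rw [hrd]
    push_cast
    rw [← hm, ← hm, classInner_def, classInner_def, ← mul_sub, ← Finset.sum_sub_distrib]
    exact congrArg _ (Finset.sum_congr rfl fun y _ => by rw [hω, map_one, mul_one, mul_sub, mul_one])
  have hgram : ∀ θ θ' : Θ, ∑ χ, r χ θ * r χ θ' = (Fintype.card A : ℤ) + if θ = θ' then 1 else 0 := by
    intro θ θ'
    apply Int.cast_injective (α := ℂ)
    obtain ⟨u, hu⟩ : ∃ u : Θ → P → ℂ, u = fun (θ : Θ) y => conj ((θ.1 : P → ℂ) y) - 1 := ⟨_, rfl⟩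
    have hu1 : ∀ θ, u θ 1 = 0 := fun θ => by
      rw [hu]; simp [irr_one_eq_one_of_comm hab (θ : IrrCharacter P).2]
    have hexp : ∀ χ, ((r χ θ : ℤ) : ℂ) * (r χ θ' : ℂ) = (Nat.card P : ℂ)⁻¹ * (Nat.card P : ℂ)⁻¹ *
        ∑ y, ∑ y', (f χ y * conj (f χ y')) * (u θ y * conj (u θ' y')) := by
      intro χ
      have hc : (r χ θ' : ℂ) = conj (r χ θ' : ℂ) := (map_intCast _ _).symm
      rw [hc, hr, hr, map_mul, map_inv₀, map_natCast, map_sum, mul_mul_mul_comm, Finset.sum_mul_sum]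
      simp only [hu, map_mul]
      exact congrArg _ (Finset.sum_congr rfl fun y _ => Finset.sum_congr rfl fun y' _ => by ring)
    push_cast
    rw [Finset.sum_congr rfl fun χ _ => hexp χ, ← Finset.mul_sum, Finset.sum_comm,
      Finset.sum_congr rfl fun y _ => Finset.sum_comm]
    simp only [← Finset.sum_mul]
    have hG : ∀ y : P, ∑ y', (∑ χ, f χ y * conj (f χ y')) * (u θ y * conj (u θ' y')) =
        (Nat.card P : ℂ) * ∑ a : A, u θ y * conj (u θ' ((a : MulAut P) y)) := by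
      intro y
      by_cases hy : y = 1
      · simp [hy, hu1]
      rw [Finset.mul_sum, ← Finset.sum_subset (Finset.subset_univ (Finset.univ.image fun a : A => (a : MulAut P) y))
        fun y' _ hy' => ?_, Finset.sum_image fun a _ b _ h => ?_]
      · refine Finset.sum_congr rfl fun a _ => ?_
        congr 1
        rw [← hsame y hy]
        exact Finset.sum_congr rfl fun χ _ => by rw [hinv χ _ a.2]
      · have h2 : ((b⁻¹ * a : A) : MulAut P) y = y := by
          rw [Subgroup.coe_mul, MulAut.mul_apply]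
          exact (congrArg _ h).trans ((b : MulAut P).symm_apply_apply y)
        exact (inv_mul_eq_one.mp (Subtype.ext (hA _ (b⁻¹ * a).2 y hy h2))).symm
      · by_cases hy1 : y' = 1
        · rw [hy1, hu1, map_zero, mul_zero, mul_zero]
        rw [hother y y' hy hy1 fun a ha h => hy' (Finset.mem_image.mpr ⟨⟨a, ha⟩, Finset.mem_univ _, h⟩), zero_mul]
    rw [Finset.sum_congr rfl fun y _ => hG y, ← Finset.mul_sum, Finset.sum_comm, ← mul_assoc,
      inv_mul_cancel_right₀ (Nat.cast_ne_zero.mpr Nat.card_pos.ne'), Finset.mul_sum]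
    have hone' : ∀ a : A, (Nat.card P : ℂ)⁻¹ * ∑ y, u θ y * conj (u θ' ((a : MulAut P) y)) =
        1 + if θ = θ' ∧ a = 1 then 1 else 0 := by
      intro a
      have hsumθ : ∀ μ : IrrCharacter P, ¬ triv μ → ∑ y, (μ : P → ℂ) y = 0 := by
        intro μ hμ
        have h := classInner_irr_ne μ.2 ω.2 fun he => hμ fun y => (congrFun he y).trans (hω y)
        rw [classInner_def, mul_eq_zero] at h
        rw [← h.resolve_left (inv_ne_zero (Nat.cast_ne_zero.mpr Nat.card_pos.ne'))]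
        exact Finset.sum_congr rfl fun y _ => by rw [hω, map_one, mul_one]
      have h1 : ∀ y, u θ y * conj (u θ' ((a : MulAut P) y)) =
          ((θ' : IrrCharacter P) : P → ℂ) ((a : MulAut P) y) * conj (((θ : IrrCharacter P) : P → ℂ) y) -
            ((θ' : IrrCharacter P) : P → ℂ) ((a : MulAut P) y) - conj (((θ : IrrCharacter P) : P → ℂ) y) + 1 := by
        intro y
        rw [hu]; simp only [map_sub, Complex.conj_conj, map_one]; ring
      have h2 : ∑ y, ((θ' : IrrCharacter P) : P → ℂ) ((a : MulAut P) y) = 0 :=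
        (Fintype.sum_equiv (a : MulAut P).toEquiv _ _ fun y => rfl).trans (hsumθ _ (hnt _ θ'.2))
      have h3 : ∑ y, conj (((θ : IrrCharacter P) : P → ℂ) y) = 0 := by
        rw [← map_sum, hsumθ _ (hnt _ θ.2), map_zero]
      have h4 : (Nat.card P : ℂ)⁻¹ * ∑ y, ((θ' : IrrCharacter P) : P → ℂ) ((a : MulAut P) y) *
          conj (((θ : IrrCharacter P) : P → ℂ) y) = if θ = θ' ∧ a = 1 then 1 else 0 := by
        split_ifs with h
        · obtain ⟨rfl, rfl⟩ := h
          rw [← classInner_irr_self (θ : IrrCharacter P).2, classInner_def]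
          rfl
        · exact classInner_irr_ne (tirr (a : MulAut P).symm (θ' : IrrCharacter P)).2 (θ : IrrCharacter P).2
            fun he => h (by
              obtain ⟨e1, e2⟩ := huniq _ θ'.2 _ θ.2 a fun y => (congrFun he y).symm
              exact ⟨Subtype.ext e1.symm, e2⟩)
      simp only [h1, Finset.sum_add_distrib, Finset.sum_sub_distrib, h2, h3, sub_zero, mul_add, h4,
        Finset.sum_const, Finset.card_univ, nsmul_one, ← Nat.card_eq_fintype_card,
        inv_mul_cancel₀ (show (Nat.card P : ℂ) ≠ 0 from Nat.cast_ne_zero.mpr Nat.card_pos.ne')]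
      ring
    rw [Finset.sum_congr rfl fun a _ => hone' a, Finset.sum_add_distrib, Finset.sum_const, Finset.card_univ,
      nsmul_one]
    congr 1
    split_ifs with h <;> simp [h]
  have hnz : ∀ χ, ∃ θ, r χ θ ≠ 0 := by
    intro χ
    obtain ⟨y, hy, hfy⟩ := hne χ
    by_contra! h
    exact hfy (by rw [hval χ y hy]; exact Finset.sum_eq_zero fun θ _ => by simp [h θ])
  have : Nonempty Θ := hΘ.to_subtype
  obtain ⟨hk, η, σ, hηinj, hσ, hrow, hrest⟩ :=
    CyclicRows.structure_rows hgram hnz (by rwa [Fintype.card_coe])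
  obtain ⟨θ₀, hθ₀⟩ := hΘ
  choose! s hs hsr using hrest
  refine ⟨by rwa [Fintype.card_coe] at hk, fun θ => if h : θ ∈ Θ then η ⟨θ, h⟩ else η ⟨θ₀, hθ₀⟩,
    fun θ => if h : θ ∈ Θ then σ ⟨θ, h⟩ else 1, s, fun θ hθ θ' hθ' h => ?_, fun θ hθ => ?_, fun θ hθ => ?_,
    fun χ hχ => ?_⟩
  · simp only [dif_pos (Finset.mem_coe.mp hθ), dif_pos (Finset.mem_coe.mp hθ')] at h
    exact congrArg Subtype.val (hηinj h)
  · simp only [dif_pos hθ]; exact hσ _
  · simp only [dif_pos hθ]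
    refine ⟨fun y hy => ?_, ?_⟩
    · rw [hval _ y hy, Finset.sum_eq_single (⟨θ, hθ⟩ : Θ) (fun j _ hj => ?_) (by simp), hrow, if_pos rfl]
      rw [hrow, if_neg hj.symm, Int.cast_zero, zero_mul]
    · obtain ⟨n, hn1, hn2⟩ := hone (η ⟨θ, hθ⟩)
      refine ⟨n, hn1, ?_⟩
      simp only [hrow, Finset.sum_ite_eq, Finset.mem_univ, if_true] at hn2
      rwa [mul_comm] at hn2
  · have hne' : ∀ i, η i ≠ χ := fun i => by simpa [dif_pos i.2] using hχ i.1 i.2
    refine ⟨hs χ hne', fun y hy => ?_, ?_⟩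
    · rw [hval _ y hy, Finset.sum_congr rfl fun j _ => by rw [hsr χ hne' j], ← Finset.mul_sum,
        Finset.sum_coe_sort Θ (fun θ => orb A (θ : P → ℂ) y), sum_orb hab hA hnt hcov huniq hy, mul_neg, mul_one]
    · obtain ⟨n, hn1, hn2⟩ := hone χ
      refine ⟨n, hn1, hn2.trans ?_⟩
      rw [Finset.sum_congr rfl fun j _ => hsr χ hne' j, Finset.sum_const, Finset.card_univ, Fintype.card_coe,
        nsmul_eq_mul]
      refine Int.modEq_iff_dvd.mpr ⟨-s χ, ?_⟩
      have hsplit := sum_irr_split hab hA hnt hcov huniq (fun _ => (1 : ℂ)) hω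
      simp only [Finset.sum_const, Finset.card_univ, ← Nat.card_eq_fintype_card, card_irr_of_comm hab,
        nsmul_eq_mul, mul_one] at hsplit
      have hq : (Nat.card P : ℤ) = 1 + (Θ.card : ℤ) * (Fintype.card A : ℤ) := by
        have : Nat.card P = 1 + Θ.card * Fintype.card A := by
          rw [← Nat.card_eq_fintype_card (α := A)]; exact_mod_cast hsplit
        exact_mod_cast this
      rw [hq]; ring

end CfsgLib.Blocks.CyclicOrbits
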