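import Cfsg.Agent.Lib.Blocks.PointsCentral
import Mathlib.LinearAlgebra.Dimension.Free

/-!
# Points for idempotent class functions of `N / P`

`fop f` is the action of a function `f` on `N`, trivial on `P`, through coset representatives. For
orthogonal idempotent class functions `f` a simple module has points for one of them only
(`pointF_unique`), which gives independent class functions fixed by a central idempotent.
-/

set_option autoImplicit false

noncomputable section

namespace CfsgLib.Blocks.Points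

open Finset

variable {k : Type*} [Field k] {G : Type*} [Group G] {V : Type*} [AddCommGroup V] [Module k V]
  [Module (MonoidAlgebra k G) V] [IsScalarTower k (MonoidAlgebra k G) V] {P N : Subgroup G}

/-- An idempotent class function on `N` invariant under `P`. -/
structure IsIdemFun (P : Subgroup G) [Fintype (N ⧸ P.subgroupOf N)] (f : N → k) : Prop where
  conj : ∀ m n : N, f (m * n * m⁻¹) = f n
  right : ∀ n q : N, (q : G) ∈ P → f (n * q) = f n
  idem : ∀ n : N, ∑ c : N ⧸ P.subgroupOf N, f c.out * f (c.out⁻¹ * n) = f n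

variable [Fintype (N ⧸ P.subgroupOf N)]

/-- The action of a function on `N` through coset representatives. -/
def fop (P : Subgroup G) [Fintype (N ⧸ P.subgroupOf N)] (f : N → k) (V : Type*) [AddCommGroup V]
    [Module k V] [Module (MonoidAlgebra k G) V] [IsScalarTower k (MonoidAlgebra k G) V] : V →ₗ[k] V :=
  ∑ c : N ⧸ P.subgroupOf N, f c.out • gact k ((c.out : N) : G)

theorem fop_apply (f : N → k) (v : V) :
    fop P f V v = ∑ c : N ⧸ P.subgroupOf N, f c.out • gact k ((c.out : N) : G) v := by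
  simp [fop]

theorem fop_mem {U : Submodule (MonoidAlgebra k G) V} (f : N → k) {v : V} (hv : v ∈ U) :
    fop P f V v ∈ U := by
  rw [fop_apply]; exact sum_mem fun c _ => smul_mem' _ (gact_mem _ hv)

theorem fop_congr {f g : N → k} (h : ∀ n, f n = g n) : fop P f V = fop P g V := by
  rw [show f = g from funext h]

omit [Fintype (N ⧸ P.subgroupOf N)] in
/-- An element fixed by `P` modulo `U` does not see the representative. -/
theorem gact_congr {U : Submodule (MonoidAlgebra k G) V} {u : V} (hu : ∀ π ∈ P, gact k π u - u ∈ U)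
    (g : G) {q : G} (hq : q ∈ P) : gact k (g * q) u - gact k g u ∈ U := by
  rw [gact_mul, ← map_sub]
  exact gact_mem g (hu q hq)

theorem fop_fop {f g : N → k} (hN : N ≤ Subgroup.normalizer (P : Set G))
    (hg : ∀ n q : N, (q : G) ∈ P → g (n * q) = g n)
    {U : Submodule (MonoidAlgebra k G) V} {u : V} (hu : ∀ π ∈ P, gact k π u - u ∈ U) :
    fop P f V (fop P g V u) -
      fop P (fun n => ∑ c : N ⧸ P.subgroupOf N, f c.out * g (c.out⁻¹ * n)) V u ∈ U := by
  have : (P.subgroupOf N).Normal := Subgroup.normal_subgroupOf_of_le_normalizer hN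
  rw [fop_apply f, fop_apply g, fop_apply]
  simp only [map_sum, map_smul, smul_sum, sum_smul, smul_smul]
  rw [Finset.sum_comm (f := fun (e : N ⧸ P.subgroupOf N) (c : N ⧸ P.subgroupOf N) =>
    (f c.out * g (c.out⁻¹ * e.out)) • gact k ((e.out : N) : G) u), ← sum_sub_distrib]
  refine sum_mem fun c _ => ?_
  rw [← Fintype.sum_equiv (Equiv.mulLeft c) (fun d : N ⧸ P.subgroupOf N =>
      (f c.out * g (c.out⁻¹ * (c * d).out)) • gact k (((c * d).out : N) : G) u)
    (fun e => (f c.out * g (c.out⁻¹ * e.out)) • gact k ((e.out : N) : G) u) (fun d => rfl),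
    ← sum_sub_distrib]
  refine sum_mem fun d _ => ?_
  obtain ⟨q, hq⟩ := QuotientGroup.mk_out_eq_mul (P.subgroupOf N) (c.out * d.out)
  rw [QuotientGroup.mk_mul, QuotientGroup.out_eq', QuotientGroup.out_eq'] at hq
  rw [hq, mul_assoc c.out, inv_mul_cancel_left, hg _ q (Subgroup.mem_subgroupOf.mp q.2), ← smul_sub]
  refine smul_mem' _ ?_
  rw [Subgroup.coe_mul, Subgroup.coe_mul, ← gact_mul, ← mul_assoc, ← neg_sub]
  exact neg_mem (gact_congr hu _ (Subgroup.mem_subgroupOf.mp q.2))

theorem fop_comm {f : N → k} (hN : N ≤ Subgroup.normalizer (P : Set G)) (hf : IsIdemFun P f)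
    {U : Submodule (MonoidAlgebra k G) V} {u : V} (hu : ∀ π ∈ P, gact k π u - u ∈ U) (n : N) :
    gact k (n : G) (fop P f V u) - fop P f V (gact k (n : G) u) ∈ U := by
  have : (P.subgroupOf N).Normal := Subgroup.normal_subgroupOf_of_le_normalizer hN
  simp only [fop_apply, map_sum, map_smul]
  rw [← Fintype.sum_equiv (MulAut.conj (QuotientGroup.mk n : N ⧸ P.subgroupOf N)).toEquiv
      (fun c => f (MulAut.conj (QuotientGroup.mk n : N ⧸ P.subgroupOf N) c).out •
        gact k (((MulAut.conj (QuotientGroup.mk n : N ⧸ P.subgroupOf N) c).out : N) : G) (gact k (n : G) u))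
      (fun c => f c.out • gact k ((c.out : N) : G) (gact k (n : G) u)) (fun c => rfl), ← sum_sub_distrib]
  refine sum_mem fun c _ => ?_
  obtain ⟨q, hq⟩ := QuotientGroup.mk_out_eq_mul (P.subgroupOf N) (n * c.out * n⁻¹)
  rw [QuotientGroup.mk_mul, QuotientGroup.mk_mul, QuotientGroup.out_eq', QuotientGroup.mk_inv] at hq
  rw [MulAut.conj_apply, hq, hf.right _ q (Subgroup.mem_subgroupOf.mp q.2), hf.conj, ← smul_sub]
  refine smul_mem' _ ?_
  have hqP : ((n : G)⁻¹ * ((q : N) : G) * (n : G)) ∈ P :=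
    ((Subgroup.mem_normalizer_iff''.mp (hN n.2)) _).mp (Subgroup.mem_subgroupOf.mp q.2)
  rw [← gact_mul, ← gact_mul, show (((n * c.out * n⁻¹ * q : N)) : G) * (n : G) =
    (n : G) * ((c.out : N) : G) * ((n : G)⁻¹ * ((q : N) : G) * (n : G)) by push_cast; group, ← neg_sub]
  exact neg_mem (gact_congr hu _ hqP)

theorem nu_fop [Fintype P] (hN : N ≤ Subgroup.normalizer (P : Set G)) (f : N → k) (v : V) :
    fop P f V (nu k P v) = nu k P (fop P f V v) := by
  simp only [fop_apply, map_sum, map_smul]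
  exact sum_congr rfl fun c _ => by rw [nu_comm (hN (c.out : N).2)]

/-- A point of `U / C` for `f`. -/
def IsPointPairF [Fintype P] (f : N → k) (U C : Submodule (MonoidAlgebra k G) V) : Prop :=
  ∃ v ∈ U, (∀ π ∈ P, gact k π v - v ∈ C) ∧ fop P f V v - v ∈ C ∧ ∀ w ∈ U, nu k P w - v ∉ C

/-- A point of a module for `f`. -/
def HasPointF (P : Subgroup G) [Fintype P] [Fintype (N ⧸ P.subgroupOf N)] (f : N → k) (V : Type*)
    [AddCommGroup V] [Module k V]
    [Module (MonoidAlgebra k G) V] [IsScalarTower k (MonoidAlgebra k G) V] : Prop :=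
  ∃ v : V, (∀ π ∈ P, gact k π v = v) ∧ fop P f V v = v ∧ ∀ w, nu k P w ≠ v

variable [Fintype P]

/-- A module with a point has a simple subquotient with a point. -/
theorem exists_simple_pointF [FiniteDimensional k V] (hN : N ≤ Subgroup.normalizer (P : Set G))
    {f : N → k} (hf : IsIdemFun P f) (h : HasPointF P f V) :
    ∃ (U : Submodule (MonoidAlgebra k G) V) (C : Submodule (MonoidAlgebra k G) U),
      IsSimpleModule (MonoidAlgebra k G) (U ⧸ C) ∧ HasPointF P f (U ⧸ C) := by
  classical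
  let dm : Submodule (MonoidAlgebra k G) V → ℕ := fun U => Module.finrank k (U.restrictScalars k)
  have hmono : ∀ {U D : Submodule (MonoidAlgebra k G) V}, U < D → dm U < dm D := fun {U D} hUD => by
    refine Submodule.finrank_lt_finrank_of_lt ?_
    exact lt_of_le_of_ne (fun x hx => hUD.le hx) fun h => hUD.ne
      (Submodule.restrictScalars_injective k _ _ h)
  have hex : ∃ d : ℕ, ∃ U C, C ≤ U ∧ IsPointPairF (P := P) f U C ∧ dm U - dm C = d := by
    obtain ⟨v, hv, hfv, hnu⟩ := h
    refine ⟨_, ⊤, ⊥, bot_le, ⟨v, trivial, fun π hπ => ?_, ?_, fun w _ hw => hnu w ?_⟩, rfl⟩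
    · rw [hv π hπ, sub_self]; exact zero_mem _
    · rw [hfv, sub_self]; exact zero_mem _
    · exact sub_eq_zero.mp ((Submodule.mem_bot _).mp hw)
  obtain ⟨U, C, hCU, ⟨v, hvU, hvP, hvf, hnu⟩, hd⟩ := Nat.find_spec hex
  refine ⟨U, C.submoduleOf U, ?_, ?_⟩
  · rw [isSimpleModule_iff_isCoatom]
    refine ⟨fun htop => ?_, fun D hD => ?_⟩
    · refine hnu 0 (zero_mem _) ?_
      rw [map_zero, zero_sub]
      exact neg_mem (show (⟨v, hvU⟩ : U) ∈ C.submoduleOf U from htop ▸ Submodule.mem_top)
    · set D' := D.map U.subtype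
      have hD'U : D' ≤ U := Submodule.map_subtype_le U D
      have hDD' : ∀ u : U, (u : V) ∈ D' ↔ u ∈ D := fun u =>
        ⟨fun ⟨y, hy, he⟩ => Subtype.ext he ▸ hy, fun hu => ⟨u, hu, rfl⟩⟩
      have hCD' : C < D' := by
        obtain ⟨u, huD, huC⟩ := SetLike.exists_of_lt hD
        exact lt_of_le_of_ne (fun c hc => (hDD' ⟨c, hCU hc⟩).mpr (hD.le (show (⟨c, hCU hc⟩ : U) ∈ C.submoduleOf U from hc)))
          fun h => huC (show (u : V) ∈ C from h ▸ (hDD' u).mpr huD)
      by_contra hne
      have hD'lt : D' < U := lt_of_le_of_ne hD'U fun h => hne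
        (eq_top_iff.mpr fun u _ => (hDD' u).mp (h.ge u.2))
      by_cases hw : ∃ w ∈ U, nu k P w - v ∈ D'
      · obtain ⟨w, hwU, hw⟩ := hw
        set u := v - nu k P w
        have huD : u ∈ D' := by rw [show u = -(nu k P w - v) by simp [u]]; exact neg_mem hw
        have huP : ∀ π ∈ P, gact k π u - u ∈ C := fun π hπ => by
          simp only [u, map_sub, gact_nu (⟨π, hπ⟩ : P) w]
          simpa using hvP π hπ
        set u' := fop P f V u
        have hu'P : ∀ π ∈ P, gact k π u' - u' ∈ C := by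
          intro π hπ
          simp only [u', fop_apply, map_sum, map_smul, ← sum_sub_distrib, ← smul_sub]
          refine sum_mem fun c _ => smul_mem' _ ?_
          have hcn : ((c.out : N) : G)⁻¹ * π * ((c.out : N) : G) ∈ P :=
            ((Subgroup.mem_normalizer_iff''.mp (hN (c.out : N).2)) _).mp hπ
          rw [← gact_mul, show π * ((c.out : N) : G) =
            ((c.out : N) : G) * (((c.out : N) : G)⁻¹ * π * ((c.out : N) : G)) by group]
          exact gact_congr huP _ hcn
        have hu'f : fop P f V u' - u' ∈ C := by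
          have h2 := fop_fop hN (f := f) (g := f) hf.right huP
          rwa [fop_congr (g := f) hf.idem] at h2
        have hu'v : u' - (v - nu k P (fop P f V w)) ∈ C := by
          rw [show u' = fop P f V v - nu k P (fop P f V w) by simp only [u', u, map_sub, nu_fop hN],
            sub_sub_sub_cancel_right]
          exact hvf
        have hpair : IsPointPairF (P := P) f D' C := by
          refine ⟨u', fop_mem f huD, hu'P, hu'f, fun w' hw' hc => ?_⟩
          have hwU' : fop P f V w ∈ U := fop_mem f hwU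
          refine hnu (w' + fop P f V w) (add_mem (hD'U hw') hwU') ?_
          have := add_mem hc hu'v
          rwa [sub_add_sub_cancel, sub_sub_eq_add_sub, ← map_add] at this
        have h3 := Nat.find_min' hex ⟨D', C, hCD'.le, hpair, rfl⟩
        have h4 := hmono hD'lt
        have h5 := hmono hCD'
        omega
      · push Not at hw
        have hpair : IsPointPairF (P := P) f U D' :=
          ⟨v, hvU, fun π hπ => hCD'.le (hvP π hπ), hCD'.le hvf, hw⟩
        have h3 := Nat.find_min' hex ⟨U, D', hD'U, hpair, rfl⟩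
        have h4 := hmono hD'lt
        have h5 := hmono hCD'
        omega
  · refine ⟨Submodule.Quotient.mk ⟨v, hvU⟩, fun π hπ => ?_, ?_, fun w => ?_⟩
    · rw [gact_apply, ← Submodule.Quotient.mk_smul, Submodule.Quotient.eq]
      exact hvP π hπ
    · have h1 : fop P f (U ⧸ C.submoduleOf U) (Submodule.Quotient.mk ⟨v, hvU⟩) =
          Submodule.Quotient.mk (fop P f U ⟨v, hvU⟩) := by
        rw [fop_apply, fop_apply]
        exact (map_sum (C.submoduleOf U).mkQ (fun c : N ⧸ P.subgroupOf N =>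
          f c.out • gact k ((c.out : N) : G) (⟨v, hvU⟩ : U)) Finset.univ).symm
      rw [h1, Submodule.Quotient.eq]
      have h2 : ((fop P f U ⟨v, hvU⟩ : U) : V) = fop P f V v := by
        rw [fop_apply, fop_apply, Submodule.coe_sum]; rfl
      show ((fop P f U ⟨v, hvU⟩ - ⟨v, hvU⟩ : U) : V) ∈ C
      rw [Submodule.coe_sub, h2]
      exact hvf
    · obtain ⟨w, rfl⟩ := Submodule.Quotient.mk_surjective _ w
      intro hc
      refine hnu w w.2 ?_
      have h1 : nu k P (Submodule.Quotient.mk w : U ⧸ C.submoduleOf U) =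
          Submodule.Quotient.mk (nu k P w) := by
        rw [nu_apply, nu_apply]
        exact (map_sum (C.submoduleOf U).mkQ (fun π : P => gact k (π : G) w) Finset.univ).symm
      rw [h1, Submodule.Quotient.eq] at hc
      have h2 : ((nu k P w : U) : V) = nu k P (w : V) := by
        rw [nu_apply, nu_apply, Submodule.coe_sum]; rfl
      have h3 : ((nu k P w - ⟨v, hvU⟩ : U) : V) ∈ C := hc
      rwa [Submodule.coe_sub, h2] at h3

/-- Extension of a rank one map on the kernel to the centraliser of `T`. -/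
theorem exists_lift_rank_one {T : Module.End k V} {i : ℕ} {v w : V} (hw : (T ^ i) w = v) (hv : T v = 0)
    {φ : Module.Dual k V} (hφ : ∀ s, φ ((T ^ (i + 1)) s) = 0) :
    ∃ ξ : Module.End k V, ξ * T = T * ξ ∧ ∀ u, T u = 0 → ξ u = φ u • v := by
  refine ⟨∑ j ∈ range (i + 1), (φ.comp (T ^ j)).smulRight ((T ^ (i - j)) w), ?_, ?_⟩
  · refine LinearMap.ext fun s => ?_
    simp only [Module.End.mul_apply, LinearMap.sum_apply, LinearMap.smulRight_apply, LinearMap.comp_apply,
      map_sum, map_smul]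
    simp only [← Module.End.mul_apply, ← pow_succ', ← pow_succ]
    rw [Finset.sum_range_succ, Finset.sum_range_succ', hφ, zero_smul, add_zero, Nat.sub_zero]
    have hTw : (T ^ (i + 1)) w = 0 := by rw [pow_succ', Module.End.mul_apply, hw]; exact hv
    rw [hTw, smul_zero, add_zero]
    refine Finset.sum_congr rfl fun j hj => ?_
    rw [mem_range] at hj
    rw [show i - (j + 1) + 1 = i - j by omega]
  · intro u hu
    simp only [LinearMap.sum_apply, LinearMap.smulRight_apply, LinearMap.comp_apply]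
    rw [Finset.sum_eq_single_of_mem 0 (by simp) fun j _ hj => by
      obtain ⟨j', rfl⟩ := Nat.exists_eq_succ_of_ne_zero hj
      rw [pow_succ, Module.End.mul_apply, hu, map_zero, map_zero, zero_smul]]
    rw [pow_zero, Module.End.one_apply, Nat.sub_zero, hw]

section unique

variable {p : ℕ} [hp : Fact p.Prime] [CharP k p]
variable [IsAlgClosed k] [Finite G] [FiniteDimensional k V] [IsSimpleModule (MonoidAlgebra k G) V]

set_option maxHeartbeats 1600000 in
/-- A simple module has points for one of orthogonal idempotent functions only. -/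
theorem pointF_unique (hP : Nat.card P = p) (hPN : P ≤ N) (hN : N ≤ Subgroup.normalizer (P : Set G))
    (hTI : ∀ g ∉ N, ∃ π ∈ P, g⁻¹ * π * g ∉ N)
    (hcard : (Fintype.card (N ⧸ P.subgroupOf N) : k) ≠ 0) {f f' : N → k}
    (hf : IsIdemFun P f) (hf' : IsIdemFun P f')
    (horth : ∀ n : N, ∑ c : N ⧸ P.subgroupOf N, f' c.out * f (c.out⁻¹ * n) = 0)
    (h : HasPointF P f V) (h' : HasPointF P f' V) : False := by
  classical
  have := Fintype.ofFinite (G ⧸ N)
  have : (P.subgroupOf N).Normal := Subgroup.normal_subgroupOf_of_le_normalizer hN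
  obtain ⟨v, hv, hvf, hvnu⟩ := h
  obtain ⟨v', hv', hvf', hvnu'⟩ := h'
  have : Nontrivial P := Finite.one_lt_card_iff_nontrivial.mp (by rw [hP]; exact hp.out.one_lt)
  obtain ⟨⟨x, hxP⟩, hx⟩ := exists_ne (1 : P)
  have hx' : x ≠ 1 := fun h => hx (Subtype.ext h)
  set T : Module.End k V := gact k x - 1 with hTdef
  have hnu : nu k P (V := V) = T ^ (p - 1) := nu_eq_pow hP hxP hx'
  have hpow : ∀ j : ℕ, (gact k (x ^ j) : Module.End k V) = (T + 1) ^ j := by
    intro j
    rw [hTdef, sub_add_cancel]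
    induction j with
    | zero => rw [pow_zero, pow_zero]; exact LinearMap.ext fun u => gact_one u
    | succ j ih => rw [pow_succ, pow_succ, ← ih]; exact LinearMap.ext fun u => gact_mul _ _ u
  have hxpow : ∀ π ∈ P, ∃ j : ℕ, x ^ j = π := by
    intro π hπ
    obtain ⟨j, -, hj'⟩ := (mem_zpowers_iff_mem_range_orderOf (x := (⟨x, hxP⟩ : P)) (y := (⟨π, hπ⟩ : P))).mp
        (by rw [zpowers_eq_top_of_prime_card hP hx]; trivial) |> Finset.mem_image.mp
    exact ⟨j, congrArg Subtype.val hj'⟩
  have hker : ∀ u : V, T u = 0 ↔ ∀ π ∈ P, gact k π u = u := by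
    intro u
    refine ⟨fun hu π hπ => ?_, fun hu => by rw [LinearMap.sub_apply, Module.End.one_apply, hu x hxP, sub_self]⟩
    obtain ⟨j, rfl⟩ := hxpow π hπ
    rw [hpow]
    clear hπ
    induction j with
    | zero => rw [pow_zero, Module.End.one_apply]
    | succ j ih => rw [pow_succ, Module.End.mul_apply, LinearMap.add_apply, hu, zero_add, Module.End.one_apply, ih]
  have hmod : ∀ (u : V), (∀ π ∈ P, gact k π u = u) →
      ∀ π ∈ P, gact k π u - u ∈ (⊥ : Submodule (MonoidAlgebra k G) V) := fun u hu π hπ => by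
    rw [hu π hπ, sub_self]; exact zero_mem _
  have hzero : ∀ {a b : V}, a - b ∈ (⊥ : Submodule (MonoidAlgebra k G) V) → a = b :=
    fun h => sub_eq_zero.mp ((Submodule.mem_bot _).mp h)
  -- the filtration is stable
  have hstab : ∀ (n : N) (j : ℕ) (u : V), u ∈ LinearMap.range (T ^ j) →
      gact k (n : G) u ∈ LinearMap.range (T ^ j) := by
    intro n j u hu
    obtain ⟨s, rfl⟩ := hu
    obtain ⟨r, hr⟩ := hxpow _ ((Subgroup.mem_normalizer_iff.mp (hN n.2) x).mp hxP)
    set Q : Module.End k V := ∑ a ∈ range r, (T + 1) ^ a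
    have hQT : Q * T = (T + 1) ^ r - 1 := by
      have := geom_sum_mul (T + 1) r
      rwa [add_sub_cancel_right] at this
    have hc : Commute Q T := Commute.sum_left _ _ _ fun a _ =>
      ((Commute.refl T).add_left (Commute.one_left T)).pow_left a
    have hnT : (gact k (n : G) : Module.End k V) * T = Q * T * gact k (n : G) := by
      rw [hQT, ← hpow, hr, hTdef, mul_sub, sub_mul, mul_one, one_mul]
      congr 1
      refine LinearMap.ext fun u => ?_
      rw [Module.End.mul_apply, Module.End.mul_apply, ← gact_mul, ← gact_mul, inv_mul_cancel_right]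
    have hnTj : ∀ j : ℕ, (gact k (n : G) : Module.End k V) * T ^ j = T ^ j * (Q ^ j * gact k (n : G)) := by
      intro j
      induction j with
      | zero => simp
      | succ j ih =>
        rw [pow_succ T j, ← mul_assoc, ih, mul_assoc (T ^ j), mul_assoc (Q ^ j), hnT, ← mul_assoc (Q ^ j),
          ← mul_assoc (Q ^ j) Q T, ← pow_succ, (hc.pow_left (j + 1)).eq, ← mul_assoc, ← mul_assoc, ← mul_assoc]
    exact ⟨(Q ^ j * gact k (n : G) : Module.End k V) s, (LinearMap.congr_fun (hnTj j) s).symm⟩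
  have hexi : ∃ i, v ∉ LinearMap.range (T ^ (i + 1)) := by
    refine ⟨p - 2, ?_⟩
    have := hp.out.two_le
    rw [show p - 2 + 1 = p - 1 by omega, ← hnu]
    rintro ⟨w, hw⟩
    exact hvnu w hw
  set i := Nat.find hexi
  have hi : v ∉ LinearMap.range (T ^ (i + 1)) := Nat.find_spec hexi
  have hip : i + 1 ≤ p - 1 := by
    have h2 := hp.out.two_le
    have : i ≤ p - 2 := Nat.find_min' hexi (by
      rw [show p - 2 + 1 = p - 1 by omega, ← hnu]
      rintro ⟨w, hw⟩
      exact hvnu w hw)
    omega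
  have hvi : v ∈ LinearMap.range (T ^ i) := by
    by_cases hi0 : i = 0
    · exact ⟨v, by rw [hi0, pow_zero, Module.End.one_apply]⟩
    · have := Nat.find_min hexi (show i - 1 < i by omega)
      rw [not_not, show i - 1 + 1 = i by omega] at this
      exact this
  set X : Submodule k V := LinearMap.ker T ⊓ LinearMap.ker (fop P f V - 1) ⊓ LinearMap.range (T ^ i) with hX
  set R : Submodule k V := LinearMap.range (T ^ (i + 1)) with hR
  have hXmem : ∀ u, u ∈ X ↔ (T u = 0 ∧ fop P f V u = u) ∧ u ∈ LinearMap.range (T ^ i) := fun u => by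
    simp only [hX, Submodule.mem_inf, LinearMap.mem_ker, LinearMap.sub_apply, Module.End.one_apply, sub_eq_zero]
  have hvX : v ∈ X := (hXmem v).mpr ⟨⟨(hker v).mpr hv, hvf⟩, hvi⟩
  have hfixN : ∀ (n : N) (u : V), (∀ π ∈ P, gact k π u = u) →
      ∀ π ∈ P, gact k π (gact k (n : G) u) = gact k (n : G) u := by
    intro n u hu π hπ
    rw [← gact_mul, show π * (n : G) = (n : G) * ((n : G)⁻¹ * π * (n : G)) by group, gact_mul,
      hu _ (((Subgroup.mem_normalizer_iff''.mp (hN n.2)) _).mp hπ)]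
  have hXN : ∀ (n : N) (u : V), u ∈ X → gact k (n : G) u ∈ X := by
    intro n u hu
    obtain ⟨⟨h1, h2⟩, h3⟩ := (hXmem u).mp hu
    refine (hXmem _).mpr ⟨⟨(hker _).mpr (hfixN n u ((hker u).mp h1)), ?_⟩, hstab n i u h3⟩
    rw [← hzero (fop_comm hN hf (hmod u ((hker u).mp h1)) n), h2]
  -- a projection modulo `R`
  let L : X →ₗ[k] V ⧸ R := R.mkQ.comp X.subtype
  let bY := Module.finBasis k (LinearMap.range L)
  have hlift : ∀ j, ∃ x : X, L x = (bY j : V ⧸ R) := fun j => (bY j).2
  choose xv hxv using hlift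
  have hcoord : ∀ j, ∃ g : (V ⧸ R) →ₗ[k] k, g.comp (LinearMap.range L).subtype = bY.coord j :=
    fun j => LinearMap.exists_extend _
  choose g hg using hcoord
  let φ : _ → Module.Dual k V := fun j => (g j).comp R.mkQ
  have hφR : ∀ j s, φ j ((T ^ (i + 1)) s) = 0 := fun j s => by
    simp only [φ, LinearMap.comp_apply, Submodule.mkQ_apply]
    rw [(Submodule.Quotient.mk_eq_zero R).mpr (LinearMap.mem_range_self _ s), map_zero]
  have hproj : ∀ u ∈ X, u - ∑ j, φ j u • (xv j : V) ∈ R := by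
    intro u hu
    rw [← Submodule.Quotient.mk_eq_zero]
    have h1 := congrArg Subtype.val (bY.sum_repr ⟨L ⟨u, hu⟩, LinearMap.mem_range_self _ _⟩)
    rw [Submodule.coe_sum] at h1
    rw [← Submodule.mkQ_apply, map_sub, map_sum, sub_eq_zero]
    refine (h1.symm.trans ?_ : R.mkQ u = _)
    refine Finset.sum_congr rfl fun j _ => ?_
    rw [Submodule.coe_smul, map_smul, ← hxv j]
    congr 1
    exact (LinearMap.congr_fun (hg j) ⟨L ⟨u, hu⟩, LinearMap.mem_range_self _ _⟩).symm
  have hxi : ∀ j, ∃ ξ : Module.End k V, ξ * T = T * ξ ∧ ∀ u, T u = 0 → ξ u = φ j u • (xv j : V) := fun j => by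
    obtain ⟨⟨h1, -⟩, ⟨w, hw⟩⟩ := (hXmem _).mp (xv j).2
    exact exists_lift_rank_one hw h1 (hφR j)
  choose ξ hξT hξk using hxi
  let Ξ : Module.End k V := ∑ j, ξ j
  have hΞT : Ξ * T = T * Ξ := by simp only [Ξ, Finset.sum_mul, Finset.mul_sum, hξT]
  have hΞker : ∀ u, T u = 0 → Ξ u = ∑ j, φ j u • (xv j : V) := fun u hu => by
    simp only [Ξ, LinearMap.sum_apply, hξk _ u hu]
  have hΞP : ∀ π ∈ P, Commute Ξ (gact k π) := by
    intro π hπ
    obtain ⟨j, rfl⟩ := hxpow π hπ
    rw [hpow]
    exact (Commute.add_right hΞT (Commute.one_right Ξ)).pow_right j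
  let Φ : Module.End k V := (Fintype.card (N ⧸ P.subgroupOf N) : k)⁻¹ •
    ∑ c : N ⧸ P.subgroupOf N, gact k ((c.out : N) : G) ∘ₗ Ξ ∘ₗ gact k ((c.out : N) : G)⁻¹
  have hΦN : ∀ n : N, ∀ u, Φ (gact k (n : G) u) = gact k (n : G) (Φ u) := by
    intro n u
    simp only [Φ, LinearMap.smul_apply, LinearMap.sum_apply, LinearMap.comp_apply, map_smul, map_sum]
    congr 1
    refine (Fintype.sum_equiv (Equiv.mulLeft (QuotientGroup.mk n : N ⧸ P.subgroupOf N)) _ _ fun c => ?_).symm
    have hmk : (QuotientGroup.mk (n * c.out) : N ⧸ P.subgroupOf N) = QuotientGroup.mk n * c := by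
      rw [QuotientGroup.mk_mul, QuotientGroup.out_eq']
    obtain ⟨q, hq⟩ := QuotientGroup.mk_out_eq_mul (P.subgroupOf N) (n * c.out)
    rw [hmk] at hq
    rw [Equiv.coe_mulLeft, hq]
    simp only [Subgroup.coe_mul, mul_inv_rev, gact_mul, gact_inv]
    have hqP : ((q : N) : G) ∈ P := Subgroup.mem_subgroupOf.mp q.2
    have h1 : ∀ z, Ξ (gact k ((q : N) : G)⁻¹ z) = gact k ((q : N) : G)⁻¹ (Ξ z) :=
      fun z => LinearMap.congr_fun (hΞP _ (P.inv_mem hqP)).eq z
    rw [h1, ← gact_mul ((q : N) : G), mul_inv_cancel, gact_one]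
  have hΦX : ∀ u, (∀ π ∈ P, gact k π u = u) → Φ u ∈ X := by
    intro u hu
    simp only [Φ, LinearMap.smul_apply, LinearMap.sum_apply, LinearMap.comp_apply]
    refine Submodule.smul_mem _ _ (Submodule.sum_mem _ fun c _ => hXN _ _ ?_)
    rw [hΞker _ ((hker _).mpr (by simpa using hfixN (c.out⁻¹) u hu))]
    exact Submodule.sum_mem _ fun j _ => Submodule.smul_mem _ _ (xv j).2
  have hΦid : ∀ u ∈ X, Φ u - u ∈ R := by
    intro u hu
    have : Φ u - u = (Fintype.card (N ⧸ P.subgroupOf N) : k)⁻¹ •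
        ∑ c : N ⧸ P.subgroupOf N, gact k ((c.out : N) : G)
          (Ξ (gact k ((c.out : N) : G)⁻¹ u) - gact k ((c.out : N) : G)⁻¹ u) := by
      have h1 : ∀ c : N ⧸ P.subgroupOf N,
          gact k ((c.out : N) : G) (gact k ((c.out : N) : G)⁻¹ u) = u := fun c => by
        rw [← gact_mul, mul_inv_cancel, gact_one]
      simp only [Φ, LinearMap.smul_apply, LinearMap.sum_apply, LinearMap.comp_apply, map_sub, h1, smul_sub,
        Finset.sum_sub_distrib, Finset.sum_const, Finset.card_univ, ← Nat.cast_smul_eq_nsmul k, smul_smul,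
        inv_mul_cancel₀ hcard, one_smul]
    rw [this]
    refine Submodule.smul_mem _ _ (Submodule.sum_mem _ fun c _ => hstab _ _ _ ?_)
    have hu' : gact k ((c.out : N) : G)⁻¹ u ∈ X := by simpa using hXN c.out⁻¹ u hu
    rw [hΞker _ ((hXmem _).mp hu').1.1, ← neg_sub]
    exact Submodule.neg_mem _ (hproj _ hu')
  have hΦv' : Φ v' = 0 := by
    have hw := hΦX v' hv'
    set w := Φ v'
    obtain ⟨⟨hwT, hwf⟩, -⟩ := (hXmem w).mp hw
    have hcomm : Φ (fop P f' V v') = fop P f' V w := by
      simp only [fop_apply, map_sum, map_smul, hΦN, w]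
    rw [hvf'] at hcomm
    calc w = fop P f' V (fop P f V w) := by rw [hwf]; exact hcomm
      _ = fop P (fun _ : N => (0 : k)) V w := by
        rw [← fop_congr (V := V) (P := P) (g := fun _ : N => (0 : k)) horth]
        exact hzero (fop_fop hN hf.right (hmod w ((hker w).mp hwT)))
      _ = 0 := by simp [fop_apply]
  -- the trace from `N` to `G`
  have hΦinv : ∀ n : N, ∀ u, gact k (n : G) (Φ (gact k (n : G)⁻¹ u)) = Φ u := fun n u => by
    rw [← hΦN, ← gact_mul, mul_inv_cancel, gact_one]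
  let g₀ : G ⧸ N → G := fun c => c.out
  let F : G ⧸ N → Module.End k V := fun c => gact k (g₀ c) ∘ₗ Φ ∘ₗ gact k (g₀ c)⁻¹
  have hF : ∀ (g : G) u, F (QuotientGroup.mk g) u = gact k g (Φ (gact k g⁻¹ u)) := by
    intro g u
    obtain ⟨q, hq⟩ := QuotientGroup.mk_out_eq_mul N g
    simp only [F, g₀, hq, LinearMap.comp_apply, mul_inv_rev, gact_mul]
    rw [hΦinv q]
  have hFc : ∀ (h : G) c u, F (h • c) u = gact k h (F c (gact k h⁻¹ u)) := by
    intro h c u
    obtain ⟨g, rfl⟩ := QuotientGroup.mk_surjective c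
    rw [MulAction.Quotient.smul_mk, hF, hF, smul_eq_mul, mul_inv_rev, gact_mul, gact_mul]
  let Ψ₀ : Module.End k V := ∑ c, F c
  have hΨ₀ : ∀ (h : G) u, Ψ₀ (gact k h u) = gact k h (Ψ₀ u) := by
    intro h u
    simp only [Ψ₀, LinearMap.sum_apply, map_sum]
    refine (Fintype.sum_equiv (MulAction.toPerm h) _ _ fun c => ?_).symm
    rw [MulAction.toPerm_apply, hFc, gact_inv]
  let Ψ : Module.End (MonoidAlgebra k G) V :=
    { toFun := Ψ₀
      map_add' := map_add _
      map_smul' := fun a u => by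
        induction a using MonoidAlgebra.induction_linear with
        | zero => simp
        | add f g hf hg =>
          rw [RingHom.id_apply] at hf hg ⊢
          rw [add_smul, map_add, hf, hg, add_smul]
        | single g r =>
          rw [RingHom.id_apply, show MonoidAlgebra.single g r = r • MonoidAlgebra.single g (1 : k) by simp,
            smul_assoc, smul_assoc, map_smul, ← gact_apply, ← gact_apply, hΨ₀] }
  obtain ⟨c₀, hc₀⟩ := (IsSimpleModule.algebraMap_end_bijective_of_isAlgClosed k (A := MonoidAlgebra k G) (V := V)).2 Ψ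
  have hkey : ∀ u, (∀ π : P, gact k (π : G) u = u) → c₀ • u - Φ u ∈ LinearMap.range (nu k P (V := V)) := by
    intro u hu
    have h1 : c₀ • u = ∑ c, F c u := by
      rw [← LinearMap.sum_apply]
      exact LinearMap.congr_fun hc₀ u
    have h2 : Φ u = F (QuotientGroup.mk 1) u := by rw [hF, inv_one, gact_one, gact_one]
    rw [h1, h2]
    refine sum_cosets_sub_mem_range hP hPN hTI (fun c => F c u) fun π c => ?_
    rw [hFc, show gact k (π : G)⁻¹ u = u by rw [← Subgroup.coe_inv]; exact hu _]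
  have hnuR : LinearMap.range (nu k P (V := V)) ≤ R := by
    rintro _ ⟨s, rfl⟩
    refine ⟨(T ^ (p - 1 - (i + 1))) s, ?_⟩
    rw [← Module.End.mul_apply, ← pow_add, show i + 1 + (p - 1 - (i + 1)) = p - 1 by omega, hnu]
  have hk1 : (c₀ - 1) • v ∈ R := by
    have h1 := Submodule.add_mem _ (hnuR (hkey v fun π => hv π π.2)) (hΦid v hvX)
    rwa [sub_add_sub_cancel, show c₀ • v - v = (c₀ - 1) • v by rw [sub_smul, one_smul]] at h1
  have hc1 : c₀ = 1 := by
    by_contra hc
    refine hi ?_
    have := R.smul_mem (c₀ - 1)⁻¹ hk1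
    rwa [inv_smul_smul₀ (sub_ne_zero.mpr hc)] at this
  have hk2 := hkey v' fun π => hv' π π.2
  rw [hΦv', hc1, one_smul, sub_zero] at hk2
  obtain ⟨z, hz⟩ := hk2
  exact hvnu' z hz

end unique

section central

variable [Fintype G] {p : ℕ} [hp : Fact p.Prime] [CharP k p] {E : MonoidAlgebra k G}

/-- The right `P`-invariant elements fixed by `E`. -/
def fixedModule (E : MonoidAlgebra k G) (hEc : ∀ a, a * E = E * a) (P : Subgroup G) :
    Submodule (MonoidAlgebra k G) (MonoidAlgebra k G) where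
  carrier := {w | E * w = w ∧ ∀ (g : G), ∀ π ∈ P, w.coeff (g * π) = w.coeff g}
  add_mem' {a b} ha hb := ⟨by rw [mul_add, ha.1, hb.1], fun g π hπ => by
    simp only [MonoidAlgebra.coeff_add, Finsupp.add_apply, ha.2 g π hπ, hb.2 g π hπ]⟩
  zero_mem' := ⟨mul_zero _, fun g π hπ => by simp⟩
  smul_mem' a w hw := ⟨by rw [smul_eq_mul, ← mul_assoc, ← hEc, mul_assoc, hw.1],
    fun g π hπ => by
      rw [smul_eq_mul, coeff_mul_eq_sum, coeff_mul_eq_sum]
      refine Finset.sum_congr rfl fun h _ => ?_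
      rw [← mul_assoc h⁻¹, hw.2 _ π hπ]⟩

set_option maxHeartbeats 800000 in
theorem hasPointF_fixedModule (hP : Nat.card P = p) (hPN : P ≤ N)
    (hN : N ≤ Subgroup.normalizer (P : Set G)) (hCN : Subgroup.centralizer (P : Set G) ≤ N)
    (hE : E * E = E) (hEc : ∀ a, a * E = E * a)
    [DecidablePred (· ∈ Subgroup.centralizer (P : Set G))]
    {f : N → k} (hf : IsIdemFun P f) {n₀ : N} (hn₀ : f n₀ ≠ 0)
    (hfix : ∑ h : G, (if hh : h ∈ Subgroup.centralizer (P : Set G) then
      E.coeff h * f (⟨h, hCN hh⟩⁻¹ * n₀) else 0) = f n₀) :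
    HasPointF P f (fixedModule E hEc P) := by
  classical
  have hnP : (P.subgroupOf N).Normal := Subgroup.normal_subgroupOf_of_le_normalizer hN
  have hleft : ∀ (q n : N), (q : G) ∈ P → f (q * n) = f n := fun q n hq => by
    rw [show q * n = n * (n⁻¹ * q * n) by group]
    exact hf.right n _ (Subgroup.mem_subgroupOf.mp (hnP.conj_mem' q hq n))
  obtain ⟨u, hu'⟩ : ∃ u : MonoidAlgebra k G, ∀ x, u.coeff x = if h : x ∈ N then f ⟨x, h⟩ else 0 :=
    ⟨ofFun fun x => if h : x ∈ N then f ⟨x, h⟩ else 0, fun x => by rw [coeff_ofFun]⟩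
  have hur : ∀ (g : G), ∀ π ∈ P, u.coeff (g * π) = u.coeff g := by
    intro g π hπ
    rw [hu', hu']
    by_cases hg : g ∈ N
    · rw [dif_pos hg, dif_pos (N.mul_mem hg (hPN hπ))]
      exact hf.right ⟨g, hg⟩ ⟨π, hPN hπ⟩ hπ
    · rw [dif_neg hg, dif_neg (fun h => hg ((N.mul_mem_cancel_right (hPN hπ)).mp h))]
  have hul : ∀ π ∈ P, ∀ (g : G), u.coeff (π * g) = u.coeff g := by
    intro π hπ g
    rw [hu', hu']
    by_cases hg : g ∈ N
    · rw [dif_pos hg, dif_pos (N.mul_mem (hPN hπ) hg)]
      exact hleft ⟨π, hPN hπ⟩ ⟨g, hg⟩ hπ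
    · rw [dif_neg hg, dif_neg (fun h => hg ((N.mul_mem_cancel_left (hPN hπ)).mp h))]
  have hWu : E * u ∈ fixedModule E hEc P := ⟨by rw [← mul_assoc, hE], fun g π hπ => by
    rw [coeff_mul_eq_sum, coeff_mul_eq_sum]
    refine Finset.sum_congr rfl fun h _ => ?_
    rw [← mul_assoc h⁻¹, hur _ π hπ]⟩
  have hone : (E * u).coeff n₀ = f n₀ := by
    let _ : MulAction P G :=
      { smul := fun x g => (x : G) * g * (x : G)⁻¹
        one_smul := fun g => show ((1 : P) : G) * g * ((1 : P) : G)⁻¹ = g by simp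
        mul_smul := fun x y g => show ((x * y : P) : G) * g * ((x * y : P) : G)⁻¹ =
          (x : G) * ((y : G) * g * (y : G)⁻¹) * (x : G)⁻¹ by push_cast; group }
    rw [coeff_mul_eq_sum, sum_eq_sum_fixedPoints (p := p) (IsPGroup.of_card (n := 1) (by rwa [pow_one])) _
      (fun x g => ?_), ← hfix]
    · rw [Finset.sum_filter]
      refine Finset.sum_congr rfl fun h _ => ?_
      have hiff : (∀ x : P, x • h = h) ↔ h ∈ Subgroup.centralizer (P : Set G) := by
        rw [Subgroup.mem_centralizer_iff]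
        exact ⟨fun h x hx => mul_inv_eq_iff_eq_mul.mp (h ⟨x, hx⟩),
          fun h x => mul_inv_eq_iff_eq_mul.mpr (h x x.2)⟩
      by_cases hh : h ∈ Subgroup.centralizer (P : Set G)
      · rw [if_pos (MulAction.mem_fixedPoints.mpr (hiff.mpr hh)), dif_pos hh, hu', dif_pos (N.mul_mem (N.inv_mem (hCN hh)) n₀.2)]
        rfl
      · rw [if_neg (fun h' => hh (hiff.mp (MulAction.mem_fixedPoints.mp h'))), dif_neg hh]
    · change E.coeff ((x : G) * g * (x : G)⁻¹) * u.coeff (((x : G) * g * (x : G)⁻¹)⁻¹ * n₀) =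
        E.coeff g * u.coeff (g⁻¹ * n₀)
      rw [(mem_center_iff E).mp (Subsemiring.mem_center_iff.mpr hEc) g x]
      congr 1
      have hx2 : (n₀ : G)⁻¹ * (x : G)⁻¹ * (n₀ : G) ∈ P :=
        ((Subgroup.mem_normalizer_iff''.mp (hN n₀.2)) _).mp (P.inv_mem x.2)
      rw [show ((x : G) * g * (x : G)⁻¹)⁻¹ * (n₀ : G) =
        (x : G) * ((g⁻¹ * n₀) * ((n₀ : G)⁻¹ * (x : G)⁻¹ * (n₀ : G))) by group, hul _ x.2, hur _ _ hx2]
  refine ⟨⟨E * u, hWu⟩, fun π hπ => Subtype.ext ?_, Subtype.ext ?_, fun w hw => ?_⟩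
  · change MonoidAlgebra.single π (1 : k) * (E * u) = E * u
    rw [← mul_assoc, hEc, mul_assoc]
    congr 1
    refine MonoidAlgebra.coeff_injective (Finsupp.ext fun g => ?_)
    rw [MonoidAlgebra.single_mul_apply, one_mul, hul _ (P.inv_mem hπ)]
  · rw [fop_apply, Submodule.coe_sum]
    change ∑ c : N ⧸ P.subgroupOf N, f c.out • (MonoidAlgebra.single ((c.out : N) : G) (1 : k) * (E * u)) = E * u
    have hcm : ∀ c : N ⧸ P.subgroupOf N, f c.out • (MonoidAlgebra.single ((c.out : N) : G) (1 : k) * (E * u)) =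
        E * (f c.out • (MonoidAlgebra.single ((c.out : N) : G) (1 : k) * u)) := fun c => by
      rw [← mul_assoc, hEc, mul_assoc, mul_smul_comm]
    rw [Finset.sum_congr rfl fun c _ => hcm c, ← Finset.mul_sum]
    congr 1
    refine MonoidAlgebra.coeff_injective (Finsupp.ext fun g => ?_)
    simp only [MonoidAlgebra.coeff_sum, Finsupp.finsetSum_apply, MonoidAlgebra.coeff_smul, Finsupp.smul_apply,
      MonoidAlgebra.single_mul_apply, one_mul, smul_eq_mul]
    by_cases hg : g ∈ N
    · rw [hu' g, dif_pos hg, ← hf.idem ⟨g, hg⟩]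
      refine Finset.sum_congr rfl fun c _ => ?_
      rw [hu', dif_pos (N.mul_mem (N.inv_mem (c.out : N).2) hg)]
      rfl
    · rw [hu' g, dif_neg hg]
      refine Finset.sum_eq_zero fun c _ => ?_
      rw [hu', dif_neg (fun h => hg ((N.mul_mem_cancel_left (N.inv_mem (c.out : N).2)).mp h)), mul_zero]
  · have h1 := congrArg (fun z : fixedModule E hEc P => (z : MonoidAlgebra k G).coeff n₀) hw
    simp only [hone, nu_apply, Submodule.coe_sum, MonoidAlgebra.coeff_sum, Finsupp.finsetSum_apply] at h1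
    refine hn₀ (h1.symm.trans ?_)
    have h2 : ∀ π : P, ((gact k (π : G) w : fixedModule E hEc P) : MonoidAlgebra k G).coeff n₀ =
        (w : MonoidAlgebra k G).coeff n₀ := fun π => by
      rw [show ((gact k (π : G) w : fixedModule E hEc P) : MonoidAlgebra k G) =
        gact k (π : G) (w : MonoidAlgebra k G) from rfl, coeff_gact]
      have hx2 : (n₀ : G)⁻¹ * (π : G)⁻¹ * (n₀ : G) ∈ P :=
        ((Subgroup.mem_normalizer_iff''.mp (hN n₀.2)) _).mp (P.inv_mem π.2)
      rw [show (π : G)⁻¹ * (n₀ : G) = (n₀ : G) * ((n₀ : G)⁻¹ * (π : G)⁻¹ * (n₀ : G)) by group]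
      exact w.2.2 _ _ hx2
    rw [Finset.sum_congr rfl fun π _ => h2 π, Finset.sum_const, Finset.card_univ, nsmul_eq_mul,
      ← Nat.card_eq_fintype_card, hP, CharP.cast_eq_zero, zero_mul]

/-- Independent class functions fixed by `E` from modules with points for orthogonal functions. -/
theorem exists_class_functions_of_pointsF [IsAlgClosed k] (hP : Nat.card P = p) (hPN : P ≤ N)
    (hN : N ≤ Subgroup.normalizer (P : Set G))
    (hTI : ∀ g ∉ N, ∃ π ∈ P, g⁻¹ * π * g ∉ N)
    (hcard : (Fintype.card (N ⧸ P.subgroupOf N) : k) ≠ 0)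
    {ι : Type*} [Fintype ι] (f : ι → N → k) (hf : ∀ m, IsIdemFun P (f m))
    (horth : ∀ m m', m ≠ m' → ∀ n : N, ∑ c : N ⧸ P.subgroupOf N, f m c.out * f m' (c.out⁻¹ * n) = 0)
    (V : ι → Type*) [∀ m, AddCommGroup (V m)] [∀ m, Module k (V m)]
    [∀ m, Module (MonoidAlgebra k G) (V m)] [∀ m, IsScalarTower k (MonoidAlgebra k G) (V m)]
    [∀ m, FiniteDimensional k (V m)] (hV : ∀ m (v : V m), E • v = v) (hVp : ∀ m, HasPointF P (f m) (V m)) :
    ∃ z : ι → G → k, (∀ m g h, z m (h * g * h⁻¹) = z m g) ∧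
      (∀ m g, ∑ h : G, z m h * E.coeff (h⁻¹ * g) = z m g) ∧
      (∀ m (a h : G), Commute a h → (∃ j : ℕ, a ^ p ^ j = 1) → z m (a * h) = z m h) ∧
      ∀ c : ι → k, (∀ g : G, ∑ m, c m * z m g = 0) → c = 0 := by
  classical
  choose U Cq hsimple hpoint using fun m =>
    exists_simple_pointF (V := V m) hN (hf m) (hVp m)
  have hfd : ∀ m, FiniteDimensional k (U m ⧸ Cq m) := fun m => by
    have : Module.Finite k (U m) :=
      Module.Finite.of_injective ((U m).subtype.restrictScalars k) Subtype.val_injective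
    exact Module.Finite.of_surjective ((Cq m).mkQ.restrictScalars k) (Submodule.Quotient.mk_surjective _)
  have hne : ∀ i j, i ≠ j → IsEmpty ((U i ⧸ Cq i) ≃ₗ[MonoidAlgebra k G] (U j ⧸ Cq j)) := by
    intro i j hij
    refine ⟨fun e => ?_⟩
    have := hsimple j
    refine pointF_unique (V := U j ⧸ Cq j) hP hPN hN hTI hcard (hf i) (hf j) (horth j i hij.symm) ?_ (hpoint j)
    obtain ⟨v, hv, hvf, hnu⟩ := hpoint i
    refine ⟨e v, fun π hπ => ?_, ?_, fun w hw => hnu (e.symm w) ?_⟩
    · rw [gact_apply, ← map_smul, ← gact_apply, hv π hπ]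
    · conv_rhs => rw [← hvf]
      rw [fop_apply, fop_apply, map_sum]
      refine Finset.sum_congr rfl fun c _ => ?_
      rw [gact_apply, gact_apply, ← map_smul]
      exact (e.toLinearMap.map_smul_of_tower _ _).symm
    · apply e.injective
      rw [← hw, nu_apply, nu_apply, map_sum]
      refine Finset.sum_congr rfl fun π _ => ?_
      rw [gact_apply, gact_apply, map_smul, LinearEquiv.apply_symm_apply]
  have hES : ∀ m (s : U m ⧸ Cq m), E • s = s := by
    intro m s
    obtain ⟨s, rfl⟩ := Submodule.Quotient.mk_surjective _ s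
    rw [← Submodule.Quotient.mk_smul]
    congr 1
    exact Subtype.ext (hV m s.1)
  refine ⟨fun m g => traceForm k (U m ⧸ Cq m) g⁻¹, fun m g h => ?_, fun m g => ?_, fun m a h hah ha => ?_,
    fun c hc => ?_⟩
  · dsimp only
    rw [show (h * g * h⁻¹)⁻¹ = h * g⁻¹ * h⁻¹ by group, traceForm_conj]
  · have h1 : LinearMap.trace k (U m ⧸ Cq m) (Algebra.lsmul k k (U m ⧸ Cq m)
        (E * MonoidAlgebra.single g⁻¹ 1)) = traceForm k (U m ⧸ Cq m) g⁻¹ := by
      rw [traceForm, gact]
      congr 1
      exact LinearMap.ext fun s => by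
        simp only [Algebra.lsmul_coe, mul_smul]
        exact hES m _
    have h2 : E * MonoidAlgebra.single g⁻¹ 1 =
        ∑ h : G, E.coeff (h⁻¹ * g) • MonoidAlgebra.single h⁻¹ (1 : k) := by
      refine MonoidAlgebra.coeff_injective (Finsupp.ext fun x => ?_)
      rw [MonoidAlgebra.coeff_sum, Finsupp.finsetSum_apply, Finset.sum_eq_single x⁻¹]
      · simp
      · intro b _ hb
        rw [MonoidAlgebra.coeff_smul, Finsupp.smul_apply, MonoidAlgebra.coeff_single, Finsupp.single_apply,
          if_neg (fun h => hb (by rw [← h, inv_inv])), smul_zero]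
      · simp
    dsimp only
    rw [← h1, h2, map_sum, map_sum]
    refine Finset.sum_congr rfl fun h _ => ?_
    rw [map_smul, map_smul, smul_eq_mul, mul_comm]
    rfl
  · obtain ⟨j, hj⟩ := ha
    simp only [mul_inv_rev]
    rw [← hah.inv_inv.eq]
    exact traceForm_mul (U m ⧸ Cq m) hah.inv_inv (n := j) (by rw [inv_pow, hj, inv_one])
  · have := hsimple
    refine trace_forms_independent (k := k) (A := MonoidAlgebra k G) (fun m => U m ⧸ Cq m) hne c fun a => ?_
    induction a using MonoidAlgebra.induction_linear with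
    | zero => simp
    | add f g hf hg =>
      simp only [map_add, mul_add, Finset.sum_add_distrib, hf, hg, add_zero]
    | single g r =>
      have h2 := hc g⁻¹
      rw [show MonoidAlgebra.single g r = r • MonoidAlgebra.single g (1 : k) by simp]
      simp only [map_smul, smul_eq_mul, inv_inv] at h2 ⊢
      calc ∑ m, c m * (r * LinearMap.trace k (U m ⧸ Cq m)
            (Algebra.lsmul k k (U m ⧸ Cq m) (MonoidAlgebra.single g (1 : k))))
          = r * ∑ m, c m * traceForm k (U m ⧸ Cq m) g := by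
            rw [Finset.mul_sum]
            refine Finset.sum_congr rfl fun m _ => ?_
            rw [traceForm, gact]; ring
        _ = 0 := by rw [h2, mul_zero]

/-- Independent class functions fixed by `E` from orthogonal idempotent functions on `N / P`. -/
theorem exists_class_functions_of_idemFun [IsAlgClosed k] (hP : Nat.card P = p) (hPN : P ≤ N)
    (hN : N ≤ Subgroup.normalizer (P : Set G)) (hCN : Subgroup.centralizer (P : Set G) ≤ N)
    (hTI : ∀ g ∉ N, ∃ π ∈ P, g⁻¹ * π * g ∉ N)
    (hcard : (Fintype.card (N ⧸ P.subgroupOf N) : k) ≠ 0)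
    (hE : E * E = E) (hEc : ∀ a, a * E = E * a)
    [DecidablePred (· ∈ Subgroup.centralizer (P : Set G))]
    {ι : Type*} [Fintype ι] (f : ι → N → k) (hf : ∀ m, IsIdemFun P (f m))
    (horth : ∀ m m', m ≠ m' → ∀ n : N, ∑ c : N ⧸ P.subgroupOf N, f m c.out * f m' (c.out⁻¹ * n) = 0)
    (n₀ : ι → N) (hn₀ : ∀ m, f m (n₀ m) ≠ 0)
    (hfix : ∀ m, ∑ h : G, (if hh : h ∈ Subgroup.centralizer (P : Set G) then
      E.coeff h * f m (⟨h, hCN hh⟩⁻¹ * n₀ m) else 0) = f m (n₀ m)) :
    ∃ z : ι → G → k, (∀ m g h, z m (h * g * h⁻¹) = z m g) ∧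
      (∀ m g, ∑ h : G, z m h * E.coeff (h⁻¹ * g) = z m g) ∧
      (∀ m (a h : G), Commute a h → (∃ j : ℕ, a ^ p ^ j = 1) → z m (a * h) = z m h) ∧
      ∀ c : ι → k, (∀ g : G, ∑ m, c m * z m g = 0) → c = 0 :=
  have hfd : FiniteDimensional k (fixedModule E hEc P) :=
    Module.Finite.of_injective ((fixedModule E hEc P).subtype.restrictScalars k) Subtype.val_injective
  exists_class_functions_of_pointsF hP hPN hN hTI hcard f hf horth (fun _ => fixedModule E hEc P)
    (fun _ v => Subtype.ext v.2.1)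
    fun m => hasPointF_fixedModule hP hPN hN hCN hE hEc (hf m) (hn₀ m) (hfix m)

end central

end CfsgLib.Blocks.Points
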