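import Cfsg.Agent.Lib.Blocks.CyclicSetup
import Cfsg.Agent.Lib.Blocks.PointsGen
import Mathlib.LinearAlgebra.Dual.Lemmas
import Mathlib.RingTheory.RootsOfUnity.AlgebraicallyClosed

/-!
# Points at the subgroup of order `p` for a block with cyclic defect group

For an `e`-th root of unity `t` a point of a module is an eigenvector of `X` for `t` in the corner which
is killed by `n` and is not in the image of `n ^ (q - 1)`. A simple module has points for one root only
and every root occurs in the block, so the block has at least `e` irreducible Brauer characters.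
-/

set_option autoImplicit false
set_option maxHeartbeats 1000000
set_option synthInstance.maxHeartbeats 200000

noncomputable section

namespace CfsgLib.Blocks.Cyclic

open Cfsg CfsgLib.Blocks CfsgLib.BlockArith CfsgLib.Char CfsgLib.BrauerPairs CfsgLib.NilBlock CfsgLib.Modular

attribute [local instance] resField

universe u

variable {G : Type u} [Group G] [Fintype G] {p : ℕ} [hp : Fact p.Prime] {M : Ideal AlgInt} [M.IsMaximal]

/-- The restriction of an element to a subgroup. -/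
def rest (H : Subgroup G) (a : KG M G) : KG M G :=
  open scoped Classical in ofFun fun y => if y ∈ H then a.coeff y else 0

omit hp in
theorem coeff_rest (H : Subgroup G) (a : KG M G) (y : G) [Decidable (y ∈ H)] :
    (rest H a).coeff y = if y ∈ H then a.coeff y else 0 := by
  rw [rest, coeff_ofFun]; split_ifs <;> rfl

omit hp in
theorem suppIn_rest (H : Subgroup G) (a : KG M G) : SuppIn H (rest H a) := fun y hy => by
  classical
  rw [coeff_rest, if_neg hy]

omit hp in
theorem rest_eq_self {H : Subgroup G} {a : KG M G} (ha : SuppIn H a) : rest H a = a := ext_coeff fun y => by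
  classical
  rw [coeff_rest]; split_ifs with h
  · rfl
  · rw [ha y h]

omit hp in
theorem rest_mul_right {H : Subgroup G} (a : KG M G) {b : KG M G} (hb : SuppIn H b) :
    rest H (a * b) = rest H a * b := ext_coeff fun y => by
  classical
  rw [coeff_rest, coeff_mul_eq_sum, coeff_mul_eq_sum]
  split_ifs with hy
  · refine Finset.sum_congr rfl fun z _ => ?_
    rw [coeff_rest]; split_ifs with hz
    · rfl
    · rw [hb _ fun h => hz (by simpa using H.mul_mem hy (H.inv_mem h)), mul_zero, mul_zero]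
  · refine (Finset.sum_eq_zero fun z _ => ?_).symm
    rw [coeff_rest]; split_ifs with hz
    · rw [hb _ fun h => hy (by simpa using H.mul_mem hz h), mul_zero]
    · rw [zero_mul]

omit hp in
theorem rest_mul_left {H : Subgroup G} {a : KG M G} (ha : SuppIn H a) (b : KG M G) :
    rest H (a * b) = a * rest H b := ext_coeff fun y => by
  classical
  rw [coeff_rest, coeff_mul_eq_sum, coeff_mul_eq_sum]
  split_ifs with hy
  · refine Finset.sum_congr rfl fun z _ => ?_
    by_cases hz : z ∈ H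
    · rw [coeff_rest, if_pos (H.mul_mem (H.inv_mem hz) hy)]
    · rw [ha z hz, zero_mul, zero_mul]
  · refine (Finset.sum_eq_zero fun z _ => ?_).symm
    by_cases hz : z ∈ H
    · rw [coeff_rest, if_neg fun h => hy (by simpa using H.mul_mem hz h), mul_zero]
    · rw [ha z hz, zero_mul]

omit hp in
/-- An element fixed by the subgroup commutes with the elements supported on it. -/
theorem comm_of_suppIn {H : Subgroup G} {z a : KG M G} (hz : ∀ g ∈ H, cjA g z = z) (ha : SuppIn H a) :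
    z * a = a * z := by
  rw [eq_sum_single a, Finset.mul_sum, Finset.sum_mul]
  refine Finset.sum_congr rfl fun g _ => ?_
  by_cases hg : g ∈ H
  · have h1 : z * MonoidAlgebra.single g (1 : Res M) = MonoidAlgebra.single g 1 * z := by
      conv_lhs => rw [← hz g hg, ← single_mul_mul_single_inv, mul_assoc, MonoidAlgebra.single_mul_single,
        inv_mul_cancel, one_mul, ← MonoidAlgebra.one_def, mul_one]
    rw [show MonoidAlgebra.single g (a.coeff g) = a.coeff g • MonoidAlgebra.single g 1 by simp, mul_smul_comm,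
      smul_mul_assoc, h1]
  · rw [ha g hg]; simp

section module

variable (V : Type*) [AddCommGroup V] [Module (Res M) V] [Module (KG M G) V]
  [IsScalarTower (Res M) (KG M G) V]

/-- The action of the group algebra. -/
abbrev act : KG M G →ₐ[Res M] Module.End (Res M) V := Algebra.lsmul (Res M) (Res M) V

variable {V}

omit [Fintype G] hp in
theorem smul_swap (a : KG M G) (r : Res M) (v : V) : a • r • v = r • a • v :=
  (act V a).map_smul r v

end module

variable {B : Set (IrrCharacter G)} {P Z : Subgroup G} {e : ℕ} (D : Corner M B P Z e)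

namespace Corner

omit hp in
theorem bc : D.b₀ * D.e₀ = D.e₀ := by rw [D.hb₀c D.e₀ D.he₀.1, D.he₀b]

omit hp in
theorem inC {a : KG M G} (ha : InCorner (Cen Z) D.e₀ a) : D.e₀ * a = a ∧ a * D.e₀ = a := by
  constructor
  · conv_rhs => rw [← ha.2]
    conv_lhs => rw [← ha.2, ← mul_assoc, ← mul_assoc, D.he₀e₀]
  · conv_rhs => rw [← ha.2]
    conv_lhs => rw [← ha.2, mul_assoc, D.he₀e₀]

omit hp in
theorem inC_mul {a b : KG M G} (ha : InCorner (Cen Z) D.e₀ a) (hb : InCorner (Cen Z) D.e₀ b) :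
    InCorner (Cen Z) D.e₀ (a * b) :=
  ⟨ha.1.mul hb.1, by rw [← mul_assoc, (D.inC ha).1, mul_assoc, (D.inC hb).2]⟩

omit hp in
theorem en : D.e₀ * D.n = D.n := (D.inC D.hn).1

omit hp in
theorem ne' : D.n * D.e₀ = D.n := (D.inC D.hn).2

omit hp in
theorem inC_pow (i : ℕ) : InCorner (Cen Z) D.e₀ (D.n ^ i * D.e₀) := by
  induction i with
  | zero => rw [pow_zero, one_mul]; exact D.he₀
  | succ i ih => rw [pow_succ', mul_assoc]; exact D.inC_mul D.hn ih

omit hp in
theorem inC_pow' {i : ℕ} (hi : 1 ≤ i) : InCorner (Cen Z) D.e₀ (D.n ^ i) := by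
  obtain ⟨i, rfl⟩ := Nat.exists_eq_add_of_le' hi
  have h := D.inC_pow (i + 1)
  rwa [pow_succ, mul_assoc, D.ne', ← pow_succ] at h

omit hp in
theorem eX (j : ℕ) : D.e₀ * (D.X ^ j * D.e₀) = D.X ^ j * D.e₀ := by
  cases j with
  | zero => rw [pow_zero, one_mul, D.he₀e₀]
  | succ j => rw [pow_succ', mul_assoc D.X, ← mul_assoc D.e₀, D.hX.1]

omit hp in
theorem eX' (j : ℕ) : D.e₀ * (D.X' ^ j * D.e₀) = D.X' ^ j * D.e₀ := by
  cases j with
  | zero => rw [pow_zero, one_mul, D.he₀e₀]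
  | succ j => rw [pow_succ', mul_assoc D.X', ← mul_assoc D.e₀, D.hX'.1]

omit hp in
theorem XX'pow (j : ℕ) : D.X ^ j * (D.X' ^ j * D.e₀) = D.e₀ := by
  induction j with
  | zero => rw [pow_zero, pow_zero, one_mul, one_mul]
  | succ j ih =>
    rw [pow_succ, pow_succ' D.X', mul_assoc (D.X ^ j), mul_assoc D.X', ← mul_assoc D.X, D.hXX', D.eX', ih]

omit hp in
theorem X'Xpow (j : ℕ) : D.X' ^ j * (D.X ^ j * D.e₀) = D.e₀ := by
  induction j with
  | zero => rw [pow_zero, pow_zero, one_mul, one_mul]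
  | succ j ih =>
    rw [pow_succ, pow_succ' D.X, mul_assoc (D.X' ^ j), mul_assoc D.X, ← mul_assoc D.X', D.hX'X, D.eX, ih]

omit hp in
/-- An element of the corner killed by `n` is a multiple of `n ^ (q - 1)`. -/
theorem ann {c : KG M G} (hc : InCorner (Cen Z) D.e₀ c) (h : D.n * c = 0) :
    ∃ r, c = D.n ^ (D.q - 1) * r := by
  suffices hm : ∀ m ≤ D.q - 1, ∃ r, InCorner (Cen Z) D.e₀ r ∧ c = D.n ^ m * r by
    obtain ⟨r, -, hr⟩ := hm _ le_rfl
    exact ⟨r, hr⟩
  intro m
  induction m with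
  | zero => exact fun _ => ⟨c, hc, by rw [pow_zero, one_mul]⟩
  | succ m ih =>
    intro hm
    obtain ⟨r, hr, hcr⟩ := ih (by omega)
    obtain ⟨α, r', hr', hrr⟩ := D.hpol r hr
    refine ⟨r', hr', ?_⟩
    have hcn : D.n ^ m * r = α • (D.n ^ m * D.e₀) + D.n ^ (m + 1) * r' := by
      rw [hrr, mul_add, mul_smul_comm, pow_succ, mul_assoc, D.hcomm r' D.n hr' D.hn]
    have h1 : D.n ^ (D.q - 2 - m) * (D.n * c) = α • D.n ^ (D.q - 1) := by
      rw [hcr, hcn, mul_add, mul_smul_comm, ← mul_assoc, ← mul_assoc, ← pow_succ', ← pow_succ', mul_add,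
        mul_smul_comm, ← mul_assoc, ← pow_add, ← mul_assoc, ← pow_add,
        show D.q - 2 - m + (m + 1) = D.q - 1 by omega,
        show D.q - 2 - m + (m + 1 + 1) = D.q by have := D.hq; omega, D.hnq, zero_mul, add_zero]
      congr 1
      exact (D.inC (D.inC_pow' (by omega))).2
    rw [h, mul_zero] at h1
    have hα : α = 0 := (smul_eq_zero.mp h1.symm).resolve_right D.hntop
    rw [hcr, hcn, hα, zero_smul, zero_add]

omit hp in
/-- An operator commuting with `e₀` and `n` commutes with the corner. -/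
theorem corner_commute {V : Type*} [AddCommGroup V] [Module (Res M) V] [Module (KG M G) V]
    [IsScalarTower (Res M) (KG M G) V] {ξ : Module.End (Res M) V} (he : Commute ξ (act V D.e₀))
    (hn : Commute ξ (act V D.n)) {a : KG M G} (ha : InCorner (Cen Z) D.e₀ a) : Commute ξ (act V a) := by
  suffices hm : ∀ m ≤ D.q, ∀ b, InCorner (Cen Z) D.e₀ b → Commute ξ (act V (b * D.n ^ (D.q - m))) by
    have := hm _ le_rfl a ha
    rwa [Nat.sub_self, pow_zero, mul_one] at this
  intro m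
  induction m with
  | zero => intro _ b _; rw [Nat.sub_zero, D.hnq, mul_zero, map_zero]; exact Commute.zero_right _
  | succ m ih =>
    intro hm b hb
    obtain ⟨c, r, hr, hbr⟩ := D.hpol b hb
    have hsplit : b * D.n ^ (D.q - (m + 1)) =
        c • (D.e₀ * D.n ^ (D.q - (m + 1))) + r * D.n ^ (D.q - m) := by
      rw [hbr, add_mul, smul_mul_assoc, mul_assoc, ← pow_succ',
        show D.q - (m + 1) + 1 = D.q - m by omega]
    rw [hsplit, map_add, map_smul, map_mul (act V) D.e₀, map_pow]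
    exact ((he.mul_right (hn.pow_right _)).smul_right _).add_right (ih (by omega) r hr)

omit hp in
theorem suppK_of_suppC {a : KG M G} (ha : SuppIn (Cen Z) a) : SuppIn D.K a := fun y hy =>
  ha y fun h => hy (D.hCK h)

omit hp in
theorem b₀_comm {a : KG M G} (ha : SuppIn D.K a) : D.b₀ * a = a * D.b₀ := comm_of_suppIn D.hb₀K ha

/-- The projection onto the eigenvalue. -/
def pf (t : Res M) : KG M G :=
  (e : Res M)⁻¹ • ∑ j ∈ Finset.range e, (t ^ j)⁻¹ • (D.X ^ j * D.e₀)

omit hp in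
theorem e_pf (t : Res M) : D.e₀ * D.pf t = D.pf t := by
  rw [pf, mul_smul_comm, Finset.mul_sum]
  simp only [mul_smul_comm, D.eX]

omit hp in
theorem pf_e (t : Res M) : D.pf t * D.e₀ = D.pf t := by
  rw [pf, smul_mul_assoc, Finset.sum_mul]
  simp only [smul_mul_assoc, mul_assoc, D.he₀e₀]

omit hp in
theorem suppK_pf (t : Res M) : SuppIn D.K (D.pf t) := by
  refine suppIn_smul _ ?_
  refine Finset.sum_induction _ (SuppIn D.K) (fun a b => suppIn_add) (fun y _ => by simp) fun j _ => ?_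
  exact suppIn_smul _ ((suppIn_pow D.hXK j).mul (D.suppK_of_suppC D.he₀.1))

omit hp in
theorem n_pf (t : Res M) : ∃ s, D.n * D.pf t = s * D.n := by
  rw [pf, mul_smul_comm, Finset.mul_sum]
  obtain ⟨s, hs⟩ : ∃ s, ∑ j ∈ Finset.range e, D.n * ((t ^ j)⁻¹ • (D.X ^ j * D.e₀)) = s * D.n := by
    refine Finset.sum_induction _ (fun x => ∃ s, x = s * D.n) (fun a b ⟨s, hs⟩ ⟨s', hs'⟩ => ?_)
      ⟨0, (zero_mul _).symm⟩ fun j hj => ?_
    · exact ⟨s + s', by rw [hs, hs', add_mul]⟩
    · obtain ⟨r, -, hr, -⟩ := D.hnX ⟨j, Finset.mem_range.mp hj⟩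
      exact ⟨(t ^ j)⁻¹ • (D.X ^ j * r), by rw [mul_smul_comm, hr, smul_mul_assoc, mul_assoc]⟩
  exact ⟨(e : Res M)⁻¹ • s, by rw [hs, smul_mul_assoc]⟩

omit hp in
theorem pf_top (t : Res M) : ∃ s, D.pf t * D.n ^ (D.q - 1) = D.n ^ (D.q - 1) * s := by
  rw [pf, smul_mul_assoc, Finset.sum_mul]
  obtain ⟨s, hs⟩ : ∃ s, ∑ j ∈ Finset.range e, (t ^ j)⁻¹ • (D.X ^ j * D.e₀) * D.n ^ (D.q - 1) =
      D.n ^ (D.q - 1) * s := by
    refine Finset.sum_induction _ (fun x => ∃ s, x = D.n ^ (D.q - 1) * s) (fun a b ⟨s, hs⟩ ⟨s', hs'⟩ => ?_)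
      ⟨0, (mul_zero _).symm⟩ fun j _ => ?_
    · exact ⟨s + s', by rw [hs, hs', mul_add]⟩
    · obtain ⟨s, hs⟩ := D.hXn j
      refine ⟨(t ^ j)⁻¹ • s, ?_⟩
      rw [smul_mul_assoc, mul_assoc, (D.inC (D.inC_pow' (by have := D.hq; omega))).1, hs, mul_smul_comm]
  exact ⟨(e : Res M)⁻¹ • s, by rw [hs, mul_smul_comm]⟩

omit hp in
theorem X_pf {t : Res M} (ht : t ^ e = 1) : ∃ s, D.X * D.pf t = t • D.pf t + s * D.n := by
  obtain ⟨r, -, hr⟩ := D.hXe
  have hepos : 0 < e := Nat.pos_of_ne_zero fun h => D.he (by rw [h, Nat.cast_zero])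
  have ht0 : t ≠ 0 := fun h => by rw [h, zero_pow hepos.ne'] at ht; exact zero_ne_one ht
  refine ⟨((e : Res M)⁻¹ * t) • r, ?_⟩
  have hsum : D.X * ∑ j ∈ Finset.range e, (t ^ j)⁻¹ • (D.X ^ j * D.e₀) -
      t • ∑ j ∈ Finset.range e, (t ^ j)⁻¹ • (D.X ^ j * D.e₀) = t • (r * D.n) := by
    rw [Finset.mul_sum, Finset.smul_sum, ← Finset.sum_sub_distrib]
    have h1 : ∀ j : ℕ, D.X * ((t ^ j)⁻¹ • (D.X ^ j * D.e₀)) - t • (t ^ j)⁻¹ • (D.X ^ j * D.e₀) =
        t • (t ^ (j + 1))⁻¹ • (D.X ^ (j + 1) * D.e₀) - t • (t ^ j)⁻¹ • (D.X ^ j * D.e₀) := fun j => by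
      rw [mul_smul_comm, ← mul_assoc, ← pow_succ', smul_smul t ((t ^ (j + 1))⁻¹), pow_succ t, mul_inv,
        mul_comm (t ^ j)⁻¹,
        ← mul_assoc, mul_inv_cancel₀ ht0, one_mul]
    rw [Finset.sum_congr rfl fun j _ => h1 j,
      Finset.sum_range_sub (fun j => t • (t ^ j)⁻¹ • (D.X ^ j * D.e₀)), ht, pow_zero, inv_one, one_smul,
      pow_zero, one_smul, one_mul, hr, smul_add, add_sub_cancel_left]
  rw [pf, mul_smul_comm, smul_comm t, smul_mul_assoc, mul_smul, ← hsum, smul_sub, add_sub_cancel]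

variable {V : Type*} [AddCommGroup V] [Module (Res M) V] [Module (KG M G) V]
  [IsScalarTower (Res M) (KG M G) V]

/-- A point of the subquotient `U / C`. -/
def IsPt (t : Res M) (U C : Submodule (KG M G) V) : Prop :=
  ∃ v ∈ U, D.e₀ • v - v ∈ C ∧ D.n • v ∈ C ∧ D.X • v - t • v ∈ C ∧
    ∀ w ∈ U, D.n ^ (D.q - 1) • w - v ∉ C

/-- A point of a module. -/
def HasPt (t : Res M) (V : Type*) [AddCommGroup V] [Module (Res M) V] [Module (KG M G) V]
    [IsScalarTower (Res M) (KG M G) V] : Prop :=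
  ∃ v : V, D.e₀ • v = v ∧ D.n • v = 0 ∧ D.X • v = t • v ∧ ∀ w : V, D.n ^ (D.q - 1) • w ≠ v

omit hp in
theorem hasPt_congr {W : Type*} [AddCommGroup W] [Module (Res M) W] [Module (KG M G) W]
    [IsScalarTower (Res M) (KG M G) W] (f : V ≃ₗ[KG M G] W) {t : Res M} (h : D.HasPt t V) : D.HasPt t W := by
  obtain ⟨v, h1, h2, h3, h4⟩ := h
  refine ⟨f v, ?_, ?_, ?_, fun w hw => h4 (f.symm w) ?_⟩
  · rw [← map_smul, h1]
  · rw [← map_smul, h2, map_zero]
  · rw [← map_smul, h3, ← algebraMap_smul (KG M G) t v, map_smul, algebraMap_smul]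
  · rw [← map_smul, hw, LinearEquiv.symm_apply_apply]

omit hp in
theorem X_pow_smul {t : Res M} {C : Submodule (KG M G) V} {v : V} (hX : D.X • v - t • v ∈ C) (j : ℕ) :
    D.X ^ j • v - t ^ j • v ∈ C := by
  induction j with
  | zero => rw [pow_zero, pow_zero, one_smul, one_smul, sub_self]; exact zero_mem _
  | succ j ih =>
    have h : D.X ^ (j + 1) • v - t ^ (j + 1) • v =
        D.X • (D.X ^ j • v - t ^ j • v) + t ^ j • (D.X • v - t • v) := by
      rw [smul_sub, smul_sub, smul_swap, smul_smul, smul_smul, ← pow_succ', ← pow_succ, sub_add_sub_cancel]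
    rw [h]
    exact add_mem (C.smul_mem _ ih) (C.smul_of_tower_mem _ hX)

omit hp in
theorem pf_point {t : Res M} (ht : t ^ e = 1) {C : Submodule (KG M G) V} {v : V}
    (he : D.e₀ • v - v ∈ C) (hX : D.X • v - t • v ∈ C) : D.pf t • v - v ∈ C := by
  have hepos : 0 < e := Nat.pos_of_ne_zero fun h => D.he (by rw [h, Nat.cast_zero])
  have ht0 : t ≠ 0 := fun h => by rw [h, zero_pow hepos.ne'] at ht; exact zero_ne_one ht
  have h : D.pf t • v - v =
      (e : Res M)⁻¹ • ∑ j ∈ Finset.range e, (t ^ j)⁻¹ • (D.X ^ j • (D.e₀ • v - v) + (D.X ^ j • v - t ^ j • v)) := by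
    simp only [pf, smul_assoc, Finset.sum_smul, smul_sub, mul_smul, smul_add, Finset.sum_add_distrib,
      Finset.sum_sub_distrib, smul_smul ((t ^ _)⁻¹) (t ^ _), inv_mul_cancel₀ (pow_ne_zero _ ht0), one_smul,
      Finset.sum_const, Finset.card_range, ← Nat.cast_smul_eq_nsmul (Res M), inv_mul_cancel₀ D.he,
      smul_smul ((e : Res M)⁻¹) (e : Res M)]
    abel
  rw [h]
  exact C.smul_of_tower_mem _ (sum_mem fun j _ => C.smul_of_tower_mem _
    (add_mem (C.smul_mem _ he) (D.X_pow_smul hX j)))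

omit hp in
/-- A module with a point has a simple subquotient with a point. -/
theorem exists_simple_pt [FiniteDimensional (Res M) V] {t : Res M} (ht : t ^ e = 1) (h : D.HasPt t V) :
    ∃ (U : Submodule (KG M G) V) (C : Submodule (KG M G) U),
      IsSimpleModule (KG M G) (U ⧸ C) ∧ D.HasPt t (U ⧸ C) := by
  classical
  let dm : Submodule (KG M G) V → ℕ := fun U => Module.finrank (Res M) (U.restrictScalars (Res M))
  have hmono : ∀ {U E : Submodule (KG M G) V}, U < E → dm U < dm E := fun {U E} hUE => by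
    refine Submodule.finrank_lt_finrank_of_lt ?_
    exact lt_of_le_of_ne (fun x hx => hUE.le hx) fun h => hUE.ne
      (Submodule.restrictScalars_injective (Res M) _ _ h)
  have hex : ∃ d : ℕ, ∃ U C, C ≤ U ∧ D.IsPt t U C ∧ dm U - dm C = d := by
    obtain ⟨v, hv, hnv, hXv, hnu⟩ := h
    refine ⟨_, ⊤, ⊥, bot_le, ⟨v, trivial, ?_, ?_, ?_, fun w _ hw => hnu w ?_⟩, rfl⟩
    · rw [hv, sub_self]; exact zero_mem _
    · rw [hnv]; exact zero_mem _
    · rw [hXv, sub_self]; exact zero_mem _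
    · exact sub_eq_zero.mp ((Submodule.mem_bot _).mp hw)
  obtain ⟨U, C, hCU, ⟨v, hvU, hve, hvn, hvX, hnu⟩, hd⟩ := Nat.find_spec hex
  refine ⟨U, C.submoduleOf U, ?_, ?_⟩
  · rw [isSimpleModule_iff_isCoatom]
    refine ⟨fun htop => ?_, fun E hE => ?_⟩
    · refine hnu 0 (zero_mem _) ?_
      rw [smul_zero, zero_sub]
      exact neg_mem (show (⟨v, hvU⟩ : U) ∈ C.submoduleOf U from htop ▸ Submodule.mem_top)
    · obtain ⟨E', hE'⟩ : ∃ E' : Submodule (KG M G) V, E' = E.map U.subtype := ⟨_, rfl⟩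
      have hE'U : E' ≤ U := hE' ▸ Submodule.map_subtype_le U E
      have hEE' : ∀ u : U, (u : V) ∈ E' ↔ u ∈ E := fun u => hE' ▸
        ⟨fun ⟨y, hy, he⟩ => Subtype.ext he ▸ hy, fun hu => ⟨u, hu, rfl⟩⟩
      have hCE' : C < E' := by
        obtain ⟨u, huE, huC⟩ := SetLike.exists_of_lt hE
        exact lt_of_le_of_ne
          (fun c hc => (hEE' ⟨c, hCU hc⟩).mpr (hE.le (show (⟨c, hCU hc⟩ : U) ∈ C.submoduleOf U from hc)))
          fun h => huC (show (u : V) ∈ C from h ▸ (hEE' u).mpr huE)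
      by_contra hne
      have hE'lt : E' < U := lt_of_le_of_ne hE'U fun h => hne
        (eq_top_iff.mpr fun u _ => (hEE' u).mp (h.ge u.2))
      by_cases hw : ∃ w ∈ U, D.n ^ (D.q - 1) • w - v ∈ E'
      · obtain ⟨w, hwU, hw⟩ := hw
        obtain ⟨u, hud⟩ : ∃ u, u = v - D.n ^ (D.q - 1) • w := ⟨_, rfl⟩
        have huE : u ∈ E' := by rw [hud, ← neg_sub]; exact neg_mem hw
        have hue : D.e₀ • u - u ∈ C := by
          rw [hud, smul_sub, smul_smul, (D.inC (D.inC_pow' (by have := D.hq; omega))).1, sub_sub_sub_cancel_right]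
          exact hve
        have hun : D.n • u ∈ C := by
          rw [hud, smul_sub, smul_smul, ← pow_succ', Nat.sub_add_cancel (by have := D.hq; omega), D.hnq,
            zero_smul, sub_zero]
          exact hvn
        obtain ⟨S, hS⟩ := D.pf_top t
        have huv : D.pf t • u - (v - D.n ^ (D.q - 1) • S • w) ∈ C := by
          rw [hud, smul_sub, smul_smul, hS, mul_smul, sub_sub_sub_cancel_right]
          exact D.pf_point ht hve hvX
        have hpair : D.IsPt t E' C := by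
          refine ⟨D.pf t • u, E'.smul_mem _ huE, ?_, ?_, ?_, fun w' hw' hc => ?_⟩
          · rw [smul_smul, D.e_pf, sub_self]; exact zero_mem _
          · obtain ⟨s, hs⟩ := D.n_pf t
            rw [smul_smul, hs, mul_smul]
            exact C.smul_mem _ hun
          · obtain ⟨s, hs⟩ := D.X_pf ht
            rw [smul_smul, hs, add_smul, smul_assoc, add_sub_cancel_left, mul_smul]
            exact C.smul_mem _ hun
          · refine hnu (w' + S • w) (add_mem (hE'U hw') (U.smul_mem _ hwU)) ?_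
            have := add_mem hc huv
            rwa [sub_add_sub_cancel, sub_sub_eq_add_sub, ← smul_add] at this
        have h3 := Nat.find_min' hex ⟨E', C, hCE'.le, hpair, rfl⟩
        have h4 := hmono hE'lt
        have h5 := hmono hCE'
        omega
      · push Not at hw
        have hpair : D.IsPt t U E' := ⟨v, hvU, hCE'.le hve, hCE'.le hvn, hCE'.le hvX, hw⟩
        have h3 := Nat.find_min' hex ⟨U, E', hE'U, hpair, rfl⟩
        have h4 := hmono hE'lt
        have h5 := hmono hCE'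
        omega
  · refine ⟨Submodule.Quotient.mk ⟨v, hvU⟩, ?_, ?_, ?_, fun w => ?_⟩
    · rw [← Submodule.Quotient.mk_smul, Submodule.Quotient.eq]; exact hve
    · rw [← Submodule.Quotient.mk_smul, Submodule.Quotient.mk_eq_zero]; exact hvn
    · rw [← Submodule.Quotient.mk_smul, ← Submodule.Quotient.mk_smul, Submodule.Quotient.eq]; exact hvX
    · obtain ⟨w, rfl⟩ := Submodule.Quotient.mk_surjective _ w
      intro hc
      rw [← Submodule.Quotient.mk_smul, Submodule.Quotient.eq] at hc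
      exact hnu w w.2 hc

section unique

variable [IsAlgClosed (Res M)] [FiniteDimensional (Res M) V] [IsSimpleModule (KG M G) V]

omit hp in
/-- Averaging over the powers of `X` on eigenvectors. -/
theorem sum_eigen {t t' : Res M} (ht' : t' ^ e = 1) (ht : t ^ e = 1) {v' u : V} {ξ1 : Module.End (Res M) V}
    (hve' : D.e₀ • v' = v') (hue : D.e₀ • u = u) (hvX' : D.X • v' = t' • v') (huX : D.X • u = t • u)
    (h1 : ξ1 v' = u) {c : Res M} (hc : (e : Res M)⁻¹ * ∑ j ∈ Finset.range e, (t' ^ j)⁻¹ * t ^ j = c) :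
    ((e : Res M)⁻¹ • ∑ j ∈ Finset.range e, act V (D.X ^ j * D.e₀) * ξ1 * act V (D.X' ^ j * D.e₀)) v' = c • u := by
  have hepos : 0 < e := Nat.pos_of_ne_zero fun h => D.he (by rw [h, Nat.cast_zero])
  have ht'0 : t' ≠ 0 := fun h => by rw [h, zero_pow hepos.ne'] at ht'; exact zero_ne_one ht'
  have hpow : ∀ {s : Res M} {w : V}, D.X • w = s • w → ∀ j : ℕ, D.X ^ j • w = s ^ j • w := by
    intro s w hw j
    exact sub_eq_zero.mp ((Submodule.mem_bot (KG M G)).mp
      (D.X_pow_smul (C := ⊥) (by rw [hw, sub_self]; exact zero_mem _) j))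
  rw [← hc, LinearMap.smul_apply, LinearMap.sum_apply, Finset.mul_sum, Finset.sum_smul, Finset.smul_sum]
  refine Finset.sum_congr rfl fun j _ => ?_
  have h2 : (D.X' ^ j * D.e₀) • v' = (t' ^ j)⁻¹ • v' := by
    have h3 := congrArg (fun w : V => (D.X' ^ j * D.e₀) • w) (hpow hvX' j)
    beta_reduce at h3
    rw [smul_swap, smul_smul, mul_assoc] at h3
    conv_lhs at h3 => rw [← hve', smul_smul, mul_assoc, mul_assoc, D.eX, D.X'Xpow, hve']
    calc (D.X' ^ j * D.e₀) • v' = (t' ^ j)⁻¹ • t' ^ j • (D.X' ^ j * D.e₀) • v' :=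
          (inv_smul_smul₀ (pow_ne_zero _ ht'0) _).symm
      _ = _ := by rw [← h3]
  rw [Module.End.mul_apply, Module.End.mul_apply]
  show (e : Res M)⁻¹ • (D.X ^ j * D.e₀) • ξ1 ((D.X' ^ j * D.e₀) • v') = _
  rw [h2, map_smul, h1, smul_swap, mul_smul (D.X ^ j), hue, hpow huX, smul_smul, smul_smul, mul_assoc]

omit hp in
/-- An operator of rank one type averaged to commute with `X` and the corner. -/
theorem exists_local_op {t : Res M} (ht : t ^ e = 1) {v : V} (hve : D.e₀ • v = v) (hvn : D.n • v = 0)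
    (hvX : D.X • v = t • v) (hvnot : ∀ w : V, D.n ^ (D.q - 1) • w ≠ v) :
    ∃ Φ₀ : Module.End (Res M) V, act V D.e₀ * Φ₀ = Φ₀ ∧ Φ₀ * act V D.e₀ = Φ₀ ∧
      Commute (act V D.n) Φ₀ ∧ Commute (act V D.X) Φ₀ ∧ Φ₀ v = v ∧
      ∀ (t' : Res M) (v' : V), t' ^ e = 1 → t ≠ t' → D.e₀ • v' = v' → D.n • v' = 0 → D.X • v' = t' • v' →
        Φ₀ v' = 0 := by
  classical
  have hepos : 0 < e := Nat.pos_of_ne_zero fun h => D.he (by rw [h, Nat.cast_zero])
  have hq := D.hq
  obtain ⟨T, hT⟩ : ∃ T : Module.End (Res M) V, T = act V D.n := ⟨_, rfl⟩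
  have hTq : ∀ w, (T ^ (D.q - 1)) w = D.n ^ (D.q - 1) • w := fun w => by rw [hT, ← map_pow]; rfl
  have hexi : ∃ i, v ∉ LinearMap.range (T ^ (i + 1)) := by
    refine ⟨D.q - 2, ?_⟩
    rw [show D.q - 2 + 1 = D.q - 1 by omega]
    rintro ⟨w, hw⟩
    exact hvnot w (by rw [← hTq]; exact hw)
  obtain ⟨w, hw⟩ : v ∈ LinearMap.range (T ^ Nat.find hexi) := by
    by_cases hi0 : Nat.find hexi = 0
    · exact ⟨v, by rw [hi0, pow_zero, Module.End.one_apply]⟩
    · have := Nat.find_min hexi (show Nat.find hexi - 1 < Nat.find hexi by omega)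
      rw [not_not, show Nat.find hexi - 1 + 1 = Nat.find hexi by omega] at this
      exact this
  obtain ⟨f₀, hf₀v, hf₀⟩ := Submodule.exists_dual_map_eq_bot_of_notMem (Nat.find_spec hexi) inferInstance
  obtain ⟨φ, hφd⟩ : ∃ φ : Module.Dual (Res M) V, φ = (f₀ v)⁻¹ • f₀ := ⟨_, rfl⟩
  have hφv : φ v = 1 := by rw [hφd, LinearMap.smul_apply, smul_eq_mul, inv_mul_cancel₀ hf₀v]
  have hφ : ∀ s, φ ((T ^ (Nat.find hexi + 1)) s) = 0 := fun s => by
    have h := (Submodule.mem_bot (Res M)).mp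
      (hf₀ ▸ Submodule.mem_map_of_mem (f := f₀) (LinearMap.mem_range_self (T ^ (Nat.find hexi + 1)) s))
    rw [hφd, LinearMap.smul_apply, h, smul_zero]
  have hTv : T v = 0 := by rw [hT]; exact hvn
  obtain ⟨ξ, hξT, hξk⟩ := Points.exists_lift_rank_one hw hTv hφ
  obtain ⟨ξ1, hξ1⟩ : ∃ ξ1, ξ1 = act V D.e₀ * ξ * act V D.e₀ := ⟨_, rfl⟩
  have hξ1e : act V D.e₀ * ξ1 = ξ1 ∧ ξ1 * act V D.e₀ = ξ1 := by
    rw [hξ1]
    exact ⟨by rw [← mul_assoc, ← mul_assoc, ← map_mul, D.he₀e₀],
      by rw [mul_assoc, ← map_mul, D.he₀e₀]⟩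
  have hξ1n : Commute ξ1 (act V D.n) := by
    have hAN : act V D.e₀ * act V D.n = act V D.n := by rw [← map_mul, D.en]
    have hNA : act V D.n * act V D.e₀ = act V D.n := by rw [← map_mul, D.ne']
    rw [hT] at hξT
    rw [Commute, SemiconjBy, hξ1, mul_assoc _ (act V D.e₀) (act V D.n), hAN, mul_assoc (act V D.e₀) ξ, hξT,
      ← mul_assoc (act V D.e₀), hAN, ← mul_assoc (act V D.n), ← mul_assoc (act V D.n), hNA, ← hξT,
      mul_assoc ξ, hNA]
  have hξ1C : ∀ a, InCorner (Cen Z) D.e₀ a → Commute ξ1 (act V a) := fun a ha =>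
    D.corner_commute (show Commute ξ1 (act V D.e₀) from hξ1e.2.trans hξ1e.1.symm) hξ1n ha
  have hξ1v : ξ1 v = v := by
    rw [hξ1, Module.End.mul_apply, Module.End.mul_apply]
    show D.e₀ • ξ (D.e₀ • v) = v
    rw [hve, hξk v hTv, hφv, one_smul, hve]
  obtain ⟨Φ₀, hΦ₀⟩ : ∃ Φ₀ : Module.End (Res M) V, Φ₀ = (e : Res M)⁻¹ •
      ∑ j ∈ Finset.range e, act V (D.X ^ j * D.e₀) * ξ1 * act V (D.X' ^ j * D.e₀) := ⟨_, rfl⟩
  refine ⟨Φ₀, ?_, ?_, ?_, ?_, ?_, ?_⟩
  · rw [hΦ₀, mul_smul_comm, Finset.mul_sum]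
    simp only [← mul_assoc, ← map_mul]
    simp only [mul_assoc D.e₀, D.eX]
  · rw [hΦ₀, smul_mul_assoc, Finset.sum_mul]
    simp only [mul_assoc, ← map_mul, D.he₀e₀]
  · rw [hΦ₀]
    refine Commute.smul_right (Commute.sum_right _ _ _ fun j hj => ?_) _
    obtain ⟨r, hr, hr1, -⟩ := D.hnX ⟨j, Finset.mem_range.mp hj⟩
    have hrn := D.inC_mul hr D.hn
    have h2 : r * D.n * (D.X' ^ j * D.e₀) = D.X' ^ j * D.e₀ * D.n := by
      calc r * D.n * (D.X' ^ j * D.e₀) = D.X' ^ j * (D.X ^ j * D.e₀) * (r * D.n) * (D.X' ^ j * D.e₀) := by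
            rw [D.X'Xpow, (D.inC hrn).1]
        _ = D.X' ^ j * (D.n * (D.X ^ j * D.e₀)) * (D.X' ^ j * D.e₀) := by
            rw [hr1]; simp only [mul_assoc]; rw [← mul_assoc D.e₀ r, (D.inC hr).1]
        _ = D.X' ^ j * (D.n * (D.X ^ j * (D.e₀ * (D.X' ^ j * D.e₀)))) := by simp only [mul_assoc]
        _ = D.X' ^ j * D.e₀ * D.n := by rw [D.eX', D.XX'pow, D.ne', mul_assoc, D.en]
    rw [Commute, SemiconjBy]
    calc act V D.n * (act V (D.X ^ j * D.e₀) * ξ1 * act V (D.X' ^ j * D.e₀))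
        = act V (D.X ^ j) * (act V (r * D.n) * ξ1) * act V (D.X' ^ j * D.e₀) := by
          simp only [← mul_assoc]; rw [← map_mul, hr1, map_mul]
      _ = act V (D.X ^ j) * ξ1 * act V (r * D.n * (D.X' ^ j * D.e₀)) := by
          rw [(hξ1C _ hrn).symm.eq]; simp only [mul_assoc, map_mul]
      _ = act V (D.X ^ j) * (act V D.e₀ * ξ1) * act V (D.X' ^ j * D.e₀ * D.n) := by rw [hξ1e.1, h2]
      _ = _ := by simp only [mul_assoc, map_mul]
  · have hX1 : act V D.X * Φ₀ * act V D.X' = Φ₀ := by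
      rw [hΦ₀, mul_smul_comm, smul_mul_assoc, Finset.mul_sum, Finset.sum_mul]
      congr 1
      have h1 : ∀ j : ℕ, act V D.X * (act V (D.X ^ j * D.e₀) * ξ1 * act V (D.X' ^ j * D.e₀)) * act V D.X' =
          act V (D.X ^ (j + 1) * D.e₀) * ξ1 * act V (D.X' ^ (j + 1) * D.e₀) := fun j => by
        rw [← mul_assoc, ← mul_assoc, ← map_mul, mul_assoc, ← map_mul, ← mul_assoc D.X, ← pow_succ',
          mul_assoc (D.X' ^ j), D.hX'.1, pow_succ D.X', mul_assoc (D.X' ^ j) D.X', D.hX'.2]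
      rw [Finset.sum_congr rfl fun j _ => h1 j]
      obtain ⟨r, hr, hre⟩ := D.hXe
      have hA : InCorner (Cen Z) D.e₀ (D.X ^ e * D.e₀) := by
        rw [hre]
        exact ⟨suppIn_add D.he₀.1 (hr.1.mul D.hn.1),
          by rw [mul_add, add_mul, D.he₀e₀, D.he₀e₀, (D.inC_mul hr D.hn).2]⟩
      have htop : act V (D.X ^ e * D.e₀) * ξ1 * act V (D.X' ^ e * D.e₀) =
          act V (D.X ^ 0 * D.e₀) * ξ1 * act V (D.X' ^ 0 * D.e₀) := by
        rw [← (hξ1C _ hA).eq, mul_assoc, ← map_mul, mul_assoc (D.X ^ e), D.eX', D.XX'pow, hξ1e.2, pow_zero,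
          pow_zero, one_mul, hξ1e.1, hξ1e.2]
      have := Finset.sum_range_succ' (fun j => act V (D.X ^ j * D.e₀) * ξ1 * act V (D.X' ^ j * D.e₀)) e
      rw [Finset.sum_range_succ, htop] at this
      exact add_right_cancel this.symm
    have he1 : Φ₀ * act V D.e₀ = Φ₀ := by
      rw [hΦ₀, smul_mul_assoc, Finset.sum_mul]
      simp only [mul_assoc, ← map_mul, D.he₀e₀]
    rw [Commute, SemiconjBy]
    conv_rhs => rw [← hX1, mul_assoc, ← map_mul, D.hX'X, mul_assoc, he1]
  · rw [hΦ₀]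
    refine (sum_eigen D ht ht hve hve hvX hvX hξ1v (c := 1) ?_).trans (one_smul _ v)
    rw [Finset.sum_congr rfl fun j _ => inv_mul_cancel₀ (pow_ne_zero j ?_), Finset.sum_const,
      Finset.card_range, nsmul_one, inv_mul_cancel₀ D.he]
    intro h; rw [h, zero_pow hepos.ne'] at ht; exact zero_ne_one ht
  · intro t' v' ht' htt hve' hvn' hvX'
    have hTv' : T v' = 0 := by rw [hT]; exact hvn'
    have h1 : ξ1 v' = φ v' • v := by
      rw [hξ1, Module.End.mul_apply, Module.End.mul_apply]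
      show D.e₀ • ξ (D.e₀ • v') = _
      rw [hve', hξk v' hTv', smul_swap, hve]
    rw [hΦ₀, sum_eigen D ht' ht hve' (show D.e₀ • (φ v' • v) = φ v' • v by rw [smul_swap, hve]) hvX'
      (show D.X • (φ v' • v) = t • (φ v' • v) by rw [smul_swap, hvX, smul_comm]) h1 (c := 0) ?_, zero_smul]
    have ht'0 : t' ≠ 0 := fun h => by rw [h, zero_pow hepos.ne'] at ht'; exact zero_ne_one ht'
    have h2 : ∀ j : ℕ, (t' ^ j)⁻¹ * t ^ j = (t'⁻¹ * t) ^ j := fun j => by rw [mul_pow, inv_pow]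
    rw [Finset.sum_congr rfl fun j _ => h2 j, geom_sum_eq, mul_pow, inv_pow, ht, ht', inv_one, one_mul,
      sub_self, zero_div, mul_zero]
    intro h
    exact htt (by rw [← mul_one t', ← h, mul_inv_cancel_left₀ ht'0])

omit hp in
/-- **A simple module has points for one root only.** -/
theorem pt_unique {t t' : Res M} (ht : t ^ e = 1) (ht' : t' ^ e = 1) (htt : t ≠ t') (h : D.HasPt t V)
    (h' : D.HasPt t' V) : False := by
  classical
  obtain ⟨v, hve, hvn, hvX, hvnot⟩ := h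
  obtain ⟨v', hve', hvn', hvX', hvnot'⟩ := h'
  obtain ⟨Φ₀, heΦ, hΦe, hnΦ, hXΦ, hΦv, hΦ'⟩ := D.exists_local_op ht hve hvn hvX hvnot
  have hΦv' := hΦ' t' v' ht' htt hve' hvn' hvX'
  -- the extension to `K`
  obtain ⟨Φ, hΦd⟩ : ∃ Φ : Module.End (Res M) V, Φ =
      ∑ i, act V (D.Xg i * D.e₀) * Φ₀ * act V (D.e₀ * D.Yg i) := ⟨_, rfl⟩
  have hXgK : ∀ i, SuppIn D.K (D.Xg i) := fun i => D.suppK_of_suppC (D.hgen.1 i)
  have hYgK : ∀ i, SuppIn D.K (D.Yg i) := fun i => D.suppK_of_suppC (D.hgen.2.1 i)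
  have hloc : ∀ b, SuppIn D.K b → Commute Φ₀ (act V (D.e₀ * b * D.e₀)) := by
    intro b hb
    obtain ⟨w, hw, hbw⟩ := D.hdec b hb
    rw [hbw, map_sum]
    refine Commute.sum_right _ _ _ fun j _ => ?_
    rw [map_mul, map_pow]
    exact (hXΦ.symm.pow_right _).mul_right
      (D.corner_commute (hΦe.trans heΦ.symm) hnΦ.symm (hw j))
  have hΦK : ∀ b, SuppIn D.K b → Commute Φ (act V b) := by
    intro b hb
    have hbΦ : act V D.b₀ * Φ = Φ := by
      rw [hΦd, Finset.mul_sum]
      refine Finset.sum_congr rfl fun i _ => ?_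
      rw [← mul_assoc, ← mul_assoc, ← map_mul, ← mul_assoc, D.b₀_comm (hXgK i), mul_assoc (D.Xg i), D.bc]
    have hΦb : Φ * act V D.b₀ = Φ := by
      rw [hΦd, Finset.sum_mul]
      refine Finset.sum_congr rfl fun i _ => ?_
      rw [mul_assoc, ← map_mul, mul_assoc D.e₀, ← D.b₀_comm (hYgK i), ← mul_assoc D.e₀, D.he₀b]
    have hL : ∑ k, D.Xg k * D.e₀ * D.Yg k = D.b₀ := D.hgen.2.2
    symm
    rw [Commute, SemiconjBy]
    calc act V b * Φ = act V (D.b₀ * b) * Φ := by
          rw [D.b₀_comm hb, map_mul, mul_assoc, hbΦ]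
      _ = ∑ k, ∑ i, act V (D.Xg k) * (act V (D.e₀ * (D.Yg k * b * D.Xg i) * D.e₀) * Φ₀) *
            act V (D.e₀ * D.Yg i) := by
          rw [← hL, hΦd, Finset.sum_mul, map_sum, Finset.sum_mul]
          simp only [Finset.mul_sum, map_mul, mul_assoc]
      _ = ∑ k, ∑ i, act V (D.Xg k * D.e₀) * Φ₀ * act V (D.e₀ * D.Yg k * b * (D.Xg i * D.e₀ * D.Yg i)) := by
          refine Finset.sum_congr rfl fun k _ => Finset.sum_congr rfl fun i _ => ?_
          rw [(hloc _ (((hYgK k).mul hb).mul (hXgK i))).symm.eq, map_mul (act V) (D.Xg k) D.e₀,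
            mul_assoc (act V (D.Xg k)) (act V D.e₀), heΦ]
          simp only [map_mul, mul_assoc]
          rw [← mul_assoc (act V D.e₀) (act V D.e₀) (act V (D.Yg i)), ← map_mul, D.he₀e₀]
      _ = ∑ k, act V (D.Xg k * D.e₀) * Φ₀ * act V (D.e₀ * D.Yg k * b * D.b₀) := by
          simp only [← Finset.mul_sum, ← map_sum, hL]
      _ = Φ * act V (b * D.b₀) := by
          rw [hΦd, Finset.sum_mul]
          simp only [map_mul, mul_assoc]
      _ = Φ * act V b := by
          rw [← D.b₀_comm hb, map_mul, ← mul_assoc, hΦb]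
  have hΦ0 : ∀ w : V, D.e₀ • w = w → Φ w = Φ₀ w ∧ D.e₀ • Φ w = Φ w := by
    intro w hw
    have hc := LinearMap.congr_fun (hΦK _ (D.suppK_of_suppC D.he₀.1)).eq w
    rw [Module.End.mul_apply, Module.End.mul_apply] at hc
    change Φ (D.e₀ • w) = D.e₀ • Φ w at hc
    rw [hw] at hc
    refine ⟨?_, hc.symm⟩
    have h1 : act V D.e₀ * Φ = Φ₀ * act V D.b₀ := by
      rw [hΦd, Finset.mul_sum, ← D.hgen.2.2, map_sum, Finset.mul_sum]
      refine Finset.sum_congr rfl fun i _ => ?_
      rw [← mul_assoc, ← mul_assoc, ← map_mul, ← mul_assoc, ← (hloc _ (hXgK i)).eq]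
      simp only [mul_assoc, map_mul]
      rw [← mul_assoc (act V D.e₀) (act V D.e₀), ← map_mul, D.he₀e₀, ← mul_assoc Φ₀, hΦe]
    have h2 := LinearMap.congr_fun h1 w
    rw [Module.End.mul_apply, Module.End.mul_apply] at h2
    change D.e₀ • Φ w = Φ₀ (D.b₀ • w) at h2
    rw [← hc] at h2
    rw [h2, ← hw, smul_smul, D.bc, hw]
  -- the trace to `G`
  let _ := Fintype.ofFinite (G ⧸ P)
  obtain ⟨Φ', hΦ'd⟩ : ∃ Φ' : Module.End (Res M) V, Φ' = (e : Res M)⁻¹ • (Φ * act V D.d) := ⟨_, rfl⟩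
  obtain ⟨g', hg'⟩ : ∃ g' : G → Module.End (Res M) V, g' = fun g => act V (MonoidAlgebra.single g 1) :=
    ⟨_, rfl⟩
  have hgm : ∀ a b : G, g' (a * b) = g' a * g' b := fun a b => by
    rw [hg']; beta_reduce; rw [← map_mul, MonoidAlgebra.single_mul_single, one_mul]
  have hg1 : g' 1 = 1 := by rw [hg']; beta_reduce; rw [← MonoidAlgebra.one_def, map_one]
  have hcjg : ∀ (g : G) (a : KG M G), g' g * act V a * g' g⁻¹ = act V (cjA g a) := fun g a => by
    rw [hg']; beta_reduce; rw [← map_mul, ← map_mul, single_mul_mul_single_inv]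
  have hPK : ∀ π ∈ P, π ∈ D.K := fun π hπ => D.hCK (D.hPC hπ)
  have hsK : ∀ g ∈ D.K, Commute Φ (g' g) := fun g hg => by
    rw [hg']
    refine hΦK _ fun y hy => ?_
    rw [MonoidAlgebra.coeff_single, Finsupp.single_apply, if_neg fun h : g = y => hy (h ▸ hg)]
  have hΦ'P : ∀ π ∈ P, Commute Φ' (g' π) := by
    intro π hπ
    rw [hΦ'd]
    refine (Commute.mul_left (hsK π (hPK π hπ)) ?_).smul_left _
    rw [Commute, SemiconjBy]
    calc act V D.d * g' π = g' π * act V D.d * g' π⁻¹ * g' π := by rw [hcjg, D.hdP π hπ]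
      _ = _ := by rw [mul_assoc, ← hgm, inv_mul_cancel, hg1, mul_one]
  obtain ⟨F, hFd⟩ : ∃ F : G ⧸ P → Module.End (Res M) V, F = fun c => g' c.out * Φ' * g' c.out⁻¹ := ⟨_, rfl⟩
  have hF : ∀ g : G, F (QuotientGroup.mk g) = g' g * Φ' * g' g⁻¹ := by
    intro g
    obtain ⟨π, hπ⟩ := QuotientGroup.mk_out_eq_mul P g
    rw [hFd]; beta_reduce
    rw [hπ, hgm, mul_inv_rev, hgm, mul_assoc (g' g), ← (hΦ'P π π.2).eq, ← mul_assoc, ← mul_assoc,
      mul_assoc (g' g * Φ'), ← hgm, mul_inv_cancel, hg1, mul_one]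
  have hFc : ∀ (g : G) c, F (g • c) = g' g * F c * g' g⁻¹ := by
    intro g c
    obtain ⟨y, rfl⟩ := QuotientGroup.mk_surjective c
    rw [MulAction.Quotient.smul_mk, hF, hF, smul_eq_mul, hgm, mul_inv_rev, hgm]
    simp only [mul_assoc]
  have hSumG : ∀ g : G, Commute (g' g) (∑ c, F c) := by
    intro g
    rw [Commute, SemiconjBy, Finset.mul_sum, Finset.sum_mul]
    refine Fintype.sum_equiv (MulAction.toPerm g) _ _ fun c => ?_
    rw [MulAction.toPerm_apply, hFc, mul_assoc (g' g * F c), ← hgm, inv_mul_cancel, hg1, mul_one]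
  obtain ⟨Ψ₀, hΨ₀⟩ : ∃ Ψ₀ : Module.End (Res M) V, Ψ₀ = ∑ c, F c := ⟨_, rfl⟩
  let Ψ : Module.End (KG M G) V :=
    { toFun := Ψ₀
      map_add' := map_add _
      map_smul' := fun a u => by
        induction a using MonoidAlgebra.induction_linear with
        | zero => simp
        | add f g hf hg =>
          rw [RingHom.id_apply] at hf hg ⊢
          rw [add_smul, map_add, hf, hg, add_smul]
        | single g r =>
          rw [RingHom.id_apply, show MonoidAlgebra.single g r = r • MonoidAlgebra.single g (1 : Res M) by simp,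
            smul_assoc, smul_assoc, map_smul]
          congr 1
          have h := LinearMap.congr_fun (hSumG g).eq u
          rw [← hΨ₀, Module.End.mul_apply, Module.End.mul_apply, hg'] at h
          exact h.symm }
  obtain ⟨c₀, hc₀⟩ :=
    (IsSimpleModule.algebraMap_end_bijective_of_isAlgClosed (Res M) (A := KG M G) (V := V)).2 Ψ
  -- the cosets outside the normaliser
  obtain ⟨Ω, hΩ⟩ : ∃ Ω : Finset (G ⧸ P), Ω = Finset.univ.filter fun c : G ⧸ P =>
      c.out ∉ Subgroup.normalizer (Z : Set G) := ⟨_, rfl⟩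
  have hPN : P ≤ Subgroup.normalizer (Z : Set G) := fun π hπ => D.hKN (hPK π hπ)
  have hΩmk : ∀ g : G, (QuotientGroup.mk g : G ⧸ P) ∈ Ω ↔ g ∉ Subgroup.normalizer (Z : Set G) := by
    intro g
    obtain ⟨π, hπ⟩ := QuotientGroup.mk_out_eq_mul P g
    rw [hΩ, Finset.mem_filter, hπ, Subgroup.mul_mem_cancel_right _ (hPN π.2)]
    simp
  have hΩN : ∀ g ∈ Subgroup.normalizer (Z : Set G), ∀ c ∈ Ω, g • c ∈ Ω := by
    intro g hg c hc
    obtain ⟨y, rfl⟩ := QuotientGroup.mk_surjective c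
    rw [MulAction.Quotient.smul_mk, smul_eq_mul, hΩmk, Subgroup.mul_mem_cancel_left _ hg, ← hΩmk]
    exact hc
  have hkey : ∀ w : V, D.e₀ • w = w → D.n • w = 0 → ∃ z, D.n ^ (D.q - 1) • z = c₀ • w - Φ w := by
    intro w hw hnw
    have hbw : D.b₀ • w = w := by rw [← hw, smul_smul, D.bc]
    -- the sum is a trace from `P`
    obtain ⟨rep, hrepd⟩ : ∃ rep : G ⧸ P → G ⧸ P,
        rep = fun c => (Quotient.mk'' c : MulAction.orbitRel.Quotient P (G ⧸ P)).out := ⟨_, rfl⟩
    have hrepo : ∀ c, ∃ π : P, π • rep c = c := fun c => by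
      have h := MulAction.orbitRel_apply.mp
        (Quotient.exact' ((Quotient.mk'' c : MulAction.orbitRel.Quotient P (G ⧸ P)).out_eq').symm)
      rw [hrepd]; beta_reduce
      exact MulAction.mem_orbit_iff.mp h
    have hrepi : ∀ (π : P) c, rep (π • c) = rep c := fun π c => by
      rw [hrepd]; beta_reduce
      exact congrArg Quotient.out (Quotient.sound' (MulAction.orbitRel_apply.mpr (MulAction.mem_orbit _ _)))
    choose pi hpi using hrepo
    have hfree : ∀ c ∈ Ω, ∀ π : P, π • c = c → π = 1 := by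
      intro c hc π hπ
      obtain ⟨y, rfl⟩ := QuotientGroup.mk_surjective c
      by_contra hne
      replace hπ : (π : G) • (QuotientGroup.mk y : G ⧸ P) = QuotientGroup.mk y := hπ
      rw [MulAction.Quotient.smul_mk, QuotientGroup.eq, smul_eq_mul] at hπ
      refine (hΩmk y).mp hc (D.hfree y π⁻¹ (P.inv_mem π.2) (fun h => hne (Subtype.ext ?_)) ?_)
      · simpa using h
      · simpa [mul_assoc] using hπ
    obtain ⟨f, hf⟩ : ∃ f : Module.End (Res M) V, f = ∑ s ∈ Ω.image rep, F s := ⟨_, rfl⟩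
    have hΩs : ∀ s ∈ Ω.image rep, s ∈ Ω ∧ rep s = s := by
      intro s hs
      obtain ⟨c, hc, rfl⟩ := Finset.mem_image.mp hs
      have h := hΩN _ (hPN (P.inv_mem (pi c).2)) c hc
      have h2 : (pi c)⁻¹ • c = rep c := inv_smul_eq_iff.mpr (hpi c).symm
      refine ⟨?_, ?_⟩
      · rw [← h2]; exact h
      · conv_lhs => rw [← h2, hrepi]
    have hR : ∑ c ∈ Ω, F c = ∑ π : P, g' π * f * g' (π : G)⁻¹ := by
      simp only [hf, Finset.mul_sum, Finset.sum_mul]
      rw [← Finset.sum_product']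
      symm
      refine Finset.sum_bij (fun x _ => x.1 • x.2) (fun x hx => ?_) (fun x hx y hy h => ?_) (fun c hc => ?_)
        fun x _ => ?_
      · exact hΩN _ (hPN x.1.2) _ (hΩs _ (Finset.mem_product.mp hx).2).1
      · have hx2 := hΩs _ (Finset.mem_product.mp hx).2
        have hy2 := hΩs _ (Finset.mem_product.mp hy).2
        have h2 : x.2 = y.2 := by rw [← hx2.2, ← hrepi x.1, h, hrepi, hy2.2]
        rw [← h2] at h
        refine Prod.ext (inv_mul_eq_one.mp (hfree _ hx2.1 (y.1⁻¹ * x.1) ?_)).symm h2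
        rw [mul_smul, h, inv_smul_smul]
      · exact ⟨(pi c, rep c), Finset.mem_product.mpr ⟨Finset.mem_univ _, Finset.mem_image_of_mem rep hc⟩, hpi c⟩
      · exact (hFc _ _).symm
    -- the sum is a trace from the trivial subgroup to `C(Z)`
    have hC : (∑ c ∈ Ω, F c) w = ∑ g ∈ Finset.univ.filter (· ∈ Cen Z),
        (g' g * (f * act V D.d) * g' g⁻¹) w := by
      conv_lhs => rw [← hbw, ← D.hdC, Finset.sum_smul, map_sum]
      rw [← LinearMap.sum_apply]
      have h1 : ∀ h ∈ Cen Z, ∀ x : V, (∑ c ∈ Ω, F c) (cjA h D.d • x) =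
          (∑ π : P, g' (h * π) * (f * act V D.d) * g' (h * π)⁻¹) x := by
        intro h hh x
        change ((∑ c ∈ Ω, F c) * act V (cjA h D.d)) x = _
        congr 1
        have hcomm : g' h * (∑ c ∈ Ω, F c) = (∑ c ∈ Ω, F c) * g' h := by
          rw [Finset.mul_sum, Finset.sum_mul]
          refine Finset.sum_equiv (MulAction.toPerm h) (fun c => ?_) fun c _ => ?_
          · refine ⟨hΩN h (D.hKN (D.hCK hh)) c, fun hc => ?_⟩
            simpa using hΩN h⁻¹ (D.hKN (D.hCK (inv_mem hh))) _ hc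
          · rw [MulAction.toPerm_apply, hFc, mul_assoc (g' h * F c), ← hgm, inv_mul_cancel, hg1, mul_one]
        rw [← hcjg, ← mul_assoc, ← mul_assoc, ← hcomm, hR, Finset.mul_sum, Finset.sum_mul, Finset.sum_mul]
        refine Finset.sum_congr rfl fun π _ => ?_
        have hd : g' (π : G)⁻¹ * act V D.d = act V D.d * g' (π : G)⁻¹ := by
          conv_rhs => rw [← D.hdP _ (P.inv_mem π.2), ← hcjg, inv_inv, mul_assoc, ← hgm, mul_inv_cancel, hg1, mul_one]
        rw [hgm, mul_inv_rev, hgm]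
        simp only [mul_assoc]
        rw [← mul_assoc (g' (π : G)⁻¹) (act V D.d), hd]
        simp only [mul_assoc]
      rw [LinearMap.sum_apply, Finset.sum_congr rfl fun c hc => h1 _ (Finset.mem_filter.mp hc).2 w]
      simp only [LinearMap.sum_apply]
      rw [← Finset.sum_product']
      refine Finset.sum_bij (fun x _ => x.1.out * (x.2 : G)) (fun x hx => ?_) (fun x hx y hy h => ?_)
        (fun g hg => ?_) fun x _ => rfl
      · exact Finset.mem_filter.mpr ⟨Finset.mem_univ _,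
          mul_mem (Finset.mem_filter.mp (Finset.mem_product.mp hx).1).2 (D.hPC x.2.2)⟩
      · have h1 : x.1 = y.1 := by
          have h2 := congrArg (QuotientGroup.mk (s := P)) h
          rwa [QuotientGroup.mk_mul_of_mem _ x.2.2, QuotientGroup.mk_mul_of_mem _ y.2.2, QuotientGroup.out_eq',
            QuotientGroup.out_eq'] at h2
        rw [h1] at h
        exact Prod.ext h1 (Subtype.ext (mul_left_cancel h))
      · have hg' := (Finset.mem_filter.mp hg).2
        obtain ⟨π, hπ⟩ := QuotientGroup.mk_out_eq_mul P g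
        refine ⟨(QuotientGroup.mk g, π⁻¹), Finset.mem_product.mpr ⟨Finset.mem_filter.mpr
          ⟨Finset.mem_univ _, by rw [hπ]; exact mul_mem hg' (D.hPC π.2)⟩, Finset.mem_univ _⟩, ?_⟩
        simp [hπ]
    -- the coefficients of a trace are multiples of `n ^ (q - 1)`
    obtain ⟨f', hf'⟩ : ∃ f' : Module.End (Res M) V, f' = f * act V D.d := ⟨_, rfl⟩
    let bb := Module.finBasis (Res M) V
    obtain ⟨a, had⟩ : ∃ a : Fin (Module.finrank (Res M) V) → V → KG M G, a = fun i x =>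
        ∑ g ∈ Finset.univ.filter (· ∈ Cen Z), MonoidAlgebra.single g (bb.coord i (g' g⁻¹ x)) := ⟨_, rfl⟩
    have haS : ∀ i x, SuppIn (Cen Z) (a i x) := fun i x => by
      rw [had]
      refine Finset.sum_induction _ (SuppIn (Cen Z)) (fun a b => suppIn_add) (fun y _ => by simp) fun g hg y hy => ?_
      rw [MonoidAlgebra.coeff_single, Finsupp.single_apply,
        if_neg fun h : g = y => hy (h ▸ (Finset.mem_filter.mp hg).2)]
    have haC : ∀ i y, SuppIn (Cen Z) y → ∀ x, a i (y • x) = y * a i x := by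
      intro i y hy x
      refine ext_coeff fun g => ?_
      have hco : ∀ x g, g ∈ Cen Z → (a i x).coeff g = bb.coord i (g' g⁻¹ x) := fun x g hg => by
        rw [had]; beta_reduce
        rw [MonoidAlgebra.coeff_sum, Finsupp.finsetSum_apply,
          Finset.sum_eq_single g (fun z _ hz => by
            rw [MonoidAlgebra.coeff_single, Finsupp.single_apply, if_neg hz]) (fun h =>
            absurd (Finset.mem_filter.mpr ⟨Finset.mem_univ _, hg⟩) h),
          MonoidAlgebra.coeff_single, Finsupp.single_apply, if_pos rfl]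
      by_cases hg : g ∈ Cen Z
      · rw [hco _ g hg, coeff_mul_eq_sum]
        conv_lhs => rw [eq_sum_single y, Finset.sum_smul, map_sum, map_sum]
        refine Finset.sum_congr rfl fun z _ => ?_
        by_cases hz : z ∈ Cen Z
        · rw [hco _ _ (mul_mem (inv_mem hz) hg), mul_inv_rev, inv_inv, hgm, Module.End.mul_apply,
            show MonoidAlgebra.single z (y.coeff z) = y.coeff z • MonoidAlgebra.single z 1 by simp, smul_assoc,
            map_smul, map_smul, smul_eq_mul, hg']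
          rfl
        · rw [hy z hz]; simp
      · rw [haS i _ g hg, hy.mul (haS i x) g hg]
    have hsum : (∑ g ∈ Finset.univ.filter (· ∈ Cen Z), g' g * f' * g' g⁻¹) w =
        ∑ i, a i w • f' (bb i) := by
      rw [LinearMap.sum_apply, had]
      simp only [Finset.sum_smul]
      rw [Finset.sum_comm]
      refine Finset.sum_congr rfl fun g _ => ?_
      rw [Module.End.mul_apply, Module.End.mul_apply]
      conv_lhs => rw [← bb.sum_repr (g' g⁻¹ w), map_sum, map_sum]
      refine Finset.sum_congr rfl fun i _ => ?_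
      rw [map_smul, map_smul, show MonoidAlgebra.single g (bb.coord i (g' g⁻¹ w)) =
        bb.coord i (g' g⁻¹ w) • MonoidAlgebra.single g 1 by simp, smul_assoc, hg']
      rfl
    have hai : ∀ i, ∃ r, a i w = D.n ^ (D.q - 1) * r := by
      intro i
      have h1 : D.e₀ * a i w = a i w := by rw [← haC i _ D.he₀.1, hw]
      have h2 : D.n * a i w = 0 := by
        rw [← haC i _ D.hn.1, hnw]
        rw [had]; beta_reduce
        simp
      have h3 : a i w = ∑ k, D.e₀ * (a i w * D.Xg k) * D.e₀ * D.Yg k := by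
        calc a i w = D.b₀ * a i w := by rw [← h1, ← mul_assoc, D.bc]
          _ = a i w * D.b₀ := D.hb₀c _ (haS i w)
          _ = _ := by
            rw [← D.hgen.2.2, Finset.mul_sum]
            refine Finset.sum_congr rfl fun k _ => ?_
            rw [← mul_assoc D.e₀, h1]
            simp only [mul_assoc]
      rw [h3]
      refine Finset.sum_induction _ (fun x => ∃ r, x = D.n ^ (D.q - 1) * r) (fun a b ⟨s, hs⟩ ⟨s', hs'⟩ => ?_)
        ⟨0, (mul_zero _).symm⟩ fun k _ => ?_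
      · exact ⟨s + s', by rw [hs, hs', mul_add]⟩
      · obtain ⟨r, hr⟩ := D.ann (c := D.e₀ * (a i w * D.Xg k) * D.e₀)
          ⟨(D.he₀.1.mul ((haS i w).mul (D.hgen.1 k))).mul D.he₀.1, by
            simp only [mul_assoc, D.he₀e₀]; rw [← mul_assoc D.e₀ D.e₀, D.he₀e₀]⟩
          (by rw [← mul_assoc, ← mul_assoc, D.ne', ← mul_assoc, h2, zero_mul, zero_mul])
        exact ⟨r * D.Yg k, by rw [hr, mul_assoc]⟩
    choose r hr using hai
    refine ⟨∑ i, r i • f' (bb i), ?_⟩
    rw [Finset.smul_sum]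
    simp only [smul_smul, ← hr]
    rw [← hsum, hf', LinearMap.sum_apply, ← hC]
    -- the cosets in the normaliser
    have hc₀w : c₀ • w = Ψ₀ w := LinearMap.congr_fun hc₀ w
    rw [hc₀w, hΨ₀, ← Finset.sum_filter_add_sum_filter_not Finset.univ
      (fun c : G ⧸ P => c.out ∈ D.K) F, ← Finset.sum_filter_add_sum_filter_not
      (Finset.univ.filter fun c : G ⧸ P => ¬c.out ∈ D.K)
      (fun c : G ⧸ P => c.out ∈ Subgroup.normalizer (Z : Set G)) F, Finset.filter_filter, Finset.filter_filter]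
    have hin : (∑ c ∈ Finset.univ.filter (fun c : G ⧸ P => c.out ∈ D.K), F c) w = Φ w := by
      have h1 : ∀ c : G ⧸ P, c.out ∈ D.K → F c = (e : Res M)⁻¹ • (Φ * act V (cjA c.out D.d)) := fun c hc => by
        rw [hFd]; beta_reduce
        rw [hΦ'd, mul_smul_comm, smul_mul_assoc, ← hcjg, ← mul_assoc, ← mul_assoc, ← mul_assoc,
          (hsK _ hc).eq]
      rw [Finset.sum_congr rfl fun c hc => h1 c (Finset.mem_filter.mp hc).2, ← Finset.smul_sum, ← Finset.mul_sum,
        ← map_sum, D.hdK, map_smul, mul_smul_comm, smul_smul, inv_mul_cancel₀ D.he, one_smul]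
      change Φ (D.b₀ • w) = _
      rw [hbw]
    have hmid : (∑ c ∈ Finset.univ.filter (fun c : G ⧸ P => ¬c.out ∈ D.K ∧
        c.out ∈ Subgroup.normalizer (Z : Set G)), F c) w = 0 := by
      rw [LinearMap.sum_apply]
      refine Finset.sum_eq_zero fun c hc => ?_
      obtain ⟨hcK, hcN⟩ := (Finset.mem_filter.mp hc).2
      rw [hFd]; beta_reduce
      rw [hΦ'd]
      conv_lhs => rw [← hbw]
      have h0 : D.b₀ * cjA c.out⁻¹ D.b₀ = 0 := by
        have h := congrArg (cjA c.out⁻¹) (D.hb₀N _ hcN hcK)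
        rwa [map_mul, cjA_inv_cjA, map_zero] at h
      have h2 : act V D.d * g' c.out⁻¹ * act V D.b₀ = 0 := by
        conv_lhs => rw [← D.hdb, map_mul, mul_assoc, mul_assoc]
        rw [show g' c.out⁻¹ * act V D.b₀ = act V (cjA c.out⁻¹ D.b₀) * g' c.out⁻¹ by
          rw [← hcjg, inv_inv, mul_assoc, ← hgm, mul_inv_cancel, hg1, mul_one],
          ← mul_assoc (act V D.b₀), ← map_mul, h0, map_zero, zero_mul, mul_zero]
      change ((g' c.out * ((e : Res M)⁻¹ • (Φ * act V D.d)) * g' c.out⁻¹) * act V D.b₀) w = 0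
      rw [mul_smul_comm, smul_mul_assoc, smul_mul_assoc]
      simp only [mul_assoc] at h2 ⊢
      rw [h2, mul_zero, mul_zero, smul_zero, LinearMap.zero_apply]
    have hout : Finset.univ.filter (fun c : G ⧸ P => ¬c.out ∈ D.K ∧
        ¬c.out ∈ Subgroup.normalizer (Z : Set G)) = Ω := by
      rw [hΩ]
      exact Finset.filter_congr fun c _ => ⟨fun h => h.2, fun h => ⟨fun hk => h (D.hKN hk), h⟩⟩
    rw [LinearMap.add_apply, LinearMap.add_apply, hin, hmid, hout, zero_add, add_sub_cancel_left]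
  obtain ⟨z, hz⟩ := hkey v hve hvn
  rw [(hΦ0 v hve).1, hΦv] at hz
  have hc1 : c₀ = 1 := by
    by_contra hc
    refine hvnot ((c₀ - 1)⁻¹ • z) ?_
    rw [smul_swap, hz, show c₀ • v - v = (c₀ - 1) • v by rw [sub_smul, one_smul],
      inv_smul_smul₀ (sub_ne_zero.mpr hc)]
  obtain ⟨z', hz'⟩ := hkey v' hve' hvn'
  rw [(hΦ0 v' hve').1, hΦv', hc1, one_smul, sub_zero] at hz'
  exact hvnot' z' hz'

end unique

omit hp in
/-- **Every root has a point in the block.** -/
theorem hasPt_block (hB : IsPBlock M B) {t : Res M} (ht : t ^ e = 1) :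
    ∃ W : Submodule (KG M G) (KG M G), (∀ w : W, ridem hB • w = w) ∧ D.HasPt t W := by
  classical
  have hepos : 0 < e := Nat.pos_of_ne_zero fun h => D.he (by rw [h, Nat.cast_zero])
  have hq := D.hq
  obtain ⟨E, hEd⟩ : ∃ E : KG M G, E = ridem hB := ⟨_, rfl⟩
  have hEc : ∀ a, E * a = a * E := fun a => hEd ▸ ridem_comm hB a
  have hEE : E * E = E := hEd ▸ ridem_mul_self hB
  let W : Submodule (KG M G) (KG M G) :=
    { carrier := {w | E * w = w ∧ w * D.n = 0}
      add_mem' := fun {a b} ha hb => ⟨by rw [mul_add, ha.1, hb.1], by rw [add_mul, ha.2, hb.2, add_zero]⟩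
      zero_mem' := ⟨mul_zero _, zero_mul _⟩
      smul_mem' := fun a w hw => ⟨by rw [smul_eq_mul, ← mul_assoc, hEc, mul_assoc, hw.1],
        by rw [smul_eq_mul, mul_assoc, hw.2, mul_zero]⟩ }
  refine ⟨W, fun w => Subtype.ext (hEd ▸ w.2.1), ?_⟩
  obtain ⟨v, hvd⟩ : ∃ v, v = E * (D.pf t * D.n ^ (D.q - 1)) := ⟨_, rfl⟩
  have htop : D.n ^ (D.q - 1) * D.n = 0 := by rw [← pow_succ, Nat.sub_add_cancel (by omega), D.hnq]
  have htop' : D.n * D.n ^ (D.q - 1) = 0 := by rw [← pow_succ', Nat.sub_add_cancel (by omega), D.hnq]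
  have hv : v ∈ W := ⟨by rw [hvd, ← mul_assoc, hEE],
    by rw [hvd, mul_assoc E, mul_assoc (D.pf t), htop, mul_zero, mul_zero]⟩
  refine ⟨⟨v, hv⟩, Subtype.ext ?_, Subtype.ext ?_, Subtype.ext ?_, fun w hw => ?_⟩
  · show D.e₀ * v = v
    rw [hvd, ← mul_assoc, ← hEc, mul_assoc, ← mul_assoc D.e₀, D.e_pf]
  · show D.n * v = 0
    obtain ⟨s, hs⟩ := D.n_pf t
    rw [hvd, ← mul_assoc, ← hEc, mul_assoc, ← mul_assoc D.n, hs, mul_assoc s, htop', mul_zero, mul_zero]
  · show D.X * v = t • v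
    obtain ⟨s, hs⟩ := D.X_pf ht
    rw [hvd, ← mul_assoc, ← hEc, mul_assoc, ← mul_assoc D.X, hs, add_mul, mul_assoc s, htop', mul_zero,
      add_zero, smul_mul_assoc, mul_smul_comm]
  · have hw' : D.n ^ (D.q - 1) * (w : KG M G) = v := congrArg Subtype.val hw
    obtain ⟨π₀, hπ₀⟩ : ∃ π₀, π₀ = rest D.K E := ⟨_, rfl⟩
    have hπK : SuppIn D.K π₀ := hπ₀ ▸ suppIn_rest _ _
    have hπc : ∀ a, SuppIn D.K a → π₀ * a = a * π₀ := fun a ha => by
      rw [hπ₀, ← rest_mul_right _ ha, hEc, rest_mul_left ha]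
    have heK : SuppIn D.K D.e₀ := D.suppK_of_suppC D.he₀.1
    have hnK : SuppIn D.K D.n := D.suppK_of_suppC D.hn.1
    have hpowK : SuppIn D.K (D.n ^ (D.q - 1)) := suppIn_pow hnK _
    obtain ⟨y, hy, hyw⟩ := D.hdec π₀ hπK
    rw [mul_assoc, hπc _ heK, ← mul_assoc, D.he₀e₀, ← hπc _ heK] at hyw
    have hy0 : y ⟨0, hepos⟩ = D.e₀ := by
      have h1 := D.hbr₀ y hy
      rw [Finset.sum_eq_single ⟨0, hepos⟩ (fun j _ hj => if_neg fun h => hj (Fin.ext h)) (by simp),
        if_pos rfl, ← hyw] at h1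
      have hbr : ∀ a : KG M G, br Z a = rest (Cen Z) a := fun a => ext_coeff fun g => by
        rw [coeff_br, coeff_rest]
      have hrr : rest (Cen Z) π₀ = rest (Cen Z) E := ext_coeff fun g => by
        rw [coeff_rest, coeff_rest, hπ₀, coeff_rest]
        split_ifs with h h'
        · rfl
        · exact absurd (D.hCK h) h'
        · rfl
      rw [← h1, hbr, rest_mul_right _ D.he₀.1, hrr, ← hbr, hEd, ← gidemTop_eq hB]
      conv_lhs => rw [← D.bc, ← mul_assoc, D.hbrZ, D.bc]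
    have hyn : ∀ j : Fin e, (j : ℕ) ≠ 0 → D.n * y j = 0 := by
      choose r hr hr1 hr2 using D.hnX
      have h1 : ∀ j : Fin e, D.n * (D.X ^ (j : ℕ) * y j) = D.X ^ (j : ℕ) * (r j * D.n * y j) := fun j => by
        conv_lhs => rw [← (D.inC (hy j)).1, ← mul_assoc (D.X ^ (j : ℕ)), ← mul_assoc, hr1, mul_assoc]
      have h2 : D.n * (π₀ * D.e₀) = π₀ * D.e₀ * D.n := by
        rw [← mul_assoc, ← hπc _ hnK, mul_assoc, D.ne', mul_assoc π₀ D.e₀, D.en]
      have h3 := D.hind (fun j => r j * D.n * y j - D.n * y j) (fun j => by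
        refine ⟨fun g hg => ?_, ?_⟩
        · rw [MonoidAlgebra.coeff_sub, Finsupp.sub_apply, ((hr j).1.mul D.hn.1).mul (hy j).1 g hg,
            D.hn.1.mul (hy j).1 g hg, sub_zero]
        · rw [mul_sub, sub_mul, (D.inC_mul (D.inC_mul (hr j) D.hn) (hy j)).2, (D.inC_mul D.hn (hy j)).2]) (by
        simp only [mul_sub, Finset.sum_sub_distrib, ← h1, ← Finset.mul_sum]
        rw [← hyw, h2, hyw, Finset.sum_mul, sub_eq_zero]
        exact Finset.sum_congr rfl fun j _ => by rw [mul_assoc, D.hcomm _ _ (hy j) D.hn])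
      exact fun j hj => hr2 j hj (y j) (hy j) (sub_eq_zero.mp (h3 j))
    have htopc := D.inC (D.inC_pow' (show 1 ≤ D.q - 1 by omega))
    have hR : D.e₀ * rest D.K v * D.e₀ = D.pf t * D.n ^ (D.q - 1) := by
      have hpn : SuppIn D.K (D.pf t * D.n ^ (D.q - 1)) := (D.suppK_pf t).mul hpowK
      have h1 : π₀ * (D.pf t * D.n ^ (D.q - 1)) = D.pf t * D.n ^ (D.q - 1) := by
        rw [← mul_assoc, hπc _ (D.suppK_pf t), mul_assoc,
          show π₀ * D.n ^ (D.q - 1) = π₀ * D.e₀ * D.n ^ (D.q - 1) by rw [mul_assoc, htopc.1], hyw,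
          Finset.sum_mul, Finset.sum_eq_single ⟨0, hepos⟩ (fun j _ hj => ?_) (by simp), hy0, pow_zero, one_mul,
          htopc.1]
        obtain ⟨i, hi⟩ := Nat.exists_eq_add_of_le' (show 1 ≤ D.q - 1 by omega)
        rw [hi, pow_succ', mul_assoc, ← mul_assoc (y j), D.hcomm _ _ (hy j) D.hn,
          hyn j (fun h => hj (Fin.ext h)), zero_mul, mul_zero]
      rw [hvd, rest_mul_right _ hpn, ← hπ₀, h1, ← mul_assoc, D.e_pf, mul_assoc, htopc.2]
    have hL : D.e₀ * rest D.K v * D.e₀ = 0 := by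
      obtain ⟨x, hx, hxw⟩ := D.hdec (rest D.K (w : KG M G)) (suppIn_rest _ _)
      have hxn : ∀ j, x j * D.n = 0 := D.hind (fun j => x j * D.n) (fun j => D.inC_mul (hx j) D.hn) (by
        simp only [← mul_assoc, ← Finset.sum_mul]
        rw [← hxw, mul_assoc, D.en, mul_assoc, ← rest_mul_right _ hnK, w.2.2]
        simp [rest_eq_self (show SuppIn D.K (0 : KG M G) from fun _ _ => by simp)])
      rw [← hw', rest_mul_left hpowK, ← mul_assoc, htopc.1]
      nth_rw 1 [← htopc.2]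
      rw [mul_assoc (D.n ^ (D.q - 1)), mul_assoc (D.n ^ (D.q - 1)), hxw, Finset.mul_sum]
      refine Finset.sum_eq_zero fun j _ => ?_
      obtain ⟨r, hr, hr1, -⟩ := D.hnX j
      obtain ⟨i, hi⟩ := Nat.exists_eq_add_of_le' (show 1 ≤ D.q - 1 by omega)
      rw [hi, pow_succ, mul_assoc, ← (D.inC (hx j)).1, ← mul_assoc (D.X ^ (j : ℕ)), ← mul_assoc D.n, hr1,
        mul_assoc, mul_assoc r, D.hcomm D.n _ D.hn (hx j), hxn, mul_zero, mul_zero, mul_zero]
    rw [hR, pf, smul_mul_assoc, smul_eq_zero] at hL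
    have h4 := hL.resolve_left (inv_ne_zero D.he)
    rw [Finset.sum_mul, ← Fin.sum_univ_eq_sum_range
      (fun j => (t ^ j)⁻¹ • (D.X ^ j * D.e₀) * D.n ^ (D.q - 1))] at h4
    have h5 := D.hind (fun j : Fin e => (t ^ (j : ℕ))⁻¹ • D.n ^ (D.q - 1)) (fun j =>
      ⟨suppIn_smul _ (D.inC_pow' (by omega)).1, by
        rw [mul_smul_comm, smul_mul_assoc, htopc.1, htopc.2]⟩) (by
      rw [← h4]
      exact Finset.sum_congr rfl fun j _ => by
        rw [mul_smul_comm, smul_mul_assoc, mul_assoc, htopc.1]) ⟨0, hepos⟩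
    rw [pow_zero, inv_one, one_smul] at h5
    exact D.hntop h5

omit hp in
/-- A simple module in coordinates. -/
theorem exists_fin_rep {W : Type*} [AddCommGroup W] [Module (Res M) W] [Module (KG M G) W]
    [IsScalarTower (Res M) (KG M G) W] [FiniteDimensional (Res M) W] [IsSimpleModule (KG M G) W] :
    ∃ (d : ℕ) (σ : Representation (Res M) G (Fin d → Res M)), σ.IsIrreducible ∧
      Nonempty (W ≃ₗ[KG M G] σ.asModule) ∧
      ∀ a c, (∀ x : W, a • x = c • x) → Acts σ a c := by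
  let ρ : Representation (Res M) G W :=
    (Algebra.lsmul (Res M) (Res M) W).toMonoidHom.comp (MonoidAlgebra.of (Res M) G)
  obtain ⟨τ, hτ⟩ := exists_fin_equiv ρ
  have hρ : ∀ (a : KG M G) (x : W), ρ.asAlgebraHom a x = a • x := by
    intro a x
    rw [asAlgebraHom_eq_sum, LinearMap.sum_apply]
    conv_rhs => rw [eq_sum_single a, Finset.sum_smul]
    refine Finset.sum_congr rfl fun g _ => ?_
    show a.coeff g • (MonoidAlgebra.single g (1 : Res M) • x) = _
    rw [← smul_assoc]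
    simp
  obtain ⟨E, hE⟩ : ∃ E, E = (Module.finBasis (Res M) W).equivFun := ⟨_, rfl⟩
  have hcomm : ∀ (a : KG M G) (x : W), E (a • x) = τ.asAlgebraHom a (E x) := fun a x => by
    rw [← hρ, hE, ← LinearEquiv.coe_toLinearMap, asAlgebraHom_comm (ρ := ρ) _ hτ]
  refine ⟨_, τ, ?_, ⟨
    { toFun := fun x => τ.asModuleEquiv.symm (E x)
      invFun := fun y => E.symm (τ.asModuleEquiv y)
      map_add' := fun x y => by simp
      map_smul' := fun a x => τ.asModuleEquiv.injective (by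
        rw [RingHom.id_apply, Representation.asModuleEquiv_map_smul, LinearEquiv.apply_symm_apply,
          LinearEquiv.apply_symm_apply, hcomm])
      left_inv := fun x => by simp
      right_inv := fun y => by simp }⟩, fun a c h y => ?_⟩
  · have : Nonempty (Fin (Module.finrank (Res M) W)) := by
      have : Nontrivial W := IsSimpleModule.nontrivial (KG M G) W
      exact ⟨⟨0, Module.finrank_pos⟩⟩
    by_contra hirr
    obtain ⟨U, hb', ht', hU⟩ := exists_invariant_of_not_irreducible τ hirr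
    let U' : Submodule (KG M G) W :=
      { carrier := {x | E x ∈ U}
        add_mem' := fun {a b} ha hb => by show E (a + b) ∈ U; rw [map_add]; exact U.add_mem ha hb
        zero_mem' := by show E 0 ∈ U; rw [map_zero]; exact U.zero_mem
        smul_mem' := fun a x hx => by
          show E (a • x) ∈ U
          rw [hcomm, asAlgebraHom_eq_sum, LinearMap.sum_apply]
          exact U.sum_mem fun g _ => U.smul_mem _ (hU g hx) }
    rcases eq_bot_or_eq_top U' with h | h
    · refine hb' (Submodule.eq_bot_iff _ |>.mpr fun y hy => ?_)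
      have : E.symm y ∈ U' := by show E (E.symm y) ∈ U; simpa using hy
      rw [h, Submodule.mem_bot] at this
      simpa using congrArg E this
    · refine ht' (eq_top_iff.mpr fun y _ => ?_)
      have : E.symm y ∈ U' := h ▸ Submodule.mem_top
      simpa using (show E (E.symm y) ∈ U from this)
  · obtain ⟨x, rfl⟩ := E.surjective y
    rw [← hcomm, h x, map_smul]

omit hp in
/-- A module with a point has a simple module in coordinates with a point. -/
theorem exists_pt_rep {V : Type*} [AddCommGroup V] [Module (Res M) V] [Module (KG M G) V]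
    [IsScalarTower (Res M) (KG M G) V] [FiniteDimensional (Res M) V] {t : Res M} (ht : t ^ e = 1)
    (h : D.HasPt t V) {E : KG M G} (hE : ∀ v : V, E • v = v) :
    ∃ (d : ℕ) (σ : Representation (Res M) G (Fin d → Res M)), σ.IsIrreducible ∧ D.HasPt t σ.asModule ∧
      Acts σ E 1 := by
  obtain ⟨U, C, hsimple, hpt⟩ := D.exists_simple_pt ht h
  have : Module.Finite (Res M) U :=
    Module.Finite.of_injective (U.subtype.restrictScalars (Res M)) Subtype.val_injective
  have : Module.Finite (Res M) (U ⧸ C) :=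
    Module.Finite.of_surjective (C.mkQ.restrictScalars (Res M)) (Submodule.Quotient.mk_surjective _)
  obtain ⟨d, σ, hσ, ⟨f⟩, hact⟩ := exists_fin_rep (G := G) (M := M) (W := U ⧸ C)
  refine ⟨d, σ, hσ, D.hasPt_congr f hpt, hact E 1 fun x => ?_⟩
  obtain ⟨y, rfl⟩ := Submodule.Quotient.mk_surjective _ x
  rw [one_smul, ← Submodule.Quotient.mk_smul]
  exact congrArg _ (Subtype.ext (hE (y : V)))

end Corner

/-- **At least `e` irreducible Brauer characters.** -/
theorem le_blockRank (hM : IsPModular p M) (hB : IsPBlock M B) (D : Corner M B P Z e) :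
    e ≤ blockRank p B := by
  classical
  have := res_isAlgClosed M
  have : NeZero ((e : Res M)) := ⟨D.he⟩
  obtain ⟨ζ, hζ⟩ := HasEnoughRootsOfUnity.exists_primitiveRoot (Res M) e
  have hroot : ∀ i : Fin e, (ζ ^ (i : ℕ)) ^ e = 1 := fun i => by
    rw [← pow_mul, mul_comm, pow_mul, hζ.pow_eq_one, one_pow]
  choose W hW hWpt using fun i : Fin e => D.hasPt_block hB (hroot i)
  choose d σ hσ hpt hσact using fun i : Fin e => D.exists_pt_rep (hroot i) (hWpt i) (hW i)
  have : ∀ i, IsSimpleModule (KG M G) (σ i).asModule := fun i =>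
    (σ i).irreducible_iff_isSimpleModule_asModule.mp (hσ i)
  have hne : ∀ i j : Fin e, i ≠ j → IsEmpty ((σ i).asModule ≃ₗ[KG M G] (σ j).asModule) := fun i j hij =>
    ⟨fun f => D.pt_unique (hroot i) (hroot j)
      (fun h => hij (Fin.ext (hζ.pow_inj i.2 j.2 h))) (D.hasPt_congr f (hpt i)) (hpt j)⟩
  have hinj : Function.Injective fun i : Fin e => brauerFun p M (σ i) := by
    intro i j hij
    by_contra hne'
    have h := trace_forms_independent (k := Res M) (A := KG M G) (fun i : Fin e => (σ i).asModule) hne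
      (Pi.single i 1 - Pi.single j 1) fun a => by
        simp only [Pi.sub_apply, sub_mul, Finset.sum_sub_distrib, Pi.single_apply, ite_mul, one_mul, zero_mul,
          Finset.sum_ite_eq', Finset.mem_univ, if_true]
        rw [sub_eq_zero, asModule_trace_lsmul, asModule_trace_lsmul]
        exact trace_eq_of_brauerFun_eq hM hij a
    have h2 := congrFun h i
    rw [Pi.sub_apply, Pi.single_eq_same, Pi.single_eq_of_ne hne', sub_zero] at h2
    exact one_ne_zero h2
  rw [blockRank_eq_card hM hB]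
  calc e = (Finset.univ : Finset (Fin e)).card := by simp
    _ ≤ _ := Finset.card_le_card_of_injOn _ (fun i _ => brauerFun_mem_ibrOf hM hB (hσ i) (hσact i)) hinj.injOn

end CfsgLib.Blocks.Cyclic
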