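import Cfsg.Agent.Lib.NilBlock.Section
import Cfsg.Agent.Lib.BrauerPairs.Transfer

/-!
# Orthogonality of different subsections

`sum_secH_orth`: the parts of the irreducible characters on two subsections that are not conjugate
are orthogonal.
-/

set_option autoImplicit false

noncomputable section

namespace CfsgLib.Blocks

open Cfsg CfsgLib.BlockArith CfsgLib.Char CfsgLib.BrauerPairs CfsgLib.NilBlock
open scoped ComplexConjugate Classical

variable {M : Ideal AlgInt} [M.IsMaximal] {p : ℕ} [hp : Fact p.Prime]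

omit hp in
/-- The kernels of two blocks multiply to zero. -/
theorem blockKer_mul_of_ne {H : Type*} [Group H] [Fintype H] (hM : IsPModular p M)
    {b b' : Set (IrrCharacter H)} (hb : IsPBlock M b) (hb' : IsPBlock M b') (hne : b ≠ b') (s t : H) :
    ∑ u : H, BlockArith.blockKer p b s u * BlockArith.blockKer p b' u t = 0 := by
  by_cases hs : p ∣ orderOf s
  · exact Finset.sum_eq_zero fun u _ => by simp [BlockArith.blockKer, hs]
  by_cases ht : p ∣ orderOf t
  · exact Finset.sum_eq_zero fun u _ => by simp [BlockArith.blockKer, ht]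
  have hterm : ∀ u : H, BlockArith.blockKer p b s u * BlockArith.blockKer p b' u t =
      ∑ χ : IrrCharacter H, ∑ ψ : IrrCharacter H, if χ ∈ b ∧ ψ ∈ b' then
        (Nat.card H : ℂ)⁻¹ * (Nat.card H : ℂ)⁻¹ * (χ : H → ℂ) s * conj ((ψ : H → ℂ) t) *
          (if p ∣ orderOf u then 0 else (ψ : H → ℂ) u * conj ((χ : H → ℂ) u)) else 0 := by
    intro u
    by_cases hu : p ∣ orderOf u
    · rw [show BlockArith.blockKer p b s u = 0 by simp [BlockArith.blockKer, hu], zero_mul]
      exact (Finset.sum_eq_zero fun χ _ => Finset.sum_eq_zero fun ψ _ => by simp [hu]).symm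
    · simp only [BlockArith.blockKer, Matrix.of_apply, hs, ht, hu, or_self, if_false]
      rw [mul_mul_mul_comm, Finset.sum_mul_sum, Finset.mul_sum]
      refine Finset.sum_congr rfl fun χ _ => ?_
      rw [Finset.mul_sum]
      refine Finset.sum_congr rfl fun ψ _ => ?_
      by_cases h1 : χ ∈ b <;> by_cases h2 : ψ ∈ b' <;> simp [h1, h2] <;> ring
  simp only [hterm]
  rw [Finset.sum_comm]
  refine Finset.sum_eq_zero fun χ _ => ?_
  rw [Finset.sum_comm]
  refine Finset.sum_eq_zero fun ψ _ => ?_
  by_cases hc : χ ∈ b ∧ ψ ∈ b'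
  · simp only [if_pos hc]
    rw [← Finset.mul_sum, regular_orthogonality hM, mul_zero]
    intro hs'
    exact hne (isPBlock_eq_of_mem hb hb' (mem_of_bomega_eq hb hc.1 ((sameBlock_iff ψ χ).mp hs').symm) hc.2)
  · simp [hc]

omit [M.IsMaximal] hp in
/-- The kernel after an isomorphism. -/
theorem blockKer_tblock {H H' : Type*} [Group H] [Fintype H] [Group H'] [Fintype H'] (e : H ≃* H')
    (b : Set (IrrCharacter H)) (s c : H) :
    BlockArith.blockKer p (tblock e b) (e s) (e c) = BlockArith.blockKer p b s c := by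
  simp only [BlockArith.blockKer, Matrix.of_apply, MulEquiv.orderOf_eq, Nat.card_congr e.symm.toEquiv]
  split_ifs
  · rfl
  refine congrArg _ (Fintype.sum_equiv
    { toFun := tirr e.symm
      invFun := tirr e
      left_inv := fun χ' => Subtype.ext (funext fun y => congrArg (χ' : H' → ℂ) (e.apply_symm_apply y))
      right_inv := fun χ => Subtype.ext (funext fun y => congrArg (χ : H → ℂ) (e.symm_apply_apply y)) }
    _ _ fun φ' => ?_)
  simp only [Equiv.coe_fn_mk, mem_tblock]
  refine if_congr Iff.rfl ?_ rfl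
  simp [tirr]

variable {G : Type*} [Group G] [Fintype G]

omit hp in
theorem secPart_orth [hp : Fact p.Prime] (hM : IsPModular p M) {x y : G}
    [Fintype (Subgroup.centralizer ({x} : Set G))] [Fintype (Subgroup.centralizer ({y} : Set G))]
    (hx : ∃ k : ℕ, orderOf x = p ^ k) (hy : ∃ k : ℕ, orderOf y = p ^ k)
    {b : Set (IrrCharacter (Subgroup.centralizer ({x} : Set G)))} (hb : IsPBlock M b)
    {b' : Set (IrrCharacter (Subgroup.centralizer ({y} : Set G)))} (hb' : IsPBlock M b')
    (hne : ∀ g : G, g * x * g⁻¹ = y →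
      cjA g (gidem M (Subgroup.centralizer ({x} : Set G)) b) ≠ gidem M (Subgroup.centralizer ({y} : Set G)) b')
    {s : Subgroup.centralizer ({x} : Set G)} (hs : ¬ p ∣ orderOf s)
    {t : Subgroup.centralizer ({y} : Set G)} (ht : ¬ p ∣ orderOf t) :
    ∑ χ : IrrCharacter G, secPart x b χ s * conj (secPart y b' χ t) = 0 := by
  have hexp : ∀ χ : IrrCharacter G, secPart x b χ s * conj (secPart y b' χ t) =
      ∑ c, ∑ d, BlockArith.blockKer p b s c * conj (BlockArith.blockKer p b' t d) *
        ((χ : G → ℂ) (x * (c : G)) * conj ((χ : G → ℂ) (y * (d : G)))) := by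
    intro χ
    rw [secPart_eq hM hb χ hs, secPart_eq hM hb' χ ht, map_sum, Finset.sum_mul_sum]
    exact Finset.sum_congr rfl fun c _ => Finset.sum_congr rfl fun d _ => by rw [map_mul]; ring
  simp only [hexp]
  rw [Finset.sum_comm]
  have hcd : ∀ (c : Subgroup.centralizer ({x} : Set G)) (d : Subgroup.centralizer ({y} : Set G)),
      ∑ χ : IrrCharacter G, BlockArith.blockKer p b s c * conj (BlockArith.blockKer p b' t d) *
        ((χ : G → ℂ) (x * (c : G)) * conj ((χ : G → ℂ) (y * (d : G)))) =
      ∑ w : G, if w * x * w⁻¹ = y ∧ w * (c : G) * w⁻¹ = (d : G) then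
        BlockArith.blockKer p b s c * conj (BlockArith.blockKer p b' t d) else 0 := by
    intro c d
    by_cases hc : p ∣ orderOf c
    · rw [show BlockArith.blockKer p b s c = 0 by simp [BlockArith.blockKer, hc]]; simp
    by_cases hd : p ∣ orderOf d
    · rw [show BlockArith.blockKer p b' t d = 0 by simp [BlockArith.blockKer, hd]]; simp
    rw [← Finset.mul_sum, second_orthogonality, conjugators_eq, Finset.mul_sum]
    refine Finset.sum_congr rfl fun w _ => ?_
    rw [mul_ite, mul_one, mul_zero]
    refine if_congr ⟨fun h => ?_, fun h => ?_⟩ rfl rfl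
    · have hp1 : IsPPart p (x * (c : G)) x :=
        isPPart_mul (commute_of_mem_centralizer c) hx (by rwa [Subgroup.orderOf_coe])
      have hp2 : IsPPart p (y * (d : G)) y :=
        isPPart_mul (commute_of_mem_centralizer d) hy (by rwa [Subgroup.orderOf_coe])
      have h1 := isPPart_unique (h ▸ isPPart_conj hp1 w) hp2
      refine ⟨h1, ?_⟩
      have h2 : w * (x * (c : G)) * w⁻¹ = w * x * w⁻¹ * (w * (c : G) * w⁻¹) := by group
      rw [h, h1, mul_right_inj] at h2
      exact h2.symm
    · rw [show w * (x * (c : G)) * w⁻¹ = w * x * w⁻¹ * (w * (c : G) * w⁻¹) by group, h.1, h.2]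
  refine Eq.trans (Finset.sum_congr rfl fun c _ => Finset.sum_comm.trans
    (Finset.sum_congr rfl fun d _ => hcd c d)) ?_
  rw [Finset.sum_congr rfl fun c _ => Finset.sum_comm, Finset.sum_comm]
  refine Finset.sum_eq_zero fun w _ => ?_
  by_cases hw : w * x * w⁻¹ = y
  swap
  · exact Finset.sum_eq_zero fun c _ => Finset.sum_eq_zero fun d _ => if_neg fun h => hw h.1
  have hiff : ∀ g, g ∈ Subgroup.centralizer ({y} : Set G) ↔
      w⁻¹ * g * w ∈ Subgroup.centralizer ({x} : Set G) := fun g => by
    rw [Subgroup.mem_centralizer_singleton_iff, Subgroup.mem_centralizer_singleton_iff, ← hw]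
    constructor
    · intro h
      calc w⁻¹ * g * w * x = w⁻¹ * (g * (w * x * w⁻¹)) * w := by group
        _ = w⁻¹ * ((w * x * w⁻¹) * g) * w := by rw [h]
        _ = x * (w⁻¹ * g * w) := by group
    · intro h
      calc g * (w * x * w⁻¹) = w * (w⁻¹ * g * w * x) * w⁻¹ := by group
        _ = w * (x * (w⁻¹ * g * w)) * w⁻¹ := by rw [h]
        _ = w * x * w⁻¹ * g := by group
  let e := conjEquiv w (Subgroup.centralizer ({x} : Set G)) (Subgroup.centralizer ({y} : Set G)) hiff
  have hec : ∀ c, (e c : G) = w * (c : G) * w⁻¹ := fun c => rfl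
  have hne' : tblock e b ≠ b' := fun h => hne w hw (by
    rw [← h]; exact (gidem_tblock w hiff b).symm)
  rw [Finset.sum_congr rfl fun c _ => (Finset.sum_eq_single (e c) (fun d _ hd => if_neg fun h => hd
      (Subtype.ext (by rw [hec]; exact h.2.symm))) (by simp)).trans (if_pos ⟨hw, (hec c).symm⟩)]
  rw [Fintype.sum_equiv e.toEquiv _ (fun u => BlockArith.blockKer p (tblock e b) (e s) u * conj (BlockArith.blockKer p b' t u))
    fun c => by simp only [MulEquiv.toEquiv_eq_coe, EquivLike.coe_coe, blockKer_tblock]]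
  simp only [blockKer_conj_symm]
  exact blockKer_mul_of_ne hM (isPBlock_tblock e hb) hb' hne' _ _

/-- **Different subsections are orthogonal.** -/
theorem sum_secH_orth (hM : IsPModular p M) {x y : G} {H H' : Subgroup G}
    (hH : H = Subgroup.centralizer ({x} : Set G)) (hH' : H' = Subgroup.centralizer ({y} : Set G))
    (hx : ∃ k : ℕ, orderOf x = p ^ k) (hy : ∃ k : ℕ, orderOf y = p ^ k)
    {B : Set (IrrCharacter G)} {b : Set (IrrCharacter H)} (hind : IsInducedBlock M H b B)
    {b' : Set (IrrCharacter H')} (hb' : IsPBlock M b')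
    (hne : ∀ g : G, g * x * g⁻¹ = y → cjA g (gidem M H b) ≠ gidem M H' b')
    {s : H} (hs : ¬ p ∣ orderOf s) {t : H'} (ht : ¬ p ∣ orderOf t) [DecidablePred (· ∈ B)] :
    ∑ χ ∈ Finset.univ.filter (· ∈ B), secH x H b χ s * conj (secH y H' b' χ t) = 0 := by
  subst hH hH'
  have := Fintype.ofFinite (Subgroup.centralizer ({x} : Set G))
  have := Fintype.ofFinite (Subgroup.centralizer ({y} : Set G))
  rw [Finset.sum_subset (Finset.subset_univ _) fun χ _ hχ => ?_]
  · exact secPart_orth hM hx hy hind.1 hb' hne hs ht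
  · rw [secH_eq_zero rfl hM hx hind (fun h => hχ (Finset.mem_filter.mpr ⟨Finset.mem_univ _, h⟩)) hs, zero_mul]

end CfsgLib.Blocks
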