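import Cfsg.Agent.Lib.Blocks.CyclicLocal
import Cfsg.Agent.Lib.Blocks.CyclicPoints
import Cfsg.Agent.Lib.Blocks.CyclicOrbits
import Cfsg.Agent.Lib.Blocks.SectionOrth
import Cfsg.Agent.Lib.BlockArith.KleinDefect

/-!
# The structure of a block with cyclic defect group

`exists_cycData`: for a block `B` with a maximal pair `(P, c)`, `P ≠ ⊥` cyclic, and inertial index `e`:
`l(B) = e`, `k(B) = e + (|P| - 1) / e`, all heights are zero, the exceptional characters are indexed by the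
orbit representatives `Θ` of the nontrivial characters of `P`, and all values on `p`-singular elements
are known through the functions `f`.
-/

set_option autoImplicit false
set_option maxHeartbeats 1000000

noncomputable section

namespace CfsgLib.Blocks.Cyclic

open Cfsg CfsgLib.Blocks CfsgLib.BlockArith CfsgLib.Char CfsgLib.BrauerPairs CfsgLib.NilBlock
open scoped ComplexConjugate Classical

universe u

variable {G : Type u} [Group G] [Fintype G] {p : ℕ} [hp : Fact p.Prime] {M : Ideal AlgInt} [M.IsMaximal]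

omit hp in
/-- A character of an abelian `p`-group is congruent to its degree. -/
theorem res_char_eq (hM : IsPModular p M) {P : Type*} [Group P] [Fintype P] (hab : ∀ x y : P, x * y = y * x)
    {k : ℕ} (hP : Nat.card P = p ^ k) {φ : P → ℂ} (hφ : IsCharacter P φ) {n : ℤ} (hn : φ 1 = n) (y : P) :
    ∃ h : φ y ∈ locRing M, res M ⟨φ y, h⟩ = (n : Res M) := by
  choose m hm using fun μ : IrrCharacter P => classInner_char_nat hφ (isCharacter_of_isIrr μ.2)
  have hexp : ∀ z, φ z = ∑ μ : IrrCharacter P, (m μ : ℂ) * (μ : P → ℂ) z := fun z => by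
    have h := congrFun (classFun_eq_sum (isClassFunction_of_isCharacter hφ)) z
    simpa only [Finset.sum_apply, Pi.smul_apply, smul_eq_mul, hm] using h
  have hpow : ∀ (μ : IrrCharacter P) z, ((μ : P → ℂ) z) ^ p ^ k = 1 := by
    intro μ z
    rw [← linearHom_apply (isCharacter_of_isIrr μ.2) (irr_one_eq_one_of_comm hab μ.2), ← Units.val_pow_eq_pow_val,
      ← map_pow, ← hP, pow_card_eq_one', map_one, Units.val_one]
  have hmem : ∀ (μ : IrrCharacter P) z, (μ : P → ℂ) z ∈ locRing M := fun μ z =>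
    algInt_le_locRing M (IsIntegral.of_pow (n := p ^ k) (pow_pos hM.1.pos k) (by rw [hpow]; exact isIntegral_one))
  obtain ⟨Φ, hΦ⟩ : ∃ Φ : P → locRing M,
      Φ = fun z => ∑ μ : IrrCharacter P, (m μ : locRing M) * ⟨(μ : P → ℂ) z, hmem μ z⟩ := ⟨_, rfl⟩
  have hcoe : ∀ z, ((Φ z : locRing M) : ℂ) = φ z := fun z => by
    rw [hΦ, hexp]
    simp
  have hres : ∀ z, res M (Φ z) = ((∑ μ, m μ : ℕ) : Res M) := fun z => by
    rw [hΦ]
    simp only [map_sum, map_mul, map_natCast, Nat.cast_sum]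
    refine Finset.sum_congr rfl fun μ _ => ?_
    rw [res_pPow_rootOfUnity M hM (k := k) (z := ⟨(μ : P → ℂ) z, hmem μ z⟩) (Subtype.ext (by simpa using hpow μ z)),
      mul_one]
  refine ⟨hcoe y ▸ (Φ y).2, ?_⟩
  rw [show (⟨φ y, _⟩ : locRing M) = Φ y from Subtype.ext (hcoe y).symm, hres]
  have h1 : ((∑ μ, m μ : ℕ) : ℤ) = n := by
    apply Int.cast_injective (α := ℂ)
    rw [← hn, hexp 1, Int.cast_natCast, Nat.cast_sum]
    exact Finset.sum_congr rfl fun μ _ => by rw [irr_one_eq_one_of_comm hab μ.2, mul_one]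
  rw [← h1, Int.cast_natCast]

/-- A `p`-regular element is not conjugate to the product of a nontrivial `p`-element and a regular one. -/
theorem not_isConj_mul {g y c : G} (hg : ¬ p ∣ orderOf g) (hyc : Commute y c) (hy : ∃ k : ℕ, orderOf y = p ^ k)
    (hy1 : y ≠ 1) (hc : ¬ p ∣ orderOf c) : ¬ IsConj g (y * c) := by
  intro h
  obtain ⟨v, hv⟩ := isConj_iff.mp h
  refine hg ?_
  rw [show orderOf g = orderOf (y * c) by
    rw [← hv, show v * g * v⁻¹ = MulAut.conj v g from rfl, MulEquiv.orderOf_eq]]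
  obtain ⟨k, hk⟩ := hy
  have hk0 : k ≠ 0 := fun h => hy1 (orderOf_eq_one_iff.mp (by rw [hk, h, pow_zero]))
  rw [hyc.orderOf_mul_eq_mul_orderOf_of_coprime
    (by rw [hk]; exact Nat.Coprime.pow_left k (hp.out.coprime_iff_not_dvd.mpr hc)), hk]
  exact (dvd_pow_self p hk0).mul_right _

/-- The parts on a nontrivial subsection are orthogonal to the values at a regular element. -/
theorem sum_secH_reg (hM : IsPModular p M) {y : G} {H : Subgroup G}
    (hH : H = Subgroup.centralizer ({y} : Set G)) (hy : ∃ k : ℕ, orderOf y = p ^ k) (hy1 : y ≠ 1)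
    {B : Set (IrrCharacter G)} {b : Set (IrrCharacter H)} (hind : IsInducedBlock M H b B)
    {g : G} (hg : ¬ p ∣ orderOf g) {t : H} (ht : ¬ p ∣ orderOf t) :
    ∑ χ ∈ Finset.univ.filter (· ∈ B), (χ : G → ℂ) g * conj (secH y H b χ t) = 0 := by
  subst hH
  have := Fintype.ofFinite (Subgroup.centralizer ({y} : Set G))
  rw [Finset.sum_subset (Finset.subset_univ _) fun χ _ hχ => ?_]
  · have h1 : ∀ χ : IrrCharacter G, (χ : G → ℂ) g * conj (secH y _ b χ t) =
        ∑ c, conj (BlockArith.blockKer p b t c) * ((χ : G → ℂ) g * conj ((χ : G → ℂ) (y * (c : G)))) := fun χ => by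
      rw [show secH y _ b χ t = secPart y b χ t from rfl, secPart_eq hM hind.1 χ ht, map_sum, Finset.mul_sum]
      exact Finset.sum_congr rfl fun c _ => by rw [map_mul]; ring
    rw [Finset.sum_congr rfl fun χ _ => h1 χ, Finset.sum_comm]
    refine Finset.sum_eq_zero fun c _ => ?_
    by_cases hc : p ∣ orderOf c
    · exact Finset.sum_eq_zero fun χ _ => by simp [BlockArith.blockKer, hc]
    rw [← Finset.mul_sum, second_orthogonality,
      if_neg (not_isConj_mul hg (commute_of_mem_centralizer c) hy hy1 (by rwa [Subgroup.orderOf_coe])), mul_zero]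
  · rw [secH_eq_zero rfl hM hy hind (fun h => hχ (Finset.mem_filter.mpr ⟨Finset.mem_univ _, h⟩)) ht, map_zero,
      mul_zero]

/-- A nonzero residue of the contribution gives height zero. -/
theorem height_zero_of_ctr (hM : IsPModular p M) {x : G} {H : Subgroup G} {b : Set (IrrCharacter H)}
    (hH : H = Subgroup.centralizer ({x} : Set G)) (hx : ∃ k : ℕ, orderOf x = p ^ k)
    {B : Set (IrrCharacter G)} (hind : IsInducedBlock M H b B) (hd : blockDefect p b = blockDefect p B)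
    {χ ψ : IrrCharacter G} (hχ : χ ∈ B) (h0 : blockHeight p B (χ : G → ℂ) = 0) (hψ : ψ ∈ B)
    {z : locRing M} (hz : ctr p x H b χ ψ = (z : ℂ)) (hres : res M z ≠ 0) :
    blockHeight p B (ψ : G → ℂ) = 0 := by
  subst hH
  have := Fintype.ofFinite (Subgroup.centralizer ({x} : Set G))
  rw [ctr_eq_contrib] at hz
  obtain ⟨w, hw, -, h⟩ := contrib_height hM hx hind hd hχ h0 hψ
  by_contra hne
  refine hres ?_
  rw [show z = ((p ^ blockHeight p B (ψ : G → ℂ) : ℕ) : locRing M) * ⟨w, algInt_le_locRing M hw⟩ from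
    Subtype.ext (by rw [← hz, h]; simp), map_mul, (res_natCast_eq_zero_iff M hM _).mpr (dvd_pow_self p hne),
    zero_mul]

/-- The data of a block with cyclic defect group. -/
structure CycData (p : ℕ) (M : Ideal AlgInt) [M.IsMaximal] (B : Set (IrrCharacter G)) (P : Subgroup G)
    (c : Set (IrrCharacter (Cen P))) (β : (y : P) → Set (IrrCharacter (Cen (Subgroup.zpowers (y : G))))) where
  A : Subgroup (MulAut P)
  Θ : Finset (IrrCharacter P)
  f : IrrCharacter G → P → ℂ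
  w : (y : P) → Cen (Subgroup.zpowers (y : G)) → ℂ
  η : IrrCharacter P → IrrCharacter G
  δ₀ : ℤ
  δ : IrrCharacter G → ℤ
  hA : Nat.card A = (Cen P).relIndex (stab M P c)
  hAfree : ∀ a ∈ A, ∀ y : P, y ≠ 1 → a y = y → a = 1
  hAT : ∀ a ∈ A, ∃ t ∈ stab M P c, ∀ y : P, ((a y : P) : G) = t * (y : G) * t⁻¹
  hTA : ∀ t ∈ stab M P c, ∃ a ∈ A, ∀ y : P, ((a y : P) : G) = t * (y : G) * t⁻¹
  hΘnt : ∀ θ ∈ Θ, ¬ CyclicOrbits.triv θ
  hΘcard : Θ.card * Nat.card A = Nat.card P - 1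
  hΘcov : ∀ μ : IrrCharacter P, ¬ CyclicOrbits.triv μ →
    ∃ θ ∈ Θ, ∃ a : A, ∀ y, (μ : P → ℂ) y = (θ : P → ℂ) ((a : MulAut P) y)
  hΘuniq : ∀ θ ∈ Θ, ∀ θ' ∈ Θ, ∀ a : A,
    (∀ y, (θ' : P → ℂ) y = (θ : P → ℂ) ((a : MulAut P) y)) → θ = θ' ∧ a = 1
  hηB : ∀ θ ∈ Θ, η θ ∈ B
  hηinj : Set.InjOn η Θ
  hfchar : ∀ χ, IsCharacter P (f χ)
  hfinv : ∀ χ, ∀ a ∈ A, ∀ y, f χ (a y) = f χ y
  hw : ∀ y : P, y ≠ 1 → ((p ^ blockDefect p B : ℕ) : ℂ) / (Nat.card (Cen (Subgroup.zpowers (y : G))) : ℂ) *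
    regSum p (w y) (w y) = 1
  hsec : ∀ y : P, y ≠ 1 → ∀ (χ : IrrCharacter G) (s : Cen (Subgroup.zpowers (y : G))), ¬ p ∣ orderOf s →
    secH (y : G) (Cen (Subgroup.zpowers (y : G))) (β y) χ s = f χ y * w y s
  hδ₀ : δ₀ = 1 ∨ δ₀ = -1
  hδ : ∀ χ, δ χ = 1 ∨ δ χ = -1
  hfη : ∀ θ ∈ Θ, ∀ y : P, y ≠ 1 → f (η θ) y = δ₀ * ∑ᶠ a ∈ A, (θ : P → ℂ) (a y)
  hfX : ∀ χ ∈ B, (∀ θ ∈ Θ, η θ ≠ χ) → ∀ y : P, y ≠ 1 → f χ y = -δ χ
  hk : Nat.card B = (Cen P).relIndex (stab M P c) + Θ.card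
  hl : blockRank p B = (Cen P).relIndex (stab M P c)
  hh : ∀ χ ∈ B, blockHeight p B (χ : G → ℂ) = 0
  hreg : ∀ θ ∈ Θ, ∀ g : G, ¬ p ∣ orderOf g → (δ₀ : ℂ) * (η θ : G → ℂ) g +
    ∑ χ ∈ Finset.univ.filter (fun χ => χ ∈ B ∧ ∀ θ ∈ Θ, η θ ≠ χ), (δ χ : ℂ) * (χ : G → ℂ) g = 0
  hsing : ∀ a : IrrCharacter G → ℂ,
    (∀ y : P, y ≠ 1 → ∑ χ ∈ Finset.univ.filter (· ∈ B), a χ * f χ y = 0) →
    ∀ g : G, p ∣ orderOf g → ∑ χ ∈ Finset.univ.filter (· ∈ B), a χ * (χ : G → ℂ) g = 0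

set_option maxHeartbeats 4000000 in
/-- **Blocks with cyclic defect group.** -/
theorem exists_cycData (hM : IsPModular p M) {B : Set (IrrCharacter G)} {P : Subgroup G}
    {c : Set (IrrCharacter (Cen P))} (hmax : IsMaximalBrauerPair p M B P c) (hcyc : IsCyclic P)
    (hne : P ≠ ⊥) {β : (y : P) → Set (IrrCharacter (Cen (Subgroup.zpowers (y : G))))}
    (hβ : ∀ y : P, SubpairLE p M (Subgroup.zpowers (y : G)) (β y) P c) :
    Nonempty (CycData p M B P c β) := by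
  have hP := hmax.1.1
  have hPp : IsPGroup p P := hP.1
  have hB := hmax.1.2.1
  have hab : ∀ x ∈ P, ∀ y ∈ P, x * y = y * x := fun a ha b hb => by
    have := hcyc.commutative
    exact congrArg Subtype.val (mul_comm' (⟨a, ha⟩ : P) ⟨b, hb⟩)
  have habP : ∀ x y : P, x * y = y * x := fun x y => Subtype.ext (hab _ x.2 _ y.2)
  have hfree := cyclic_free hM hmax hcyc
  -- the pairs below
  have hPC : ∀ y : P, P ≤ Cen (Subgroup.zpowers (y : G)) := fun y z hz =>
    Subgroup.mem_centralizer_iff.mpr fun q hq => hab q (Subgroup.zpowers_le.mpr y.2 hq) z hz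
  have hord : ∀ y : P, ∃ k : ℕ, orderOf (y : G) = p ^ k := fun y => exists_pow_of_mem hPp y.2
  have hpair : ∀ y : P, IsBrauerPairOf p M B (Subgroup.zpowers (y : G)) (β y) := fun y =>
    (brauerPairOf_iff_of_subpair hM (a := ⟨_, β y⟩) (b := ⟨P, c⟩) (hβ y)).mp hmax.1
  have hblk : ∀ y : P, IsPBlock M (β y) := fun y => (hpair y).1.2
  have hind : ∀ y : P, IsInducedBlock M (Cen (Subgroup.zpowers (y : G))) (β y) B := fun y => by
    let _ := Fintype.ofFinite (Cen (Subgroup.zpowers (y : G)))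
    exact (brauerPairOf_iff_induced hM (hpair y).1.1 (hblk y) hB).mp (hpair y)
  have hcardP : Nat.card P = p ^ blockDefect p B :=
    card_defectGroup hM hB (isDefectGroup_of_maximal hM hmax)
  have hdef : ∀ y : P, blockDefect p (β y) = blockDefect p B := fun y => by
    have := Fintype.ofFinite (Cen (Subgroup.zpowers (y : G)))
    have h2 := card_defectGroup hM (hblk y) (pairs_defect hM hmax hab (Q := Subgroup.zpowers (y : G)) (f := β y) (hβ y))
    rw [card_subgroupOf' (hPC y), hcardP] at h2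
    exact (Nat.pow_right_injective hp.out.two_le (show p ^ _ = p ^ _ from h2)).symm
  have hrank : ∀ y : P, y ≠ 1 → blockRank p (β y) = 1 := fun y hy => by
    let _ := Fintype.ofFinite (Cen (Subgroup.zpowers (y : G)))
    have hI : InertOne p M (β y) := stab_inertOne hM hmax hab (hβ y) fun t ht htC => by
      refine hfree t ht (y : G) y.2 (fun h => hy (Subtype.ext h)) ?_
      rw [← Subgroup.mem_centralizer_iff.mp htC (y : G) (Subgroup.mem_zpowers _), mul_inv_cancel_right]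
    exact (inertOne_counts hM _ _ (β y) rfl (hblk y) hI).1
  obtain ⟨f, w, hfchar, hfT, hfw⟩ := exists_section_functions hM hmax hcyc hne hβ
  have hnorm : ∀ y : P, y ≠ 1 → ((p ^ blockDefect p B : ℕ) : ℂ) /
      (Nat.card (Cen (Subgroup.zpowers (y : G))) : ℂ) * regSum p (w y) (w y) = 1 := fun y hy => by
    rw [← hdef y]; exact (hfw y hy).1
  have hexw : ∀ y : P, y ≠ 1 → ∃ s : Cen (Subgroup.zpowers (y : G)), ¬ p ∣ orderOf s ∧ w y s ≠ 0 := by
    intro y hy
    have := Fintype.ofFinite (Cen (Subgroup.zpowers (y : G)))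
    by_contra! h
    have h1 := hnorm y hy
    rw [regSum_eq, Finset.sum_eq_zero fun s _ => ?_, mul_zero] at h1
    · exact zero_ne_one h1
    · split_ifs with hs
      · rfl
      · rw [h s hs, zero_mul]
  have hctr : ∀ y : P, y ≠ 1 → ∀ χ ψ : IrrCharacter G,
      ctr p (y : G) (Cen (Subgroup.zpowers (y : G))) (β y) χ ψ = f χ y * conj (f ψ y) := by
    intro y hy χ ψ
    have := Fintype.ofFinite (Cen (Subgroup.zpowers (y : G)))
    have h1 : regSum p (secH (y : G) _ (β y) χ) (secH (y : G) _ (β y) ψ) =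
        f χ y * conj (f ψ y) * regSum p (w y) (w y) := by
      simp only [regSum_eq, Finset.mul_sum]
      refine Finset.sum_congr rfl fun s _ => ?_
      split_ifs with hs
      · rw [mul_zero]
      · rw [(hfw y hy).2 χ s hs, (hfw y hy).2 ψ s hs, map_mul]; ring
    rw [ctr, h1, hdef y]
    linear_combination (f χ y * conj (f ψ y)) * hnorm y hy
  -- the group of automorphisms
  let φ : stab M P c →* MulAut P :=
    { toFun := fun t =>
        { toFun := fun y => ⟨(t : G) * y * (t : G)⁻¹, (Subgroup.mem_set_normalizer_iff.mp t.2.1 _).mp y.2⟩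
          invFun := fun y => ⟨(t : G)⁻¹ * y * (t : G), (Subgroup.mem_set_normalizer_iff''.mp t.2.1 _).mp y.2⟩
          left_inv := fun y => Subtype.ext (by simp [mul_assoc])
          right_inv := fun y => Subtype.ext (by simp [mul_assoc])
          map_mul' := fun y z => Subtype.ext (by simp [mul_assoc]) }
      map_one' := MulEquiv.ext fun y => Subtype.ext (by simp)
      map_mul' := fun t t' => MulEquiv.ext fun y => Subtype.ext (by simp [mul_assoc]) }
  have hφ : ∀ (t : stab M P c) (y : P), ((φ t y : P) : G) = (t : G) * y * (t : G)⁻¹ := fun t y => rfl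
  have hker : φ.ker = (Cen P).subgroupOf (stab M P c) := by
    ext t
    rw [MonoidHom.mem_ker, Subgroup.mem_subgroupOf, Subgroup.mem_centralizer_iff]
    refine ⟨fun h z hz => ?_, fun h => MulEquiv.ext fun y => Subtype.ext ?_⟩
    · have h1 := congrArg Subtype.val (DFunLike.congr_fun h (⟨z, hz⟩ : P))
      rw [hφ] at h1
      exact (mul_inv_eq_iff_eq_mul.mp h1).symm
    · rw [hφ, ← h y y.2, mul_inv_cancel_right]; rfl
  obtain ⟨A, hAd⟩ : ∃ A : Subgroup (MulAut P), A = φ.range := ⟨_, rfl⟩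
  have hcardA : Nat.card A = (Cen P).relIndex (stab M P c) := by
    rw [hAd, ← Subgroup.index_ker, hker]; rfl
  have hAT : ∀ a ∈ A, ∃ t ∈ stab M P c, ∀ y : P, ((a y : P) : G) = t * (y : G) * t⁻¹ := fun a ha => by
    rw [hAd] at ha
    obtain ⟨t, rfl⟩ := ha
    exact ⟨t, t.2, fun y => rfl⟩
  have hTA : ∀ t ∈ stab M P c, ∃ a ∈ A, ∀ y : P, ((a y : P) : G) = t * (y : G) * t⁻¹ := fun t ht =>
    ⟨φ ⟨t, ht⟩, hAd ▸ ⟨_, rfl⟩, fun y => rfl⟩
  have hAfree : ∀ a ∈ A, ∀ y : P, y ≠ 1 → a y = y → a = 1 := fun a ha y hy hfix => by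
    obtain ⟨t, ht, hat⟩ := hAT a ha
    have htC := hfree t ht (y : G) y.2 (fun h => hy (Subtype.ext h)) (by rw [← hat, hfix])
    exact MulEquiv.ext fun z => Subtype.ext (by
      rw [hat, ← Subgroup.mem_centralizer_iff.mp htC z z.2, mul_inv_cancel_right]; rfl)
  let _ := Fintype.ofFinite A
  have hfinv : ∀ χ, ∀ a ∈ A, ∀ y, f χ (a y) = f χ y := fun χ a ha y => by
    obtain ⟨t, ht, hat⟩ := hAT a ha
    exact hfT χ t ht y (a y) (hat y)
  obtain ⟨Θ, hΘnt, hΘcard, hΘcov, hΘuniq⟩ := CyclicOrbits.exists_irr_reps habP hAfree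
  obtain ⟨e, hed⟩ : ∃ e : ℕ, e = (Cen P).relIndex (stab M P c) := ⟨_, rfl⟩
  have hFe : Fintype.card A = e := by rw [← Nat.card_eq_fintype_card, hcardA, hed]
  rw [hFe] at hΘcard
  have hn : ((Cen P).subgroupOf (stab M P c)).Normal :=
    (Subgroup.normal_subgroupOf_iff_le_normalizer (cen_le_stab c)).mpr fun t ht =>
      mem_normalizer_centralizer ht.1
  have hedvd : e ∣ p - 1 := hed ▸ (cyclic_quotient hM hmax hcyc hne (hn := hn)).2
  have hep : ¬ p ∣ e := fun h => by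
    have h1 := Nat.le_of_dvd (Nat.sub_pos_of_lt hp.out.one_lt) (h.trans hedvd)
    have := hp.out.two_le
    omega
  -- the count
  obtain ⟨R₀, hR₀, hR₀card, hR₀cov, hR₀uniq⟩ := CyclicOrbits.exists_orbit_reps (A := A) {y : P | y ≠ 1}
    (fun a y hy h => hy ((map_eq_one_iff _ (a : MulAut P).injective).mp h))
    (fun y hy a h => Subtype.ext (hAfree _ a.2 y hy h))
  have hcard1 : Nat.card {y : P | y ≠ 1} = Nat.card P - 1 := by
    rw [show {y : P | y ≠ 1} = ((Finset.univ.erase 1 : Finset P) : Set P) from by ext; simp,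
      Nat.card_coe_set_eq, Set.ncard_coe_finset, Finset.card_erase_of_mem (Finset.mem_univ _), Finset.card_univ,
      Nat.card_eq_fintype_card]
  rw [hFe, hcard1] at hR₀card
  have hepos : 0 < e := Nat.pos_of_ne_zero fun h => hep (h ▸ dvd_zero p)
  have hRΘ : R₀.card = Θ.card := Nat.eq_of_mul_eq_mul_right hepos (hR₀card.trans hΘcard.symm)
  have hPnt : ∃ y : P, y ≠ 1 := by
    by_contra! h
    exact hne (Subgroup.eq_bot_iff_forall _ |>.mpr fun z hz => congrArg Subtype.val (h ⟨z, hz⟩))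
  have hkl : Nat.card B = blockRank p B + Θ.card := by
    obtain ⟨F, hFd⟩ : ∃ F : G → BrauerPairIdx G, F = fun r =>
        if h : r ∈ P then ⟨Subgroup.zpowers r, β ⟨r, h⟩⟩ else ⟨⊥, ∅⟩ := ⟨_, rfl⟩
    have h1R : (1 : G) ∉ R₀.map ⟨Subtype.val, Subtype.val_injective⟩ := fun h => by
      obtain ⟨r, hr, hr1⟩ := Finset.mem_map.mp h
      exact hR₀ hr (Subtype.ext hr1)
    have hRP : ∀ r ∈ insert (1 : G) (R₀.map ⟨Subtype.val, Subtype.val_injective⟩), r ∈ P := fun r hr => by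
      rcases Finset.mem_insert.mp hr with rfl | h
      · exact P.one_mem
      · obtain ⟨z, -, rfl⟩ := Finset.mem_map.mp h
        exact z.2
    have hsum := card_eq_sum_orbits hM hmax hab (insert (1 : G) (R₀.map ⟨Subtype.val, Subtype.val_injective⟩)) hRP
      (fun y hy => ?_) (fun r hr r' hr' t ht h => ?_) F (fun r hr => ?_)
    · rw [hsum, Finset.sum_insert h1R, Finset.sum_map, ← hRΘ, Finset.card_eq_sum_ones R₀]
      congr 1
      · rw [hFd]; beta_reduce
        rw [dif_pos P.one_mem]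
        exact pairRank_top (Subgroup.centralizer_eq_top_iff_subset.mpr (by
          show ((Subgroup.zpowers (1 : G) : Subgroup G) : Set G) ⊆ _
          rw [Subgroup.zpowers_one_eq_bot]; exact bot_le (a := Subgroup.center G))) (hpair ⟨1, P.one_mem⟩)
      · refine Finset.sum_congr rfl fun r hr => ?_
        rw [hFd]; beta_reduce
        rw [Function.Embedding.coeFn_mk, dif_pos r.2]
        exact hrank r (hR₀ hr)
    · by_cases hy1 : y = 1
      · exact ⟨1, Finset.mem_insert_self _ _, 1, one_mem _, by simp [hy1]⟩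
      obtain ⟨r, hr, a, hra⟩ := hR₀cov ⟨y, hy⟩ fun h => hy1 (congrArg Subtype.val h)
      obtain ⟨t, ht, hat⟩ := hAT a a.2
      refine ⟨r, Finset.mem_insert_of_mem (Finset.mem_map.mpr ⟨r, hr, rfl⟩), t⁻¹, inv_mem ht, ?_⟩
      have h1 : (t * (r : G) * t⁻¹) = y := by rw [← hat]; exact congrArg Subtype.val hra
      rw [← h1]; group
    · rcases Finset.mem_insert.mp hr with rfl | hr1
      · rw [← h]; group
      rcases Finset.mem_insert.mp hr' with rfl | hr1'
      · exact absurd (conj_eq_one_iff.mp h) fun h1 => h1R (h1 ▸ hr1)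
      obtain ⟨z, hz, rfl⟩ := Finset.mem_map.mp hr1
      obtain ⟨z', hz', rfl⟩ := Finset.mem_map.mp hr1'
      obtain ⟨a, ha, hat⟩ := hTA t ht
      exact congrArg Subtype.val (hR₀uniq z hz z' hz' ⟨a, ha⟩ (Subtype.ext ((hat z).trans h))).1
    · rw [hFd]; beta_reduce
      rw [dif_pos (hRP r hr)]
      exact ⟨rfl, hβ ⟨r, hRP r hr⟩⟩
  -- at least `e` Brauer characters
  have hle : e ≤ blockRank p B := by
    obtain ⟨Z, ⟨D⟩⟩ := exists_corner_data hM hmax hcyc hne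
    exact hed ▸ le_blockRank hM hB D
  -- the rows
  obtain ⟨χ₀, hχ₀, hh₀⟩ := exists_height_zero hM hB
  have hmaj : ∀ y : P, y ≠ 1 → ∀ χ ∈ B, f χ₀ y * conj (f χ y) ≠ 0 := fun y hy χ hχ => by
    rw [← hctr y hy]
    exact ctr_ne_zero_major (cen_zpowers _) hM (hord y) (hind y) (hdef y) hχ₀ hh₀ hχ
  obtain ⟨fB, hfB⟩ : ∃ fB : B → P → ℂ, fB = fun (χ : B) => f χ.1 := ⟨_, rfl⟩
  have hsubsum : ∀ h : IrrCharacter G → ℂ, ∑ χ : B, h χ = ∑ χ ∈ Finset.univ.filter (· ∈ B), h χ := fun h =>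
    (Finset.sum_subtype (Finset.univ.filter (· ∈ B)) (fun χ => by simp) h).symm
  obtain ⟨hkA, η', σ, s, hηinj', hσ, hηrow, hXrow⟩ := CyclicOrbits.exists_rows habP hAfree hΘnt hΘuniq hΘcov fB
    (fun χ => hfB ▸ hfchar χ) (fun χ => hfB ▸ hfinv χ)
    (fun y hy => by
      rw [hfB]; beta_reduce
      rw [hsubsum fun χ => f χ y * conj (f χ y)]
      have h1 := ctr_sum_mul (cen_zpowers _) hM (hord y) (hind y) χ₀ χ₀
      simp only [hctr y hy, hdef y, ← hcardP] at h1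
      have h0 : f χ₀ y ≠ 0 := left_ne_zero_of_mul (hmaj y hy χ₀ hχ₀)
      refine mul_left_cancel₀ (mul_ne_zero h0 ((map_ne_zero conj).mpr h0)) ?_
      rw [Finset.mul_sum, mul_comm _ (Nat.card P : ℂ), ← h1]
      exact Finset.sum_congr rfl fun χ _ => by ring)
    (fun y y' hy hy' hne' => by
      rw [hfB]; beta_reduce
      rw [hsubsum fun χ => f χ y * conj (f χ y')]
      obtain ⟨s, hs, hws⟩ := hexw y hy
      obtain ⟨t, ht, hwt⟩ := hexw y' hy'
      have h1 := sum_secH_orth hM (cen_zpowers (y : G)) (cen_zpowers (y' : G)) (hord y) (hord y') (hind y)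
        (hblk y') (fun g hg hgid => ?_) hs ht
      · refine (mul_eq_zero.mp (?_ : _ * (w y s * conj (w y' t)) = 0)).resolve_right
          (mul_ne_zero hws ((map_ne_zero conj).mpr hwt))
        rw [← h1, Finset.sum_mul]
        exact Finset.sum_congr rfl fun χ _ => by
          rw [(hfw y hy).2 χ s hs, (hfw y' hy').2 χ t ht, map_mul]; ring
      · have hpe : cjPair g (⟨_, β y⟩ : BrauerPairIdx G) = ⟨_, β y'⟩ :=
          pair_ext (M := M) (isBrauerPair_cjPair g (hpair y).1).2 (hblk y')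
            (by rw [cjPair_fst, map_conj_zpowers, hg]) (by rw [pid_cjPair]; exact hgid)
        obtain ⟨t', ht', htg⟩ := exists_cen_mul_map hM hmax hab (hβ y) (hβ y') hpe
        obtain ⟨a, ha, hat⟩ := hTA _ htg
        refine hne' a ha (Subtype.ext ?_)
        rw [hat, show t' * g * (y : G) * (t' * g)⁻¹ = t' * (g * (y : G) * g⁻¹) * t'⁻¹ by group, hg,
          ← Subgroup.mem_centralizer_iff.mp ht' (y' : G) (Subgroup.mem_zpowers _), mul_inv_cancel_right])
    (fun χ => by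
      obtain ⟨y, hy⟩ := hPnt
      refine ⟨y, hy, fun h => hmaj y hy χ χ.2 ?_⟩
      rw [hfB] at h
      rw [show f (χ : IrrCharacter G) y = 0 from h, map_zero, mul_zero])
    (Finset.card_pos.mp (Nat.pos_of_ne_zero fun h => by
      rw [h, zero_mul] at hΘcard
      obtain ⟨y, hy⟩ := hPnt
      have : 2 ≤ Nat.card P := Finite.one_lt_card_iff_nontrivial.mpr ⟨⟨y, 1, hy⟩⟩
      omega))
    (by rw [hFe, ← Nat.card_eq_fintype_card, hkl]; omega)
  rw [hFe, ← Nat.card_eq_fintype_card] at hkA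
  have hl : blockRank p B = e := by omega
  obtain ⟨η, hηd⟩ : ∃ η : IrrCharacter P → IrrCharacter G, η = fun θ => (η' θ : IrrCharacter G) := ⟨_, rfl⟩
  obtain ⟨δ, hδd⟩ : ∃ δ : IrrCharacter G → ℤ, δ = fun χ =>
      if h : χ ∈ B ∧ ∀ θ ∈ Θ, η θ ≠ χ then s ⟨χ, h.1⟩ else 1 := ⟨_, rfl⟩
  have hηB : ∀ θ ∈ Θ, η θ ∈ B := fun θ _ => by rw [hηd]; exact (η' θ).2
  have hηinj : Set.InjOn η Θ := fun θ hθ θ' hθ' h => hηinj' hθ hθ' (Subtype.ext (by rw [hηd] at h; exact h))
  have hX : ∀ χ (h : χ ∈ B), (∀ θ ∈ Θ, η θ ≠ χ) → (δ χ = 1 ∨ δ χ = -1) ∧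
      (∀ y : P, y ≠ 1 → f χ y = -δ χ) ∧ ∃ n : ℤ, f χ 1 = n ∧ n ≡ -δ χ [ZMOD Nat.card P] := by
    intro χ h hn'
    have := hXrow ⟨χ, h⟩ fun θ hθ he => hn' θ hθ (by rw [hηd]; exact congrArg Subtype.val he)
    rw [hfB] at this
    rw [hδd]; beta_reduce
    rw [dif_pos ⟨h, hn'⟩]
    exact this
  have hfη' : ∀ θ ∈ Θ, (∀ y : P, y ≠ 1 → f (η θ) y = σ θ * CyclicOrbits.orb A (θ : P → ℂ) y) ∧
      ∃ n : ℤ, f (η θ) 1 = n ∧ n ≡ σ θ * e [ZMOD Nat.card P] := fun θ hθ => by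
    have := hηrow θ hθ
    rw [hfB, hFe] at this
    rw [hηd]
    exact this
  -- the relation on regular elements
  obtain ⟨Xs, hXs⟩ : ∃ Xs : Finset (IrrCharacter G),
      Xs = Finset.univ.filter (fun χ => χ ∈ B ∧ ∀ θ ∈ Θ, η θ ≠ χ) := ⟨_, rfl⟩
  have hXsB : ∀ χ ∈ Xs, χ ∈ B ∧ ∀ θ ∈ Θ, η θ ≠ χ := fun χ hχ => by
    rw [hXs, Finset.mem_filter] at hχ
    exact hχ.2
  have hsplit : ∀ h : IrrCharacter G → ℂ,
      ∑ χ ∈ Finset.univ.filter (· ∈ B), h χ = ∑ θ ∈ Θ, h (η θ) + ∑ χ ∈ Xs, h χ := by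
    intro h
    rw [← Finset.sum_image hηinj, ← Finset.sum_union]
    · refine Finset.sum_congr ?_ fun _ _ => rfl
      ext χ
      simp only [Finset.mem_filter, Finset.mem_univ, true_and, Finset.mem_union, Finset.mem_image, hXs]
      constructor
      · intro hχ
        by_cases hex : ∃ θ ∈ Θ, η θ = χ
        · exact Or.inl hex
        · push Not at hex
          exact Or.inr ⟨hχ, hex⟩
      · rintro (⟨θ, hθ, rfl⟩ | h1)
        · exact hηB θ hθ
        · exact h1.1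
    · refine Finset.disjoint_left.mpr fun χ h1 h2 => ?_
      obtain ⟨θ, hθ, rfl⟩ := Finset.mem_image.mp h1
      exact (hXsB _ h2).2 θ hθ rfl
  have hrel : ∀ g : G, ¬ p ∣ orderOf g → ∀ θ ∈ Θ,
      (σ θ : ℂ) * (η θ : G → ℂ) g + ∑ χ ∈ Xs, (δ χ : ℂ) * (χ : G → ℂ) g = 0 := by
    intro g hg
    obtain ⟨E, hE⟩ : ∃ E, E = ∑ χ ∈ Xs, (δ χ : ℂ) * (χ : G → ℂ) g := ⟨_, rfl⟩
    rw [← hE]
    have h := CyclicOrbits.orb_indep habP hAfree hΘnt hΘuniq
      (fun θ => conj ((σ θ : ℂ) * (η θ : G → ℂ) g + E)) fun y hy => ?_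
    · intro θ hθ
      exact (map_eq_zero conj).mp (h θ hθ)
    obtain ⟨s', hs', hws'⟩ := hexw y hy
    have h1 := sum_secH_reg hM (cen_zpowers _) (hord y) (fun h => hy (Subtype.ext h)) (hind y) hg hs'
    have h2 : ∑ χ ∈ Finset.univ.filter (· ∈ B), (χ : G → ℂ) g * conj (f χ y) = 0 := by
      refine (mul_eq_zero.mp (?_ : _ * conj (w y s') = 0)).resolve_right ((map_ne_zero conj).mpr hws')
      rw [← h1, Finset.sum_mul]
      exact Finset.sum_congr rfl fun χ _ => by rw [(hfw y hy).2 χ s' hs', map_mul]; ring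
    rw [hsplit, Finset.sum_congr (s₁ := Θ) rfl fun θ hθ => by rw [(hfη' θ hθ).1 y hy],
      Finset.sum_congr (s₁ := Xs) rfl fun χ hχ => by rw [(hX χ (hXsB χ hχ).1 (hXsB χ hχ).2).2.1 y hy]] at h2
    have h3 : ∑ χ ∈ Xs, (χ : G → ℂ) g * conj (-(δ χ : ℂ)) = -E := by
      rw [hE, ← Finset.sum_neg_distrib]
      exact Finset.sum_congr rfl fun χ _ => by rw [map_neg, map_intCast]; ring
    rw [h3] at h2
    have h4 := congrArg conj h2
    rw [map_add, map_neg, map_zero, map_sum] at h4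
    have h5 : ∑ θ ∈ Θ, conj E * CyclicOrbits.orb A (θ : P → ℂ) y = -conj E := by
      rw [← Finset.mul_sum, CyclicOrbits.sum_orb habP hAfree hΘnt hΘcov hΘuniq hy, mul_neg, mul_one]
    simp only [map_add, add_mul, Finset.sum_add_distrib, h5]
    rw [← h4]
    congr 1
    refine Finset.sum_congr rfl fun θ _ => ?_
    simp only [map_mul, map_intCast, Complex.conj_conj]
    ring
  have hΘne : Θ.Nonempty := Finset.card_pos.mp (Nat.pos_of_ne_zero fun h => by
    rw [h, zero_mul] at hΘcard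
    obtain ⟨y, hy⟩ := hPnt
    have : 2 ≤ Nat.card P := Finite.one_lt_card_iff_nontrivial.mpr ⟨⟨y, 1, hy⟩⟩
    omega)
  obtain ⟨θ₀, hθ₀⟩ := hΘne
  have hσeq : ∀ θ ∈ Θ, σ θ = σ θ₀ := by
    intro θ hθ
    have h1 := hrel 1 (by rw [orderOf_one]; exact hp.out.not_dvd_one) θ hθ
    have h2 := hrel 1 (by rw [orderOf_one]; exact hp.out.not_dvd_one) θ₀ hθ₀
    rw [← h2, add_left_inj, ← CfsgLib.CharBlocks.coe_charDegree_irr, ← CfsgLib.CharBlocks.coe_charDegree_irr] at h1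
    have h3 : σ θ * (charDegree (η θ : G → ℂ) : ℤ) = σ θ₀ * (charDegree (η θ₀ : G → ℂ) : ℤ) := by
      exact_mod_cast h1
    have d1 := CfsgLib.CharBlocks.charDegree_pos (η θ).2
    have d2 := CfsgLib.CharBlocks.charDegree_pos (η θ₀).2
    rcases hσ θ hθ with e1 | e1 <;> rcases hσ θ₀ hθ₀ with e2 | e2 <;> rw [e1, e2] at h3 ⊢ <;> omega
  -- heights
  have hdeg : ∀ χ ∈ B, ∃ n : ℤ, f χ 1 = n ∧ ¬ (p : ℤ) ∣ n := by
    intro χ hχ
    have hd1 : blockDefect p B ≠ 0 := fun h0 => by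
      rw [h0, pow_zero] at hcardP
      exact hne (Subgroup.card_eq_one.mp hcardP)
    have hpq : (p : ℤ) ∣ (Nat.card P : ℤ) := by
      rw [hcardP]; exact_mod_cast dvd_pow_self p hd1
    by_cases hex : ∃ θ ∈ Θ, η θ = χ
    · obtain ⟨θ, hθ, rfl⟩ := hex
      obtain ⟨n, hn1, hn2⟩ := (hfη' θ hθ).2
      refine ⟨n, hn1, fun h => hep ?_⟩
      have h3 : (p : ℤ) ∣ σ θ * e := by simpa using dvd_add h (hpq.trans (Int.modEq_iff_dvd.mp hn2))
      rcases hσ θ hθ with e1 | e1 <;> rw [e1] at h3 <;>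
        simpa [Int.natCast_dvd_natCast] using h3
    · push Not at hex
      obtain ⟨hs1, -, n, hn1, hn2⟩ := hX χ hχ hex
      refine ⟨n, hn1, fun h => ?_⟩
      have h3 : (p : ℤ) ∣ -δ χ := by simpa using dvd_add h (hpq.trans (Int.modEq_iff_dvd.mp hn2))
      have h4 : (p : ℤ) ∣ 1 := by rcases hs1 with e1 | e1 <;> rw [e1] at h3 <;> simpa using h3
      exact hp.out.not_dvd_one (by exact_mod_cast h4)
  have hh : ∀ χ ∈ B, blockHeight p B (χ : G → ℂ) = 0 := by
    intro χ hχ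
    obtain ⟨y, hy⟩ := hPnt
    obtain ⟨n, hn1, hn⟩ := hdeg χ hχ
    obtain ⟨n₀, hn₀1, hn₀⟩ := hdeg χ₀ hχ₀
    obtain ⟨m1, h1⟩ := res_char_eq hM habP hcardP (hfchar χ₀) hn₀1 y
    obtain ⟨m2, h2⟩ := res_char_eq hM habP hcardP (hfchar χ) hn1 y⁻¹
    refine height_zero_of_ctr hM (cen_zpowers _) (hord y) (hind y) (hdef y) hχ₀ hh₀ hχ
      (z := ⟨_, m1⟩ * ⟨_, m2⟩) ?_ ?_
    · rw [hctr y hy, Subring.coe_mul]
      exact congrArg (f χ₀ y * ·) (char_inv (hfchar χ) y).symm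
    · rw [map_mul, h1, h2]
      refine mul_ne_zero ?_ ?_
      · rw [Ne, ← map_intCast (res M), res_intCast_eq_zero_iff M hM]; exact hn₀
      · rw [Ne, ← map_intCast (res M), res_intCast_eq_zero_iff M hM]; exact hn
  refine ⟨⟨A, Θ, f, w, η, σ θ₀, δ, hcardA, hAfree, hAT, hTA, hΘnt, by rw [hcardA, ← hed]; exact hΘcard, hΘcov,
    hΘuniq, hηB, hηinj, hfchar, hfinv, hnorm, fun y hy => (hfw y hy).2, hσ θ₀ hθ₀, fun χ => ?_, fun θ hθ y hy => ?_,
    fun χ hχ hn' y hy => (hX χ hχ hn').2.1 y hy, ?_, ?_, hh, fun θ hθ g hg => ?_, ?_⟩⟩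
  · by_cases h : χ ∈ B ∧ ∀ θ ∈ Θ, η θ ≠ χ
    · exact (hX χ h.1 h.2).1
    · rw [hδd]; beta_reduce; rw [dif_neg h]; exact Or.inl rfl
  · rw [(hfη' θ hθ).1 y hy, hσeq θ hθ, CyclicOrbits.orb,
      show (∑ᶠ a ∈ A, (θ : P → ℂ) (a y)) = ∑ᶠ a ∈ (A : Set (MulAut P)), (θ : P → ℂ) (a y) from rfl,
      finsum_mem_eq_finite_toFinset_sum _ (Set.toFinite _)]
    congr 1
    exact (Finset.sum_subtype _ (fun a => Set.Finite.mem_toFinset _) (fun a : MulAut P => (θ : P → ℂ) (a y))).symm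
  · rw [← hed]; omega
  · rw [← hed]; exact hl
  · rw [← hXs, ← hσeq θ hθ]
    exact hrel g hg θ hθ
  -- the values at singular elements
  · intro a ha g hg
    obtain ⟨x, s', hgx, hxs, hx, hs'⟩ := exists_isPPart (p := p) g
    have hx1 : x ≠ 1 := fun h => hs' (by rw [← hgx, h, one_mul] at hg; exact hg)
    obtain ⟨H, hH⟩ : ∃ H : Subgroup G, H = Cen (Subgroup.zpowers x) := ⟨_, rfl⟩
    subst hH
    have hsH : s' ∈ Cen (Subgroup.zpowers x) := by
      rw [cen_zpowers]; exact Subgroup.mem_centralizer_singleton_iff.mpr hxs.eq.symm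
    have hsreg : ¬ p ∣ orderOf (⟨s', hsH⟩ : Cen (Subgroup.zpowers x)) := by rwa [Subgroup.orderOf_mk]
    let _ := Fintype.ofFinite (Cen (Subgroup.zpowers x))
    let _ := Fintype.ofFinite {b : Set (IrrCharacter (Cen (Subgroup.zpowers x))) // IsPBlock M b}
    rw [← hgx, Finset.sum_congr rfl fun χ hχ => by
      rw [← sum_inducingH (cen_zpowers x) hM hx hB χ (Finset.mem_filter.mp hχ).2 hsreg, Finset.mul_sum],
      Finset.sum_comm]
    refine Finset.sum_eq_zero fun b _ => ?_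
    by_cases hb : IsInducedBlock M (Cen (Subgroup.zpowers x)) b.1 B
    swap
    · exact Finset.sum_eq_zero fun χ _ => by rw [if_neg hb, mul_zero]
    simp only [if_pos hb]
    have hbp := (brauerPairOf_iff_induced hM (isPGroup_zpowers hx) b.2 hB).mpr hb
    obtain ⟨g₀, hg₀⟩ := exists_conj_le_maximal hM (a := ⟨Subgroup.zpowers x, b.1⟩) (b := ⟨P, c⟩) hmax hbp
    have hy'P : g₀ * x * g₀⁻¹ ∈ P := subgroup_le hg₀ (by
      rw [cjPair_fst, map_conj_zpowers]; exact Subgroup.mem_zpowers _)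
    obtain ⟨y, hyd⟩ : ∃ y : P, y = ⟨_, hy'P⟩ := ⟨_, rfl⟩
    have hyG : (y : G) = g₀ * x * g₀⁻¹ := congrArg Subtype.val hyd
    have hy1 : y ≠ 1 := fun h => hx1 (conj_eq_one_iff.mp (hyG.symm.trans (congrArg Subtype.val h)))
    have hpe : cjPair g₀ (⟨Subgroup.zpowers x, b.1⟩ : BrauerPairIdx G) = ⟨_, β y⟩ :=
      pair_eq_of_le hM hP hg₀ (hβ y) (by rw [cjPair_fst, map_conj_zpowers]; exact congrArg Subgroup.zpowers hyG.symm)
    have hiff : ∀ z, z ∈ Cen (Subgroup.zpowers (y : G)) ↔ g₀⁻¹ * z * g₀ ∈ Cen (Subgroup.zpowers x) := fun z => by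
      rw [hyG, ← map_conj_zpowers]
      exact mem_centralizer_map_conj
    let _ := Fintype.ofFinite (Cen (Subgroup.zpowers (y : G)))
    have htb : tblock (conjEquiv g₀ _ _ hiff) b.1 = β y := by
      refine gidem_inj (M := M) (isPBlock_tblock _ b.2) (hblk y) ?_
      rw [gidem_tblock]
      have h2 := congrArg (pid M) hpe
      rwa [pid_cjPair] at h2
    obtain ⟨es, hesd⟩ : ∃ es, es = conjEquiv g₀ _ _ hiff ⟨s', hsH⟩ := ⟨_, rfl⟩
    have hesreg : ¬ p ∣ orderOf es := by rwa [hesd, MulEquiv.orderOf_eq]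
    have hval : ∀ χ, secH x (Cen (Subgroup.zpowers x)) b.1 χ ⟨s', hsH⟩ = f χ y * w y es := by
      intro χ
      rw [← (hfw y hy1).2 χ es hesreg, secH, secH, ← htb, hesd, blockPart_tblock]
      refine congrArg (fun h => blockPart b.1 h _) (funext fun k => ?_)
      rw [show ((conjEquiv g₀ _ _ hiff k : Cen (Subgroup.zpowers (y : G))) : G) = g₀ * (k : G) * g₀⁻¹ from rfl, hyG,
        show g₀ * x * g₀⁻¹ * (g₀ * (k : G) * g₀⁻¹) = g₀ * (x * (k : G)) * g₀⁻¹ by group,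
        isClassFunction_of_isIrr χ.2]
    rw [Finset.sum_congr rfl fun χ _ => by rw [hval χ, ← mul_assoc], ← Finset.sum_mul, ha y hy1, zero_mul]

end CfsgLib.Blocks.Cyclic
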