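import Cfsg.Agent.Lib.Blocks.CyclicPrincipal
import Cfsg.Agent.Lib.Blocks.CentralProduct
import Cfsg.Agent.Lib.BlockArith.Subsection
import Cfsg.Agent.Lib.BrauerPairs.Principal
import Cfsg.Agent.Lib.CharNormal.Gallagher

/-!
# Values on the sections of a Sylow subgroup of prime order

For an irreducible character `θ` of `C = C(P)` trivial on `P`, `coef θ f i` is the multiple of `θ` in
the restriction of the class function `f` to the section of `pw i`.
-/

set_option autoImplicit false

noncomputable section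

namespace CfsgLib.Blocks.PrimeLocal

open Cfsg PrimeSylow
open scoped ComplexConjugate

variable {G : Type*} [Group G] [Fintype G] {p : ℕ} [hp : Fact p.Prime] (P : Sylow p G)
  (hP : Nat.card P = p)

local notation "ψ" => ZMod.stdAddChar

omit [Fintype G] hp in
theorem commute_of_mem {c z : G} (hc : c ∈ (Subgroup.centralizer ((P : Subgroup G) : Set G))) (hz : z ∈ (P : Subgroup G)) : Commute z c :=
  Subgroup.mem_centralizer_iff.mp hc z hz

/-- `pw i`, inside the centraliser. -/
def pwC (i : ZMod p) : (Subgroup.centralizer ((P : Subgroup G) : Set G)) := ⟨pw P hP i, le_centralizer P hP (pw_mem P hP i)⟩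

theorem coe_pwC (i : ZMod p) : (pwC P hP i : G) = pw P hP i := rfl

theorem pwC_mem_center (i : ZMod p) : pwC P hP i ∈ Subgroup.center (Subgroup.centralizer ((P : Subgroup G) : Set G)) :=
  Subgroup.mem_center_iff.mpr fun c => Subtype.ext (commute_of_mem P c.2 (pw_mem P hP i)).eq.symm

omit [Fintype G] hp in
theorem reg_coe (c : (Subgroup.centralizer ((P : Subgroup G) : Set G))) : ¬ p ∣ orderOf c ↔ ¬ p ∣ orderOf (c : G) := by rw [Subgroup.orderOf_coe]

theorem exists_split (c : (Subgroup.centralizer ((P : Subgroup G) : Set G))) : ∃ (i : ZMod p) (y : (Subgroup.centralizer ((P : Subgroup G) : Set G))), ¬ p ∣ orderOf y ∧ c = pwC P hP i * y := by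
  obtain ⟨z, y, hzy, hcomm, hz, hy⟩ := exists_isPPart (p := p) c
  have hz' : (z : G) ∈ (P : Subgroup G) :=
    mem_of_pElement_centralizer P z.2 (by simpa [Subgroup.orderOf_coe] using hz)
  obtain ⟨i, hi⟩ := pw_surjOn P hP hz'
  exact ⟨i, y, hy, by rw [← hzy, show pwC P hP i = z from Subtype.ext hi]⟩

theorem isPPart_split (i : ZMod p) {y : (Subgroup.centralizer ((P : Subgroup G) : Set G))} (hy : ¬ p ∣ orderOf y) :
    IsPPart p (pwC P hP i * y) (pwC P hP i) := by
  refine isPPart_mul (Subgroup.mem_center_iff.mp (pwC_mem_center P hP i) y).symm ?_ hy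
  rw [← Subgroup.orderOf_coe]
  exact orderOf_pw_pow P hP i

theorem split_inj {i j : ZMod p} {y y' : (Subgroup.centralizer ((P : Subgroup G) : Set G))} (hy : ¬ p ∣ orderOf y) (hy' : ¬ p ∣ orderOf y')
    (h : pwC P hP i * y = pwC P hP j * y') : i = j ∧ y = y' := by
  have e : pwC P hP i = pwC P hP j :=
    isPPart_unique (isPPart_split P hP i hy) (h ▸ isPPart_split P hP j hy')
  exact ⟨pw_injective P hP (congrArg Subtype.val e), mul_left_cancel (e ▸ h)⟩

/-- Sums over the centraliser by sections. -/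
theorem sum_split [Fintype (Subgroup.centralizer ((P : Subgroup G) : Set G))] {β : Type*} [AddCommMonoid β] (F : (Subgroup.centralizer ((P : Subgroup G) : Set G)) → β) :
    ∑ c : (Subgroup.centralizer ((P : Subgroup G) : Set G)), F c = ∑ i : ZMod p, ∑ y : (Subgroup.centralizer ((P : Subgroup G) : Set G)), if p ∣ orderOf y then 0 else F (pwC P hP i * y) := by
  classical
  rw [← Finset.sum_product', Finset.univ_product_univ]
  symm
  rw [show (∑ x : ZMod p × (Subgroup.centralizer ((P : Subgroup G) : Set G)), if p ∣ orderOf x.2 then 0 else F (pwC P hP x.1 * x.2)) =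
    ∑ x ∈ Finset.univ.filter (fun x : ZMod p × (Subgroup.centralizer ((P : Subgroup G) : Set G)) => ¬ p ∣ orderOf x.2), F (pwC P hP x.1 * x.2) by
    rw [Finset.sum_filter]; exact Finset.sum_congr rfl fun x _ => by split_ifs <;> rfl]
  refine Finset.sum_bij (fun x _ => pwC P hP x.1 * x.2) (fun _ _ => Finset.mem_univ _)
    (fun a ha b hb h => ?_) (fun c _ => ?_) fun _ _ => rfl
  · obtain ⟨h1, h2⟩ := split_inj P hP (Finset.mem_filter.mp ha).2 (Finset.mem_filter.mp hb).2 h
    exact Prod.ext h1 h2
  · obtain ⟨i, y, hy, hc⟩ := exists_split P hP c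
    exact ⟨(i, y), by simp [hy], hc.symm⟩

include hP in
theorem reg_mul {y y' : (Subgroup.centralizer ((P : Subgroup G) : Set G))} (hy : ¬ p ∣ orderOf y) (hy' : ¬ p ∣ orderOf y') : ¬ p ∣ orderOf (y * y') := by
  obtain ⟨N, hN, hcop, k, hk⟩ :=
    CfsgLib.Transfer.hasNormalPComplement_iff.mp (hasNormalPComplement_centralizer P hP)
  have hmem : ∀ z : (Subgroup.centralizer ((P : Subgroup G) : Set G)), ¬ p ∣ orderOf z → z ∈ N := fun z hz => mem_of_index_pow hp.out ⟨k, hk⟩ hz
  intro h
  have h1 : p ∣ Nat.card N := h.trans (by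
    rw [← Subgroup.orderOf_mk (y * y') (N.mul_mem (hmem y hy) (hmem y' hy'))]
    exact orderOf_dvd_natCard _)
  exact hp.out.one_lt.ne' (Nat.dvd_one.mp (hcop.gcd_eq_one ▸ Nat.dvd_gcd h1 dvd_rfl))

/-- The exponent of the `p`-part. -/
def iota (c : (Subgroup.centralizer ((P : Subgroup G) : Set G))) : ZMod p := Classical.choose (exists_split P hP c)

theorem iota_eq {i : ZMod p} {y : (Subgroup.centralizer ((P : Subgroup G) : Set G))} (hy : ¬ p ∣ orderOf y) : iota P hP (pwC P hP i * y) = i := by
  obtain ⟨y', hy', h⟩ := Classical.choose_spec (exists_split P hP (pwC P hP i * y))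
  exact (split_inj P hP hy hy' h).1.symm

theorem pwC_add (i j : ZMod p) : pwC P hP (i + j) = pwC P hP i * pwC P hP j :=
  Subtype.ext (pw_add P hP i j)

theorem pwC_zero : pwC P hP 0 = 1 := Subtype.ext (pw_zero P hP)

theorem iota_mul (c d : (Subgroup.centralizer ((P : Subgroup G) : Set G))) : iota P hP (c * d) = iota P hP c + iota P hP d := by
  obtain ⟨i, y, hy, rfl⟩ := exists_split P hP c
  obtain ⟨j, z, hz, rfl⟩ := exists_split P hP d
  rw [iota_eq P hP hy, iota_eq P hP hz]
  have : pwC P hP i * y * (pwC P hP j * z) = pwC P hP (i + j) * (y * z) := by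
    rw [pwC_add, mul_assoc, mul_assoc, ← mul_assoc y, ← (Subgroup.mem_center_iff.mp (pwC_mem_center P hP j) y).symm,
      mul_assoc]
  rw [this, iota_eq P hP (reg_mul P hP hy hz)]

theorem iota_one : iota P hP 1 = 0 := by
  have := iota_eq P hP (i := 0) (y := (1 : (Subgroup.centralizer ((P : Subgroup G) : Set G)))) (by rw [orderOf_one]; exact hp.out.not_dvd_one)
  rwa [pwC_zero, one_mul] at this

/-- The linear characters of the centraliser that are trivial on the regular elements. -/
def lam (j : ZMod p) : IrrCharacter (Subgroup.centralizer ((P : Subgroup G) : Set G)) :=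
  ⟨fun c => ((MonoidHom.toHomUnits
    { toFun := fun c : (Subgroup.centralizer ((P : Subgroup G) : Set G)) => ψ (j * iota P hP c)
      map_one' := by rw [iota_one, mul_zero, AddChar.map_zero_eq_one]
      map_mul' := fun c d => by rw [iota_mul, mul_add, AddChar.map_add_eq_mul] } c : ℂˣ) : ℂ),
    CfsgLib.Char.isIrrCharacter_units_hom _⟩

theorem lam_apply (j : ZMod p) (c : (Subgroup.centralizer ((P : Subgroup G) : Set G))) :
    (lam P hP j : (Subgroup.centralizer ((P : Subgroup G) : Set G)) → ℂ) c = ψ (j * iota P hP c) := rfl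

section theta

variable {θ : IrrCharacter (Subgroup.centralizer ((P : Subgroup G) : Set G))}
  (hθP : ∀ x : (Subgroup.centralizer ((P : Subgroup G) : Set G)), (x : G) ∈ (P : Subgroup G) → (θ : (Subgroup.centralizer ((P : Subgroup G) : Set G)) → ℂ) x = (θ : (Subgroup.centralizer ((P : Subgroup G) : Set G)) → ℂ) 1)

variable [Fintype (Subgroup.centralizer ((P : Subgroup G) : Set G))]

include hθP in
theorem theta_mul (i : ZMod p) (y : (Subgroup.centralizer ((P : Subgroup G) : Set G))) : (θ : (Subgroup.centralizer ((P : Subgroup G) : Set G)) → ℂ) (pwC P hP i * y) = (θ : (Subgroup.centralizer ((P : Subgroup G) : Set G)) → ℂ) y := by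
  rw [char_central_mul θ (pwC_mem_center P hP i), centScal, hθP _ (pw_mem P hP i),
    div_self (CfsgLib.Char.irr_one_ne_zero θ.2), one_mul]

include hP hθP in
theorem regular_inner {θ' : IrrCharacter (Subgroup.centralizer ((P : Subgroup G) : Set G))}
    (hθ' : ∀ x : (Subgroup.centralizer ((P : Subgroup G) : Set G)), (x : G) ∈ (P : Subgroup G) → (θ' : (Subgroup.centralizer ((P : Subgroup G) : Set G)) → ℂ) x = (θ' : (Subgroup.centralizer ((P : Subgroup G) : Set G)) → ℂ) 1) [Decidable (θ = θ')] :
    ∑ y : (Subgroup.centralizer ((P : Subgroup G) : Set G)), (if p ∣ orderOf y then 0 else (θ : (Subgroup.centralizer ((P : Subgroup G) : Set G)) → ℂ) y * conj ((θ' : (Subgroup.centralizer ((P : Subgroup G) : Set G)) → ℂ) y)) =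
      if θ = θ' then (Nat.card (Subgroup.centralizer ((P : Subgroup G) : Set G)) : ℂ) / p else 0 := by
  classical
  have : NeZero p := ⟨hp.out.ne_zero⟩
  have h := CfsgLib.Char.classInner_irrCharacter θ θ'
  rw [CfsgLib.Char.classInner_def, sum_split P hP] at h
  simp only [theta_mul P hP hθP, theta_mul P hP hθ', Finset.sum_const, Finset.card_univ, ZMod.card,
    nsmul_eq_mul] at h
  have hC : (Nat.card (Subgroup.centralizer ((P : Subgroup G) : Set G)) : ℂ) ≠ 0 := CfsgLib.Char.card_ne_zero'
  have hp0 : (p : ℂ) ≠ 0 := Nat.cast_ne_zero.mpr hp.out.ne_zero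
  rw [inv_mul_eq_iff_eq_mul₀ hC] at h
  split_ifs with e
  · rw [if_pos e] at h
    rw [eq_div_iff hp0]
    linear_combination h
  · rw [if_neg e, mul_zero] at h
    exact (mul_eq_zero.mp h).resolve_left hp0

/-- The multiple of `θ` in `f` on the section of `pw i`. -/
def coef (θ : IrrCharacter (Subgroup.centralizer ((P : Subgroup G) : Set G))) (f : G → ℂ) (i : ZMod p) : ℂ :=
  ((p : ℂ) / (Nat.card (Subgroup.centralizer ((P : Subgroup G) : Set G)) : ℂ)) *
    ∑ y : (Subgroup.centralizer ((P : Subgroup G) : Set G)), if p ∣ orderOf y then 0 else f (pw P hP i * (y : G)) * conj ((θ : (Subgroup.centralizer ((P : Subgroup G) : Set G)) → ℂ) y)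

include hθP in
/-- The coefficients are the Fourier transform of natural numbers. -/
theorem exists_mult {χ : G → ℂ} (hχ : IsCharacter G χ) :
    ∃ n : ZMod p → ℕ, ∀ j : ZMod p, (p : ℂ) * (n j : ℂ) = ∑ i : ZMod p, ψ (-(j * i)) * coef P hP θ χ i := by
  classical
  have hirr : ∀ j, IsIrrCharacter (Subgroup.centralizer ((P : Subgroup G) : Set G)) ((θ : (Subgroup.centralizer ((P : Subgroup G) : Set G)) → ℂ) * (lam P hP j : (Subgroup.centralizer ((P : Subgroup G) : Set G)) → ℂ)) := fun j =>
    CfsgLib.CharNormal.isIrr_mul_linear θ.2 (CfsgLib.Char.isCharacter_of_isIrr (lam P hP j).2)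
      (by rw [lam_apply, iota_one, mul_zero, AddChar.map_zero_eq_one])
  choose n hn using fun j => CfsgLib.Char.classInner_char_nat
    (CfsgLib.Char.isCharacter_res (Subgroup.centralizer ((P : Subgroup G) : Set G)) hχ) (CfsgLib.Char.isCharacter_of_isIrr (hirr j))
  refine ⟨n, fun j => ?_⟩
  rw [← hn j, CfsgLib.Char.classInner_def, sum_split P hP, Finset.mul_sum, Finset.mul_sum]
  refine Finset.sum_congr rfl fun i _ => ?_
  have e : ∀ y : (Subgroup.centralizer ((P : Subgroup G) : Set G)), (if p ∣ orderOf y then 0 else χ ((pwC P hP i * y : (Subgroup.centralizer ((P : Subgroup G) : Set G))) : G) *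
      conj (((θ : (Subgroup.centralizer ((P : Subgroup G) : Set G)) → ℂ) * (lam P hP j : (Subgroup.centralizer ((P : Subgroup G) : Set G)) → ℂ)) (pwC P hP i * y))) =
      ψ (-(j * i)) * (if p ∣ orderOf y then 0 else χ (pw P hP i * (y : G)) * conj ((θ : (Subgroup.centralizer ((P : Subgroup G) : Set G)) → ℂ) y)) := by
    intro y
    split_ifs with hy
    · rw [mul_zero]
    · rw [Pi.mul_apply, theta_mul P hP hθP, lam_apply, iota_eq P hP hy, map_mul, conj_stdAddChar]
      change χ (pw P hP i * (y : G)) * _ = _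
      ring
  rw [Finset.sum_congr rfl fun y _ => e y, ← Finset.mul_sum, coef]
  ring

/-- Conjugation of the centraliser by an element of the normaliser. -/
def cjC (n : (Subgroup.normalizer ((P : Subgroup G) : Set G))) : (Subgroup.centralizer ((P : Subgroup G) : Set G)) ≃* (Subgroup.centralizer ((P : Subgroup G) : Set G)) where
  toFun c := ⟨(n : G) * (c : G) * (n : G)⁻¹, by
    refine Subgroup.mem_centralizer_iff.mpr fun z hz => ?_
    have hz' := (Subgroup.mem_normalizer_iff.mp (((Subgroup.normalizer ((P : Subgroup G) : Set G))).inv_mem n.2) z).mp hz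
    have := (commute_of_mem P c.2 hz').map (MulAut.conj (n : G))
    simpa [mul_assoc, Commute, SemiconjBy] using this⟩
  invFun c := ⟨(n : G)⁻¹ * (c : G) * (n : G), by
    refine Subgroup.mem_centralizer_iff.mpr fun z hz => ?_
    have hz' := (Subgroup.mem_normalizer_iff.mp n.2 z).mp hz
    have := (commute_of_mem P c.2 hz').map (MulAut.conj (n : G)⁻¹)
    simpa [mul_assoc, Commute, SemiconjBy] using this⟩
  left_inv c := Subtype.ext (by simp [mul_assoc])
  right_inv c := Subtype.ext (by simp [mul_assoc])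
  map_mul' c d := Subtype.ext (by simp [mul_assoc])

theorem coe_cjC (n : (Subgroup.normalizer ((P : Subgroup G) : Set G))) (c : (Subgroup.centralizer ((P : Subgroup G) : Set G))) : (cjC P n c : G) = (n : G) * (c : G) * (n : G)⁻¹ := rfl

/-- The conjugate character. -/
def thn (θ : IrrCharacter (Subgroup.centralizer ((P : Subgroup G) : Set G))) (n : (Subgroup.normalizer ((P : Subgroup G) : Set G))) : IrrCharacter (Subgroup.centralizer ((P : Subgroup G) : Set G)) :=
  ⟨(θ : (Subgroup.centralizer ((P : Subgroup G) : Set G)) → ℂ) ∘ cjC P n, CfsgLib.CharNormal.isIrr_comp_mulEquiv θ.2 _⟩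

theorem thn_apply (n : (Subgroup.normalizer ((P : Subgroup G) : Set G))) (c : (Subgroup.centralizer ((P : Subgroup G) : Set G))) : (thn P θ n : (Subgroup.centralizer ((P : Subgroup G) : Set G)) → ℂ) c = (θ : (Subgroup.centralizer ((P : Subgroup G) : Set G)) → ℂ) (cjC P n c) := rfl

include hθP in
theorem thn_trivial (n : (Subgroup.normalizer ((P : Subgroup G) : Set G))) (x : (Subgroup.centralizer ((P : Subgroup G) : Set G))) (hx : (x : G) ∈ (P : Subgroup G)) :
    (thn P θ n : (Subgroup.centralizer ((P : Subgroup G) : Set G)) → ℂ) x = (thn P θ n : (Subgroup.centralizer ((P : Subgroup G) : Set G)) → ℂ) 1 := by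
  rw [thn_apply, thn_apply, map_one]
  exact hθP _ (by rw [coe_cjC]; exact (Subgroup.mem_normalizer_iff.mp n.2 _).mp hx)

theorem coef_thn {f : G → ℂ} (hf : IsClassFunction G f) (θ : IrrCharacter (Subgroup.centralizer ((P : Subgroup G) : Set G))) (n : (Subgroup.normalizer ((P : Subgroup G) : Set G))) (i : ZMod p) :
    coef P hP (thn P θ n) f i = coef P hP θ f (rho P hP n * i) := by
  rw [coef, coef]
  refine congrArg _ (Fintype.sum_equiv (cjC P n).toEquiv _ _ fun y => ?_)
  simp only [MulEquiv.toEquiv_eq_coe, EquivLike.coe_coe, MulEquiv.orderOf_eq, thn_apply]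
  split_ifs
  · rfl
  · rw [coe_cjC, ← conj_pw' P hP n i, ← hf (pw P hP i * (y : G)) (n : G)]
    congr 2
    group

theorem mem_normalizer_of_conj_pw {w : G} {i l : ZMod p} (hi : i ≠ 0)
    (hw : w * pw P hP i * w⁻¹ = pw P hP l) : w ∈ (Subgroup.normalizer ((P : Subgroup G) : Set G)) := by
  have hl : l ≠ 0 := fun hl => hi ((pw_eq_one_iff P hP).mp (by
    rw [hl, pw_zero] at hw; exact (conj_eq_one_iff (a := w)).mp hw))
  rw [Subgroup.mem_normalizer_iff_map_conj_eq, ← zpowers_pw P hP hi]
  conv_rhs => rw [zpowers_pw P hP hi, ← zpowers_pw P hP hl]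
  rw [MonoidHom.map_zpowers]
  exact congrArg Subgroup.zpowers hw

include hθP in
/-- Orthogonality of the coefficients over all irreducible characters. -/
theorem sum_coef_mul (i l : ZMod p) (hl : l ≠ 0)
    [Decidable (∃ w : (Subgroup.normalizer ((P : Subgroup G) : Set G)), thn P θ w = θ ∧ rho P hP w * i = l)] :
    ∑ χ : IrrCharacter G, coef P hP θ (χ : G → ℂ) i * conj (coef P hP θ (χ : G → ℂ) l) =
      if ∃ w : (Subgroup.normalizer ((P : Subgroup G) : Set G)), thn P θ w = θ ∧ rho P hP w * i = l then (p : ℂ) else 0 := by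
  classical
  have hC : (Nat.card (Subgroup.centralizer ((P : Subgroup G) : Set G)) : ℂ) ≠ 0 := CfsgLib.Char.card_ne_zero'
  have hp0 : (p : ℂ) ≠ 0 := Nat.cast_ne_zero.mpr hp.out.ne_zero
  -- expand by second orthogonality
  have h1 : ∑ χ : IrrCharacter G, coef P hP θ (χ : G → ℂ) i * conj (coef P hP θ (χ : G → ℂ) l) =
      ((p : ℂ) / (Nat.card (Subgroup.centralizer ((P : Subgroup G) : Set G)) : ℂ)) ^ 2 * ∑ y : (Subgroup.centralizer ((P : Subgroup G) : Set G)), ∑ y' : (Subgroup.centralizer ((P : Subgroup G) : Set G)),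
        if p ∣ orderOf y ∨ p ∣ orderOf y' then 0 else conj ((θ : (Subgroup.centralizer ((P : Subgroup G) : Set G)) → ℂ) y) * (θ : (Subgroup.centralizer ((P : Subgroup G) : Set G)) → ℂ) y' *
          ∑ χ : IrrCharacter G, (χ : G → ℂ) (pw P hP i * (y : G)) * conj ((χ : G → ℂ) (pw P hP l * (y' : G))) := by
    have e : ∀ y y' : (Subgroup.centralizer ((P : Subgroup G) : Set G)), (if p ∣ orderOf y ∨ p ∣ orderOf y' then 0 else
        conj ((θ : (Subgroup.centralizer ((P : Subgroup G) : Set G)) → ℂ) y) * (θ : (Subgroup.centralizer ((P : Subgroup G) : Set G)) → ℂ) y' *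
          ∑ χ : IrrCharacter G, (χ : G → ℂ) (pw P hP i * (y : G)) * conj ((χ : G → ℂ) (pw P hP l * (y' : G)))) =
        ∑ χ : IrrCharacter G, (if p ∣ orderOf y then 0 else (χ : G → ℂ) (pw P hP i * (y : G)) * conj ((θ : (Subgroup.centralizer ((P : Subgroup G) : Set G)) → ℂ) y)) *
          conj (if p ∣ orderOf y' then 0 else (χ : G → ℂ) (pw P hP l * (y' : G)) * conj ((θ : (Subgroup.centralizer ((P : Subgroup G) : Set G)) → ℂ) y')) := by
      intro y y'
      by_cases hy : p ∣ orderOf y
      · simp [hy]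
      by_cases hy' : p ∣ orderOf y'
      · simp [hy']
      simp only [hy, hy', or_self, if_false, Finset.mul_sum, map_mul, Complex.conj_conj]
      exact Finset.sum_congr rfl fun χ _ => by ring
    simp only [e]
    rw [Finset.mul_sum]
    conv_rhs => enter [2, y]; rw [Finset.sum_comm]
    rw [← Finset.mul_sum, Finset.sum_comm, Finset.mul_sum]
    refine Finset.sum_congr rfl fun χ _ => ?_
    simp only [coef, map_mul, map_div₀, map_natCast, map_sum, ← Finset.mul_sum, ← Finset.sum_mul]
    ring
  have h2 : ∀ (y y' : (Subgroup.centralizer ((P : Subgroup G) : Set G))), ¬ p ∣ orderOf y → ¬ p ∣ orderOf y' →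
      (∑ χ : IrrCharacter G, (χ : G → ℂ) (pw P hP i * (y : G)) * conj ((χ : G → ℂ) (pw P hP l * (y' : G)))) =
      ∑ w : (Subgroup.normalizer ((P : Subgroup G) : Set G)), if rho P hP w * i = l ∧ cjC P w y = y' then (1 : ℂ) else 0 := by
    intro y y' hy hy'
    rw [CfsgLib.Char.second_orthogonality, CfsgLib.BlockArith.conjugators_eq]
    have hsub : ∀ w : G, w * (pw P hP i * (y : G)) * w⁻¹ = pw P hP l * (y' : G) →
        ∃ hw : w ∈ (Subgroup.normalizer ((P : Subgroup G) : Set G)), rho P hP ⟨w, hw⟩ * i = l ∧ cjC P ⟨w, hw⟩ y = y' := by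
      intro w hw
      have p1 : IsPPart p (pw P hP i * (y : G)) (pw P hP i) :=
        isPPart_mul (commute_of_mem P y.2 (pw_mem P hP i)) (orderOf_pw_pow P hP i) ((reg_coe P y).mp hy)
      have p2 : IsPPart p (pw P hP l * (y' : G)) (pw P hP l) :=
        isPPart_mul (commute_of_mem P y'.2 (pw_mem P hP l)) (orderOf_pw_pow P hP l) ((reg_coe P y').mp hy')
      have e : w * pw P hP i * w⁻¹ = pw P hP l := isPPart_unique (hw ▸ isPPart_conj p1 w) p2
      have hi : i ≠ 0 := fun h0 => hl ((pw_eq_one_iff P hP).mp (by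
        rw [← e, h0, pw_zero, mul_one, mul_inv_cancel]))
      refine ⟨mem_normalizer_of_conj_pw P hP hi e, pw_injective P hP ?_, Subtype.ext ?_⟩
      · rw [← conj_pw']; exact e
      · rw [coe_cjC]
        refine mul_left_cancel (a := pw P hP l) ?_
        rw [← hw]
        conv_lhs => rw [← e]
        group
    rw [← Finset.sum_filter, ← Finset.sum_filter, Finset.sum_const, Finset.sum_const]
    congr 1
    refine Finset.card_bij' (fun w hw => ⟨w, (hsub w (Finset.mem_filter.mp hw).2).1⟩) (fun w _ => (w : G))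
      (fun w hw => ?_) (fun w hw => ?_) (fun _ _ => rfl) (fun _ _ => rfl)
    · obtain ⟨_, h, h'⟩ := hsub w (Finset.mem_filter.mp hw).2
      exact Finset.mem_filter.mpr ⟨Finset.mem_univ _, h, h'⟩
    · obtain ⟨h, h'⟩ := (Finset.mem_filter.mp hw).2
      refine Finset.mem_filter.mpr ⟨Finset.mem_univ _, ?_⟩
      rw [← h, ← h', ← conj_pw', coe_cjC]
      group
  -- the inner sum is an inner product of `θ` with a conjugate
  have h3 : ∀ w : (Subgroup.normalizer ((P : Subgroup G) : Set G)), ∑ y : (Subgroup.centralizer ((P : Subgroup G) : Set G)), ∑ y' : (Subgroup.centralizer ((P : Subgroup G) : Set G)), (if p ∣ orderOf y ∨ p ∣ orderOf y' then (0 : ℂ) else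
      conj ((θ : (Subgroup.centralizer ((P : Subgroup G) : Set G)) → ℂ) y) * (θ : (Subgroup.centralizer ((P : Subgroup G) : Set G)) → ℂ) y' * if rho P hP w * i = l ∧ cjC P w y = y' then 1 else 0) =
      if rho P hP w * i = l ∧ thn P θ w = θ then (Nat.card (Subgroup.centralizer ((P : Subgroup G) : Set G)) : ℂ) / p else 0 := by
    intro w
    by_cases hw : rho P hP w * i = l
    · simp only [hw, true_and]
      rw [← regular_inner P hP (θ := thn P θ w) (thn_trivial P hθP w) hθP]
      refine Finset.sum_congr rfl fun y _ => ?_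
      rw [Finset.sum_eq_single (cjC P w y)]
      · simp only [MulEquiv.orderOf_eq, or_self, if_true, mul_one, thn_apply]
        split_ifs
        · rfl
        · ring
      · intro b _ hb
        simp [Ne.symm hb]
      · simp
    · simp only [hw, false_and, if_false, mul_zero, ite_self, Finset.sum_const_zero]
  rw [h1, Finset.sum_congr rfl fun y _ => Finset.sum_congr rfl fun y' _ => show
    (if p ∣ orderOf y ∨ p ∣ orderOf y' then 0 else conj ((θ : (Subgroup.centralizer ((P : Subgroup G) : Set G)) → ℂ) y) * (θ : (Subgroup.centralizer ((P : Subgroup G) : Set G)) → ℂ) y' *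
      ∑ χ : IrrCharacter G, (χ : G → ℂ) (pw P hP i * (y : G)) * conj ((χ : G → ℂ) (pw P hP l * (y' : G)))) =
    ∑ w : (Subgroup.normalizer ((P : Subgroup G) : Set G)), (if p ∣ orderOf y ∨ p ∣ orderOf y' then (0 : ℂ) else
      conj ((θ : (Subgroup.centralizer ((P : Subgroup G) : Set G)) → ℂ) y) * (θ : (Subgroup.centralizer ((P : Subgroup G) : Set G)) → ℂ) y' * if rho P hP w * i = l ∧ cjC P w y = y' then 1 else 0) by
    split_ifs with h
    · simp
    · push Not at h
      rw [h2 y y' h.1 h.2, Finset.mul_sum]]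
  rw [Finset.sum_congr rfl fun y _ => Finset.sum_comm, Finset.sum_comm, Finset.sum_congr rfl fun w _ => h3 w,
    ← Finset.sum_filter, Finset.sum_const, nsmul_eq_mul]
  split_ifs with hex
  · obtain ⟨w₀, hw₀, hw₀'⟩ := hex
    have hi : i ≠ 0 := fun h0 => hl (by rw [← hw₀', h0, mul_zero])
    have hcard : (Finset.univ.filter fun w : (Subgroup.normalizer ((P : Subgroup G) : Set G)) => rho P hP w * i = l ∧ thn P θ w = θ).card = Nat.card (Subgroup.centralizer ((P : Subgroup G) : Set G)) := by
      rw [← Nat.card_eq_finsetCard]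
      refine Nat.card_congr
        { toFun := fun w => ⟨(w₀ : G)⁻¹ * ((w.1 : (Subgroup.normalizer ((P : Subgroup G) : Set G))) : G), ?_⟩
          invFun := fun c => ⟨⟨(w₀ : G) * (c : G), ((Subgroup.normalizer ((P : Subgroup G) : Set G))).mul_mem w₀.2
              (Subgroup.centralizer_le_normalizer _ c.2)⟩, ?_⟩
          left_inv := fun w => Subtype.ext (Subtype.ext (by simp))
          right_inv := fun c => Subtype.ext (by simp) }
      · obtain ⟨h, -⟩ := (Finset.mem_filter.mp w.2).2
        have hr : rho P hP (w₀⁻¹ * w.1) = 1 := by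
          have e : rho P hP w.1 = rho P hP w₀ := mul_right_cancel₀ hi (h.trans hw₀'.symm)
          rw [map_mul, e, ← map_mul, inv_mul_cancel, map_one]
        exact (rho_eq_one_iff P hP _).mp hr
      · refine Finset.mem_filter.mpr ⟨Finset.mem_univ _, ?_, ?_⟩
        · rw [show (⟨(w₀ : G) * (c : G), _⟩ : (Subgroup.normalizer ((P : Subgroup G) : Set G))) = w₀ * ⟨c, Subgroup.centralizer_le_normalizer _ c.2⟩ from rfl,
            map_mul, (rho_eq_one_iff P hP ⟨(c : G), _⟩).mpr c.2, mul_one, hw₀']
        · refine Subtype.ext (funext fun d => ?_)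
          rw [thn_apply]
          conv_rhs => rw [← CfsgLib.Char.isClassFunction_of_isIrr θ.2 d c, ← hw₀, thn_apply]
          refine congrArg _ (Subtype.ext ?_)
          simp only [coe_cjC, Subgroup.coe_mul, Subgroup.coe_inv]
          group
    rw [hcard]
    field_simp
  · rw [Finset.filter_eq_empty_iff.mpr fun w _ h => hex ⟨w, h.2, h.1⟩, Finset.card_empty]
    simp

omit [Fintype (Subgroup.centralizer ((P : Subgroup G) : Set G))] in
include hP in
theorem centralizer_eq {i : ZMod p} (hi : i ≠ 0) : ((Subgroup.centralizer ((P : Subgroup G) : Set G))) = Subgroup.centralizer ({pw P hP i} : Set G) :=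
  (centralizer_pw P hP hi).symm

end theta

section block

variable {M : Ideal AlgInt} [M.IsMaximal] [Fintype (Subgroup.centralizer ((P : Subgroup G) : Set G))]

/-- The second main theorem on a centraliser given by an equation. -/
theorem coef_eq_zero_aux (hM : IsPModular p M) {x : G} (hx : ∃ k : ℕ, orderOf x = p ^ k) {H : Subgroup G}
    [Fintype H] (hH : H = Subgroup.centralizer ({x} : Set G)) {B : Set (IrrCharacter G)} (hB : IsPBlock M B)
    {χ : IrrCharacter G} (hχ : χ ∈ B) {θ : IrrCharacter H}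
    (hn : ¬ IsInducedBlock M H (blockOf M (θ : H → ℂ)) B) :
    ∑ y : H, (if p ∣ orderOf y then 0 else (χ : G → ℂ) (x * (y : G)) * conj ((θ : H → ℂ) y)) = 0 := by
  classical
  subst hH
  let _ := Fintype.ofFinite {b : Set (IrrCharacter (Subgroup.centralizer ({x} : Set G))) // IsPBlock M b}
  rw [Finset.sum_congr rfl fun (y : ↥(Subgroup.centralizer ({x} : Set G))) _ => show
    (if p ∣ orderOf y then 0 else (χ : G → ℂ) (x * (y : G)) * conj ((θ : ↥(Subgroup.centralizer ({x} : Set G)) → ℂ) y)) =
      ∑ b : {b : Set (IrrCharacter (Subgroup.centralizer ({x} : Set G))) // IsPBlock M b},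
        if IsInducedBlock M (Subgroup.centralizer ({x} : Set G)) b.1 B then
          (if p ∣ orderOf y then 0 else
            blockPart b.1 (fun c : Subgroup.centralizer ({x} : Set G) => (χ : G → ℂ) (x * (c : G))) y *
              conj ((θ : ↥(Subgroup.centralizer ({x} : Set G)) → ℂ) y)) else 0 by
    split_ifs with hy
    · simp [hy]
    · have h := sum_inducing hM hx hB χ hy
      rw [if_pos hχ] at h
      rw [← h, Finset.sum_mul]
      exact Finset.sum_congr rfl fun b _ => by split_ifs <;> simp]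
  rw [Finset.sum_comm]
  refine Finset.sum_eq_zero fun b _ => ?_
  split_ifs with hb
  · set f := fun c : Subgroup.centralizer ({x} : Set G) => (χ : G → ℂ) (x * (c : G))
    rw [show (∑ y, if p ∣ orderOf y then 0 else blockPart b.1 f y * conj ((θ : ↥(Subgroup.centralizer ({x} : Set G)) → ℂ) y)) =
      ∑ φ : IrrCharacter (Subgroup.centralizer ({x} : Set G)), if φ ∈ b.1 then
        classInner f (φ : ↥(Subgroup.centralizer ({x} : Set G)) → ℂ) * ∑ y, (if p ∣ orderOf y then 0 else (φ : ↥(Subgroup.centralizer ({x} : Set G)) → ℂ) y * conj ((θ : ↥(Subgroup.centralizer ({x} : Set G)) → ℂ) y))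
      else 0 by
      rw [Finset.sum_congr rfl fun y _ => show (if p ∣ orderOf y then 0 else blockPart b.1 f y * conj ((θ : ↥(Subgroup.centralizer ({x} : Set G)) → ℂ) y)) =
        ∑ φ : IrrCharacter (Subgroup.centralizer ({x} : Set G)), if φ ∈ b.1 then
          classInner f (φ : ↥(Subgroup.centralizer ({x} : Set G)) → ℂ) * (if p ∣ orderOf y then 0 else (φ : ↥(Subgroup.centralizer ({x} : Set G)) → ℂ) y * conj ((θ : ↥(Subgroup.centralizer ({x} : Set G)) → ℂ) y)) else 0 by
        rw [blockPart_apply]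
        split_ifs
        · simp
        · rw [Finset.sum_mul]
          exact Finset.sum_congr rfl fun φ _ => by split_ifs <;> simp [mul_assoc], Finset.sum_comm]
      exact Finset.sum_congr rfl fun φ _ => by split_ifs <;> simp [Finset.mul_sum]]
    refine Finset.sum_eq_zero fun φ _ => ?_
    split_ifs with hφ
    · rw [regular_orthogonality hM, mul_zero]
      intro hs
      refine hn ?_
      rwa [show blockOf M (θ : ↥(Subgroup.centralizer ({x} : Set G)) → ℂ) = b.1 from (isPBlock_eq_blockOf b.2 (by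
        rw [isPBlock_eq_blockOf b.2 hφ]; exact hs)).symm]
    · rfl
  · simp

theorem coef_eq_zero (hM : IsPModular p M) {B : Set (IrrCharacter G)} (hB : IsPBlock M B)
    {χ : IrrCharacter G} (hχ : χ ∈ B) {θ : IrrCharacter (Subgroup.centralizer ((P : Subgroup G) : Set G))}
    (hn : ¬ IsInducedBlock M (Subgroup.centralizer ((P : Subgroup G) : Set G)) (blockOf M (θ : (Subgroup.centralizer ((P : Subgroup G) : Set G)) → ℂ)) B) {i : ZMod p} (hi : i ≠ 0) :
    coef P hP θ (χ : G → ℂ) i = 0 := by
  rw [coef, coef_eq_zero_aux hM (orderOf_pw_pow P hP i) (centralizer_eq P hP hi) hB hχ hn, mul_zero]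

variable {b : Set (IrrCharacter (Subgroup.centralizer ((P : Subgroup G) : Set G)))} {θ : IrrCharacter (Subgroup.centralizer ((P : Subgroup G) : Set G))}
  (hθP : ∀ x : (Subgroup.centralizer ((P : Subgroup G) : Set G)), (x : G) ∈ (P : Subgroup G) → (θ : (Subgroup.centralizer ((P : Subgroup G) : Set G)) → ℂ) x = (θ : (Subgroup.centralizer ((P : Subgroup G) : Set G)) → ℂ) 1)

theorem coef_eq_zero_of_notMem (hM : IsPModular p M) {B : Set (IrrCharacter G)}
    (hind : IsInducedBlock M (Subgroup.centralizer ((P : Subgroup G) : Set G)) b B) (hθ : θ ∈ b) {χ : IrrCharacter G} (hχ : χ ∉ B) {i : ZMod p} (hi : i ≠ 0) :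
    coef P hP θ (χ : G → ℂ) i = 0 := by
  refine coef_eq_zero P hP hM (isPBlock_blockOf χ) (mem_blockOf_self χ) (fun h => hχ ?_) hi
  rw [← isPBlock_eq_blockOf hind.1 hθ] at h
  exact (inducedBlock_unique _ hind h) ▸ mem_blockOf_self χ

include hP hθP in
/-- The member trivial on `P` is unique in its block. -/
theorem eq_of_trivial (hM : IsPModular p M) {θ' : IrrCharacter (Subgroup.centralizer ((P : Subgroup G) : Set G))}
    (hθ' : ∀ x : (Subgroup.centralizer ((P : Subgroup G) : Set G)), (x : G) ∈ (P : Subgroup G) → (θ' : (Subgroup.centralizer ((P : Subgroup G) : Set G)) → ℂ) x = (θ' : (Subgroup.centralizer ((P : Subgroup G) : Set G)) → ℂ) 1)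
    (h : θ' ∈ blockOf M (θ : (Subgroup.centralizer ((P : Subgroup G) : Set G)) → ℂ)) : θ = θ' := by
  set Z := (P : Subgroup G).subgroupOf (Subgroup.centralizer ((P : Subgroup G) : Set G))
  have hZC : Z ≤ Subgroup.center (Subgroup.centralizer ((P : Subgroup G) : Set G)) := fun z hz =>
    Subgroup.mem_center_iff.mpr fun c => Subtype.ext (commute_of_mem P c.2 (Subgroup.mem_subgroupOf.mp hz)).eq.symm
  have hidx : Z.index.factorization p = 0 :=
    Nat.factorization_eq_zero_of_not_dvd fun hd => P.not_dvd_index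
      (hd.trans (Subgroup.relIndex_dvd_index_of_le (le_centralizer P hP)))
  have hdeg : ∀ γ : IrrCharacter (Subgroup.centralizer ((P : Subgroup G) : Set G)), (charDegree (γ : (Subgroup.centralizer ((P : Subgroup G) : Set G)) → ℂ)).factorization p = 0 := fun γ =>
    Nat.eq_zero_of_le_zero (hidx ▸ degree_le_index_central hZC γ)
  refine eq_of_centScal_eq hM P.isPGroup'.comap_subtype hZC h ?_ ((hdeg _).trans hidx.symm) fun z hz => ?_
  · rw [blockHeight, hdeg, Nat.zero_sub]
  · rw [centScal, centScal, hθP z (Subgroup.mem_subgroupOf.mp hz), hθ' z (Subgroup.mem_subgroupOf.mp hz),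
      div_self (CfsgLib.Char.irr_one_ne_zero θ.2), div_self (CfsgLib.Char.irr_one_ne_zero θ'.2)]

omit [Fintype (Subgroup.centralizer ((P : Subgroup G) : Set G))] [M.IsMaximal] in
theorem heq_mem {Q Q' : Subgroup G} (hQ : Q = Q') {f : Set (IrrCharacter (Subgroup.centralizer (Q : Set G)))}
    {f' : Set (IrrCharacter (Subgroup.centralizer (Q' : Set G)))} (h : HEq f f')
    {η : IrrCharacter (Subgroup.centralizer (Q : Set G))} (hη : η ∈ f) :
    ∃ η' ∈ f', ∀ (c : Subgroup.centralizer (Q : Set G)) (c' : Subgroup.centralizer (Q' : Set G)),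
      (c : G) = (c' : G) → (η' : _ → ℂ) c' = (η : _ → ℂ) c := by
  subst hQ
  cases h
  exact ⟨η, hη, fun c c' hcc => by rw [Subtype.ext hcc]⟩

include hP hθP in
/-- The blocks of the centraliser inducing `B` are conjugate. -/
theorem exists_thn (hM : IsPModular p M) {B : Set (IrrCharacter G)}
    (hBP : IsDefectGroup p M B P) (hind : IsInducedBlock M (Subgroup.centralizer ((P : Subgroup G) : Set G)) b B) (hθ : θ ∈ b) {θ' : IrrCharacter (Subgroup.centralizer ((P : Subgroup G) : Set G))}
    (hθ' : ∀ x : (Subgroup.centralizer ((P : Subgroup G) : Set G)), (x : G) ∈ (P : Subgroup G) → (θ' : (Subgroup.centralizer ((P : Subgroup G) : Set G)) → ℂ) x = (θ' : (Subgroup.centralizer ((P : Subgroup G) : Set G)) → ℂ) 1)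
    (hind' : IsInducedBlock M (Subgroup.centralizer ((P : Subgroup G) : Set G)) (blockOf M (θ' : (Subgroup.centralizer ((P : Subgroup G) : Set G)) → ℂ)) B) : ∃ n : (Subgroup.normalizer ((P : Subgroup G) : Set G)), thn P θ n = θ' := by
  classical
  set b' := blockOf M (θ' : (Subgroup.centralizer ((P : Subgroup G) : Set G)) → ℂ)
  have hPp := P.isPGroup'
  have hb : IsMaximalBrauerPair p M B (P : Subgroup G) b :=
    CfsgLib.BrauerPairs.isMaximal_of_card hM
      ((CfsgLib.BrauerPairs.brauerPairOf_iff_induced hM hPp hind.1 hind.2.1).mpr hind)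
      (card_defectGroup hM hind.2.1 hBP).ge
  have hb' := (CfsgLib.BrauerPairs.brauerPairOf_iff_induced hM hPp hind'.1 hind.2.1).mpr hind'
  obtain ⟨x, hx⟩ := CfsgLib.BrauerPairs.exists_conj_le_maximal hM (a := ⟨(P : Subgroup G), b'⟩)
    (b := ⟨(P : Subgroup G), b⟩) hb hb'
  have hle := CfsgLib.BrauerPairs.subgroup_le hx
  have hxP : ((P : Subgroup G)).map (MulAut.conj x).toMonoidHom = (P : Subgroup G) :=
    Subgroup.eq_of_le_of_card_ge hle (by rw [Subgroup.card_map_of_injective (MulAut.conj x).injective])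
  have heq : CfsgLib.BrauerPairs.cjPair x ⟨(P : Subgroup G), b'⟩ = ⟨(P : Subgroup G), b⟩ := by
    generalize hd : CfsgLib.BrauerPairs.cjPair x ⟨(P : Subgroup G), b'⟩ = d at hx
    obtain ⟨dQ, dg⟩ := d
    obtain rfl : dQ = (P : Subgroup G) := (congrArg Sigma.fst hd).symm.trans hxP
    rw [(CfsgLib.BrauerPairs.existsUnique_subpair hM le_rfl hb.1.1).unique hx Relation.ReflTransGen.refl]
  obtain ⟨-, hH⟩ := Sigma.mk.inj_iff.mp heq
  set Q := ((P : Subgroup G)).map (MulAut.conj x).toMonoidHom
  have hxN : x ∈ (Subgroup.normalizer ((P : Subgroup G) : Set G)) := Subgroup.mem_normalizer_iff_map_conj_eq.mpr hxP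
  let toQ : Subgroup.centralizer ((Q : Subgroup G) : Set G) ≃* (Subgroup.centralizer ((P : Subgroup G) : Set G)) :=
    (MulEquiv.subgroupCongr (by rw [show Q = (P : Subgroup G) from hxP])).trans (cjC P (⟨x, hxN⟩⁻¹))
  let η : IrrCharacter (Subgroup.centralizer ((Q : Subgroup G) : Set G)) :=
    ⟨(θ' : (Subgroup.centralizer ((P : Subgroup G) : Set G)) → ℂ) ∘ toQ, CfsgLib.CharNormal.isIrr_comp_mulEquiv θ'.2 _⟩
  have hη : η ∈ conjBlock (P : Subgroup G) x b' := by
    refine ⟨θ', mem_blockOf_self θ', fun c c' hcc => ?_⟩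
    change (θ' : (Subgroup.centralizer ((P : Subgroup G) : Set G)) → ℂ) (toQ c') = _
    refine congrArg _ (Subtype.ext ?_)
    change (x⁻¹ : G) * (c' : G) * (x⁻¹)⁻¹ = (c : G)
    rw [hcc]; group
  obtain ⟨η', hη', hval⟩ := heq_mem hxP hH hη
  have hval' : ∀ c : (Subgroup.centralizer ((P : Subgroup G) : Set G)), (η' : (Subgroup.centralizer ((P : Subgroup G) : Set G)) → ℂ) c = (thn P θ' ⟨x, hxN⟩⁻¹ : (Subgroup.centralizer ((P : Subgroup G) : Set G)) → ℂ) c := fun c => by
    rw [hval ⟨(c : G), by rw [show Q = (P : Subgroup G) from hxP]; exact c.2⟩ c rfl]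
    change (θ' : (Subgroup.centralizer ((P : Subgroup G) : Set G)) → ℂ) (toQ _) = _
    rfl
  have hη'θ : θ = η' := by
    refine eq_of_trivial P hP hθP hM (fun z hz => ?_) (by rw [← isPBlock_eq_blockOf hind.1 hθ]; exact hη')
    rw [hval', hval']
    exact thn_trivial P hθ' _ z hz
  refine ⟨⟨x, hxN⟩, Subtype.ext (funext fun c => ?_)⟩
  rw [thn_apply, hη'θ, hval', thn_apply]
  refine congrArg _ (Subtype.ext ?_)
  simp only [coe_cjC, Subgroup.coe_inv]
  group

include hP in
/-- A class function on a section through the characters trivial on `P`. -/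
theorem value_eq {f : G → ℂ} (hf : IsClassFunction G f) (i : ZMod p) {y : (Subgroup.centralizer ((P : Subgroup G) : Set G))} (hy : ¬ p ∣ orderOf y)
    [DecidablePred fun φ : IrrCharacter (Subgroup.centralizer ((P : Subgroup G) : Set G)) =>
      ∀ x : (Subgroup.centralizer ((P : Subgroup G) : Set G)), (x : G) ∈ (P : Subgroup G) → (φ : (Subgroup.centralizer ((P : Subgroup G) : Set G)) → ℂ) x = (φ : (Subgroup.centralizer ((P : Subgroup G) : Set G)) → ℂ) 1] :
    f (pw P hP i * (y : G)) = ∑ φ : IrrCharacter (Subgroup.centralizer ((P : Subgroup G) : Set G)),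
      (if ∀ x : (Subgroup.centralizer ((P : Subgroup G) : Set G)), (x : G) ∈ (P : Subgroup G) → (φ : (Subgroup.centralizer ((P : Subgroup G) : Set G)) → ℂ) x = (φ : (Subgroup.centralizer ((P : Subgroup G) : Set G)) → ℂ) 1 then
        coef P hP φ f i * (φ : (Subgroup.centralizer ((P : Subgroup G) : Set G)) → ℂ) y else 0) := by
  classical
  let g : (Subgroup.centralizer ((P : Subgroup G) : Set G)) → ℂ := fun c => f (pw P hP i * (pw P hP (-iota P hP c) * (c : G)))
  have hg0 : ∀ (j : ZMod p) (z : (Subgroup.centralizer ((P : Subgroup G) : Set G))), ¬ p ∣ orderOf z → g (pwC P hP j * z) = f (pw P hP i * (z : G)) := by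
    intro j z hz
    simp only [g, iota_eq P hP hz, Subgroup.coe_mul, coe_pwC]
    rw [← mul_assoc (pw P hP (-j)), ← pw_add, neg_add_cancel, pw_zero, one_mul]
  have hg : IsClassFunction (Subgroup.centralizer ((P : Subgroup G) : Set G)) g := by
    intro c d
    obtain ⟨j, z, hz, rfl⟩ := exists_split P hP c
    have e : d * (pwC P hP j * z) * d⁻¹ = pwC P hP j * (d * z * d⁻¹) := by
      rw [← mul_assoc d, Subgroup.mem_center_iff.mp (pwC_mem_center P hP j) d]
      group
    have hz' : ¬ p ∣ orderOf (d * z * d⁻¹) := by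
      rwa [show d * z * d⁻¹ = MulAut.conj d z by simp, MulEquiv.orderOf_eq]
    rw [e, hg0 j _ hz', hg0 j z hz, ← hf (pw P hP i * (z : G)) (d : G)]
    congr 1
    rw [← mul_assoc (d : G), ← (commute_of_mem P d.2 (pw_mem P hP i)).eq]
    simp only [Subgroup.coe_mul, Subgroup.coe_inv]
    group
  have hy0 := congrFun (CfsgLib.Char.classFun_eq_sum hg) y
  rw [show g y = f (pw P hP i * (y : G)) by
    have := hg0 0 y hy; rwa [pwC_zero, one_mul] at this] at hy0
  rw [hy0, Finset.sum_apply]
  refine Finset.sum_congr rfl fun φ _ => ?_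
  rw [Pi.smul_apply, smul_eq_mul]
  have hcl : classInner g (φ : (Subgroup.centralizer ((P : Subgroup G) : Set G)) → ℂ) = (Nat.card (Subgroup.centralizer ((P : Subgroup G) : Set G)) : ℂ)⁻¹ *
      (∑ z : (Subgroup.centralizer ((P : Subgroup G) : Set G)), if p ∣ orderOf z then 0 else f (pw P hP i * (z : G)) * conj ((φ : (Subgroup.centralizer ((P : Subgroup G) : Set G)) → ℂ) z)) *
      ∑ j : ZMod p, conj (centScal φ (pwC P hP j)) := by
    rw [CfsgLib.Char.classInner_def, sum_split P hP, mul_assoc, Finset.mul_sum, Finset.mul_sum, Finset.mul_sum]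
    refine Finset.sum_congr rfl fun j _ => ?_
    rw [Finset.sum_mul]
    refine congrArg _ (Finset.sum_congr rfl fun z _ => ?_)
    split_ifs with hz
    · simp
    · rw [hg0 j z hz, char_central_mul φ (pwC_mem_center P hP j), map_mul]
      ring
  split_ifs with hφ
  · congr 1
    have hone : ∀ j : ZMod p, conj (centScal φ (pwC P hP j)) = 1 := fun j => by
      rw [centScal, hφ _ (pw_mem P hP j), div_self (CfsgLib.Char.irr_one_ne_zero φ.2), map_one]
    rw [hcl, coef, Finset.sum_congr rfl fun j _ => hone j, Finset.sum_const, Finset.card_univ, ZMod.card,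
      nsmul_eq_mul, mul_one]
    ring
  · push Not at hφ
    obtain ⟨x, hxP, hne⟩ := hφ
    obtain ⟨j₀, hj₀⟩ := pw_surjOn P hP hxP
    obtain rfl : pwC P hP j₀ = x := Subtype.ext hj₀
    have ha : conj (centScal φ (pwC P hP j₀)) ≠ 1 := fun h => hne (by
      rw [centScal_eq_char (γ := φ) (z := pwC P hP j₀),
        ← Complex.conj_conj (centScal φ (pwC P hP j₀)), h, map_one, one_mul])
    have hS : conj (centScal φ (pwC P hP j₀)) * ∑ j : ZMod p, conj (centScal φ (pwC P hP j)) =
        ∑ j : ZMod p, conj (centScal φ (pwC P hP j)) := by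
      rw [Finset.mul_sum]
      refine Fintype.sum_equiv (Equiv.addLeft j₀) _ _ fun j => ?_
      rw [Equiv.coe_addLeft, pwC_add, centScal_mul φ (pwC_mem_center P hP j₀), map_mul]
    have h0 : ∑ j : ZMod p, conj (centScal φ (pwC P hP j)) = 0 := by
      by_contra h0
      exact ha (mul_right_cancel₀ h0 (hS.trans (one_mul _).symm))
    rw [hcl, h0, mul_zero, zero_mul]

end block

end CfsgLib.Blocks.PrimeLocal
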