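import Cfsg.Agent.Lib.Blocks.PointsGen
import Cfsg.Agent.Lib.Blocks.PrimeLocal
import Cfsg.Agent.Lib.CharNormal.AbelianQuotient
import Cfsg.Agent.Lib.CharNormal.Kernel
import Cfsg.Agent.Lib.Char.Extension

/-!
# Characters of `N(P)` over a character of `C(P)`

For a Sylow subgroup `P` of order `p`, a character `θ` of `C = C(P)` trivial on `P` has
`|T : C|` characters of `N = N(P)` above it; their idempotent functions on `N / P` give that many
independent columns of the reduced block induced by the block of `θ`.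
-/

set_option autoImplicit false

noncomputable section

namespace CfsgLib.Blocks

open Cfsg
open scoped ComplexConjugate

section overSection

open CfsgLib.Char CfsgLib.CharNormal

variable {G : Type*} [Group G] [Fintype G] (N : Subgroup G) [N.Normal] [Fintype N]

/-- Over a cyclic quotient the multiplicity is one. -/
theorem multiplicity_eq_one (hcyc : IsCyclic (G ⧸ N)) (θ : IrrCharacter N) {χ : IrrCharacter G}
    (h0 : classInner (fun n : N => (χ : G → ℂ) n) (θ : N → ℂ) ≠ 0) :
    classInner (fun n : N => (χ : G → ℂ) n) (θ : N → ℂ) = 1 := by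
  classical
  set T := inertia N (θ : N → ℂ) with hT
  have hNT : N ≤ T := le_inertia N (isClassFunction_of_isIrr θ.2)
  have := Fintype.ofFinite T
  obtain ⟨ψ, hψ, -, hψe⟩ := clifford_correspondence N θ.2 T (fun g => mem_inertia N) hNT χ.2 h0
  let N' := N.subgroupOf T
  let eN : N' ≃* N := Subgroup.subgroupOfEquivOfLe hNT
  have := Fintype.ofFinite N'
  set θ' : N' → ℂ := (θ : N → ℂ) ∘ eN
  have hθ' : IsIrrCharacter N' θ' := isIrr_comp_mulEquiv θ.2 eN
  have hinv : ∀ (t : T) (n : N'),
      θ' ⟨t * n * t⁻¹, (inferInstance : N'.Normal).conj_mem (n : T) n.2 t⟩ = θ' n := fun t n =>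
    congrFun ((mem_inertia N).mp t.2) (eN n)
  let f : (T ⧸ N') →* (G ⧸ N) := QuotientGroup.map N' N T.subtype fun _ h => h
  have hf : Function.Injective f := by
    refine (injective_iff_map_eq_one f).mpr fun q hq => ?_
    induction q using QuotientGroup.induction_on with
    | H t =>
      have hq : ((t : G) : G ⧸ N) = 1 := hq
      rw [QuotientGroup.eq_one_iff] at hq
      exact (QuotientGroup.eq_one_iff t).mpr hq
  have hcycT : IsCyclic (T ⧸ N') := isCyclic_of_injective f hf
  obtain ⟨Θ, hΘ, hΘres⟩ := extend_of_cyclic N' hcycT hθ' hinv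
  have hab : ∀ a b : T ⧸ N', a * b = b * a := by
    intro a b
    obtain ⟨g, hg⟩ := IsCyclic.exists_generator (α := T ⧸ N')
    obtain ⟨i, rfl⟩ := hg a
    obtain ⟨j, rfl⟩ := hg b
    rw [← zpow_add, ← zpow_add, add_comm]
  have hΘfun : (fun n : N' => Θ n) = θ' := funext hΘres
  have hψ0 : classInner (fun n : N' => ψ n) θ' = classInner (fun n : N => (χ : G → ℂ) n) (θ : N → ℂ) := by
    rw [← hψe, ← classInner_comp_mulEquiv eN (fun n : N => ψ ⟨n, hNT n.2⟩) (θ : N → ℂ)]
    rfl
  obtain ⟨l, hl⟩ := exists_eq_linear_mul_of_over N' hab hΘ hψ hθ'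
    (by rw [hΘfun, classInner_irr_self hθ']; exact one_ne_zero) (by rw [hψ0]; exact h0)
  rw [← hψ0, show (fun n : N' => ψ n) = θ' by
    funext n
    rw [hl]
    simp only [(QuotientGroup.eq_one_iff (n : T)).mpr n.2, map_one, Units.val_one, one_mul, hΘres],
    classInner_irr_self hθ']

/-- The number of characters over `θ` times the number of conjugates is the index. -/
theorem card_over_mul_orbit (hcyc : IsCyclic (G ⧸ N)) (θ : IrrCharacter N) :
    Nat.card {χ : IrrCharacter G // classInner (fun n : N => (χ : G → ℂ) n) (θ : N → ℂ) ≠ 0} *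
      (orbit N θ).card = N.index := by
  classical
  have h := sum_degree_mul_classInner_res N θ.2
  rw [← Finset.sum_filter_add_sum_filter_not Finset.univ
      (fun χ : IrrCharacter G => classInner (fun n : N => (χ : G → ℂ) n) (θ : N → ℂ) ≠ 0),
    Finset.sum_eq_zero (s := Finset.univ.filter
      (fun χ : IrrCharacter G => ¬ classInner (fun n : N => (χ : G → ℂ) n) (θ : N → ℂ) ≠ 0)) (fun χ hχ => by
      rw [not_not.mp (Finset.mem_filter.mp hχ).2, mul_zero]), add_zero] at h
  have hterm : ∀ χ : IrrCharacter G, classInner (fun n : N => (χ : G → ℂ) n) (θ : N → ℂ) ≠ 0 →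
      (χ : G → ℂ) 1 * classInner (fun n : N => (χ : G → ℂ) n) (θ : N → ℂ) =
        ((orbit N θ).card : ℂ) * (θ : N → ℂ) 1 := fun χ hχ => by
    rw [multiplicity_eq_one N hcyc θ hχ, mul_one, degree_eq_mul_card_orbit N χ.2 θ hχ,
      multiplicity_eq_one N hcyc θ hχ, one_mul]
  rw [Finset.sum_congr rfl (fun χ hχ => hterm χ (Finset.mem_filter.mp hχ).2), Finset.sum_const, nsmul_eq_mul,
    ← mul_assoc] at h
  have h2 := mul_right_cancel₀ (irr_one_ne_zero θ.2) h
  rw [Nat.card_eq_fintype_card, Fintype.card_subtype]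
  exact_mod_cast h2

omit [N.Normal] [Fintype N] in
/-- The idempotent coefficient functions of two characters. -/
theorem sum_blockCoeff_singleton_mul (ζ ζ' : IrrCharacter G) (n : G) [Decidable (ζ = ζ')] :
    ∑ m : G, blockCoeff {ζ} m * blockCoeff {ζ'} (m⁻¹ * n) = if ζ = ζ' then blockCoeff {ζ} n else 0 := by
  classical
  have hmul : blockElt {ζ} * blockElt {ζ'} = if ζ = ζ' then blockElt {ζ} else 0 := by
    refine eq_of_omega_eq (Subsemiring.mul_mem _ (blockElt_mem_center _) (blockElt_mem_center _))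
      (by split_ifs; exacts [blockElt_mem_center _, Subsemiring.zero_mem _]) fun χ => ?_
    rw [omega_mul χ.2 (blockElt_mem_center _), omega_blockElt, omega_blockElt]
    simp only [Set.mem_singleton_iff]
    split_ifs with h1 h2 h3 <;> first | (rw [omega_blockElt]; simp_all) | (simp_all [omega, charLin_apply])
  have h := congrArg (fun a : CA G => a.coeff n) hmul
  simp only [coeff_mul_eq_sum, blockElt, coeff_ofFun] at h
  rw [h]
  split_ifs <;> simp

end overSection

namespace PrimeLocal

open PrimeSylow Points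

variable {G : Type*} [Group G] [Fintype G] {p : ℕ} [hp : Fact p.Prime] (P : Sylow p G) (hP : Nat.card P = p)


/-- The centraliser, inside the normaliser. -/
def CN : Subgroup (Subgroup.normalizer ((P : Subgroup G) : Set G)) := ((Subgroup.centralizer ((P : Subgroup G) : Set G))).subgroupOf (Subgroup.normalizer ((P : Subgroup G) : Set G))

instance : (CN P).Normal :=
  Subgroup.normal_subgroupOf_of_le_normalizer (fun n hn => Subgroup.mem_normalizer_iff.mpr fun c =>
    ⟨fun hc => (cjC P ⟨n, hn⟩ ⟨c, hc⟩).2, fun hc => by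
      have := ((cjC P ⟨n, hn⟩).symm ⟨_, hc⟩).2
      have e : n⁻¹ * (n * c * n⁻¹) * n = c := by group
      exact e ▸ this⟩)

/-- The identification with the centraliser. -/
def eC : CN P ≃* (Subgroup.centralizer ((P : Subgroup G) : Set G)) := Subgroup.subgroupOfEquivOfLe (Subgroup.centralizer_le_normalizer _)

theorem coe_eC (c : CN P) : (eC P c : G) = ((c : (Subgroup.normalizer ((P : Subgroup G) : Set G))) : G) := rfl

variable [Fintype (Subgroup.normalizer ((P : Subgroup G) : Set G))] [Fintype (Subgroup.centralizer ((P : Subgroup G) : Set G))] [Fintype (CN P)]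

/-- `θ` on `CN`. -/
def thetaN (θ : IrrCharacter (Subgroup.centralizer ((P : Subgroup G) : Set G))) : IrrCharacter (CN P) :=
  ⟨(θ : (Subgroup.centralizer ((P : Subgroup G) : Set G)) → ℂ) ∘ eC P, CfsgLib.CharNormal.isIrr_comp_mulEquiv θ.2 _⟩

theorem thetaN_apply (θ : IrrCharacter (Subgroup.centralizer ((P : Subgroup G) : Set G))) (c : CN P) :
    (thetaN P θ : CN P → ℂ) c = (θ : (Subgroup.centralizer ((P : Subgroup G) : Set G)) → ℂ) (eC P c) := rfl

theorem conjFun_thetaN (θ : IrrCharacter (Subgroup.centralizer ((P : Subgroup G) : Set G))) (n : (Subgroup.normalizer ((P : Subgroup G) : Set G))) (c : CN P) :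
    CfsgLib.CharNormal.conjFun (CN P) n (thetaN P θ : CN P → ℂ) c = (thn P θ n : (Subgroup.centralizer ((P : Subgroup G) : Set G)) → ℂ) (eC P c) := rfl

include hP in
theorem isCyclic_quotient : IsCyclic ((Subgroup.normalizer ((P : Subgroup G) : Set G)) ⧸ CN P) := by
  let f : ((Subgroup.normalizer ((P : Subgroup G) : Set G)) ⧸ CN P) →* (ZMod p)ˣ := QuotientGroup.lift (CN P) (rhoU P hP) fun n hn =>
    Units.ext ((rho_eq_one_iff P hP n).mpr hn)
  refine isCyclic_of_injective f ((injective_iff_map_eq_one f).mpr fun q hq => ?_)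
  induction q using QuotientGroup.induction_on with
  | H n =>
    have hq : rhoU P hP n = 1 := hq
    exact (QuotientGroup.eq_one_iff n).mpr ((rho_eq_one_iff P hP n).mp (congrArg Units.val hq))

/-- The characters of the normaliser over `θ`. -/
abbrev Over (θ : IrrCharacter (Subgroup.centralizer ((P : Subgroup G) : Set G))) : Type _ :=
  {ζ : IrrCharacter (Subgroup.normalizer ((P : Subgroup G) : Set G)) // classInner (fun c : CN P => (ζ : (Subgroup.normalizer ((P : Subgroup G) : Set G)) → ℂ) c) (thetaN P θ : CN P → ℂ) ≠ 0}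

variable {θ : IrrCharacter (Subgroup.centralizer ((P : Subgroup G) : Set G))}

include hP in
/-- A character over `θ` on the centraliser. -/
theorem exists_conjugates (ζ : Over P θ) :
    ∃ O : Finset (IrrCharacter (Subgroup.centralizer ((P : Subgroup G) : Set G))), (∀ φ ∈ O, ∃ n : (Subgroup.normalizer ((P : Subgroup G) : Set G)), thn P θ n = φ) ∧
      (O.card : ℂ) * (θ : (Subgroup.centralizer ((P : Subgroup G) : Set G)) → ℂ) 1 = (ζ.1 : (Subgroup.normalizer ((P : Subgroup G) : Set G)) → ℂ) 1 ∧
      ∀ c : CN P, (ζ.1 : (Subgroup.normalizer ((P : Subgroup G) : Set G)) → ℂ) c = ∑ φ ∈ O, (φ : (Subgroup.centralizer ((P : Subgroup G) : Set G)) → ℂ) (eC P c) := by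
  classical
  have h1 := multiplicity_eq_one (CN P) (isCyclic_quotient P hP) (thetaN P θ) ζ.2
  have h2 := CfsgLib.CharNormal.res_eq_smul_sum_orbit (CN P) ζ.1.2 (thetaN P θ) ζ.2
  have h3 := CfsgLib.CharNormal.degree_eq_mul_card_orbit (CN P) ζ.1.2 (thetaN P θ) ζ.2
  rw [h1, one_smul] at h2
  rw [h1, one_mul] at h3
  set tr : IrrCharacter (CN P) → IrrCharacter (Subgroup.centralizer ((P : Subgroup G) : Set G)) := fun ψ =>
    ⟨(ψ : CN P → ℂ) ∘ (eC P).symm, CfsgLib.CharNormal.isIrr_comp_mulEquiv ψ.2 _⟩ with htr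
  have hinj : Function.Injective tr := fun a b h => Subtype.ext (funext fun c => by
    have := congrFun (congrArg Subtype.val h) (eC P c)
    simpa [htr] using this)
  refine ⟨(CfsgLib.CharNormal.orbit (CN P) (thetaN P θ)).image tr, fun φ hφ => ?_, ?_, fun c => ?_⟩
  · obtain ⟨ψ, hψ, rfl⟩ := Finset.mem_image.mp hφ
    obtain ⟨g, hg⟩ := (CfsgLib.CharNormal.mem_orbit (CN P)).mp hψ
    refine ⟨g, Subtype.ext (funext fun c => ?_)⟩
    simp only [htr, ← hg, Function.comp_apply]
    rw [conjFun_thetaN, MulEquiv.apply_symm_apply]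
  · rw [Finset.card_image_of_injective _ hinj, h3, thetaN_apply, map_one]
  · rw [Finset.sum_image fun a _ b _ h => hinj h]
    have h4 := congrFun h2 c
    simp only [Finset.sum_apply] at h4
    rw [h4]
    exact Finset.sum_congr rfl fun ψ _ => by simp [htr]

include hP in
theorem over_trivial (hθP : ∀ x : (Subgroup.centralizer ((P : Subgroup G) : Set G)), (x : G) ∈ (P : Subgroup G) → (θ : (Subgroup.centralizer ((P : Subgroup G) : Set G)) → ℂ) x = (θ : (Subgroup.centralizer ((P : Subgroup G) : Set G)) → ℂ) 1)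
    (ζ : Over P θ) {q : (Subgroup.normalizer ((P : Subgroup G) : Set G))} (hq : (q : G) ∈ (P : Subgroup G)) :
    (ζ.1 : (Subgroup.normalizer ((P : Subgroup G) : Set G)) → ℂ) q = (ζ.1 : (Subgroup.normalizer ((P : Subgroup G) : Set G)) → ℂ) 1 := by
  obtain ⟨O, hO, -, hval⟩ := exists_conjugates P hP ζ
  have hqC : q ∈ CN P := le_centralizer P hP hq
  have h1 := hval ⟨q, hqC⟩
  have h2 := hval 1
  rw [OneMemClass.coe_one] at h2
  rw [show (q : (Subgroup.normalizer ((P : Subgroup G) : Set G))) = ((⟨q, hqC⟩ : CN P) : (Subgroup.normalizer ((P : Subgroup G) : Set G))) from rfl, h1, h2]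
  refine Finset.sum_congr rfl fun φ hφ => ?_
  obtain ⟨n, rfl⟩ := hO φ hφ
  rw [map_one]
  exact thn_trivial P hθP n _ hq

include hP in
/-- The number of characters over `θ`. -/
theorem card_over (T : Subgroup G)
    (hT : ∀ g : G, g ∈ T ↔ ∃ hg : g ∈ (Subgroup.normalizer ((P : Subgroup G) : Set G)), thn P θ ⟨g, hg⟩ = θ) :
    Nat.card (Over P θ) = ((Subgroup.centralizer ((P : Subgroup G) : Set G))).relIndex T := by
  classical
  have h := card_over_mul_orbit (CN P) (isCyclic_quotient P hP) (thetaN P θ)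
  rw [CfsgLib.CharNormal.card_orbit_eq_index] at h
  have hle := CfsgLib.CharNormal.le_inertia (CN P) (CfsgLib.Char.isClassFunction_of_isIrr (thetaN P θ).2)
  rw [← Subgroup.relIndex_mul_index hle] at h
  have h2 := Nat.eq_of_mul_eq_mul_right (Nat.pos_of_ne_zero Subgroup.index_ne_zero_of_finite) h
  have hTN : T ≤ (Subgroup.normalizer ((P : Subgroup G) : Set G)) := fun g hg => ((hT g).mp hg).1
  have hI : CfsgLib.CharNormal.inertia (CN P) (thetaN P θ : CN P → ℂ) = T.subgroupOf (Subgroup.normalizer ((P : Subgroup G) : Set G)) := by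
    ext n
    rw [CfsgLib.CharNormal.mem_inertia, Subgroup.mem_subgroupOf, hT]
    refine ⟨fun h => ⟨n.2, Subtype.ext (funext fun c => ?_)⟩, fun ⟨_, h⟩ => funext fun c => ?_⟩
    · have := congrFun h ((eC P).symm c)
      rwa [conjFun_thetaN, thetaN_apply, MulEquiv.apply_symm_apply] at this
    · rw [conjFun_thetaN, thetaN_apply]
      exact congrFun (congrArg Subtype.val h) _
  rw [hI] at h2
  rw [Over, h2, CN]
  exact Subgroup.relIndex_subgroupOf hTN

attribute [local instance] resField

omit hp in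
/-- Sums over the normaliser of functions invariant under `P`. -/
theorem sum_eq_card_mul_out [Fintype ((Subgroup.normalizer ((P : Subgroup G) : Set G)) ⧸ (P : Subgroup G).subgroupOf (Subgroup.normalizer ((P : Subgroup G) : Set G)))] (F : (Subgroup.normalizer ((P : Subgroup G) : Set G)) → ℂ)
    (hF : ∀ n q : (Subgroup.normalizer ((P : Subgroup G) : Set G)), (q : G) ∈ (P : Subgroup G) → F (n * q) = F n) :
    ∑ m : (Subgroup.normalizer ((P : Subgroup G) : Set G)), F m = (Nat.card P : ℂ) * ∑ c : (Subgroup.normalizer ((P : Subgroup G) : Set G)) ⧸ (P : Subgroup G).subgroupOf (Subgroup.normalizer ((P : Subgroup G) : Set G)), F c.out := by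
  classical
  set Q := (P : Subgroup G).subgroupOf (Subgroup.normalizer ((P : Subgroup G) : Set G))
  have := Fintype.ofFinite Q
  rw [← Finset.sum_fiberwise Finset.univ (fun m : (Subgroup.normalizer ((P : Subgroup G) : Set G)) => (m : (Subgroup.normalizer ((P : Subgroup G) : Set G)) ⧸ Q)) F, Finset.mul_sum]
  refine Finset.sum_congr (by ext; simp) fun c _ => ?_
  rw [show (Nat.card P : ℂ) * F c.out = ∑ _q : Q, F c.out by
    rw [Finset.sum_const, Finset.card_univ, nsmul_eq_mul, ← Nat.card_eq_fintype_card,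
      Nat.card_congr (Subgroup.subgroupOfEquivOfLe Subgroup.le_normalizer).toEquiv]]
  refine (Finset.sum_bij (fun (q : Q) _ => c.out * (q : (Subgroup.normalizer ((P : Subgroup G) : Set G)))) (fun q _ => ?_)
    (fun a _ b _ h => Subtype.ext (mul_left_cancel h)) (fun m hm => ?_) (fun q _ => ?_)).symm
  · refine Finset.mem_filter.mpr ⟨Finset.mem_univ _, ?_⟩
    rw [QuotientGroup.mk_mul_of_mem _ q.2, QuotientGroup.out_eq']
  · have h := (Finset.mem_filter.mp hm).2
    refine ⟨⟨c.out⁻¹ * m, QuotientGroup.eq.mp ((QuotientGroup.out_eq' c).trans h.symm)⟩, Finset.mem_univ _, ?_⟩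
    simp
  · exact (hF _ _ q.2).symm

/-- The value of the idempotent function of `ζ` on `N / P`. -/
def zval (ζ : Over P θ) (n : (Subgroup.normalizer ((P : Subgroup G) : Set G))) : ℂ := (p : ℂ) * blockCoeff {ζ.1} n

include hP in
theorem zval_eq (ζ : Over P θ) (n : (Subgroup.normalizer ((P : Subgroup G) : Set G))) :
    zval P ζ n = (ζ.1 : (Subgroup.normalizer ((P : Subgroup G) : Set G)) → ℂ) 1 / (((P : Subgroup G).subgroupOf (Subgroup.normalizer ((P : Subgroup G) : Set G))).index : ℂ) *
      conj ((ζ.1 : (Subgroup.normalizer ((P : Subgroup G) : Set G)) → ℂ) n) := by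
  classical
  have hp0 : (p : ℂ) ≠ 0 := Nat.cast_ne_zero.mpr hp.out.ne_zero
  have h := ((P : Subgroup G).subgroupOf (Subgroup.normalizer ((P : Subgroup G) : Set G))).card_mul_index
  rw [Nat.card_congr (Subgroup.subgroupOfEquivOfLe Subgroup.le_normalizer).toEquiv, hP] at h
  rw [zval, blockCoeff_eq, Finset.sum_eq_single ζ.1 (fun χ _ hχ => if_neg (by simpa using hχ)) (by simp),
    if_pos (Set.mem_singleton _), ← h]
  have hi : (((P : Subgroup G).subgroupOf (Subgroup.normalizer ((P : Subgroup G) : Set G))).index : ℂ) ≠ 0 :=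
    Nat.cast_ne_zero.mpr Subgroup.index_ne_zero_of_finite
  push_cast
  field_simp

omit [Fintype (Subgroup.normalizer ((P : Subgroup G) : Set G))] [Fintype (Subgroup.centralizer ((P : Subgroup G) : Set G))] [Fintype (CN P)] in
theorem not_dvd_index_normalizer : ¬ p ∣ ((P : Subgroup G).subgroupOf (Subgroup.normalizer ((P : Subgroup G) : Set G))).index :=
  fun h => P.not_dvd_index (h.trans (Subgroup.relIndex_dvd_index_of_le Subgroup.le_normalizer))

include hP in
theorem not_dvd_degree (χ : IrrCharacter (Subgroup.normalizer ((P : Subgroup G) : Set G))) {d : ℕ} (hd : (χ : (Subgroup.normalizer ((P : Subgroup G) : Set G)) → ℂ) 1 = d) : ¬ p ∣ d := by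
  have : ((P : Subgroup G).subgroupOf (Subgroup.normalizer ((P : Subgroup G) : Set G))).Normal := Subgroup.normal_subgroupOf_of_le_normalizer le_rfl
  refine fun h => not_dvd_index_normalizer P (h.trans
    (CfsgLib.Char.degree_dvd_index_abelian_normal _ (fun a ha b hb => ?_) χ.2 hd))
  exact Subtype.ext (commute_of_mem P (le_centralizer P hP (Subgroup.mem_subgroupOf.mp hb))
    (Subgroup.mem_subgroupOf.mp ha)).eq

variable {M : Ideal AlgInt} [M.IsMaximal]

include hP in
theorem zval_mem (hM : IsPModular p M) (ζ : Over P θ) (n : (Subgroup.normalizer ((P : Subgroup G) : Set G))) : zval P ζ n ∈ locRing M := by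
  obtain ⟨d, -, hd⟩ := CfsgLib.Char.exists_degree_pos ζ.1.2
  rw [zval_eq P hP, hd]
  refine Subring.mul_mem _ (frac_mem_locRing hM Subgroup.index_ne_zero_of_finite (Or.inr ?_)) ?_
  · rw [Nat.factorization_eq_zero_of_not_dvd (not_dvd_index_normalizer P)]
    exact Nat.zero_le _
  · rw [← CfsgLib.Char.char_inv (CfsgLib.Char.isCharacter_of_isIrr ζ.1.2)]
    exact algInt_le_locRing M (CfsgLib.Char.char_isIntegral (CfsgLib.Char.isCharacter_of_isIrr ζ.1.2) _)

variable (M) in
/-- The idempotent function of `ζ` modulo `M`. -/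
def zfun (hM : IsPModular p M) (ζ : Over P θ) (n : (Subgroup.normalizer ((P : Subgroup G) : Set G))) : Res M :=
  res M ⟨zval P ζ n, zval_mem P hP hM ζ n⟩

variable (hθP : ∀ x : (Subgroup.centralizer ((P : Subgroup G) : Set G)), (x : G) ∈ (P : Subgroup G) → (θ : (Subgroup.centralizer ((P : Subgroup G) : Set G)) → ℂ) x = (θ : (Subgroup.centralizer ((P : Subgroup G) : Set G)) → ℂ) 1)

include hP hθP in
theorem zval_right (ζ : Over P θ) (n q : (Subgroup.normalizer ((P : Subgroup G) : Set G))) (hq : (q : G) ∈ (P : Subgroup G)) :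
    zval P ζ (n * q) = zval P ζ n := by
  rw [zval_eq P hP, zval_eq P hP, CfsgLib.CharNormal.apply_mul_eq_one
    (CfsgLib.Char.isCharacter_of_isIrr ζ.1.2) (over_trivial P hP hθP ζ hq)]

include hP hθP in
theorem zval_left (ζ : Over P θ) (n q : (Subgroup.normalizer ((P : Subgroup G) : Set G))) (hq : (q : G) ∈ (P : Subgroup G)) :
    zval P ζ (q * n) = zval P ζ n := by
  rw [zval_eq P hP, zval_eq P hP, CfsgLib.CharNormal.apply_eq_one_mul
    (CfsgLib.Char.isCharacter_of_isIrr ζ.1.2) (over_trivial P hP hθP ζ hq)]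

include hP hθP in
theorem zval_conv [Fintype ((Subgroup.normalizer ((P : Subgroup G) : Set G)) ⧸ (P : Subgroup G).subgroupOf (Subgroup.normalizer ((P : Subgroup G) : Set G)))] (ζ ζ' : Over P θ) (n : (Subgroup.normalizer ((P : Subgroup G) : Set G)))
    [Decidable (ζ = ζ')] :
    ∑ c : (Subgroup.normalizer ((P : Subgroup G) : Set G)) ⧸ (P : Subgroup G).subgroupOf (Subgroup.normalizer ((P : Subgroup G) : Set G)), zval P ζ c.out * zval P ζ' (c.out⁻¹ * n) =
      if ζ = ζ' then zval P ζ n else 0 := by
  classical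
  have hp0 : (p : ℂ) ≠ 0 := Nat.cast_ne_zero.mpr hp.out.ne_zero
  have h1 := sum_blockCoeff_singleton_mul ζ.1 ζ'.1 n
  have h2 := sum_eq_card_mul_out P (fun m : (Subgroup.normalizer ((P : Subgroup G) : Set G)) => zval P ζ m * zval P ζ' (m⁻¹ * n)) fun m q hq => by
    rw [zval_right P hP hθP ζ m q hq, mul_inv_rev, mul_assoc,
      zval_left P hP hθP ζ' _ _ (Subgroup.inv_mem _ hq)]
  have h3 : ∑ m : (Subgroup.normalizer ((P : Subgroup G) : Set G)), zval P ζ m * zval P ζ' (m⁻¹ * n) =
      (p : ℂ) * ((p : ℂ) * ∑ m : (Subgroup.normalizer ((P : Subgroup G) : Set G)), blockCoeff {ζ.1} m * blockCoeff {ζ'.1} (m⁻¹ * n)) := by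
    rw [Finset.mul_sum, Finset.mul_sum]
    exact Finset.sum_congr rfl fun m _ => by rw [zval, zval]; ring
  rw [h3, h1, hP] at h2
  rw [← mul_left_cancel₀ hp0 h2]
  split_ifs with a b b
  · rfl
  · exact absurd (Subtype.ext a) b
  · exact absurd (congrArg Subtype.val b) a
  · rw [mul_zero]

include hθP in
/-- The conjugates of `θ` see the idempotent of `B` as `θ` does. -/
theorem sum_blockCoeff_thn (B : Set (IrrCharacter G)) (n : (Subgroup.normalizer ((P : Subgroup G) : Set G))) :
    ∑ c : (Subgroup.centralizer ((P : Subgroup G) : Set G)), blockCoeff B (c : G) * (thn P θ n : (Subgroup.centralizer ((P : Subgroup G) : Set G)) → ℂ) c =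
      ∑ c : (Subgroup.centralizer ((P : Subgroup G) : Set G)), blockCoeff B (c : G) * (θ : (Subgroup.centralizer ((P : Subgroup G) : Set G)) → ℂ) c := by
  refine Fintype.sum_equiv (cjC P n).toEquiv _ _ fun c => ?_
  simp only [MulEquiv.toEquiv_eq_coe, EquivLike.coe_coe, thn_apply, coe_cjC, blockCoeff_conj]

variable {B : Set (IrrCharacter G)} {b : Set (IrrCharacter (Subgroup.centralizer ((P : Subgroup G) : Set G)))}

include hP hθP in
/-- Class functions of the reduced block from the characters of the normaliser over `θ`. -/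
theorem exists_block_functions (hM : IsPModular p M) (hind : IsInducedBlock M (Subgroup.centralizer ((P : Subgroup G) : Set G)) b B) (hθ : θ ∈ b) :
    ∃ z : Over P θ → Zint M G, (∀ m, red (z m * idem hind.2.1) = red (z m)) ∧
      ∀ c : Over P θ → Res M, (∀ g : G, ¬ p ∣ orderOf g → ∑ m, c m * rcoeff (z m) g = 0) → c = 0 := by
  classical
  have : CharP (Res M) p := res_charP M hM
  have : IsAlgClosed (Res M) := res_isAlgClosed M
  have hB : IsPBlock M B := hind.2.1
  let _ := Fintype.ofFinite (P : Subgroup G)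
  let _ := Fintype.ofFinite ((Subgroup.normalizer ((P : Subgroup G) : Set G)) ⧸ (P : Subgroup G).subgroupOf (Subgroup.normalizer ((P : Subgroup G) : Set G)))
  have hPN : (P : Subgroup G) ≤ (Subgroup.normalizer ((P : Subgroup G) : Set G)) := Subgroup.le_normalizer
  have hCN : (Subgroup.centralizer ((P : Subgroup G) : Set G)) ≤ (Subgroup.normalizer ((P : Subgroup G) : Set G)) := Subgroup.centralizer_le_normalizer _
  have hcard : (Fintype.card ((Subgroup.normalizer ((P : Subgroup G) : Set G)) ⧸ (P : Subgroup G).subgroupOf (Subgroup.normalizer ((P : Subgroup G) : Set G))) : Res M) ≠ 0 := by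
    rw [Ne, CharP.cast_eq_zero_iff (Res M) p, ← Nat.card_eq_fintype_card, ← Subgroup.index_eq_card]
    exact not_dvd_index_normalizer P
  have hidem : red (idem hB) * red (idem hB) = red (idem hB) := by rw [← map_mul, idem_mul_self]
  have hcenter : ∀ a, a * red (idem hB) = red (idem hB) * a := fun a =>
    Subsemiring.mem_center_iff.mp (red_mem_center (idem hB)) a
  -- idempotent functions
  have hf : ∀ ζ, IsIdemFun (P : Subgroup G) (zfun P hP M hM (θ := θ) ζ) := fun ζ => by
    refine ⟨fun m n => congrArg (res M) (Subtype.ext ?_), fun n q hq => congrArg (res M) (Subtype.ext ?_), fun n => ?_⟩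
    · simp only [zval, blockCoeff_conj]
    · exact zval_right P hP hθP ζ n q hq
    · simp only [zfun, ← map_mul, ← map_sum]
      refine congrArg (res M) (Subtype.ext ?_)
      rw [AddSubmonoidClass.coe_finsetSum]
      simp only [Subring.coe_mul]
      rw [zval_conv P hP hθP ζ ζ n, if_pos rfl]
  have horth : ∀ ζ ζ' : Over P θ, ζ ≠ ζ' → ∀ n : (Subgroup.normalizer ((P : Subgroup G) : Set G)), ∑ c : (Subgroup.normalizer ((P : Subgroup G) : Set G)) ⧸ (P : Subgroup G).subgroupOf (Subgroup.normalizer ((P : Subgroup G) : Set G)),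
      zfun P hP M hM ζ c.out * zfun P hP M hM ζ' (c.out⁻¹ * n) = 0 := fun ζ ζ' hne n => by
    simp only [zfun, ← map_mul, ← map_sum]
    rw [← map_zero (res M)]
    refine congrArg (res M) (Subtype.ext ?_)
    rw [AddSubmonoidClass.coe_finsetSum]
    simp only [Subring.coe_mul]
    rw [zval_conv P hP hθP ζ ζ' n, if_neg hne]
    rfl
  have hone : ∀ ζ : Over P θ, zfun P hP M hM ζ 1 ≠ 0 := fun ζ => by
    obtain ⟨d, -, hd⟩ := CfsgLib.Char.exists_degree_pos ζ.1.2
    have hval : zval P ζ 1 * (((P : Subgroup G).subgroupOf (Subgroup.normalizer ((P : Subgroup G) : Set G))).index : ℂ) = ((d * d : ℕ) : ℂ) := by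
      rw [zval_eq P hP, CfsgLib.Char.char_conj_one (CfsgLib.Char.isCharacter_of_isIrr ζ.1.2), hd, Nat.cast_mul,
        div_mul_eq_mul_div, div_mul_cancel₀ _ (Nat.cast_ne_zero.mpr Subgroup.index_ne_zero_of_finite)]
    intro h0
    have h1 : res M (⟨zval P ζ 1, zval_mem P hP hM ζ 1⟩ * (((P : Subgroup G).subgroupOf (Subgroup.normalizer ((P : Subgroup G) : Set G))).index : locRing M)) =
        res M ((d * d : ℕ) : locRing M) := by
      refine congrArg (res M) (Subtype.ext ?_)
      simpa using hval
    rw [map_mul, show res M ⟨zval P ζ 1, zval_mem P hP hM ζ 1⟩ = 0 from h0, zero_mul] at h1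
    have h2 := h1.symm
    rw [map_natCast, CharP.cast_eq_zero_iff (Res M) p] at h2
    exact not_dvd_degree P hP ζ.1 hd ((or_self _).mp (hp.out.dvd_mul.mp h2))
  -- the block sees `θ`
  have hω : bomega (M := M) θ (resIn (Subgroup.centralizer ((P : Subgroup G) : Set G)) (idem hB)) = 1 := by
    obtain ⟨χ, hχ⟩ := IsPBlock.nonempty hB
    have h := ((isInducedBlock_iff (Subgroup.centralizer ((P : Subgroup G) : Set G))).mp hind).2.2 θ hθ χ hχ (idem hB)
    rw [indBomega_apply, bomega_idem, if_pos hχ] at h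
    exact h
  have hfix : ∀ ζ : Over P θ, ∑ h : G, (if hh : h ∈ (Subgroup.centralizer ((P : Subgroup G) : Set G)) then
      (red (idem hB)).coeff h * zfun P hP M hM ζ (⟨h, hCN hh⟩⁻¹ * 1) else 0) = zfun P hP M hM ζ 1 := by
    intro ζ
    obtain ⟨O, hO, hO1, hval⟩ := exists_conjugates P hP ζ
    rw [Finset.sum_dite, Finset.sum_const_zero, add_zero]
    refine Eq.trans (Finset.sum_bij (t := (Finset.univ : Finset (Subgroup.centralizer ((P : Subgroup G) : Set G))))
      (g := fun c : (Subgroup.centralizer ((P : Subgroup G) : Set G)) => (red (idem hB)).coeff (c : G) * zfun P hP M hM ζ (⟨(c : G), hCN c.2⟩⁻¹ * 1))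
      (fun h _ => ⟨h.1, (Finset.mem_filter.mp h.2).2⟩) (fun _ _ => Finset.mem_univ _)
      (fun a _ b _ h => Subtype.ext (congrArg (Subtype.val : (Subgroup.centralizer ((P : Subgroup G) : Set G)) → G) h))
      (fun c _ => ⟨⟨(c : G), Finset.mem_filter.mpr ⟨Finset.mem_univ _, c.2⟩⟩, Finset.mem_attach _ _, rfl⟩)
      (fun _ _ => rfl)) ?_
    simp only [coeff_red, rcoeff, zfun, ← map_mul, ← map_sum, mul_one]
    rw [show res M (⟨zval P ζ 1, zval_mem P hP hM ζ 1⟩ : locRing M) =
      res M (⟨zval P ζ 1, zval_mem P hP hM ζ 1⟩ * zomega θ (resIn (Subgroup.centralizer ((P : Subgroup G) : Set G)) (idem hB))) by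
      rw [map_mul, ← bomega_apply, hω, mul_one]]
    refine congrArg (res M) (Subtype.ext ?_)
    simp only [AddSubmonoidClass.coe_finsetSum, Subring.coe_mul, coe_zomega]
    have hK : ∀ c : (Subgroup.centralizer ((P : Subgroup G) : Set G)), zval P ζ (⟨(c : G), hCN c.2⟩⁻¹) =
        (ζ.1 : (Subgroup.normalizer ((P : Subgroup G) : Set G)) → ℂ) 1 / (((P : Subgroup G).subgroupOf (Subgroup.normalizer ((P : Subgroup G) : Set G))).index : ℂ) *
          ∑ φ ∈ O, (φ : (Subgroup.centralizer ((P : Subgroup G) : Set G)) → ℂ) c := fun c => by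
      rw [zval_eq P hP, CfsgLib.Char.char_inv (CfsgLib.Char.isCharacter_of_isIrr ζ.1.2), Complex.conj_conj,
        show (⟨(c : G), hCN c.2⟩ : (Subgroup.normalizer ((P : Subgroup G) : Set G))) = (((eC P).symm c : CN P) : (Subgroup.normalizer ((P : Subgroup G) : Set G))) from rfl, hval,
        Finset.sum_congr rfl fun φ _ => by rw [MulEquiv.apply_symm_apply]]
    rw [Finset.sum_congr rfl fun c _ => by rw [hK c], zval_eq P hP,
      CfsgLib.Char.char_conj_one (CfsgLib.Char.isCharacter_of_isIrr ζ.1.2)]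
    have hsum : ∀ φ ∈ O, ∑ c : (Subgroup.centralizer ((P : Subgroup G) : Set G)), blockCoeff B (c : G) * (φ : (Subgroup.centralizer ((P : Subgroup G) : Set G)) → ℂ) c =
        ∑ c : (Subgroup.centralizer ((P : Subgroup G) : Set G)), blockCoeff B (c : G) * (θ : (Subgroup.centralizer ((P : Subgroup G) : Set G)) → ℂ) c := fun φ hφ => by
      obtain ⟨n, rfl⟩ := hO φ hφ
      exact sum_blockCoeff_thn P hθP B n
    set K := (ζ.1 : (Subgroup.normalizer ((P : Subgroup G) : Set G)) → ℂ) 1 / (((P : Subgroup G).subgroupOf (Subgroup.normalizer ((P : Subgroup G) : Set G))).index : ℂ)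
    have hω2 : omega (θ : (Subgroup.centralizer ((P : Subgroup G) : Set G)) → ℂ) ((resIn (Subgroup.centralizer ((P : Subgroup G) : Set G)) (idem hB) : Zint M (Subgroup.centralizer ((P : Subgroup G) : Set G))) : CA (Subgroup.centralizer ((P : Subgroup G) : Set G))) =
        (∑ c : (Subgroup.centralizer ((P : Subgroup G) : Set G)), blockCoeff B (c : G) * (θ : (Subgroup.centralizer ((P : Subgroup G) : Set G)) → ℂ) c) / (θ : (Subgroup.centralizer ((P : Subgroup G) : Set G)) → ℂ) 1 := by
      rw [omega, charLin_apply]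
      simp [resIn, idem, blockElt]
    rw [hω2]
    calc ∑ c : (Subgroup.centralizer ((P : Subgroup G) : Set G)), ((idem hB : Zint M G) : CA G).coeff (c : G) * (K * ∑ φ ∈ O, (φ : (Subgroup.centralizer ((P : Subgroup G) : Set G)) → ℂ) c)
        = K * ∑ φ ∈ O, ∑ c : (Subgroup.centralizer ((P : Subgroup G) : Set G)), blockCoeff B (c : G) * (φ : (Subgroup.centralizer ((P : Subgroup G) : Set G)) → ℂ) c := by
          rw [Finset.sum_comm, Finset.mul_sum]
          refine Finset.sum_congr rfl fun c _ => ?_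
          simp only [Finset.mul_sum, idem, blockElt, coeff_ofFun]
          exact Finset.sum_congr rfl fun φ _ => by ring
      _ = K * ((O.card : ℂ) * ∑ c : (Subgroup.centralizer ((P : Subgroup G) : Set G)), blockCoeff B (c : G) * (θ : (Subgroup.centralizer ((P : Subgroup G) : Set G)) → ℂ) c) := by
          rw [Finset.sum_congr rfl hsum, Finset.sum_const, nsmul_eq_mul]
      _ = _ := by
          rw [← hO1]
          field_simp [CfsgLib.Char.irr_one_ne_zero θ.2]
  obtain ⟨z, hzc, hzE, hzp, hzind⟩ := Points.exists_class_functions_of_idemFun (k := Res M) hP hPN le_rfl hCN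
    (fun g hg => exists_conj_notMem P hg) hcard hidem hcenter (fun ζ : Over P θ => zfun P hP M hM ζ) hf horth
    (fun _ => 1) hone hfix
  choose lift hlift using res_surjective M
  let Z : Over P θ → Zint M G := fun m =>
    ⟨ofFun fun g => ((lift (z m g) : locRing M) : ℂ),
      mem_Zint_iff.mpr ⟨fun g => (lift _).2, fun g h => by simp only [coeff_ofFun]; rw [hzc]⟩⟩
  have hZ : ∀ m g, rcoeff (Z m) g = z m g := fun m g => hlift _
  refine ⟨Z, fun m => ?_, fun c hc => hzind c fun g => ?_⟩
  · refine MonoidAlgebra.coeff_injective (Finsupp.ext fun g => ?_)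
    rw [coeff_red, coeff_red, rcoeff_mul, hZ, ← hzE]
    exact Finset.sum_congr rfl fun h _ => by rw [hZ]; rfl
  · obtain ⟨a, ha⟩ := exists_isPPart (p := p) g
    obtain ⟨h, hah, hcomm, ⟨j, hj⟩, hreg⟩ := ha
    have := hc h hreg
    simp only [hZ] at this
    rw [← hah, Finset.sum_congr rfl fun m _ => by rw [hzp m a h hcomm ⟨j, by rw [← hj, pow_orderOf_eq_one]⟩]]
    exact this

/-- Integral vectors independent modulo `M` are independent. -/
theorem linearIndependent_of_res {ι X : Type*} [Fintype ι] [Fintype X] (v : ι → X → locRing M)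
    (hv : ∀ c : ι → Res M, (∀ x, ∑ i, c i * res M (v i x) = 0) → c = 0) :
    LinearIndependent ℂ fun i x => ((v i x : locRing M) : ℂ) := by
  classical
  let Φ : (ι → Res M) →ₗ[Res M] (X → Res M) :=
    { toFun := fun c x => ∑ i, c i * res M (v i x)
      map_add' := fun a b => funext fun x => by simp [add_mul, Finset.sum_add_distrib]
      map_smul' := fun a b => funext fun x => by simp [Finset.mul_sum, mul_assoc] }
  obtain ⟨Ψ, hΨ⟩ := LinearMap.exists_leftInverse_of_injective Φ
    (LinearMap.ker_eq_bot'.mpr fun c hc => hv c fun x => congrFun hc x)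
  choose lift hlift using res_surjective M
  let A : Matrix ι ι (locRing M) := fun i j => ∑ x : X, lift (Ψ (Pi.single x 1) i) * v j x
  have hA : A.map (res M) = 1 := by
    ext i j
    rw [Matrix.map_apply, map_sum]
    have h1 := LinearMap.congr_fun hΨ (Pi.single j (1 : Res M))
    have h2 : Φ (Pi.single j (1 : Res M)) = ∑ x : X, res M (v j x) • Pi.single x (1 : Res M) := by
      rw [← pi_eq_sum_univ']
      funext x
      simp only [Φ, LinearMap.coe_mk, AddHom.coe_mk, Pi.single_apply, ite_mul, one_mul, zero_mul,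
        Finset.sum_ite_eq', Finset.mem_univ, if_true]
    rw [LinearMap.id_apply, LinearMap.comp_apply, h2, map_sum] at h1
    have h3 := congrFun h1 i
    rw [Finset.sum_apply, Pi.single_apply, ← Matrix.one_apply] at h3
    rw [← h3]
    refine Finset.sum_congr rfl fun x _ => ?_
    rw [map_mul, hlift, map_smul, Pi.smul_apply, smul_eq_mul, mul_comm]
  have hdet : (A.map (locRing M).subtype).det ≠ 0 := by
    have hu : res M A.det = 1 := by rw [RingHom.map_det, RingHom.mapMatrix_apply, hA, Matrix.det_one]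
    rw [← RingHom.mapMatrix_apply, ← RingHom.map_det]
    intro h0
    rw [show A.det = 0 from Subtype.ext (by simpa using h0), map_zero] at hu
    exact zero_ne_one hu
  rw [Fintype.linearIndependent_iff]
  intro d hd
  have hvec : Matrix.mulVec (A.map (locRing M).subtype) d = 0 := by
    funext i
    change ∑ j, ((∑ x, lift (Ψ (Pi.single x 1) i) * v j x : locRing M) : ℂ) * d j = 0
    simp only [AddSubmonoidClass.coe_finsetSum, Subring.coe_mul, Finset.sum_mul]
    rw [Finset.sum_comm]
    refine Finset.sum_eq_zero fun x _ => ?_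
    have h := congrFun hd x
    simp only [Finset.sum_apply, Pi.smul_apply, smul_eq_mul, Pi.zero_apply] at h
    calc _ = ((lift (Ψ (Pi.single x 1) i) : locRing M) : ℂ) * ∑ j, d j * ((v j x : locRing M) : ℂ) := by
          rw [Finset.mul_sum]; exact Finset.sum_congr rfl fun j _ => by ring
      _ = 0 := by rw [h, mul_zero]
  intro i
  by_contra hi
  exact hdet (Matrix.exists_mulVec_eq_zero_iff.mp ⟨d, fun h => hi (congrFun h i), hvec⟩)

include hP hθP in
/-- **Lower bound.** Relations among the characters of `B` on the regular elements, together with the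
characters over `θ`, bound `k(B)` from below. -/
theorem card_ge (hM : IsPModular p M) (hind : IsInducedBlock M (Subgroup.centralizer ((P : Subgroup G) : Set G)) b B) (hθ : θ ∈ b) [Fintype B]
    {κ : Type*} [Fintype κ] (d : κ → B → ℂ) (hd : LinearIndependent ℂ d)
    (hrel : ∀ k, ∀ g : G, ¬ p ∣ orderOf g → ∑ χ : B, d k χ * conj ((χ.1 : G → ℂ) g) = 0) :
    Nat.card (Over P θ) + Fintype.card κ ≤ Fintype.card B := by
  classical
  have hB : IsPBlock M B := hind.2.1
  obtain ⟨z, hzid, hzind⟩ := exists_block_functions P hP hθP hM hind hθ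
  let X := {g : G // ¬ p ∣ orderOf g}
  let w : Over P θ → Zint M G := fun m => z m * idem hB
  let v : Over P θ → X → locRing M := fun m g =>
    ⟨((w m : Zint M G) : CA G).coeff g.1, (mem_Zint_iff.mp (w m).2).1 g.1⟩
  have hv := linearIndependent_of_res v fun c hc => hzind c fun g hg => by
    rw [← hc ⟨g, hg⟩]
    refine Finset.sum_congr rfl fun m _ => congrArg _ ?_
    rw [← coeff_red, ← hzid]
    rfl
  let L : (B → ℂ) →ₗ[ℂ] (X → ℂ) :=
    { toFun := fun c g => ∑ χ : B, c χ * conj ((χ.1 : G → ℂ) g.1)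
      map_add' := fun a b => funext fun g => by simp [add_mul, Finset.sum_add_distrib]
      map_smul' := fun a b => funext fun g => by simp [Finset.mul_sum, mul_assoc] }
  have hmem : ∀ m, (fun x => ((v m x : locRing M) : ℂ)) ∈ LinearMap.range L := fun m => by
    refine ⟨fun χ => (Nat.card G : ℂ)⁻¹ * omega (χ.1 : G → ℂ) ((w m : Zint M G) : CA G) * (χ.1 : G → ℂ) 1,
      funext fun g => ?_⟩
    simp only [L, v, LinearMap.coe_mk, AddHom.coe_mk]
    rw [coeff_eq_sum_omega (Zint_center (w m)) g.1, Finset.mul_sum,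
      ← Finset.sum_subtype (Finset.univ.filter (· ∈ B)) (by simp)
        (fun χ : IrrCharacter G => (Nat.card G : ℂ)⁻¹ * omega (χ : G → ℂ) ((w m : Zint M G) : CA G) *
          (χ : G → ℂ) 1 * conj ((χ : G → ℂ) g.1)), Finset.sum_filter]
    refine Finset.sum_congr rfl fun χ _ => ?_
    split_ifs with hχ
    · ring
    · have h0 : omega (χ : G → ℂ) ((w m : Zint M G) : CA G) = 0 := by
        rw [← coe_zomega, map_mul, zomega_idem, if_neg hχ, mul_zero]; rfl
      rw [h0]; ring
  have h1 : Fintype.card (Over P θ) ≤ Module.finrank ℂ (LinearMap.range L) :=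
    (LinearIndependent.of_comp (LinearMap.range L).subtype
      (v := fun m => (⟨_, hmem m⟩ : LinearMap.range L)) hv).fintype_card_le_finrank
  have h2 : Fintype.card κ ≤ Module.finrank ℂ (LinearMap.ker L) :=
    (LinearIndependent.of_comp (LinearMap.ker L).subtype
      (v := fun k => (⟨d k, LinearMap.mem_ker.mpr (funext fun g => hrel k g.1 g.2)⟩ : LinearMap.ker L))
      hd).fintype_card_le_finrank
  have h3 := LinearMap.finrank_range_add_finrank_ker L
  rw [Module.finrank_fintype_fun_eq_card] at h3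
  rw [Nat.card_eq_fintype_card]
  omega

end PrimeLocal

end CfsgLib.Blocks
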