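import Mathlib.RingTheory.SimpleModule.IsAlgClosed
import Mathlib.RingTheory.Idempotents
import Mathlib.RingTheory.Artinian.Module
import Mathlib.Data.Matrix.Basis
import Mathlib.LinearAlgebra.Dual.Lemmas
import Mathlib.LinearAlgebra.Matrix.Trace
import Mathlib.RingTheory.Finiteness.Quotient
import Mathlib.Algebra.Algebra.Operations

/-!
# Symmetric algebras with a centre of dimension two

Over an algebraically closed field a symmetric algebra whose centre is spanned by `1` and a
non-zero nilpotent element is a matrix algebra over an algebra of dimension two, so its dimension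
is twice a square (Brandt's argument for blocks with two characters).
-/

set_option autoImplicit false

noncomputable section

namespace CfsgLib.Blocks.SymAlgTwo

variable {k : Type*} [Field k] [IsAlgClosed k] {B : Type*} [Ring B] [Algebra k B] [FiniteDimensional k B]

omit [IsAlgClosed k] [FiniteDimensional k B] in
/-- If every functional killing `U` is on `V` a combination of two fixed ones, `U` has codimension
at most two in `V`. -/
theorem finrank_le_add_two [FiniteDimensional k B] {U V : Submodule k B} (φ ψ : B →ₗ[k] k)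
    (h : ∀ g : B →ₗ[k] k, (∀ u ∈ U, g u = 0) → ∃ α β : k, ∀ v ∈ V, g v = α * φ v + β * ψ v) :
    Module.finrank k V ≤ Module.finrank k U + 2 := by
  set L : V →ₗ[k] k × k := (φ.prod ψ).comp V.subtype with hL
  have h1 := LinearMap.finrank_range_add_finrank_ker L
  have h2 : Module.finrank k (LinearMap.range L) ≤ 2 :=
    (Submodule.finrank_le _).trans (by rw [Module.finrank_prod, Module.finrank_self])
  have h3 : (LinearMap.ker L).map V.subtype ≤ U := by
    rintro _ ⟨v, hv, rfl⟩
    by_contra hv'
    obtain ⟨g, hgv, hg⟩ := Submodule.exists_dual_map_eq_bot_of_notMem hv' inferInstance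
    have hgU : ∀ u ∈ U, g u = 0 := fun u hu => by
      have : g u ∈ U.map g := Submodule.mem_map_of_mem hu
      rw [hg] at this
      exact (Submodule.mem_bot k).mp this
    obtain ⟨α, β, hab⟩ := h g hgU
    apply hgv
    have hφ : φ v = 0 ∧ ψ v = 0 := by
      have : L v = 0 := hv
      exact Prod.ext_iff.mp this
    rw [Submodule.subtype_apply, hab v v.2, hφ.1, hφ.2, mul_zero, mul_zero, add_zero]
  have h4 := Submodule.finrank_mono h3
  rw [Submodule.finrank_map_subtype_eq] at h4
  omega

/-- **Brandt.** A symmetric algebra with centre `k + k z`, `z ≠ 0` nilpotent, has dimension twice a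
square. -/
theorem exists_finrank_eq_two_mul_sq (τ : B →ₗ[k] k) (hsymm : ∀ a b, τ (a * b) = τ (b * a))
    (hnd : ∀ b, (∀ a, τ (b * a) = 0) → b = 0) {z : B} (hz : ∀ b, b * z = z * b)
    (hcen : ∀ c : B, (∀ b, b * c = c * b) → ∃ α β : k, c = α • (1 : B) + β • z)
    (hnil : IsNilpotent z) (hz0 : z ≠ 0) : ∃ n : ℕ, Module.finrank k B = 2 * n ^ 2 := by
  classical
  -- trace forms
  have hform : ∀ f : B →ₗ[k] k, (∀ a b, f (a * b) = f (b * a)) →
      ∃ α β : k, ∀ x, f x = α * τ x + β * τ (z * x) := by
    intro f hf
    let Φ : B →ₗ[k] Module.Dual k B :=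
      LinearMap.mk₂ k (fun c x => τ (c * x)) (fun a b x => by simp [add_mul]) (fun r a x => by simp)
        (fun a x y => by simp [mul_add]) (fun r a x => by simp)
    have hinj : Function.Injective Φ := LinearMap.ker_eq_bot.mp (LinearMap.ker_eq_bot'.mpr fun c hc =>
      hnd c fun a => LinearMap.congr_fun hc a)
    obtain ⟨c, hc⟩ := (LinearMap.injective_iff_surjective_of_finrank_eq_finrank
      Subspace.dual_finrank_eq.symm).mp hinj f
    have hcf : ∀ x, τ (c * x) = f x := LinearMap.congr_fun hc
    have hcz : ∀ b, b * c = c * b := fun b => by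
      refine sub_eq_zero.mp (hnd _ fun x => ?_)
      rw [sub_mul, map_sub, sub_eq_zero, mul_assoc c, hcf, mul_assoc, hsymm b, mul_assoc, hcf, hf b x]
    obtain ⟨α, β, rfl⟩ := hcen c hcz
    exact ⟨α, β, fun x => by rw [← hcf]; simp [add_mul]⟩
  -- the semisimple quotient
  have : IsArtinianRing B := IsArtinianRing.of_finite k B
  have : Module.Finite k (B ⧸ Ring.jacobson B) :=
    Module.Finite.of_surjective (Ideal.Quotient.mkₐ k (Ring.jacobson B)).toLinearMap
      Ideal.Quotient.mk_surjective
  obtain ⟨r, d, hd, ⟨Ψ⟩⟩ :=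
    IsSemisimpleRing.exists_algEquiv_pi_matrix_of_isAlgClosed k (B ⧸ Ring.jacobson B)
  set π : B →ₐ[k] (Π i, Matrix (Fin (d i)) (Fin (d i)) k) :=
    Ψ.toAlgHom.comp (Ideal.Quotient.mkₐ k (Ring.jacobson B)) with hπ
  have hsurj : Function.Surjective π := Ψ.surjective.comp Ideal.Quotient.mk_surjective
  have hker : ∀ x, π x = 0 ↔ x ∈ Ring.jacobson B := fun x => by
    rw [hπ, AlgHom.comp_apply, AlgEquiv.coe_toAlgHom, map_eq_zero_iff _ Ψ.injective,
      Ideal.Quotient.mkₐ_eq_mk, Ideal.Quotient.eq_zero_iff_mem]
  obtain ⟨N, hN⟩ := (IsSemiprimaryRing.isNilpotent : IsNilpotent (Ring.jacobson B))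
  -- the image of `z`
  have hπz : π z = 0 := by
    funext i
    have : NeZero (d i) := hd i
    have hc : π z i ∈ Set.range (Matrix.scalar (Fin (d i))) := Matrix.mem_range_scalar_of_commute_single fun a b _ => by
      obtain ⟨x, hx⟩ := hsurj (Pi.single i (Matrix.single a b 1))
      have h := congrFun (congrArg π (hz x)) i
      simp only [map_mul, Pi.mul_apply, hx, Pi.single_eq_same] at h
      exact h
    obtain ⟨s, hs⟩ := hc
    have h1 : IsNilpotent (π z i) := (hnil.map π).map (Pi.evalRingHom _ i)
    obtain ⟨m, hm⟩ := h1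
    rw [← hs, ← map_pow] at hm
    have h2 : s ^ m = 0 := by
      have := congrFun (congrFun hm 0) 0
      simpa [Matrix.scalar_apply] using this
    rw [← hs, eq_zero_of_pow_eq_zero h2, map_zero]
    rfl
  have hr : r = 1 := by
    rcases Nat.lt_trichotomy r 1 with h | h | h
    · exfalso
      obtain ⟨m, hm⟩ : IsNilpotent (1 : B) := by
        have h1 : (1 : B) ∈ Ring.jacobson B := (hker 1).mp (funext fun i => absurd i.2 (by omega))
        refine ⟨N, ?_⟩
        have := Ideal.pow_mem_pow h1 N
        rw [hN] at this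
        simpa using this
      rw [one_pow] at hm
      exact hz0 (by rw [← mul_one z, hm, mul_zero])
    · exact h
    · exfalso
      let f : Fin r → (B →ₗ[k] k) := fun i =>
        (Matrix.traceLinearMap (Fin (d i)) k k).comp ((LinearMap.proj i).comp π.toLinearMap)
      have hf : ∀ i a b, f i (a * b) = f i (b * a) := fun i a b => by
        simp only [f, LinearMap.comp_apply, LinearMap.proj_apply, AlgHom.toLinearMap_apply, map_mul,
          Pi.mul_apply, Matrix.traceLinearMap_apply]
        exact Matrix.trace_mul_comm _ _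
      let i : Fin r := ⟨0, by omega⟩
      let j : Fin r := ⟨1, h⟩
      have hij : i ≠ j := fun e => by simpa [i, j] using congrArg Fin.val e
      have : NeZero (d i) := hd i
      have : NeZero (d j) := hd j
      obtain ⟨a₁, b₁, h1⟩ := hform (f i) (hf i)
      obtain ⟨a₂, b₂, h2⟩ := hform (f j) (hf j)
      obtain ⟨u, hu⟩ := hsurj (Pi.single i (Matrix.single 0 0 1))
      obtain ⟨v, hv⟩ := hsurj (Pi.single j (Matrix.single 0 0 1))
      have hiu : f i u = 1 := by simp [f, hu]
      have hiv : f i v = 0 := by simp [f, hv, Pi.single_eq_of_ne hij]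
      have hju : f j u = 0 := by simp [f, hu, Pi.single_eq_of_ne hij.symm]
      have hjv : f j v = 1 := by simp [f, hv]
      rw [h1] at hiu hiv
      rw [h2] at hju hjv
      have hdet : a₁ * b₂ - a₂ * b₁ ≠ 0 := by
        intro h0
        have e1 : b₂ * (a₁ * τ u + b₁ * τ (z * u)) - b₁ * (a₂ * τ u + b₂ * τ (z * u)) = 0 := by
          linear_combination (τ u) * h0
        have e2 : b₂ * (a₁ * τ v + b₁ * τ (z * v)) - b₁ * (a₂ * τ v + b₂ * τ (z * v)) = 0 := by
          linear_combination (τ v) * h0
        rw [hiu, hju] at e1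
        rw [hiv, hjv] at e2
        have hb2 : b₂ = 0 := by linear_combination e1
        have hb1 : b₁ = 0 := by linear_combination -e2
        subst hb1 hb2
        have hτu : τ u = 0 := by
          rcases mul_eq_zero.mp (show a₂ * τ u = 0 by linear_combination hju) with h | h
          · rw [h] at hjv; simp at hjv
          · exact h
        rw [hτu] at hiu; simp at hiu
      have hJ : ∀ x, π x = 0 → τ x = 0 := fun x hx => by
        have e1 : f i x = 0 := by simp [f, hx]
        have e2 : f j x = 0 := by simp [f, hx]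
        rw [h1] at e1
        rw [h2] at e2
        refine (mul_eq_zero.mp (show (a₁ * b₂ - a₂ * b₁) * τ x = 0 by
          linear_combination b₂ * e1 - b₁ * e2)).resolve_left hdet
      exact hz0 (hnd z fun a => hJ _ (by rw [map_mul, hπz, zero_mul]))
  subst hr
  set n := d 0 with hn
  have : NeZero n := hd 0
  set π₀ : B →ₐ[k] Matrix (Fin n) (Fin n) k :=
    (Pi.evalAlgHom k (fun i => Matrix (Fin (d i)) (Fin (d i)) k) 0).comp π with hπ₀
  have hsurj₀ : Function.Surjective π₀ := fun m => by
    obtain ⟨x, hx⟩ := hsurj (Pi.single 0 m)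
    exact ⟨x, by simp [hπ₀, hx]⟩
  have hker₀ : ∀ x, π₀ x = 0 ↔ x ∈ Ring.jacobson B := fun x => by
    rw [← hker]
    refine ⟨fun h => funext fun i => ?_, fun h => ?_⟩
    · rw [Subsingleton.elim i 0]; exact h
    · simp [hπ₀, h]
  have hJnil : ∀ x, π₀ x = 0 → IsNilpotent x := fun x hx => ⟨N, by
    have := Ideal.pow_mem_pow ((hker₀ x).mp hx) N
    rw [hN] at this
    simpa using this⟩
  -- the idempotent and matrix units
  obtain ⟨e, he, hπe⟩ := exists_isIdempotentElem_eq_of_ker_isNilpotent π₀.toRingHom
    (fun x hx => hJnil x hx) (Matrix.single 0 0 (1 : k)) (hsurj₀ _)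
    (by simp [IsIdempotentElem, Matrix.single_mul_single_same])
  replace hπe : π₀ e = Matrix.single 0 0 1 := hπe
  choose X hX using fun i : Fin n => hsurj₀ (Matrix.single i 0 1)
  choose Y hY using fun i : Fin n => hsurj₀ (Matrix.single 0 i 1)
  have hu : IsUnit (∑ i, X i * e * Y i) := by
    have h0 : π₀ (1 - ∑ i, X i * e * Y i) = 0 := by
      simp only [map_sub, map_one, map_sum, map_mul, hX, hY, hπe, Matrix.single_mul_single_same, mul_one]
      rw [sub_eq_zero]
      ext a b
      simp [Matrix.sum_apply, Matrix.single_apply, Matrix.one_apply, Finset.sum_ite_eq', ite_and]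
    have := (hJnil _ h0).isUnit_one_sub
    rwa [sub_sub_cancel] at this
  obtain ⟨w, hw⟩ := hu.exists_left_inv
  let x : Fin n → B := fun i => w * X i * e
  let y : Fin n → B := fun i => e * Y i
  have hxe : ∀ i, x i * e = x i := fun i => by simp only [x, mul_assoc, he.eq]
  have hey : ∀ i, e * y i = y i := fun i => by simp only [y, ← mul_assoc, he.eq]
  have hxy : ∑ i, x i * y i = 1 := by
    rw [← hw, Finset.mul_sum]
    refine Finset.sum_congr rfl fun i _ => ?_
    simp only [x, y, mul_assoc]
    rw [← mul_assoc e e, he.eq]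
  have hπw : π₀ w = 1 := by
    have h := congrArg π₀ hw
    rw [map_mul, map_one] at h
    have h1 : π₀ (∑ i, X i * e * Y i) = 1 := by
      simp only [map_sum, map_mul, hX, hY, hπe, Matrix.single_mul_single_same, mul_one]
      ext a b
      simp [Matrix.sum_apply, Matrix.single_apply, Matrix.one_apply, Finset.sum_ite_eq', ite_and]
    rwa [h1, mul_one] at h
  have hπx : ∀ i, π₀ (x i) = Matrix.single i 0 1 := fun i => by
    simp only [x, map_mul, hπw, hX, hπe, one_mul, Matrix.single_mul_single_same, mul_one]
  have hπy : ∀ i, π₀ (y i) = Matrix.single 0 i 1 := fun i => by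
    simp only [y, map_mul, hY, hπe, Matrix.single_mul_single_same, mul_one]
  -- the corner
  let A : Submodule k B :=
    { carrier := {a | e * a = a ∧ a * e = a}
      add_mem' := fun ha hb => ⟨by rw [mul_add, ha.1, hb.1], by rw [add_mul, ha.2, hb.2]⟩
      zero_mem' := ⟨mul_zero e, zero_mul e⟩
      smul_mem' := fun c a ha => ⟨by rw [mul_smul_comm, ha.1], by rw [smul_mul_assoc, ha.2]⟩ }
  have hA : ∀ a, a ∈ A ↔ e * a = a ∧ a * e = a := fun a => Iff.rfl
  let S : Submodule k B := A ⊓ LinearMap.ker π₀.toLinearMap
  have hS : ∀ a, a ∈ S ↔ a ∈ A ∧ π₀ a = 0 := fun a => Iff.rfl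
  have hmulA : ∀ a ∈ A, ∀ b ∈ A, a * b ∈ A := fun a ha b hb =>
    ⟨by rw [← mul_assoc, ha.1], by rw [mul_assoc, hb.2]⟩
  have heA : e ∈ A := ⟨he.eq, he.eq⟩
  have hSS : S * S ≤ S := Submodule.mul_le.mpr fun a ha b hb =>
    ⟨hmulA a ha.1 b hb.1, by simp [((hS a).mp ha).2]⟩
  have hdec : ∀ a ∈ A, ∃ c : k, a - c • e ∈ S := fun a ha => by
    refine ⟨π₀ a 0 0, A.sub_mem ha (A.smul_mem _ heA), ?_⟩
    show π₀ (a - π₀ a 0 0 • e) = 0
    have h1 : π₀ a = Matrix.single 0 0 1 * π₀ a * Matrix.single 0 0 1 := by
      rw [← hπe, ← map_mul, ← map_mul, ha.1, ha.2]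
    rw [map_sub, map_smul, sub_eq_zero, hπe]
    conv_lhs => rw [h1]
    rw [Matrix.single_mul_mul_single, one_mul, mul_one, Matrix.smul_single, smul_eq_mul, mul_one]
  have hyxA : ∀ i j b, y i * b * x j ∈ A := fun i j b =>
    ⟨by rw [mul_assoc (y i), ← mul_assoc e, hey], by rw [mul_assoc _ (x j), hxe]⟩
  -- extension of cyclic functionals
  have hext : ∀ g : B →ₗ[k] k, (∀ a ∈ A, ∀ b ∈ A, g (a * b) = g (b * a)) →
      ∃ α β : k, ∀ a ∈ A, g a = α * τ a + β * τ (z * a) := by
    intro g hg
    let G : B →ₗ[k] k := ∑ i, g.comp ((LinearMap.mulLeft k (y i)).comp (LinearMap.mulRight k (x i)))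
    have hG : ∀ b, G b = ∑ i, g (y i * b * x i) := fun b => by simp [G, mul_assoc]
    have hGt : ∀ b c, G (b * c) = G (c * b) := by
      have key : ∀ b c, G (b * c) = ∑ i, ∑ j, g ((y i * b * x j) * (y j * c * x i)) := fun b c => by
        rw [hG]
        refine Finset.sum_congr rfl fun i _ => ?_
        rw [← map_sum]
        congr 1
        calc y i * (b * c) * x i = y i * b * (∑ j, x j * y j) * (c * x i) := by
              rw [hxy, mul_one]; simp [mul_assoc]
          _ = _ := by rw [Finset.mul_sum, Finset.sum_mul]; simp [mul_assoc]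
      intro b c
      rw [key, key, Finset.sum_comm]
      exact Finset.sum_congr rfl fun i _ => Finset.sum_congr rfl fun j _ =>
        hg _ (hyxA _ _ _) _ (hyxA _ _ _)
    obtain ⟨α, β, h⟩ := hform G hGt
    refine ⟨α, β, fun a ha => ?_⟩
    rw [← h, hG]
    calc g a = g ((e * ∑ i, x i * y i) * e * a) := by rw [hxy, mul_one, he.eq, ha.1]
      _ = ∑ i, g ((e * x i) * (y i * e * a)) := by
          rw [Finset.mul_sum, Finset.sum_mul, Finset.sum_mul, map_sum]; simp [mul_assoc]
      _ = _ := Finset.sum_congr rfl fun i _ => by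
          have h1 : e * x i ∈ A := ⟨by rw [← mul_assoc, he.eq], by rw [mul_assoc, hxe]⟩
          have h2 : y i * e * a ∈ A :=
            ⟨by rw [← mul_assoc, ← mul_assoc, hey], by rw [mul_assoc, ha.2]⟩
          rw [hg _ h1 _ h2]
          congr 1
          rw [← mul_assoc, mul_assoc (y i * e) a e, ha.2, mul_assoc (y i) e a, ha.1]
  -- the radical of the corner
  have hSpow : ∀ m, S ^ (m + 1) ≤ Submodule.restrictScalars k ((Ring.jacobson B) ^ (m + 1)) := fun m => by
    induction m with
    | zero => intro a ha; rw [pow_one] at ha; simpa [Submodule.pow_one, Ideal.one_eq_top] using (hker₀ a).mp ((hS a).mp ha).2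
    | succ m ih =>
      rw [pow_succ, pow_succ]
      exact Submodule.mul_le.mpr fun a ha b hb =>
        Ideal.mul_mem_mul (ih ha) ((hker₀ b).mp ((hS b).mp hb).2)
  have hSN : S ^ (N + 1) = ⊥ := eq_bot_iff.mpr fun a ha => by
    have := hSpow N ha
    have h2 := Ideal.pow_le_pow_right (Nat.le_succ N) this
    rw [hN] at h2
    simpa using h2
  have hrankA : Module.finrank k A = Module.finrank k S + 1 := by
    have hd : Disjoint (k ∙ e) S := Disjoint.symm <| Submodule.disjoint_span_singleton.mpr fun h => absurd ((hS e).mp h).2 (by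
      rw [hπe]
      intro h0
      simpa using congrFun (congrFun h0 0) 0)
    have hsup : (k ∙ e) ⊔ S = A := le_antisymm
      (sup_le ((Submodule.span_singleton_le_iff_mem _ _).mpr heA) inf_le_left) fun a ha => by
      obtain ⟨c, hc⟩ := hdec a ha
      exact Submodule.mem_sup.mpr ⟨c • e, Submodule.smul_mem _ _ (Submodule.mem_span_singleton_self e), _, hc,
        add_sub_cancel _ _⟩
    have := Submodule.finrank_sup_add_finrank_inf_eq (k ∙ e) S
    rw [hsup, hd.eq_bot, finrank_bot, finrank_span_singleton (show e ≠ 0 by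
      intro h0
      rw [h0, map_zero] at hπe
      simpa using congrFun (congrFun hπe.symm 0) 0)] at this
    omega
  have hcoord : ∀ b : B, b = ∑ i, ∑ j, x i * (y i * b * x j) * y j := fun b => by
    calc b = (∑ i, x i * y i) * b * ∑ j, x j * y j := by rw [hxy, one_mul, mul_one]
      _ = _ := by simp [Finset.mul_sum, Finset.sum_mul, mul_assoc]; rw [Finset.sum_comm]
  have hS0 : S ≠ ⊥ := by
    intro h0
    refine hz0 ?_
    rw [hcoord z]
    refine Finset.sum_eq_zero fun i _ => Finset.sum_eq_zero fun j _ => ?_
    have h1 : y i * z * x j ∈ S := ⟨hyxA i j z, by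
      show π₀ _ = 0
      simp [hπ₀, hπz]⟩
    rw [h0, Submodule.mem_bot] at h1
    rw [h1, mul_zero, zero_mul]
  have hlt : S * S < S := lt_of_le_of_ne hSS fun heq => hS0 <| by
    have : ∀ m, S ^ (m + 1) = S := fun m => by
      induction m with
      | zero => exact pow_one S
      | succ m ih => rw [pow_succ, ih, heq]
    rw [← this N, hSN]
  have hle1 : Module.finrank k S ≤ Module.finrank k ↥(S * S) + 1 := by
    have := finrank_le_add_two (U := S * S) (V := A) τ (τ.comp (LinearMap.mulLeft k z)) fun g hg => hext g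
      fun a ha b hb => by
        obtain ⟨c, hc⟩ := hdec a ha
        obtain ⟨c', hc'⟩ := hdec b hb
        set s := a - c • e with hs
        set t := b - c' • e with ht
        have h1 : a * b - b * a = s * t - t * s := by
          simp only [hs, ht, sub_mul, mul_sub, smul_mul_assoc, mul_smul_comm, smul_smul, ha.1, ha.2, hb.1, hb.2,
            he.eq]
          module
        rw [← sub_eq_zero, ← map_sub, h1, map_sub, hg _ (Submodule.mul_mem_mul hc hc'),
          hg _ (Submodule.mul_mem_mul hc' hc), sub_zero]
    omega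
  obtain ⟨g, hgS, hgW⟩ := SetLike.exists_of_lt hlt
  have hgen : S = (k ∙ g) ⊔ S * S := by
    refine (Submodule.eq_of_le_of_finrank_le (sup_le ((Submodule.span_singleton_le_iff_mem _ _).mpr hgS) hSS)
      (le_trans hle1 ?_)).symm
    exact Submodule.finrank_lt_finrank_of_lt (lt_of_le_of_ne le_sup_right fun h =>
      hgW (h ▸ Submodule.mem_sup_left (Submodule.mem_span_singleton_self g)))
  set C : Submodule k B := Submodule.span k (Set.range fun i : ℕ => g ^ (i + 1)) with hC
  have hstep : ∀ m, S ^ (m + 1) ≤ (k ∙ g ^ (m + 1)) ⊔ S ^ (m + 2) := fun m => by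
    induction m with
    | zero =>
      intro a ha
      rw [pow_one, hgen] at ha
      rw [pow_one, pow_two]
      exact ha
    | succ m ih =>
      calc S ^ (m + 1 + 1) = S ^ (m + 1) * S := pow_succ _ _
        _ ≤ ((k ∙ g ^ (m + 1)) ⊔ S ^ (m + 2)) * ((k ∙ g) ⊔ S * S) :=
            mul_le_mul' ih hgen.le
        _ ≤ _ := by
          simp only [Submodule.sup_mul, Submodule.mul_sup]
          refine sup_le (sup_le ?_ ?_) (sup_le ?_ ?_)
          · rw [Submodule.span_mul_span, Set.singleton_mul_singleton, ← pow_succ]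
            exact le_sup_left
          all_goals refine le_trans ?_ le_sup_right
          all_goals first
            | (rw [show m + 1 + 2 = (m + 1) + 2 from rfl]
               refine le_trans (mul_le_mul' ((Submodule.span_singleton_le_iff_mem _ _).mpr
                 (Submodule.pow_mem_pow S hgS (m + 1))) le_rfl) ?_
               rw [← pow_two, ← pow_add])
            | (refine le_trans (mul_le_mul' le_rfl ((Submodule.span_singleton_le_iff_mem _ _).mpr hgS)) ?_
               rw [← pow_succ])
            | (refine le_trans (mul_le_mul' le_rfl hSS) ?_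
               rw [← pow_succ])
  have hSC : ∀ m, S ≤ C ⊔ S ^ (m + 1) := fun m => by
    induction m with
    | zero => rw [pow_one]; exact le_sup_right
    | succ m ih =>
      exact ih.trans (sup_le le_sup_left ((hstep m).trans (sup_le
        (le_sup_of_le_left ((Submodule.span_singleton_le_iff_mem _ _).mpr (Submodule.subset_span ⟨m, rfl⟩)))
        le_sup_right)))
  have hSC' : S ≤ C := (hSC N).trans (by rw [hSN, sup_bot_eq])
  have hcomm : ∀ a ∈ C, ∀ b ∈ C, a * b = b * a := fun a ha b hb => by
    induction ha, hb using Submodule.span_induction₂ with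
    | mem_mem u v hu hv =>
      obtain ⟨i, rfl⟩ := hu
      obtain ⟨j, rfl⟩ := hv
      exact ((Commute.refl g).pow_pow _ _).eq
    | zero_left => simp
    | zero_right => simp
    | add_left _ _ _ _ _ _ h1 h2 => rw [add_mul, mul_add, h1, h2]
    | add_right _ _ _ _ _ _ h1 h2 => rw [add_mul, mul_add, h1, h2]
    | smul_left _ _ _ _ _ h1 => rw [smul_mul_assoc, mul_smul_comm, h1]
    | smul_right _ _ _ _ _ h1 => rw [smul_mul_assoc, mul_smul_comm, h1]
  have hle2 : Module.finrank k A ≤ 2 := by
    have := finrank_le_add_two (U := (⊥ : Submodule k B)) (V := A) τ (τ.comp (LinearMap.mulLeft k z))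
      fun f _ => hext f fun a ha b hb => by
        obtain ⟨c, hc⟩ := hdec a ha
        obtain ⟨c', hc'⟩ := hdec b hb
        set s := a - c • e with hs
        set t := b - c' • e with ht
        have h1 : a * b - b * a = s * t - t * s := by
          simp only [hs, ht, sub_mul, mul_sub, smul_mul_assoc, mul_smul_comm, smul_smul, ha.1, ha.2, hb.1, hb.2,
            he.eq]
          module
        rw [← sub_eq_zero, ← map_sub, h1, hcomm _ (hSC' hc) _ (hSC' hc'), sub_self, map_zero]
    rwa [finrank_bot, zero_add] at this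
  have hS1 : Module.finrank k S = 1 := by
    have := Submodule.finrank_eq_zero.not.mpr hS0
    omega
  have hA2 : Module.finrank k A = 2 := by omega
  have hW0 : S * S = ⊥ := by
    have := Submodule.finrank_lt_finrank_of_lt hlt
    exact Submodule.finrank_eq_zero.mp (by omega)
  -- matrix units
  have hQ : ∀ i j, y i * x j = if i = j then e else 0 := by
    let Q : Fin n → Fin n → B := fun i j => y i * x j - if i = j then e else 0
    have hQS : ∀ i j, Q i j ∈ S := fun i j => by
      refine ⟨A.sub_mem (by simpa using hyxA i j 1) (by split_ifs; exacts [heA, A.zero_mem]), ?_⟩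
      show π₀ (Q i j) = 0
      simp only [Q, map_sub, map_mul, hπy, hπx, apply_ite π₀, hπe, map_zero]
      rw [sub_eq_zero]
      split_ifs with h
      · subst h; simp
      · simp [Matrix.single_mul_single_of_ne _ _ _ _ h]
    intro i l
    have hzero : ∀ j, Q i j * Q j l = 0 := fun j => by
      have := Submodule.mul_mem_mul (hQS i j) (hQS j l)
      rwa [hW0, Submodule.mem_bot] at this
    have hidem : ∑ j, (y i * x j) * (y j * x l) = y i * x l := by
      calc _ = y i * (∑ j, x j * y j) * x l := by simp [Finset.mul_sum, Finset.sum_mul, mul_assoc]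
        _ = _ := by rw [hxy, mul_one]
    have hsplit : ∀ a b, y a * x b = Q a b + if a = b then e else 0 := fun a b => by simp [Q]
    have heQ : ∀ a b, e * Q a b = Q a b ∧ Q a b * e = Q a b := fun a b => (hQS a b).1
    have hQ0 : Q i l = 0 := by
      simp only [hsplit, add_mul, mul_add, hzero, Finset.sum_add_distrib, mul_ite, ite_mul, mul_zero,
        zero_mul, (heQ _ _).1, (heQ _ _).2, he.eq, Finset.sum_ite_eq, Finset.sum_ite_eq', Finset.mem_univ,
        if_true, Finset.sum_const_zero, zero_add] at hidem
      linear_combination (norm := abel) hidem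
    rw [hsplit, hQ0, zero_add]
  let Φ : B ≃ₗ[k] (Fin n × Fin n → A) :=
    { toFun := fun b q => ⟨y q.1 * b * x q.2, hyxA _ _ _⟩
      map_add' := fun a b => funext fun q => Subtype.ext (by simp [mul_add, add_mul])
      map_smul' := fun c a => funext fun q => Subtype.ext (by simp [mul_smul_comm, smul_mul_assoc])
      invFun := fun F => ∑ i, ∑ j, x i * (F (i, j) : B) * y j
      left_inv := fun b => (hcoord b).symm
      right_inv := fun F => funext fun q => Subtype.ext (by
        obtain ⟨i, j⟩ := q
        show y i * (∑ a, ∑ b, x a * (F (a, b) : B) * y b) * x j = (F (i, j) : B)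
        simp only [Finset.mul_sum, Finset.sum_mul]
        have hone : ∀ a b, y i * (x a * (F (a, b) : B) * y b) * x j =
            if i = a then (if b = j then (F (a, b) : B) else 0) else 0 := fun a b => by
          rw [show y i * (x a * (F (a, b) : B) * y b) * x j = y i * x a * (F (a, b) : B) * (y b * x j) by
            simp only [mul_assoc], hQ, hQ]
          split_ifs with h1 h2 <;> simp [(F (a, b)).2.1, (F (a, b)).2.2]
        simp only [hone, Finset.sum_ite_eq', Finset.mem_univ, if_true, Finset.sum_ite_irrel,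
          Finset.sum_const_zero, Finset.sum_ite_eq]) }
  refine ⟨n, ?_⟩
  rw [Φ.finrank_eq, Module.finrank_pi_fintype]
  simp only [hA2, Finset.sum_const, Finset.card_univ, Fintype.card_prod, Fintype.card_fin, smul_eq_mul]
  ring

end CfsgLib.Blocks.SymAlgTwo
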