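import Cfsg.Agent.Lib.Blocks.CyclicLower
import Cfsg.Agent.Lib.Blocks.SymAlgTwo
import Cfsg.Agent.Lib.Blocks.SimpleTrace
import Cfsg.Agent.Lib.Modular.Lift
import Cfsg.Agent.Lib.Char.Ortho

/-!
# The reduced algebra of a block with two characters

* `finrank_range_idem`: the dimension of the reduced block is the sum of the squared degrees;
* `exists_central_not_scalar`: with two members the centre of the reduced block is not scalar;
* `exists_sum_sq_eq`: with two members the sum of the squared degrees is twice a square.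
-/

set_option autoImplicit false

noncomputable section

namespace CfsgLib.Blocks.SmallBlock

open Cfsg
open scoped ComplexConjugate Polynomial

attribute [local instance] resField

section idempotent

variable {K : Type*} [Field K] [Infinite K] {V : Type*} [AddCommGroup V] [Module K V] [FiniteDimensional K V]

/-- The characteristic polynomial of a projection. -/
theorem charpoly_proj {f : V →ₗ[K] V} (hf : f * f = f) :
    f.charpoly = (Polynomial.X - 1) ^ Module.finrank K (LinearMap.range f) *
      Polynomial.X ^ Module.finrank K (V ⧸ LinearMap.range f) := by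
  set W := LinearMap.range f
  have hW : W ≤ W.comap f := fun v _ => LinearMap.mem_range_self f v
  rw [CfsgLib.Modular.charpoly_eq_mul f W hW]
  congr 1
  · rw [show f.restrict hW = 1 from LinearMap.ext fun w => Subtype.ext (by
      obtain ⟨_, v, rfl⟩ := w
      exact LinearMap.congr_fun hf v), LinearMap.charpoly_one]
  · rw [show W.mapQ W f hW = 0 from Submodule.linearMap_qext _ (LinearMap.ext fun v => by
      simp [W]), LinearMap.charpoly_zero]

theorem rootMultiplicity_one_proj {f : V →ₗ[K] V} (hf : f * f = f) :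
    f.charpoly.rootMultiplicity 1 = Module.finrank K (LinearMap.range f) := by
  rw [charpoly_proj hf, ← map_one Polynomial.C, mul_comm,
    Polynomial.rootMultiplicity_mul_X_sub_C_pow (pow_ne_zero _ Polynomial.X_ne_zero),
    Polynomial.rootMultiplicity_eq_zero (by simp [Polynomial.IsRoot]), zero_add]

end idempotent

variable {M : Ideal AlgInt} [M.IsMaximal] {G : Type*} [Group G] [Fintype G] {p : ℕ}

/-- The group algebra over the residue field. -/
abbrev KG (M : Ideal AlgInt) (G : Type*) : Type _ := MonoidAlgebra (Res M) G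

/-- Coefficients as a linear equivalence. -/
def coeffEquiv (k : Type*) [Field k] (G : Type*) [Group G] [Fintype G] : MonoidAlgebra k G ≃ₗ[k] (G → k) where
  toFun a g := a.coeff g
  map_add' a b := funext fun g => by simp
  map_smul' c a := funext fun g => by simp
  invFun := ofFun
  left_inv a := MonoidAlgebra.coeff_injective (Finsupp.ext fun g => by simp [coeff_ofFun])
  right_inv f := funext fun g => by simp [coeff_ofFun]

/-- The dimension of the reduced block. -/
theorem finrank_range_idem (hM : IsPModular p M) {B : Set (IrrCharacter G)} (hB : IsPBlock M B)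
    [DecidablePred (· ∈ B)] :
    (Module.finrank (Res M) (LinearMap.range (LinearMap.mulLeft (Res M) (red (idem hB))))) =
      ∑ χ : IrrCharacter G, (if χ ∈ B then charDegree (χ : G → ℂ) ^ 2 else 0) := by
  classical
  have : Infinite (Res M) := CfsgLib.Modular.infinite_res
  let L : Matrix G G (locRing M) := Matrix.of fun x y =>
    ⟨((idem hB : Zint M G) : CA G).coeff (x * y⁻¹), (mem_Zint_iff.mp (idem hB).2).1 _⟩
  set Lc := L.map (locRing M).subtype with hLc
  set Lr := L.map (res M) with hLr
  have hidem : ∀ x y, ∑ z, ((idem hB : Zint M G) : CA G).coeff (x * z⁻¹) * ((idem hB : Zint M G) : CA G).coeff (z * y⁻¹) =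
      ((idem hB : Zint M G) : CA G).coeff (x * y⁻¹) := by
    intro x y
    conv_rhs => rw [← idem_mul_self hB, Subring.coe_mul, coeff_mul_eq_sum]
    exact Fintype.sum_equiv ((Equiv.inv G).trans (Equiv.mulLeft x)) _ _ fun z => by simp [mul_assoc]
  have hL : L * L = L := by
    ext x y
    simp only [Matrix.mul_apply, L, Matrix.of_apply]
    rw [AddSubmonoidClass.coe_finsetSum]
    exact hidem x y
  have hc : Matrix.mulVecLin Lc * Matrix.mulVecLin Lc = Matrix.mulVecLin Lc := by
    rw [Module.End.mul_eq_comp, ← Matrix.mulVecLin_mul, hLc, ← Matrix.map_mul, hL]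
  have hr : Matrix.mulVecLin Lr * Matrix.mulVecLin Lr = Matrix.mulVecLin Lr := by
    rw [Module.End.mul_eq_comp, ← Matrix.mulVecLin_mul, hLr, ← Matrix.map_mul, hL]
  -- over the complex numbers
  set R := Module.finrank ℂ (LinearMap.range (Matrix.mulVecLin Lc))
  have hR : (R : ℂ) = ((∑ χ : IrrCharacter G, if χ ∈ B then charDegree (χ : G → ℂ) ^ 2 else 0 : ℕ) : ℂ) := by
    have h := (LinearMap.IsProj.mk (m := LinearMap.range (Matrix.mulVecLin Lc))
      (fun x => LinearMap.mem_range_self _ x) (fun x hx => by
        obtain ⟨v, rfl⟩ := hx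
        exact LinearMap.congr_fun hc v)).trace
    rw [← h, ← Matrix.toLin'_apply', Matrix.trace_toLin'_eq]
    simp only [Matrix.trace, Matrix.diag, hLc, L, Matrix.map_apply, Matrix.of_apply, mul_inv_cancel,
      Subring.coe_subtype, Finset.sum_const, Finset.card_univ, nsmul_eq_mul]
    rw [show ((idem hB : Zint M G) : CA G).coeff 1 = blockCoeff B 1 from by simp [idem, blockElt, coeff_ofFun],
      blockCoeff_eq, ← Nat.card_eq_fintype_card, ← mul_assoc, mul_inv_cancel₀ CfsgLib.Char.card_ne_zero', one_mul,
      Nat.cast_sum]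
    refine Finset.sum_congr rfl fun χ _ => ?_
    split_ifs
    · rw [charDegree_eq (CfsgLib.Char.isCharacter_of_isIrr χ.2), Complex.conj_natCast]; push_cast; ring
    · simp
  -- comparison
  have hpoly : L.charpoly = (Polynomial.X - 1) ^ R *
      Polynomial.X ^ Module.finrank ℂ ((G → ℂ) ⧸ LinearMap.range (Matrix.mulVecLin Lc)) := by
    apply Polynomial.map_injective (locRing M).subtype Subtype.val_injective
    rw [← Matrix.charpoly_map, ← hLc, ← Matrix.charpoly_toLin', Matrix.toLin'_apply', charpoly_proj hc]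
    simp only [Polynomial.map_mul, Polynomial.map_pow, Polynomial.map_sub, Polynomial.map_X, Polynomial.map_one]
    rfl
  have hrk : Module.finrank (Res M) (LinearMap.range (Matrix.mulVecLin Lr)) = R := by
    rw [← rootMultiplicity_one_proj hr, ← Matrix.toLin'_apply', Matrix.charpoly_toLin', hLr, Matrix.charpoly_map,
      hpoly]
    simp only [Polynomial.map_mul, Polynomial.map_pow, Polynomial.map_sub, Polynomial.map_X, Polynomial.map_one]
    rw [← map_one Polynomial.C, mul_comm,
      Polynomial.rootMultiplicity_mul_X_sub_C_pow (pow_ne_zero _ Polynomial.X_ne_zero),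
      Polynomial.rootMultiplicity_eq_zero (by simp [Polynomial.IsRoot]), zero_add]
  have htr : (LinearMap.range (LinearMap.mulLeft (Res M) (red (idem hB)))).map
      (coeffEquiv (Res M) G).toLinearMap = LinearMap.range (Matrix.mulVecLin Lr) := by
    rw [← LinearMap.range_comp,
      show (coeffEquiv (Res M) G).toLinearMap.comp (LinearMap.mulLeft (Res M) (red (idem hB))) =
          (Matrix.mulVecLin Lr).comp (coeffEquiv (Res M) G).toLinearMap from LinearMap.ext fun a => funext fun x => ?_,
      LinearMap.range_comp, LinearEquiv.range, Submodule.map_top]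
    simp only [LinearMap.comp_apply, LinearMap.mulLeft_apply, LinearEquiv.coe_coe, coeffEquiv, LinearEquiv.coe_mk,
      LinearMap.coe_mk, AddHom.coe_mk, Matrix.mulVecLin_apply, Matrix.mulVec, dotProduct, hLr, L, Matrix.map_apply,
      Matrix.of_apply]
    rw [coeff_mul_eq_sum]
    refine Fintype.sum_equiv ((Equiv.inv G).trans (Equiv.mulRight x)) _ _ fun z => ?_
    simp [coeff_red, rcoeff]
  rw [← LinearEquiv.finrank_map_eq (coeffEquiv (Res M) G), htr, hrk]
  exact_mod_cast hR

/-- A central element of the reduced group algebra lifts. -/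
theorem exists_red_eq {a : KG M G} (ha : a ∈ Subsemiring.center (KG M G)) : ∃ v : Zint M G, red v = a := by
  classical
  have hcl := (mem_center_iff a).mp ha
  let f : Res M → locRing M := Function.surjInv (res_surjective M)
  refine ⟨⟨ofFun fun g => (f (a.coeff g) : ℂ), mem_Zint_iff.mpr ⟨fun g => by rw [coeff_ofFun]; exact (f _).2,
    fun g h => by simp only [coeff_ofFun, hcl g h]⟩⟩, MonoidAlgebra.coeff_injective (Finsupp.ext fun g => ?_)⟩
  rw [coeff_red]
  refine (congrArg (res M) (Subtype.ext ?_)).trans (Function.surjInv_eq (res_surjective M) (a.coeff g))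
  simp [coeff_ofFun, f]

/-- Independent central elements of a reduced block are at most as many as its members. -/
theorem card_central_le [Fact p.Prime] (hM : IsPModular p M) {B : Set (IrrCharacter G)} (hB : IsPBlock M B)
    {ι : Type*} [Fintype ι] (v : ι → KG M G) (hc : ∀ i, v i ∈ Subsemiring.center (KG M G))
    (hv : ∀ i, v i * red (idem hB) = v i) (hind : LinearIndependent (Res M) v) : Nat.card ι ≤ Nat.card B := by
  choose a ha using fun i => exists_red_eq (hc i)
  refine card_le_card_block hB a (fun i => by rw [map_mul, ha, hv]) fun c hc => ?_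
  refine funext (Fintype.linearIndependent_iff.mp hind c (MonoidAlgebra.coeff_injective (Finsupp.ext fun g => ?_)))
  simpa [← ha, coeff_red] using hc g

/-- A central element of a reduced block is a scalar modulo nilpotent elements. -/
theorem exists_isNilpotent_sub {B : Set (IrrCharacter G)} (hB : IsPBlock M B) {a : KG M G}
    (ha : a ∈ Subsemiring.center (KG M G)) (hv : a * red (idem hB) = a) :
    ∃ c : Res M, IsNilpotent (a - c • red (idem hB)) := by
  classical
  obtain ⟨v, hv'⟩ := exists_red_eq ha
  obtain ⟨χ, hχ⟩ := IsPBlock.nonempty hB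
  obtain ⟨c, hc⟩ := res_surjective M (bomega χ v)
  refine ⟨bomega χ v, ?_⟩
  have h0 : ∀ η : IrrCharacter G, bomega η ((v - scal M c) * idem hB) = 0 := by
    intro η
    rw [map_mul, bomega_idem]
    split_ifs with hη
    · rw [mul_one, map_sub, bomega_scal, hc, (mem_blockOf_iff χ η).mp (isPBlock_eq_blockOf hB hχ ▸ hη), sub_self]
    · rw [mul_zero]
  refine ⟨Fintype.card (IrrCharacter G), ?_⟩
  have h := red_pow_eq_zero h0 le_rfl
  rw [map_mul, map_sub, hv', sub_mul, hv] at h
  convert h using 3
  refine MonoidAlgebra.coeff_injective (Finsupp.ext fun g => ?_)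
  rw [← map_mul, coeff_red, rcoeff_scal_mul, hc]
  simp [coeff_red]

/-- With at least two members the centre of the reduced block is not scalar. -/
theorem exists_central_not_scalar [Fact p.Prime] (hM : IsPModular p M) {B : Set (IrrCharacter G)}
    (hB : IsPBlock M B) (h2 : 2 ≤ Nat.card B) :
    ∃ a : KG M G, a ∈ Subsemiring.center (KG M G) ∧ a * red (idem hB) = a ∧
      ∀ c : Res M, a ≠ c • red (idem hB) := by
  classical
  by_contra hne
  push Not at hne
  let 𝔅 : Finset (Set (IrrCharacter G)) := Finset.univ.image fun χ : IrrCharacter G => blockOf M (χ : G → ℂ)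
  have h𝔅 : ∀ B' : 𝔅, IsPBlock M B'.1 := fun B' => by
    obtain ⟨χ, -, h⟩ := Finset.mem_image.mp B'.2
    exact h ▸ isPBlock_blockOf χ
  let E : 𝔅 → KG M G := fun B' => red (idem (h𝔅 B'))
  have hE : ∑ B', E B' = 1 := by
    rw [← map_one (red (M := M) (G := G)), ← map_sum]
    refine congrArg red (Zint_ext fun η => ?_)
    rw [map_sum, map_one, Finset.sum_eq_single (⟨blockOf M (η : G → ℂ),
      Finset.mem_image_of_mem _ (Finset.mem_univ η)⟩ : 𝔅)]
    · rw [zomega_idem, if_pos (mem_blockOf_self η)]
    · intro B' _ hB'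
      rw [zomega_idem, if_neg fun h => hB' (Subtype.ext (isPBlock_eq_blockOf (h𝔅 B') h))]
    · simp
  let Zc : Submodule (Res M) (KG M G) := (Subalgebra.center (Res M) (KG M G)).toSubmodule
  have hZc : ∀ a, a ∈ Zc ↔ a ∈ Subsemiring.center (KG M G) := fun a => Iff.rfl
  let T : 𝔅 → Submodule (Res M) (KG M G) := fun B' => Zc.map (LinearMap.mulLeft (Res M) (E B'))
  have hT : ∀ B', ∀ a ∈ T B', a ∈ Subsemiring.center (KG M G) ∧ a * E B' = a := by
    rintro B' _ ⟨a, ha, rfl⟩
    refine ⟨Subsemiring.mul_mem _ (red_mem_center _) ha, ?_⟩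
    simp only [LinearMap.mulLeft_apply]
    rw [mul_assoc, ← Subsemiring.mem_center_iff.mp ha, ← mul_assoc,
      show E B' * E B' = E B' by simp only [E, ← map_mul, idem_mul_self]]
  have hle : ∀ B', Module.finrank (Res M) (T B') ≤ Nat.card B'.1 := fun B' => by
    have b := Module.finBasis (Res M) (T B')
    have := card_central_le hM (h𝔅 B') (fun i => (b i : KG M G)) (fun i => (hT B' _ (b i).2).1)
      (fun i => (hT B' _ (b i).2).2) (b.linearIndependent.map' (T B').subtype (Submodule.ker_subtype _))
    rwa [Nat.card_eq_fintype_card, Fintype.card_fin] at this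
  obtain ⟨χ₀, hχ₀⟩ := IsPBlock.nonempty hB
  let B₀ : 𝔅 := ⟨B, Finset.mem_image.mpr ⟨χ₀, Finset.mem_univ _, (isPBlock_eq_blockOf hB hχ₀).symm⟩⟩
  have hB₀ : Module.finrank (Res M) (T B₀) ≤ 1 := by
    refine (Submodule.finrank_mono (t := Res M ∙ red (idem hB)) fun a ha => ?_).trans ((finrank_span_le_card _).trans (by simp))
    obtain ⟨c, hc⟩ := hne a (hT B₀ a ha).1 (hT B₀ a ha).2
    exact Submodule.mem_span_singleton.mpr ⟨c, hc.symm⟩
  let Φ : Zc →ₗ[Res M] ((B' : 𝔅) → T B') :=
    LinearMap.pi fun B' => (LinearMap.mulLeft (Res M) (E B')).restrict fun a ha => Submodule.mem_map_of_mem ha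
  have hΦ : Function.Injective Φ := LinearMap.ker_eq_bot.mp (LinearMap.ker_eq_bot'.mpr fun a ha => Subtype.ext (by
    calc (a : KG M G) = (∑ B', E B') * (a : KG M G) := by rw [hE, one_mul]
      _ = 0 := by
        rw [Finset.sum_mul]
        exact Finset.sum_eq_zero fun B' _ => congrArg Subtype.val (congrFun ha B')))
  have h3 := LinearMap.finrank_le_finrank_of_injective hΦ
  rw [Module.finrank_pi_fintype] at h3
  have h4 : Fintype.card (IrrCharacter G) ≤ Module.finrank (Res M) Zc := by
    have : Fintype (ConjClasses G) := Fintype.ofFinite _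
    rw [← Nat.card_eq_fintype_card, CfsgLib.Char.card_irr_eq_card_conjClasses, Nat.card_eq_fintype_card]
    let rep : ConjClasses G → G := Function.surjInv ConjClasses.mk_surjective
    have hrep : ∀ C, ConjClasses.mk (rep C) = C := Function.surjInv_eq ConjClasses.mk_surjective
    let w : ConjClasses G → Zc := fun C => ⟨red (zclass M (rep C)), (hZc _).mpr (red_mem_center _)⟩
    refine LinearIndependent.fintype_card_le_finrank (b := w) (Fintype.linearIndependent_iff.mpr fun c hc C => ?_)
    have h : ∑ C', c C' * rcoeff (zclass M (rep C')) (rep C) = 0 := by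
      simpa [w, coeff_red] using congrArg (fun a : Zc => (a : KG M G).coeff (rep C)) hc
    rw [Finset.sum_eq_single C (fun C' _ hne' => ?_) (by simp), rcoeff_zclass, if_pos (IsConj.refl _),
      mul_one] at h
    · exact h
    · rw [rcoeff_zclass, if_neg fun hc' => hne' ?_, mul_zero]
      rw [← hrep C', ← hrep C]
      exact ConjClasses.mk_eq_mk_iff_isConj.mpr hc'
  have h5 : ∑ B' : 𝔅, Nat.card B'.1 = Fintype.card (IrrCharacter G) := by
    rw [← Finset.card_univ, Finset.card_eq_sum_card_image (fun χ : IrrCharacter G => blockOf M (χ : G → ℂ)),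
      Finset.sum_coe_sort 𝔅 (fun B' => Nat.card B')]
    refine Finset.sum_congr rfl fun B' hB' => ?_
    obtain ⟨χ, -, rfl⟩ := Finset.mem_image.mp hB'
    rw [Nat.card_eq_fintype_card, ← Set.toFinset_card]
    congr 1
    ext η
    simp only [Set.mem_toFinset, Finset.mem_filter, Finset.mem_univ, true_and]
    exact ⟨fun h => blockOf_eq_of_mem h, fun h => h ▸ mem_blockOf_self η⟩
  have h6 : ∑ B', Module.finrank (Res M) (T B') + 1 ≤ ∑ B' : 𝔅, Nat.card B'.1 := by
    rw [← Finset.add_sum_erase _ (fun B' => Module.finrank (Res M) (T B')) (Finset.mem_univ B₀),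
      ← Finset.add_sum_erase _ (fun B' : 𝔅 => Nat.card B'.1) (Finset.mem_univ B₀)]
    have := Finset.sum_le_sum (s := Finset.univ.erase B₀) fun B' _ => hle B'
    have : Nat.card B₀.1 = Nat.card B := rfl
    omega
  omega

omit [M.IsMaximal] in
theorem coeff_one_comm {k : Type*} [CommSemiring k] (a b : MonoidAlgebra k G) :
    (a * b).coeff 1 = (b * a).coeff 1 := by
  rw [coeff_mul_eq_sum, coeff_mul_eq_sum]
  exact Fintype.sum_equiv (Equiv.inv G) _ _ fun h => by simp [mul_comm]

/-- The scalars of a corner at a central idempotent. -/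
def cornerScalar {k A : Type*} [Field k] [Ring A] [Algebra k A] {e : A} (he : IsIdempotentElem e) :
    k →+* he.Corner where
  toFun c := ⟨c • e, c • e, show e * (c • e) * e = c • e by rw [mul_smul_comm, smul_mul_assoc, he.eq, he.eq]⟩
  map_one' := Subtype.ext (one_smul k e)
  map_zero' := Subtype.ext (zero_smul k e)
  map_add' a b := Subtype.ext (add_smul a b e)
  map_mul' a b := Subtype.ext (show (a * b) • e = (a • e) * (b • e) by
    rw [smul_mul_smul_comm, he.eq])

theorem cornerScalar_comm {k A : Type*} [Field k] [Ring A] [Algebra k A] {e : A} (he : IsIdempotentElem e)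
    (c : k) (x : he.Corner) : cornerScalar he c * x = x * cornerScalar he c := by
  obtain ⟨h1, h2⟩ := (Subsemigroup.mem_corner_iff he).mp x.2
  refine Subtype.ext (show (c • e) * x.1 = x.1 * (c • e) from ?_)
  rw [smul_mul_assoc, mul_smul_comm, h1, h2]

/-- The corner as an algebra. -/
@[reducible] def cornerAlgebra {k A : Type*} [Field k] [Ring A] [Algebra k A] {e : A} (he : IsIdempotentElem e) :
    Algebra k he.Corner :=
  (cornerScalar he).toAlgebra' (cornerScalar_comm he)

set_option maxHeartbeats 1600000 in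
set_option synthInstance.maxHeartbeats 200000 in
/-- **Brandt.** The sum of the squared degrees of a block with two members is twice a square. -/
theorem exists_sum_sq_eq [Fact p.Prime] (hM : IsPModular p M) {B : Set (IrrCharacter G)} (hB : IsPBlock M B)
    [DecidablePred (· ∈ B)] (h2 : Nat.card B = 2) :
    ∃ n : ℕ, ∑ χ : IrrCharacter G, (if χ ∈ B then charDegree (χ : G → ℂ) ^ 2 else 0) = 2 * n ^ 2 := by
  classical
  have := res_isAlgClosed M
  set E := red (idem hB) with hE
  have hid : IsIdempotentElem E := by rw [IsIdempotentElem, hE, ← map_mul, idem_mul_self]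
  have hEc : ∀ a, a * E = E * a := Subsemiring.mem_center_iff.mp (red_mem_center _)
  letI := cornerAlgebra (k := Res M) hid
  have hsmul : ∀ (c : Res M) (x : hid.Corner), (c • x : hid.Corner).1 = c • x.1 := fun c x => by
    rw [Algebra.smul_def]
    show (c • E) * x.1 = _
    rw [smul_mul_assoc, ((Subsemigroup.mem_corner_iff hid).mp x.2).1]
  let ι : hid.Corner →ₗ[Res M] KG M G :=
    { toFun := fun x => x.1, map_add' := fun _ _ => rfl, map_smul' := hsmul }
  have hι : Function.Injective ι := Subtype.val_injective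
  have : FiniteDimensional (Res M) hid.Corner := Module.Finite.of_injective ι hι
  have hmem : ∀ x : hid.Corner, E * x.1 = x.1 ∧ x.1 * E = x.1 :=
    fun x => (Subsemigroup.mem_corner_iff hid).mp x.2
  have hmk : ∀ a, E * a = a → ∃ x : hid.Corner, x.1 = a := fun a ha =>
    ⟨⟨a, (Subsemigroup.mem_corner_iff hid).mpr ⟨ha, by rw [hEc, ha]⟩⟩, rfl⟩
  have hcen : ∀ x : hid.Corner, (∀ y, y * x = x * y) → x.1 ∈ Subsemiring.center (KG M G) := fun x hx => by
    refine Subsemiring.mem_center_iff.mpr fun g => ?_
    obtain ⟨y, hy⟩ := hmk (E * g) (by rw [← mul_assoc, hid.eq])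
    have h : E * g * x.1 = x.1 * (E * g) := hy ▸ congrArg Subtype.val (hx y)
    calc g * x.1 = g * (E * x.1) := by rw [(hmem x).1]
      _ = E * g * x.1 := by rw [← mul_assoc, hEc]
      _ = x.1 * g := by rw [h, ← mul_assoc, (hmem x).2]
  obtain ⟨a, ha, haE, hnot⟩ := exists_central_not_scalar hM hB h2.ge
  obtain ⟨c, hc⟩ := exists_isNilpotent_sub hB ha haE
  obtain ⟨z, hz⟩ := hmk (a - c • E) (by rw [mul_sub, mul_smul_comm, hid.eq, ← hEc a, haE])
  have hz0 : z.1 ≠ 0 := by rw [hz]; exact sub_ne_zero.mpr (hnot c)
  have hzc : z.1 ∈ Subsemiring.center (KG M G) := by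
    refine Subsemiring.mem_center_iff.mpr fun g => ?_
    rw [hz, mul_sub, sub_mul, mul_smul_comm, smul_mul_assoc, hEc g, Subsemiring.mem_center_iff.mp ha g]
  let τ : hid.Corner →ₗ[Res M] Res M := ((LinearMap.proj (1 : G)).comp (coeffEquiv (Res M) G).toLinearMap).comp ι
  have hτ : ∀ x, τ x = x.1.coeff 1 := fun x => rfl
  refine Exists.elim (SymAlgTwo.exists_finrank_eq_two_mul_sq τ (fun x y => coeff_one_comm _ _) (fun b hb => ?_)
    (z := z) (fun y => Subtype.ext (Subsemiring.mem_center_iff.mp hzc y.1)) (fun x hx => ?_) ?_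
    (fun h => hz0 (congrArg Subtype.val h))) fun n hn => ?_
  · refine Subtype.ext (MonoidAlgebra.coeff_injective (Finsupp.ext fun g => ?_))
    obtain ⟨y, hy⟩ := hmk (E * MonoidAlgebra.single g⁻¹ 1) (by rw [← mul_assoc, hid.eq])
    have h : (b.1 * y.1).coeff 1 = 0 := hb y
    rw [hy, ← mul_assoc, (hmem b).2, coeff_mul_single_inv] at h
    exact h
  · have h3 : ¬ LinearIndependent (Res M) ![E, z.1, x.1] := fun hli => by
      have := card_central_le hM hB ![E, z.1, x.1]
        (fun i => by fin_cases i <;> first | exact red_mem_center _ | exact hzc | exact hcen x hx)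
        (fun i => by fin_cases i <;> first | exact hid.eq | exact (hmem z).2 | exact (hmem x).2) hli
      rw [Nat.card_eq_fintype_card, Fintype.card_fin, h2] at this
      omega
    rw [Fintype.linearIndependent_iff] at h3
    push Not at h3
    obtain ⟨w, hw, i, hi⟩ := h3
    simp only [Fin.sum_univ_three, Matrix.cons_val_zero, Matrix.cons_val_one, Matrix.cons_val_two,
      Matrix.tail_cons, Matrix.head_cons] at hw
    by_cases hw2 : w 2 = 0
    · exfalso
      rw [hw2, zero_smul, add_zero] at hw
      have hw0 : w 0 = 0 := by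
        by_contra h0
        have hEn : IsNilpotent (w 0 • E) := by
          rw [eq_neg_of_add_eq_zero_left hw]
          exact ((hz ▸ hc).smul (w 1)).neg
        have := (hEn.smul (w 0)⁻¹)
        rw [inv_smul_smul₀ h0] at this
        obtain ⟨m, hm⟩ := this
        have hE0 : E = 0 := by
          rcases Nat.eq_zero_or_pos m with rfl | hm0
          · rw [pow_zero] at hm; rw [← mul_one E, hm, mul_zero]
          · rw [← hm, hid.pow_eq (n := m) hm0.ne']
        exact hz0 ((hmem z).1.symm.trans (mul_eq_zero_of_left hE0 _))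
      rw [hw0, zero_smul, zero_add, smul_eq_zero] at hw
      have hw1 := hw.resolve_right hz0
      fin_cases i <;> simp_all
    · refine ⟨-(w 2)⁻¹ * w 0, -(w 2)⁻¹ * w 1, Subtype.ext ?_⟩
      show x.1 = ι ((-(w 2)⁻¹ * w 0) • (1 : hid.Corner) + (-(w 2)⁻¹ * w 1) • z)
      rw [map_add, map_smul, map_smul]
      show x.1 = (-(w 2)⁻¹ * w 0) • E + (-(w 2)⁻¹ * w 1) • z.1
      rw [← inv_smul_smul₀ hw2 x.1, eq_neg_of_add_eq_zero_right hw, smul_neg, smul_add, smul_smul,
        smul_smul, neg_mul, neg_mul, neg_smul, neg_smul, neg_add]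
  · obtain ⟨m, hm⟩ := hz ▸ hc
    refine ⟨m + 1, Subtype.ext ?_⟩
    have hpow : ∀ j, (z ^ (j + 1) : hid.Corner).1 = z.1 ^ (j + 1) := fun j => by
      induction j with
      | zero => simp
      | succ j ih => rw [pow_succ, pow_succ _ (j + 1), ← ih]; rfl
    rw [hpow, pow_succ, hm, zero_mul]
    rfl
  · refine ⟨n, ?_⟩
    rw [← finrank_range_idem hM hB, ← hn, ← LinearMap.finrank_range_of_inj hι,
      show LinearMap.range ι = LinearMap.range (LinearMap.mulLeft (Res M) (red (idem hB))) from
        le_antisymm (fun v ⟨x, hx⟩ => ⟨x.1, (hmem x).1.trans hx⟩) (fun v ⟨w, hw⟩ => hmk v (by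
          rw [← hw]
          simp only [LinearMap.mulLeft_apply]
          rw [← hE, ← mul_assoc, hid.eq]))]

end CfsgLib.Blocks.SmallBlock
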