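import Cfsg.Agent.Lib.Blocks.Annihilate
import Cfsg.Agent.Lib.Blocks.Consequences

/-!
# Brauer's second main theorem in terms of ordinary characters, and its corollaries
-/

set_option autoImplicit false

noncomputable section

namespace CfsgLib.Blocks

open Cfsg
open scoped ComplexConjugate

variable {M : Ideal AlgInt} [M.IsMaximal] {G : Type*} [Group G] [Fintype G] {p : ℕ}

omit [M.IsMaximal] in
theorem blockPart_apply (B : Set (IrrCharacter G)) [DecidablePred (· ∈ B)] (f : G → ℂ) (y : G) :
    blockPart B f y =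
      ∑ χ : IrrCharacter G, if χ ∈ B then classInner f (χ : G → ℂ) * (χ : G → ℂ) y else 0 := by
  classical
  rw [blockPart]
  simp only [finsum_eq_sum_of_fintype]
  refine Finset.sum_congr rfl fun χ _ => ?_
  rw [finsum_eq_if]
  convert rfl

/-- The blocks split every class function. -/
theorem sum_blockPart {f : G → ℂ} (hf : IsClassFunction G f) (y : G)
    [Fintype {b : Set (IrrCharacter G) // IsPBlock M b}] :
    ∑ b : {b : Set (IrrCharacter G) // IsPBlock M b}, blockPart b.1 f y = f y := by
  classical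
  simp only [blockPart_apply]
  rw [Finset.sum_comm]
  conv_rhs => rw [CfsgLib.Char.classFun_eq_sum hf]
  simp only [Finset.sum_apply, Pi.smul_apply, smul_eq_mul]
  refine Finset.sum_congr rfl fun χ _ => ?_
  rw [Finset.sum_eq_single ⟨blockOf M (χ : G → ℂ), isPBlock_blockOf χ⟩]
  · rw [if_pos (mem_blockOf_self χ)]
  · intro b _ hb
    exact if_neg fun h => hb (Subtype.ext (isPBlock_eq_blockOf b.2 h))
  · simp

/-- The block part of a class function, through the block idempotent. -/
theorem sum_blockCoeff_mul {b : Set (IrrCharacter G)} (hb : IsPBlock M b) {f : G → ℂ}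
    (hf : IsClassFunction G f) (y : G) :
    ∑ k : G, blockCoeff b k * f (k * y) = blockPart b f y := by
  classical
  have key : ∀ φ : IrrCharacter G, ∑ k : G, blockCoeff b k * (φ : G → ℂ) (k * y) =
      if φ ∈ b then (φ : G → ℂ) y else 0 := by
    intro φ
    have h1 : ∑ k : G, blockCoeff b k * (φ : G → ℂ) (k * y) =
        charLin (φ : G → ℂ) (((idem hb : Zint M G) : CA G) * MonoidAlgebra.single y 1) := by
      rw [charLin_apply]
      exact Fintype.sum_equiv (Equiv.mulRight y) _ _ fun k => by
        simp [idem, blockElt, MonoidAlgebra.coeff_mul_single_apply]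
    rw [h1, charLin_mul_of_central φ.2 (Zint_center _), ← coe_zomega, zomega_idem hb, charLin_single]
    split_ifs <;> simp
  conv_lhs => enter [2, k]; rw [CfsgLib.Char.classFun_eq_sum hf]
  simp only [Finset.sum_apply, Pi.smul_apply, smul_eq_mul, Finset.mul_sum, blockPart_apply]
  rw [Finset.sum_comm]
  refine Finset.sum_congr rfl fun φ _ => ?_
  calc ∑ k : G, blockCoeff b k * (classInner f (φ : G → ℂ) * (φ : G → ℂ) (k * y))
      = classInner f (φ : G → ℂ) * ∑ k : G, blockCoeff b k * (φ : G → ℂ) (k * y) := by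
        rw [Finset.mul_sum]; exact Finset.sum_congr rfl fun k _ => by ring
    _ = _ := by rw [key, mul_ite, mul_zero]

omit [M.IsMaximal] in
/-- The block part as a sum over the group. -/
theorem blockPart_eq_sum (B : Set (IrrCharacter G)) [DecidablePred (· ∈ B)] (f : G → ℂ) (y : G) :
    blockPart B f y = (Nat.card G : ℂ)⁻¹ * ∑ c : G, f c *
      ∑ χ : IrrCharacter G, (if χ ∈ B then (χ : G → ℂ) y * conj ((χ : G → ℂ) c) else 0) := by
  simp only [blockPart_apply, Finset.mul_sum, CfsgLib.Char.classInner_def]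
  rw [Finset.sum_comm]
  refine Finset.sum_congr rfl fun χ _ => ?_
  split_ifs with h
  · rw [Finset.sum_mul]; exact Finset.sum_congr rfl fun c _ => by ring
  · simp

/-- At a `p`-regular element the block part only sees values at `p`-regular elements. -/
theorem blockPart_congr_regular (hM : IsPModular p M) {b : Set (IrrCharacter G)} (hb : IsPBlock M b)
    {f f' : G → ℂ} {y : G} (hy : ¬ p ∣ orderOf y) (h : ∀ c : G, ¬ p ∣ orderOf c → f c = f' c) :
    blockPart b f y = blockPart b f' y := by
  classical
  rw [blockPart_eq_sum, blockPart_eq_sum]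
  refine congrArg _ (Finset.sum_congr rfl fun c _ => ?_)
  by_cases hc : p ∣ orderOf c
  · rw [weak_orthogonality hM hb hy hc, mul_zero, mul_zero]
  · rw [h c hc]

variable [hp : Fact p.Prime] {x : G} [Fintype (Subgroup.centralizer ({x} : Set G))]

omit [M.IsMaximal] [Fintype G] hp [Fintype (Subgroup.centralizer ({x} : Set G))] in
theorem commute_of_mem_centralizer (c : Subgroup.centralizer ({x} : Set G)) : Commute x (c : G) :=
  (Subgroup.mem_centralizer_singleton_iff.mp c.2).symm

omit [M.IsMaximal] [Fintype G] hp [Fintype (Subgroup.centralizer ({x} : Set G))] in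
/-- `c ↦ χ(xc)` is a class function on the centraliser of `x`. -/
theorem isClassFunction_shift {f : G → ℂ} (hf : IsClassFunction G f) :
    IsClassFunction (Subgroup.centralizer ({x} : Set G)) fun c => f (x * (c : G)) := by
  intro c d
  have : x * ((d * c * d⁻¹ : Subgroup.centralizer ({x} : Set G)) : G) = (d : G) * (x * c) * (d : G)⁻¹ := by
    have hd := (commute_of_mem_centralizer d).eq
    simp only [Subgroup.coe_mul, Subgroup.coe_inv, ← mul_assoc, hd]
  change f (x * _) = f (x * _)
  rw [this, hf]

/-- Every block of a centraliser of a `p`-element induces a block. -/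
theorem exists_inducedBlock_centralizer (hM : IsPModular p M) (hx : ∃ k : ℕ, orderOf x = p ^ k)
    {b : Set (IrrCharacter (Subgroup.centralizer ({x} : Set G)))} (hb : IsPBlock M b) :
    ∃ B, IsInducedBlock M (Subgroup.centralizer ({x} : Set G)) b B := by
  obtain ⟨k, hk⟩ := hx
  have hP : IsPGroup p (Subgroup.zpowers x) :=
    IsPGroup.of_card (n := k) (by rw [Nat.card_zpowers, hk])
  have hC : Subgroup.centralizer ((Subgroup.zpowers x : Subgroup G) : Set G) =
      Subgroup.centralizer ({x} : Set G) := by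
    rw [Subgroup.zpowers_eq_closure, Subgroup.centralizer_closure]
  refine exists_inducedBlock hM hP ?_ hC.le ?_ hb
  · rw [Subgroup.zpowers_le]
    exact Subgroup.mem_centralizer_singleton_iff.mpr rfl
  · rw [← hC]; exact Subgroup.centralizer_le_normalizer _

/-- **Brauer's second main theorem.** -/
theorem second_main (hM : IsPModular p M) (hx : ∃ k : ℕ, orderOf x = p ^ k) {B : Set (IrrCharacter G)}
    {χ : IrrCharacter G} (hχ : χ ∈ B) {b : Set (IrrCharacter (Subgroup.centralizer ({x} : Set G)))}
    (hB : IsPBlock M B) (hb : IsPBlock M b)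
    (hnot : ¬ IsInducedBlock M (Subgroup.centralizer ({x} : Set G)) b B)
    {y : Subgroup.centralizer ({x} : Set G)} (hy : ¬ p ∣ orderOf y) :
    blockPart b (fun c : Subgroup.centralizer ({x} : Set G) => (χ : G → ℂ) (x * (c : G))) y = 0 := by
  obtain ⟨B', hB'⟩ := exists_inducedBlock_centralizer hM hx hb
  have hBB : χ ∉ B' := by
    intro h
    exact hnot (isPBlock_eq_of_mem ((isInducedBlock_iff _).mp hB').2.1 hB h hχ ▸ hB')
  have hxy : IsPPart p (x * (y : G)) x :=
    isPPart_mul (commute_of_mem_centralizer y) hx (by rwa [Subgroup.orderOf_coe])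
  have hmem : x * (y : G) ∈ Subgroup.centralizer ({x} : Set G) :=
    mul_mem (Subgroup.mem_centralizer_singleton_iff.mpr rfl) y.2
  rw [← sum_blockCoeff_mul hb (isClassFunction_shift (CfsgLib.Char.isClassFunction_of_isIrr χ.2)),
    ← annihilate hM hB' ⟨_, hmem⟩ hxy le_rfl hBB]
  refine Finset.sum_congr rfl fun k _ => ?_
  simp only [Subgroup.coe_mul, ← mul_assoc, (commute_of_mem_centralizer k).eq]

/-- The blocks of the centraliser inducing `B` carry all of `χ ∈ B` on the section of `x`. -/
theorem sum_inducing (hM : IsPModular p M) (hx : ∃ k : ℕ, orderOf x = p ^ k) {B : Set (IrrCharacter G)}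
    (hB : IsPBlock M B) (χ : IrrCharacter G)
    [Fintype {b : Set (IrrCharacter (Subgroup.centralizer ({x} : Set G))) // IsPBlock M b}]
    [DecidablePred fun b : {b : Set (IrrCharacter (Subgroup.centralizer ({x} : Set G))) // IsPBlock M b} =>
      IsInducedBlock M (Subgroup.centralizer ({x} : Set G)) b.1 B] [DecidablePred (· ∈ B)]
    {y : Subgroup.centralizer ({x} : Set G)} (hy : ¬ p ∣ orderOf y) :
    ∑ b : {b : Set (IrrCharacter (Subgroup.centralizer ({x} : Set G))) // IsPBlock M b},
        (if IsInducedBlock M (Subgroup.centralizer ({x} : Set G)) b.1 B then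
          blockPart b.1 (fun c : Subgroup.centralizer ({x} : Set G) => (χ : G → ℂ) (x * (c : G))) y else 0) =
      if χ ∈ B then (χ : G → ℂ) (x * (y : G)) else 0 := by
  split_ifs with hχ
  · conv_rhs => rw [← sum_blockPart (M := M)
      (isClassFunction_shift (x := x) (CfsgLib.Char.isClassFunction_of_isIrr χ.2)) y]
    refine Finset.sum_congr rfl fun b _ => ?_
    split_ifs with hb
    · rfl
    · exact (second_main hM hx hχ hB b.2 hb hy).symm
  · refine Finset.sum_eq_zero fun b _ => ?_
    split_ifs with hb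
    · refine second_main hM hx (mem_blockOf_self χ) (isPBlock_blockOf χ) b.2 (fun h => hχ ?_) hy
      rw [inducedBlock_unique _ hb h]; exact mem_blockOf_self χ
    · rfl

omit [Fintype (Subgroup.centralizer ({x} : Set G))] in
/-- A character vanishes off the sections meeting a defect group of its block. -/
theorem mem_defect_of_ne_zero (hM : IsPModular p M) {B : Set (IrrCharacter G)} (hB : IsPBlock M B)
    {χ : IrrCharacter G} (hχ : χ ∈ B) {g : G} (hg : IsPPart p g x) (hne : (χ : G → ℂ) g ≠ 0) :
    ∃ D : Subgroup G, IsDefectGroup p M B D ∧ x ∈ D := by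
  classical
  let _ := Fintype.ofFinite (Subgroup.centralizer ({x} : Set G))
  let _ := Fintype.ofFinite {b : Set (IrrCharacter (Subgroup.centralizer ({x} : Set G))) // IsPBlock M b}
  obtain ⟨y, rfl, hxy, hx, hy⟩ := hg
  have hy' : y ∈ Subgroup.centralizer ({x} : Set G) := Subgroup.mem_centralizer_singleton_iff.mpr hxy.symm.eq
  have hsum := sum_inducing hM hx hB χ (y := ⟨y, hy'⟩) (by rwa [Subgroup.orderOf_mk])
  rw [if_pos hχ] at hsum
  obtain ⟨⟨b, hb⟩, -, hbne⟩ := Finset.exists_ne_zero_of_sum_ne_zero (hsum ▸ hne :)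
  have hind : IsInducedBlock M (Subgroup.centralizer ({x} : Set G)) b B := by
    by_contra h; exact hbne (if_neg h)
  obtain ⟨E, hE⟩ := exists_isDefectGroup (p := p) hb
  obtain ⟨D, hD⟩ := exists_isDefectGroup (p := p) hB
  obtain ⟨w, hw⟩ := defect_le_of_induced hM hind hE hD
  refine ⟨cj w⁻¹ D, IsDefectGroup.conj hB hD _, ?_⟩
  set Q : Subgroup (Subgroup.centralizer ({x} : Set G)) := (Subgroup.zpowers x).subgroupOf (Subgroup.centralizer ({x} : Set G))
  have hxC : Subgroup.zpowers x ≤ (Subgroup.centralizer ({x} : Set G)) := by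
    rw [Subgroup.zpowers_le]; exact Subgroup.mem_centralizer_singleton_iff.mpr rfl
  have hQn : Q.Normal := by
    refine (Subgroup.normal_subgroupOf_iff_le_normalizer hxC).mpr ?_
    refine le_trans ?_ (Subgroup.centralizer_le_normalizer _)
    rw [Subgroup.zpowers_eq_closure, Subgroup.centralizer_closure]
  obtain ⟨k, hk⟩ := hx
  have hP : IsPGroup p (Subgroup.zpowers x) :=
    IsPGroup.of_card (n := k) (by rw [Nat.card_zpowers, hk])
  have hle : Q ≤ E := normal_le_defect hM hb hE (hP.of_equiv (Subgroup.subgroupOfEquivOfLe hxC).symm)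
  have hxE : x ∈ E.map (Subgroup.centralizer ({x} : Set G)).subtype :=
    Subgroup.mem_map.mpr ⟨⟨x, hxC (Subgroup.mem_zpowers x)⟩, hle (Subgroup.mem_subgroupOf.mpr (Subgroup.mem_zpowers x)), rfl⟩
  have h2 : w * x * w⁻¹ ∈ D := hw (mem_cj.mpr (by group; exact hxE))
  exact mem_cj.mpr (by rw [inv_inv]; exact h2)

omit [Fintype (Subgroup.centralizer ({x} : Set G))] in
/-- **Block orthogonality.** -/
theorem block_orthogonality (hM : IsPModular p M) {g h y : G} (hg : IsPPart p g x) (hh : IsPPart p h y)
    (hne : ¬ IsConj x y) {B : Set (IrrCharacter G)} (hB : IsPBlock M B) [DecidablePred (· ∈ B)] :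
    ∑ χ : IrrCharacter G, (if χ ∈ B then (χ : G → ℂ) g * conj ((χ : G → ℂ) h) else 0) = 0 := by
  classical
  let _ := Fintype.ofFinite (Subgroup.centralizer ({x} : Set G))
  let _ := Fintype.ofFinite {b : Set (IrrCharacter (Subgroup.centralizer ({x} : Set G))) // IsPBlock M b}
  obtain ⟨y₀, rfl, hxy, hx, hy₀⟩ := hg
  have hy' : y₀ ∈ Subgroup.centralizer ({x} : Set G) := Subgroup.mem_centralizer_singleton_iff.mpr hxy.symm.eq
  set Y : Subgroup.centralizer ({x} : Set G) := ⟨y₀, hy'⟩
  have hY : ¬ p ∣ orderOf Y := by rwa [Subgroup.orderOf_mk]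
  calc ∑ χ : IrrCharacter G, (if χ ∈ B then (χ : G → ℂ) (x * y₀) * conj ((χ : G → ℂ) h) else 0)
      = ∑ χ : IrrCharacter G, (∑ b : {b : Set (IrrCharacter (Subgroup.centralizer ({x} : Set G))) // IsPBlock M b},
          (if IsInducedBlock M (Subgroup.centralizer ({x} : Set G)) b.1 B then
            blockPart b.1 (fun c : Subgroup.centralizer ({x} : Set G) => (χ : G → ℂ) (x * (c : G))) Y else 0)) *
              conj ((χ : G → ℂ) h) := by
        refine Finset.sum_congr rfl fun χ _ => ?_
        rw [sum_inducing hM hx hB χ hY, ite_mul, zero_mul]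
    _ = 0 := by
        simp only [Finset.sum_mul]
        rw [Finset.sum_comm]
        refine Finset.sum_eq_zero fun b _ => ?_
        by_cases hb : IsInducedBlock M (Subgroup.centralizer ({x} : Set G)) b.1 B
        · simp only [if_pos hb, blockPart_eq_sum, Finset.mul_sum, Finset.sum_mul]
          rw [Finset.sum_comm]
          refine Finset.sum_eq_zero fun c _ => ?_
          by_cases hc : p ∣ orderOf c
          · refine Finset.sum_eq_zero fun χ _ => ?_
            rw [← Finset.sum_mul, ← Finset.mul_sum, ← Finset.mul_sum, weak_orthogonality hM b.2 hY hc]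
            simp
          · have hxc : IsPPart p (x * (c : G)) x :=
              isPPart_mul (commute_of_mem_centralizer c) hx (by rwa [Subgroup.orderOf_coe])
            have hnc : ¬ IsConj (x * (c : G)) h := fun hcj => by
              obtain ⟨w, hw⟩ := isConj_iff.mp hcj
              exact hne (isConj_iff.mpr ⟨w, isPPart_unique (hw ▸ isPPart_conj hxc w) hh⟩)
            have horth := CfsgLib.Char.second_orthogonality (x * (c : G)) h
            rw [if_neg hnc] at horth
            rw [Finset.sum_comm]
            refine Finset.sum_eq_zero fun ψ _ => ?_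
            calc ∑ χ : IrrCharacter G, (Nat.card (Subgroup.centralizer ({x} : Set G)) : ℂ)⁻¹ *
                  ((χ : G → ℂ) (x * (c : G)) * (if ψ ∈ b.1 then
                    (ψ : Subgroup.centralizer ({x} : Set G) → ℂ) Y * conj ((ψ : Subgroup.centralizer ({x} : Set G) → ℂ) c)
                      else 0)) * conj ((χ : G → ℂ) h)
                = (Nat.card (Subgroup.centralizer ({x} : Set G)) : ℂ)⁻¹ * (if ψ ∈ b.1 then
                    (ψ : Subgroup.centralizer ({x} : Set G) → ℂ) Y * conj ((ψ : Subgroup.centralizer ({x} : Set G) → ℂ) c)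
                      else 0) * ∑ χ : IrrCharacter G, (χ : G → ℂ) (x * (c : G)) * conj ((χ : G → ℂ) h) := by
                  rw [Finset.mul_sum]; exact Finset.sum_congr rfl fun χ _ => by ring
              _ = 0 := by rw [horth, mul_zero]
        · simp [hb]

omit [Fintype (Subgroup.centralizer ({x} : Set G))] in
/-- The block part of a function vanishing on a `p`-section vanishes there. -/
theorem blockPart_eq_zero_on_section (hM : IsPModular p M) {θ : G → ℂ}
    (hθ : ∀ u z : G, IsPPart p u z → IsConj x z → θ u = 0) {B : Set (IrrCharacter G)} (hB : IsPBlock M B)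
    {u z : G} (hu : IsPPart p u z) (hz : IsConj x z) : blockPart B θ u = 0 := by
  classical
  rw [blockPart_eq_sum]
  refine mul_eq_zero_of_right _ (Finset.sum_eq_zero fun c _ => ?_)
  obtain ⟨w, hw⟩ := exists_isPPart (p := p) c
  by_cases hc : IsConj x w
  · rw [hθ c w hw hc, zero_mul]
  · rw [block_orthogonality hM hu hw (fun h => hc (hz.trans h)) hB, mul_zero]

omit [Fintype (Subgroup.centralizer ({x} : Set G))] in
/-- A height-zero character vanishes on the section of `x` iff `x` avoids the defect groups. -/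
theorem height_zero_section (hM : IsPModular p M) {B : Set (IrrCharacter G)} (hB : IsPBlock M B)
    {D : Subgroup G} (hD : IsDefectGroup p M B D) {χ : IrrCharacter G} (hχ : χ ∈ B)
    (h0 : blockHeight p B (χ : G → ℂ) = 0) :
    (∃ g : G, g * x * g⁻¹ ∈ D) ↔ ∃ u : G, (∃ z : G, IsPPart p u z ∧ IsConj x z) ∧ (χ : G → ℂ) u ≠ 0 := by
  constructor
  · rintro ⟨g, hg⟩
    obtain ⟨y, hy, hyD⟩ := isDefectGroup_iff.mp hD
    have hcm : Commute (g * x * g⁻¹) y := Subgroup.mem_centralizer_iff.mp hyD.mem_centralizer _ hg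
    obtain ⟨k, hk⟩ := hyD.isPGroup ⟨_, hg⟩
    have hk' : (g * x * g⁻¹) ^ (p ^ k) = 1 := by simpa using congrArg Subtype.val hk
    obtain ⟨j, -, hj⟩ := (Nat.dvd_prime_pow hp.out).mp (orderOf_dvd_of_pow_eq_one hk')
    refine ⟨g * x * g⁻¹ * y, ⟨_, isPPart_mul hcm ⟨j, hj⟩ (defectClass_pRegular hM hB hy),
      isConj_iff.mpr ⟨g, rfl⟩⟩, fun h => ?_⟩
    have h2 := cval_defectClass_ne_zero hM hB hy hχ h0
    rw [← cval_mul hM χ hcm hk', Ne, ← memLocalIdeal_iff_cval, h] at h2
    exact h2 ⟨0, 1, M.zero_mem, fun h1 => hM.2.1.ne_top ((Ideal.eq_top_iff_one _).mpr h1), by simp⟩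
  · rintro ⟨u, ⟨z, hu, hz⟩, hne⟩
    obtain ⟨E, hE, hzE⟩ := mem_defect_of_ne_zero hM hB hχ hu hne
    obtain ⟨w, rfl⟩ := defectGroups_conj hM hB hE hD
    obtain ⟨v, rfl⟩ := isConj_iff.mp hz
    refine ⟨w * v, mem_cj.mpr ?_⟩
    convert hzE using 1
    group

end CfsgLib.Blocks
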