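import Cfsg.Agent.Lib.NilBlock.LocalElt
import Cfsg.Agent.Lib.NilBlock.Vanish
import Cfsg.Agent.Lib.Blocks.PrimeLower
import Cfsg.Agent.Lib.Blocks.SmallBlock

/-!
# The corner of a block with one Brauer character

* `brauerFun_mem_ibrOf`: a simple module on which a block idempotent acts as one belongs to the block;
* `exists_trace_idem`: a block idempotent is a relative trace from a defect group;
* `exists_corner`: a block whose members agree on the regular elements, with one Brauer character, has an
  idempotent generating it whose corner has dimension at most the number of members.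
-/

set_option autoImplicit false
set_option maxHeartbeats 2000000
set_option synthInstance.maxHeartbeats 400000

noncomputable section

namespace CfsgLib.Blocks

open Cfsg CfsgLib.Modular CfsgLib.BrauerPairs CfsgLib.Char CfsgLib.NilBlock

attribute [local instance] resField

variable {M : Ideal AlgInt} [M.IsMaximal] {G : Type*} [Group G] [Fintype G] {p : ℕ}

theorem brauerFun_mem_ibrOf (hM : IsPModular p M) {B : Set (IrrCharacter G)} (hB : IsPBlock M B) {n : ℕ}
    {σ : Representation (Res M) G (Fin n → Res M)} (hσ : σ.IsIrreducible)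
    (hact : Acts σ (red (idem hB)) 1) : brauerFun p M σ ∈ ibrOf hM B := by
  classical
  have hφ : brauerFun p M σ ∈ ibrF hM G := mem_ibrF.mpr ⟨n, σ, hσ, rfl⟩
  obtain ⟨B', hB', hmem⟩ := exists_ibrOf hM hφ
  suffices B' = B from this ▸ hmem
  obtain ⟨-, χ, hχ, hd⟩ := mem_ibrOf.mp hmem
  obtain ⟨j, τ, -, hτ, ha⟩ := ((exists_ibr_decomp hM χ).choose_spec.2 _ hd).2 B hB
  by_contra hne
  rw [if_neg fun h => hne (isPBlock_eq_of_mem hB' hB hχ h)] at ha
  obtain ⟨a, ha1⟩ := exists_trace_one σ hσ
  have h1 : τ.asAlgebraHom (red (idem hB) * a) = 0 := by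
    refine LinearMap.ext fun v => ?_
    rw [map_mul, Module.End.mul_apply, ha, zero_smul, LinearMap.zero_apply]
  have h2 : σ.asAlgebraHom (red (idem hB) * a) = σ.asAlgebraHom a := by
    refine LinearMap.ext fun v => ?_
    rw [map_mul, Module.End.mul_apply, hact, one_smul]
  have h3 := trace_eq_of_brauerFun_eq hM hτ (red (idem hB) * a)
  rw [h1, h2, map_zero, ha1] at h3
  exact one_ne_zero h3.symm

theorem red_comm (a : Zint M G) (z : KG M G) : red a * z = z * red a :=
  (Subsemiring.mem_center_iff.mp (red_mem_center a) z).symm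

theorem ridem_comm {B : Set (IrrCharacter G)} (hB : IsPBlock M B) (z : KG M G) : ridem hB * z = z * ridem hB :=
  red_comm (idem hB) z

theorem cjA_single (g x : G) (r : Res M) :
    cjA g (MonoidAlgebra.single x r) = MonoidAlgebra.single (g * x * g⁻¹) r := by
  refine ext_coeff fun y => ?_
  classical
  rw [coeff_cjA, MonoidAlgebra.coeff_single, MonoidAlgebra.coeff_single, Finsupp.single_apply,
    Finsupp.single_apply]
  exact if_congr ⟨fun h => by rw [h]; group, fun h => by rw [← h]; group⟩ rfl rfl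

theorem cjA_smul (g : G) (r : Res M) (z : KG M G) : cjA g (r • z) = r • cjA g z :=
  ext_coeff fun y => by simp [coeff_cjA]

theorem cjA_red (g : G) (a : Zint M G) : cjA g (red a) = red a :=
  ext_coeff fun y => by
    rw [coeff_cjA, coeff_red, coeff_red]
    exact rcoeff_eq_of_isConj a (isConj_iff.mpr ⟨g, by group⟩)

/-- A class with defect group `D` has centraliser index over `D` prime to `p`. -/
theorem not_dvd_relIndex_defect (hp : p.Prime) {D : Subgroup G} {y : G} (hyD : IsClassDefect p y D) :
    ¬ p ∣ D.relIndex (Subgroup.centralizer ({y} : Set G)) := by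
  have : Fact p.Prime := ⟨hp⟩
  have hDC : D ≤ Subgroup.centralizer ({y} : Set G) := hyD.le_centralizer
  intro h
  have h1 := Subgroup.card_mul_index (D.subgroupOf (Subgroup.centralizer ({y} : Set G)))
  rw [Nat.card_congr (Subgroup.subgroupOfEquivOfLe hDC).toEquiv,
    show (D.subgroupOf (Subgroup.centralizer ({y} : Set G))).index = D.relIndex (Subgroup.centralizer ({y} : Set G)) from rfl] at h1
  obtain ⟨r, hr⟩ := h
  have h2 : p * Nat.card D ∣ Nat.card (Subgroup.centralizer ({y} : Set G)) := ⟨r, by rw [← h1, hr]; ring⟩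
  obtain ⟨k, hk⟩ := IsPGroup.iff_card.mp hyD.isPGroup
  rw [hk, ← pow_succ'] at h2
  obtain ⟨Q, hQ⟩ := Sylow.exists_subgroup_card_pow_prime p h2
  have hQC : Q.map (Subgroup.centralizer ({y} : Set G)).subtype ≤ (Subgroup.centralizer ({y} : Set G)) := Subgroup.map_subtype_le Q
  obtain ⟨x, -, hx⟩ := hyD.exists_cj_le (Q := Q.map (Subgroup.centralizer ({y} : Set G)).subtype)
    ((IsPGroup.of_card hQ).map _) (fun z hz => Subgroup.mem_centralizer_singleton_iff.mp (hQC hz))
  have h3 := card_le_of_cj_le hx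
  rw [Subgroup.card_map_of_injective (Subgroup.centralizer ({y} : Set G)).subtype_injective, hQ, hk] at h3
  exact absurd h3 (not_le.mpr (Nat.pow_lt_pow_right hp.one_lt (Nat.lt_succ_self k)))

/-- The class sum as a relative trace. -/
theorem sum_cjA_single_eq {D : Subgroup G} [Fintype (G ⧸ D)] {y : G}
    (hDC : D ≤ Subgroup.centralizer ({y} : Set G)) :
    ∑ c : G ⧸ D, cjA c.out (MonoidAlgebra.single y (1 : Res M)) =
      (D.relIndex (Subgroup.centralizer ({y} : Set G)) : Res M) • red (zclass M y) := by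
  classical
  refine ext_coeff fun g => ?_
  rw [MonoidAlgebra.coeff_sum, Finsupp.finsetSum_apply, MonoidAlgebra.coeff_smul, Finsupp.smul_apply,
    smul_eq_mul, coeff_red, rcoeff_zclass]
  simp only [cjA_single, MonoidAlgebra.coeff_single, Finsupp.single_apply]
  by_cases hg : IsConj y g
  · rw [if_pos hg, mul_one, ← Finset.sum_filter, Finset.sum_const, nsmul_eq_mul, mul_one]
    congr 1
    obtain ⟨w, hw⟩ := isConj_iff.mp hg
    rw [← Nat.card_eq_finsetCard]
    show _ = Nat.card ((Subgroup.centralizer ({y} : Set G)) ⧸ D.subgroupOf (Subgroup.centralizer ({y} : Set G)))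
    let f : (Subgroup.centralizer ({y} : Set G)) ⧸ D.subgroupOf (Subgroup.centralizer ({y} : Set G)) → {c : G ⧸ D // c.out * y * c.out⁻¹ = g} :=
      Quotient.lift (fun a : (Subgroup.centralizer ({y} : Set G)) => ⟨((w * (a : G) : G) : G ⧸ D), by
        obtain ⟨q, hq⟩ := QuotientGroup.mk_out_eq_mul D (w * (a : G))
        rw [hq]
        have hac : (a : G) * y = y * a := Subgroup.mem_centralizer_singleton_iff.mp a.2
        have hqc : ((q : G)) * y = y * q := Subgroup.mem_centralizer_singleton_iff.mp (hDC q.2)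
        calc w * (a : G) * (q : G) * y * (w * (a : G) * (q : G))⁻¹
            = w * ((a : G) * ((q : G) * y) * (q : G)⁻¹ * (a : G)⁻¹) * w⁻¹ := by group
          _ = w * ((a : G) * y * (a : G)⁻¹) * w⁻¹ := by rw [hqc]; group
          _ = g := by rw [hac, mul_inv_cancel_right, hw]⟩) fun a b hab => by
        refine Subtype.ext (QuotientGroup.eq.mpr ?_)
        have h : a⁻¹ * b ∈ D.subgroupOf (Subgroup.centralizer ({y} : Set G)) := QuotientGroup.leftRel_apply.mp hab
        rw [Subgroup.mem_subgroupOf] at h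
        simpa [mul_assoc] using h
    refine Eq.trans (Nat.card_congr (Equiv.subtypeEquivRight fun c => by simp))
      (Nat.card_congr (Equiv.ofBijective f ⟨?_, ?_⟩)).symm
    · intro a b
      induction a using QuotientGroup.induction_on with
      | H a =>
        induction b using QuotientGroup.induction_on with
        | H b =>
          intro h
          have h' := QuotientGroup.eq.mp (congrArg Subtype.val h)
          refine QuotientGroup.eq.mpr (Subgroup.mem_subgroupOf.mpr ?_)
          simpa [mul_assoc] using h'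
    · rintro ⟨c, hc⟩
      refine ⟨QuotientGroup.mk ⟨w⁻¹ * c.out, Subgroup.mem_centralizer_singleton_iff.mpr ?_⟩, ?_⟩
      · calc w⁻¹ * c.out * y = w⁻¹ * (c.out * y * c.out⁻¹) * c.out := by group
          _ = w⁻¹ * (w * y * w⁻¹) * c.out := by rw [hc, hw]
          _ = y * (w⁻¹ * c.out) := by group
      · refine Subtype.ext ?_
        show ((w * (w⁻¹ * c.out) : G) : G ⧸ D) = c
        rw [mul_inv_cancel_left, QuotientGroup.out_eq']
  · rw [if_neg hg, mul_zero]
    exact Finset.sum_eq_zero fun c _ => if_neg fun h => hg (isConj_iff.mpr ⟨c.out, h⟩)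

/-- **Higman.** The block idempotent is a relative trace from a defect group. -/
theorem exists_trace_idem (hM : IsPModular p M) {B : Set (IrrCharacter G)} (hB : IsPBlock M B)
    {D : Subgroup G} [Fintype (G ⧸ D)] (hD : IsDefectGroup p M B D) :
    ∃ d : KG M G, IsFixed D d ∧ d * ridem hB = d ∧ ∑ c : G ⧸ D, cjA c.out d = ridem hB := by
  classical
  have : Fact p.Prime := ⟨hM.1⟩
  have : CharP (Res M) p := res_charP M hM
  obtain ⟨y, hy, hyD⟩ := isDefectGroup_iff.mp hD
  obtain ⟨χ, hχ⟩ := IsPBlock.nonempty hB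
  obtain ⟨-, hω⟩ := (isDefectClass_iff hB hχ y).mp hy
  set Cy := Subgroup.centralizer ({y} : Set G) with hCy
  have hDC : D ≤ Cy := hyD.le_centralizer
  have hidx : ¬ p ∣ D.relIndex Cy := not_dvd_relIndex_defect hM.1 hyD
  have hidx' : (D.relIndex Cy : Res M) ≠ 0 := by
    rw [Ne, CharP.cast_eq_zero_iff (Res M) p]; exact hidx
  -- the class sum is a trace
  obtain ⟨K, hK⟩ : ∃ K : KG M G, K = red (zclass M y) := ⟨_, rfl⟩
  have hKc : ∀ z, K * z = z * K := fun z => by
    rw [hK]; exact red_comm (zclass M y) z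
  have htr := sum_cjA_single_eq (M := M) hDC
  rw [← hK] at htr
  -- an inverse in the block
  obtain ⟨b, hb⟩ : ∃ b : KG M G, b = ridem hB := ⟨_, rfl⟩
  rw [← hb]
  have hbc : ∀ z, b * z = z * b := fun z => by
    rw [hb]; exact ridem_comm hB z
  have hbb : b * b = b := by rw [hb]; exact ridem_mul_self hB
  have hKb : red (zclass M y * idem hB) = K * b := by rw [hK, hb, map_mul]
  obtain ⟨ω, m, hm⟩ := SmallBlock.exists_isNilpotent_sub hB (a := K * b) (by
    rw [← hKb]; exact red_mem_center (zclass M y * idem hB)) (by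
    rw [show red (idem hB) = b from hb.symm, mul_assoc, hbb])
  rw [show red (idem hB) = b from hb.symm] at hm
  have hω0 : ω ≠ 0 := by
    rintro rfl
    rw [zero_smul, sub_zero, ← hKb, ← map_pow] at hm
    have h1 := bomega_eq_zero_of_isNilpotent χ (a := zclass M y * idem hB)
      ⟨m, by rw [← map_pow]; exact hm⟩
    rw [map_mul, bomega_idem, if_pos hχ, mul_one] at h1
    exact hω h1
  obtain ⟨N, hN⟩ : ∃ N : KG M G, N = ω⁻¹ • (ω • b - K * b) := ⟨_, rfl⟩
  have hNm : N ^ m = 0 := by
    rw [hN, smul_pow, ← neg_sub, neg_pow, hm]; simp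
  have hgeom : (1 - N) * ∑ i ∈ Finset.range m, N ^ i = 1 := by rw [mul_neg_geom_sum, hNm, sub_zero]
  have hKN : K * b = ω • (b * (1 - N)) := by
    rw [mul_sub, mul_one, hN, mul_smul_comm, mul_sub, mul_smul_comm, hbb, smul_sub, smul_smul,
      mul_inv_cancel₀ hω0, one_smul, ← mul_assoc b K b, hbc K, mul_assoc, hbb]
    abel
  obtain ⟨w, hw⟩ : ∃ w : KG M G, w = b * ∑ i ∈ Finset.range m, N ^ i := ⟨_, rfl⟩
  have hKw : K * w = ω • b := by
    rw [hw, ← mul_assoc, hKN, smul_mul_assoc,
      mul_assoc, hgeom, mul_one]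
  have hfix : ∀ g, cjA g w = w := by
    intro g
    have hNf : cjA g N = N := by
      rw [hN, cjA_smul, map_sub, cjA_smul, map_mul, hK, hb, ridem, cjA_red, cjA_red]
    simp only [hw, map_mul, map_sum, map_pow, hNf, hb, ridem, cjA_red]
  have hwb : w * b = w := by
    rw [hw, hbc, mul_assoc, hbb]
  refine ⟨((D.relIndex Cy : Res M) * ω)⁻¹ • (MonoidAlgebra.single y 1 * w), fun v hv => ?_, ?_, ?_⟩
  · rw [cjA_smul, map_mul, hfix, cjA_single]
    rw [Subgroup.mem_centralizer_singleton_iff.mp (hDC hv), mul_inv_cancel_right]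
  · rw [smul_mul_assoc, mul_assoc, hwb]
  · simp only [cjA_smul, map_mul, hfix]
    rw [← Finset.smul_sum, ← Finset.sum_mul, htr, smul_mul_assoc, hKw, smul_smul, smul_smul, ← hCy]
    rw [mul_assoc, inv_mul_cancel₀ (mul_ne_zero hidx' hω0), one_smul]

omit [Group G] in
theorem eq_sum_single {R : Type*} [Semiring R] (a : MonoidAlgebra R G) :
    a = ∑ g : G, MonoidAlgebra.single g (a.coeff g) := by
  classical
  refine MonoidAlgebra.coeff_injective (Finsupp.ext fun x => ?_)
  simp

/-- A rank one idempotent operator is multiplicative on traces. -/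
theorem trace_rank_one_mul {V : Type*} [AddCommGroup V] [Module ℂ V] [FiniteDimensional ℂ V]
    {π : Module.End ℂ V} (hπ : π * π = π) (htr : LinearMap.trace ℂ V π = 1) (f g : Module.End ℂ V) :
    LinearMap.trace ℂ V (π * f * π * (π * g * π)) =
      LinearMap.trace ℂ V (π * f * π) * LinearMap.trace ℂ V (π * g * π) := by
  have hproj : LinearMap.IsProj (LinearMap.range π) π :=
    ⟨fun x => LinearMap.mem_range_self π x, fun x ⟨y, hy⟩ => by
      rw [← hy, ← Module.End.mul_apply, hπ]⟩
  have hfin : Module.finrank ℂ (LinearMap.range π) = 1 := by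
    have := hproj.trace; rw [htr] at this; exact_mod_cast this.symm
  obtain ⟨⟨v, hv⟩, hv0, hgen⟩ := finrank_eq_one_iff'.mp hfin
  have hπv : π v = v := hproj.map_id v hv
  have hcoef : ∀ h : Module.End ℂ V, ∃ c : ℂ, π * h * π = c • π := by
    intro h
    obtain ⟨c, hc⟩ := hgen ⟨π (h v), LinearMap.mem_range_self _ _⟩
    refine ⟨c, LinearMap.ext fun x => ?_⟩
    obtain ⟨a, ha⟩ := hgen ⟨π x, LinearMap.mem_range_self _ _⟩
    simp only [Submodule.coe_smul, Subtype.ext_iff] at hc ha
    simp only [Module.End.mul_apply, LinearMap.smul_apply, ← ha, map_smul, ← hc, smul_smul, mul_comm]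
  obtain ⟨a, ha⟩ := hcoef f
  obtain ⟨c, hc⟩ := hcoef g
  rw [ha, hc, smul_mul_assoc, mul_smul_comm, hπ]
  simp [htr]

theorem trace_eq_zero_idem {V : Type*} [AddCommGroup V] [Module ℂ V] [FiniteDimensional ℂ V]
    {π : Module.End ℂ V} (hπ : π * π = π) (htr : LinearMap.trace ℂ V π = 0) : π = 0 := by
  have hproj : LinearMap.IsProj (LinearMap.range π) π :=
    ⟨fun x => LinearMap.mem_range_self π x, fun x ⟨y, hy⟩ => by
      rw [← hy, ← Module.End.mul_apply, hπ]⟩
  have h1 := hproj.trace
  rw [htr] at h1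
  exact LinearMap.range_eq_bot.mp (Submodule.finrank_eq_zero.mp (by exact_mod_cast h1.symm))

/-- An idempotent matrix over the local ring with rank one reduction has trace one. -/
theorem trace_eq_one_of_red {n : ℕ} {X : Matrix (Fin n) (Fin n) (locRing M)} (hX : X * X = X)
    {δ : (Fin n → Res M) →ₗ[Res M] Res M} {v : Fin n → Res M} (hδ : δ v = 1)
    (hred : Matrix.toLin' (X.map (res M)) = δ.smulRight v) : ((X.trace : locRing M) : ℂ) = 1 := by
  classical
  set N : Matrix (Fin n) (Fin n) ℂ := X.map (locRing M).subtype with hNdef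
  have hN : N * N = N := by rw [hNdef, ← Matrix.map_mul, hX]
  have htrN : ((X.trace : locRing M) : ℂ) = N.trace :=
    AddMonoidHom.map_trace (locRing M).subtype.toAddMonoidHom X
  set f := Matrix.toLin' N with hf
  have hff : f * f = f := by rw [hf, Module.End.mul_eq_comp, ← Matrix.toLin'_mul, hN]
  have hproj : LinearMap.IsProj (LinearMap.range f) f :=
    ⟨fun x => LinearMap.mem_range_self f x, fun x ⟨y, hy⟩ => by
      rw [← hy, ← Module.End.mul_apply, hff]⟩
  rw [htrN, ← Matrix.trace_toLin'_eq, ← hf, hproj.trace]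
  -- the range is nonzero
  have hpos : LinearMap.range f ≠ ⊥ := by
    intro h
    rw [LinearMap.range_eq_bot, hf, LinearEquiv.map_eq_zero_iff, hNdef] at h
    have hX0 : X = 0 := Matrix.map_injective Subtype.val_injective
      (h.trans (Matrix.map_zero _ (by simp)).symm)
    have h1 := LinearMap.congr_fun hred v
    rw [hX0, Matrix.map_zero _ (map_zero _), Matrix.toLin'_apply, Matrix.zero_mulVec,
      LinearMap.smulRight_apply, hδ, one_smul] at h1
    rw [← h1, map_zero] at hδ
    exact zero_ne_one hδ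
  -- the kernel contains lifts
  set g := Matrix.toLin' ((1 - X).map (res M)) with hg
  have hgr : g = LinearMap.id - δ.smulRight v := by
    refine LinearMap.ext fun x => ?_
    rw [hg, Matrix.map_sub _ (map_sub (res M)), Matrix.map_one _ (map_zero _) (map_one _),
      LinearMap.sub_apply, Matrix.toLin'_apply, Matrix.sub_mulVec, Matrix.one_mulVec, LinearMap.id_apply,
      ← hred, Matrix.toLin'_apply]
  let b := Module.finBasis (Res M) (LinearMap.ker δ)
  choose s hs using res_surjective M
  let z : Fin (Module.finrank (Res M) (LinearMap.ker δ)) → Fin n → locRing M := fun i =>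
    (1 - X).mulVec fun a => s ((b i : Fin n → Res M) a)
  have hz : ∀ i a, res M (z i a) = (b i : Fin n → Res M) a := by
    intro i a
    rw [show res M (z i a) = ((1 - X).map (res M)).mulVec (fun a => res M (s ((b i : Fin n → Res M) a))) a
      from RingHom.map_mulVec (res M) _ _ a]
    simp only [hs]
    show g (b i : Fin n → Res M) a = _
    rw [hgr]
    simp [LinearMap.mem_ker.mp (b i).2]
  have hind := PrimeLocal.linearIndependent_of_res z fun c hc => funext fun i => by
    refine Fintype.linearIndependent_iff.mp (b.linearIndependent.map' (LinearMap.ker δ).subtype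
      (Submodule.ker_subtype _)) c (funext fun a => ?_) i
    have h1 := hc a
    simp only [hz] at h1
    simpa using h1
  have hker : ∀ i, (fun a => ((z i a : locRing M) : ℂ)) ∈ LinearMap.ker f := by
    intro i
    rw [LinearMap.mem_ker, hf, Matrix.toLin'_apply]
    have h0 : X.mulVec (z i) = 0 := by
      simp only [z, Matrix.mulVec_mulVec, mul_sub, mul_one, hX, sub_self, Matrix.zero_mulVec]
    funext a
    exact ((RingHom.map_mulVec (locRing M).subtype X (z i) a).symm.trans
      ((congrArg (locRing M).subtype (congrFun h0 a)).trans (map_zero _)))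
  have h1 : Module.finrank (Res M) (LinearMap.ker δ) ≤ Module.finrank ℂ (LinearMap.ker f) := by
    have := (LinearIndependent.of_comp (LinearMap.ker f).subtype
      (v := fun i => (⟨_, hker i⟩ : LinearMap.ker f)) hind).fintype_card_le_finrank
    rwa [Fintype.card_fin] at this
  have h2 := LinearMap.finrank_range_add_finrank_ker δ
  have h3 := LinearMap.finrank_range_add_finrank_ker f
  have h4 : Module.finrank (Res M) (LinearMap.range δ) ≤ 1 :=
    (Submodule.finrank_le _).trans (Module.finrank_self _).le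
  have h5 : 1 ≤ Module.finrank ℂ (LinearMap.range f) := Nat.one_le_iff_ne_zero.mpr fun h =>
    hpos (Submodule.finrank_eq_zero.mp h)
  rw [Module.finrank_fintype_fun_eq_card, Fintype.card_fin] at h2 h3
  have : Module.finrank ℂ (LinearMap.range f) = 1 := by omega
  rw [this, Nat.cast_one]

/-- The reduction of a character giving the Brauer character of a block is irreducible. -/
theorem isIrreducible_redRep (hM : IsPModular p M) {B : Set (IrrCharacter G)} (hB : IsPBlock M B)
    {φ : G → ℂ} (hIB : ibrOf hM B = {φ}) {χ : IrrCharacter G} (hχ : χ ∈ B)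
    (hφ : pRegularPart p (χ : G → ℂ) = φ) {n : ℕ} (A : G →* Matrix (Fin n) (Fin n) (locRing M))
    (hA : ∀ g, (((A g).trace : locRing M) : ℂ) = (χ : G → ℂ) g) : (redRep A).IsIrreducible := by
  classical
  have hbr : brauerFun p M (redRep A) = φ := by
    funext g
    rw [← hφ, BlockArith.pRegularPart_apply]
    split_ifs with hg
    · rw [brauerFun_singular _ hg]
    · rw [brauerFun_redRep hM A hg, hA]
  have hact : Acts (redRep A) (red (idem hB)) (1 : Res M) := by
    have h := redRep_acts χ A hA hB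
    rwa [if_pos hχ] at h
  have hone : (1 : G → ℂ) = 1 := rfl
  have h1reg : ¬ p ∣ orderOf (1 : G) := by rw [orderOf_one]; exact hM.1.not_dvd_one
  have hφ1 : φ 1 = (n : ℂ) := by
    rw [← hbr, brauerFun_one (redRep A) hM, Module.finrank_fintype_fun_eq_card, Fintype.card_fin]
  have hφ0 : φ 1 ≠ 0 := by
    rw [← hφ, BlockArith.pRegularPart_apply, if_neg h1reg]
    exact irr_one_ne_zero χ.2
  have : Nonempty (Fin n) := ⟨⟨0, Nat.pos_of_ne_zero fun h => hφ0 (by rw [hφ1, h, Nat.cast_zero])⟩⟩
  by_contra hirr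
  obtain ⟨U, hb, ht, hU⟩ := exists_invariant_of_not_irreducible (redRep A) hirr
  have hadd := brauerFun_eq_add (p := p) (redRep A) U hU
  obtain ⟨s₁, hs₁, ha₁⟩ := exists_constituents (p := p) (subRep (redRep A) U hU)
  obtain ⟨s₂, hs₂, ha₂⟩ := exists_constituents (p := p) (quotRep (redRep A) U hU)
  have hall : ∀ ψ ∈ s₁ + s₂, ψ = φ := fun ψ hψ => by
    have key : ∃ (j : ℕ) (σ : Representation (Res M) G (Fin j → Res M)), σ.IsIrreducible ∧
        brauerFun p M σ = ψ ∧ Acts σ (red (idem hB)) 1 := by
      rcases Multiset.mem_add.mp hψ with h | h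
      · obtain ⟨j, σ, h1, h2, h3⟩ := ha₁ ψ h
        exact ⟨j, σ, h1, h2, h3 _ _ (acts_sub U hU hact)⟩
      · obtain ⟨j, σ, h1, h2, h3⟩ := ha₂ ψ h
        exact ⟨j, σ, h1, h2, h3 _ _ (acts_quot U hU hact)⟩
    obtain ⟨j, σ, h1, rfl, h3⟩ := key
    have h4 := brauerFun_mem_ibrOf hM hB h1 h3
    rwa [hIB, Finset.mem_singleton] at h4
  obtain ⟨hd1, hd2⟩ := finrank_sub_lt hb ht
  rw [Module.finrank_fintype_fun_eq_card, Fintype.card_fin] at hd1 hd2
  have hval : ∀ (s : Multiset (G → ℂ)), (∀ ψ ∈ s, ψ = φ) → s.sum 1 = (s.card : ℂ) * φ 1 := by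
    intro s hs
    rw [Multiset.eq_replicate_card.mpr hs, Multiset.sum_replicate, Multiset.card_replicate]
    simp
  have e1 := hval s₁ fun ψ h => hall ψ (Multiset.mem_add.mpr (Or.inl h))
  have e2 := hval s₂ fun ψ h => hall ψ (Multiset.mem_add.mpr (Or.inr h))
  rw [hs₁, brauerFun_one _ hM, hφ1, ← Nat.cast_mul, Nat.cast_inj] at e1
  rw [hs₂, brauerFun_one _ hM, hφ1, ← Nat.cast_mul, Nat.cast_inj] at e2
  have e3 := Submodule.finrank_quotient_add_finrank U
  rw [Module.finrank_fintype_fun_eq_card, Fintype.card_fin] at e3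
  rcases Nat.eq_zero_or_pos s₁.card with h | h
  · rw [h, zero_mul] at e1; omega
  · have := Nat.le_mul_of_pos_left n h; omega

/-- One Brauer character, equal on the members: it is the regular part of each. -/
theorem regPart_eq_of_const (hM : IsPModular p M) {B : Set (IrrCharacter G)} (hB : IsPBlock M B)
    {φ : G → ℂ} (hIB : ibrOf hM B = {φ})
    (hreg : ∀ η ∈ B, ∀ θ ∈ B, ∀ g : G, ¬ p ∣ orderOf g → (η : G → ℂ) g = (θ : G → ℂ) g)
    {χ₀ : IrrCharacter G} (hχ₀ : χ₀ ∈ B) : pRegularPart p (χ₀ : G → ℂ) = φ := by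
  classical
  have hp : Fact p.Prime := ⟨hM.1⟩
  obtain ⟨a, ha⟩ := exists_int_combination hM hB (φ := φ) (by rw [hIB]; exact Finset.mem_singleton_self _)
  have h1reg : ¬ p ∣ orderOf (1 : G) := by rw [orderOf_one]; exact hp.out.not_dvd_one
  have hregφ : ∀ η ∈ B, pRegularPart p (η : G → ℂ) = (dnum hM η φ : ℂ) • φ := fun η hη => by
    rw [regPart_eq_block hM hη, hIB, Finset.sum_singleton]
  set d := dnum hM χ₀ φ with hd
  have hval : ∀ η ∈ B, (η : G → ℂ) 1 = (d : ℂ) * φ 1 := fun η hη => by
    have h := congrFun (hregφ χ₀ hχ₀) 1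
    rw [BlockArith.pRegularPart_apply, if_neg h1reg, Pi.smul_apply, smul_eq_mul] at h
    rw [hreg η hη χ₀ hχ₀ 1 h1reg, h]
  have hd1 : d = 1 := by
    have h := congrFun ha 1
    simp only [Finset.sum_filter, Finset.sum_apply] at h
    have h2 : φ 1 = (∑ η : IrrCharacter G, if η ∈ B then (a η : ℂ) else 0) * ((d : ℂ) * φ 1) := by
      conv_lhs => rw [h]
      rw [Finset.sum_mul]
      refine Finset.sum_congr rfl fun η _ => ?_
      split_ifs with hη
      · rw [Pi.smul_apply, smul_eq_mul, BlockArith.pRegularPart_apply, if_neg h1reg, hval η hη]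
      · rw [zero_mul]
    have hφ0 : φ 1 ≠ 0 := fun h0 => irr_one_ne_zero χ₀.2 (by rw [hval χ₀ hχ₀, h0, mul_zero])
    have h3 : ((∑ η : IrrCharacter G, if η ∈ B then a η else 0 : ℤ) : ℂ) * (d : ℂ) = 1 := by
      refine mul_right_cancel₀ hφ0 ?_
      rw [one_mul]
      conv_rhs => rw [h2]
      push_cast
      ring
    have h4 : (∑ η : IrrCharacter G, if η ∈ B then a η else 0 : ℤ) * (d : ℤ) = 1 := by exact_mod_cast h3
    have h5 := Int.eq_one_or_neg_one_of_mul_eq_one' h4
    omega
  have hφχ : pRegularPart p (χ₀ : G → ℂ) = φ := by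
    rw [hregφ χ₀ hχ₀, ← hd, hd1, Nat.cast_one, one_smul]
  exact hφχ

/-- An idempotent of rank one on the reduction of a member. -/
theorem exists_rank_idem (hM : IsPModular p M) {B : Set (IrrCharacter G)} (hB : IsPBlock M B)
    {φ : G → ℂ} (hIB : ibrOf hM B = {φ})
    (hreg : ∀ η ∈ B, ∀ θ ∈ B, ∀ g : G, ¬ p ∣ orderOf g → (η : G → ℂ) g = (θ : G → ℂ) g)
    {χ₀ : IrrCharacter G} (hχ₀ : χ₀ ∈ B) (hφχ : pRegularPart p (χ₀ : G → ℂ) = φ) :
    ∃ (j : LA M G) (n : ℕ) (σ : Representation (Res M) G (Fin n → Res M)), j * j = j ∧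
      redLA M G j * ridem hB = redLA M G j ∧ σ.IsIrreducible ∧ Acts σ (red (idem hB)) (1 : Res M) ∧
      LinearMap.trace (Res M) _ (σ.asAlgebraHom (redLA M G j)) = 1 ∧
      (∀ η ∈ B, charLin (η : G → ℂ) (toCA M G j) = 1) ∧
      ∀ η : IrrCharacter G, η ∉ B → charLin (η : G → ℂ) (toCA M G j) = 0 := by
  classical
  obtain ⟨n, A, hA⟩ := exists_integral_rep hM χ₀
  have hirr := isIrreducible_redRep hM hB hIB hχ₀ hφχ A hA
  have hact : Acts (redRep A) (red (idem hB)) (1 : Res M) := by
    have h := redRep_acts χ₀ A hA hB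
    rwa [if_pos hχ₀] at h
  -- a rank one idempotent
  have : IsSimpleModule (MonoidAlgebra (Res M) G) (redRep A).asModule :=
    (redRep A).irreducible_iff_isSimpleModule_asModule.mp hirr
  have : Nontrivial (redRep A).asModule := IsSimpleModule.nontrivial (MonoidAlgebra (Res M) G) _
  obtain ⟨m₀, hm₀⟩ := exists_ne (0 : (redRep A).asModule)
  set v : Fin n → Res M := (redRep A).asModuleEquiv m₀ with hvdef
  obtain ⟨i₀, hi₀⟩ : ∃ i₀, v i₀ ≠ 0 := Function.ne_iff.mp fun h =>
    hm₀ ((redRep A).asModuleEquiv.map_eq_zero_iff.mp h)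
  let δ : (Fin n → Res M) →ₗ[Res M] Res M :=
    { toFun := fun x => (v i₀)⁻¹ * x i₀
      map_add' := fun x y => mul_add _ _ _
      map_smul' := fun c x => mul_left_comm _ _ _ }
  have hδ : δ v = 1 := inv_mul_cancel₀ hi₀
  set π := δ.smulRight v with hπdef
  have hππ : π * π = π := LinearMap.ext fun x => by
    show δ (δ x • v) • v = δ x • v
    rw [map_smul, hδ, smul_eq_mul, mul_one]
  obtain ⟨a₁, ha₁⟩ := asAlgebraHom_range_eq_top (redRep A) hirr π
  obtain ⟨ee, bb, hab, -, hee, -, -, -, m, hm⟩ := exists_spectral hM (liftLA M a₁)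
  set σ := (redRep A).asAlgebraHom with hσdef
  have hσe : σ (redLA M G ee) = π := by
    symm
    refine eq_of_spectral (y := σ (redLA M G bb)) (m := m) ?_ ?_ hππ
    · rw [← ha₁, ← map_mul, ← redLA_liftLA (M := M) a₁, ← map_mul, hab]
    · rw [← ha₁, ← map_pow, ← map_one σ, ← map_sub, ← map_mul, ← redLA_liftLA (M := M) a₁,
        ← map_pow, ← map_one (redLA M G), ← map_sub, ← map_mul, hm, map_zero]
  set j := toLA (idem hB) * ee with hjdef
  have hjj : j * j = j := by
    calc j * j = toLA (idem hB) * (ee * toLA (idem hB)) * ee := by simp only [hjdef, mul_assoc]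
      _ = toLA (idem hB) * toLA (idem hB) * (ee * ee) := by rw [← toLA_comm]; simp only [mul_assoc]
      _ = j := by rw [← map_mul, idem_mul_self, hee]
  set e₀ := redLA M G j with he0
  have he0' : e₀ = ridem hB * redLA M G ee := by rw [he0, hjdef, map_mul, redLA_toLA]
  have hcen : ∀ z, ridem hB * z = z * ridem hB := ridem_comm hB
  have hee0 : e₀ * e₀ = e₀ := by rw [he0, ← map_mul, hjj]
  have heb : e₀ * ridem hB = e₀ := by rw [he0', ← hcen, ← mul_assoc, ridem_mul_self]
  have hσ0 : σ e₀ = π := by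
    rw [he0', map_mul, hσe]
    exact LinearMap.ext fun x => by rw [Module.End.mul_apply, hact _, one_smul]
  -- the trace on the integral representation
  let X : Matrix (Fin n) (Fin n) (locRing M) := MonoidAlgebra.lift (locRing M) _ G A j
  have hXexp : X = ∑ g, j.coeff g • A g := by
    show MonoidAlgebra.lift (locRing M) _ G A j = _
    conv_lhs => rw [eq_sum_single j]
    rw [map_sum]
    exact Finset.sum_congr rfl fun g _ => by rw [MonoidAlgebra.lift_single]
  have hXX : X * X = X := by simp only [X, ← map_mul, hjj]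
  have hXπ : Matrix.toLin' (X.map (res M)) = π := by
    rw [← hσ0, hσdef, asAlgebraHom_eq_sum, hXexp, ← RingHom.mapMatrix_apply, map_sum, map_sum]
    refine Finset.sum_congr rfl fun g _ => ?_
    rw [RingHom.mapMatrix_apply, Matrix.map_smul' _ _ _ (map_mul _), map_smul, he0, coeff_redLA]
    rfl
  have hj1 : charLin (χ₀ : G → ℂ) (toCA M G j) = 1 := by
    rw [← trace_eq_one_of_red hXX hδ hXπ, hXexp, Matrix.trace_sum, AddSubmonoidClass.coe_finsetSum,
      charLin_apply]
    refine Finset.sum_congr rfl fun g _ => ?_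
    rw [Matrix.trace_smul, smul_eq_mul, Subring.coe_mul, hA, coeff_toCA]
  have hjB : ∀ η ∈ B, charLin (η : G → ℂ) (toCA M G j) = 1 := fun η hη => by
    rw [← hj1, charLin_apply, charLin_apply]
    simp only [coeff_toCA]
    rw [sum_regular hM hjj (isClassFunction_of_isIrr η.2), sum_regular hM hjj (isClassFunction_of_isIrr χ₀.2)]
    refine Finset.sum_congr rfl fun g _ => ?_
    split_ifs with hg
    · rfl
    · rw [hreg η hη χ₀ hχ₀ g hg]
  have hjo : ∀ η : IrrCharacter G, η ∉ B → charLin (η : G → ℂ) (toCA M G j) = 0 := fun η hη => by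
    rw [hjdef, map_mul, toCA_toLA, charLin_mul_of_central η.2 (Zint_center _), ← coe_zomega, zomega_idem hB,
      if_neg hη]
    simp
  refine ⟨j, n, redRep A, hjj, heb, hirr, hact, ?_, hjB, hjo⟩
  show LinearMap.trace (Res M) _ (σ e₀) = 1
  rw [hσ0, hπdef, LinearMap.trace_smulRight, hδ]

/-- An idempotent that is nonzero on the simple module of a block generates it. -/
theorem exists_generation (hM : IsPModular p M) {B : Set (IrrCharacter G)} (hB : IsPBlock M B)
    {φ : G → ℂ} (hIB : ibrOf hM B = {φ}) {n : ℕ} {σ : Representation (Res M) G (Fin n → Res M)}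
    (hσ : σ.IsIrreducible) (hact : Acts σ (red (idem hB)) (1 : Res M)) {e₀ : KG M G}
    (htr : LinearMap.trace (Res M) _ (σ.asAlgebraHom e₀) = 1) :
    ∃ x y : G × G → KG M G, ∑ i, x i * e₀ * y i = ridem hB := by
  classical
  have hcen : ∀ z, ridem hB * z = z * ridem hB := ridem_comm hB
  let Sp : Submodule (Res M) (KG M G) := Submodule.span (Res M) (Set.range fun t : G × G =>
    MonoidAlgebra.single t.1 (1 : Res M) * e₀ * MonoidAlgebra.single t.2 1)
  suffices hb : ridem hB ∈ Sp by
    obtain ⟨c, hc⟩ := Submodule.mem_span_range_iff_exists_fun (Res M) |>.mp hb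
    refine ⟨fun t => c t • MonoidAlgebra.single t.1 1,
      fun t => MonoidAlgebra.single t.2 1, ?_⟩
    rw [← hc]
    exact Finset.sum_congr rfl fun t _ => by rw [smul_mul_assoc, smul_mul_assoc]
  by_contra hb
  let L : Submodule (MonoidAlgebra (Res M) G) (MonoidAlgebra (Res M) G) :=
    Submodule.span (MonoidAlgebra (Res M) G)
      (Set.range (fun g : G => e₀ * MonoidAlgebra.single g 1) ∪ {1 - ridem hB})
  have hL : L ≠ ⊤ := by
    intro htop
    have hSl : ∀ (a : KG M G), ∀ x ∈ Sp, a * x ∈ Sp := by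
      intro a x hx
      induction hx using Submodule.span_induction with
      | mem x hx =>
        obtain ⟨⟨g, h⟩, rfl⟩ := hx
        conv => arg 2; rw [eq_sum_single a]
        rw [Finset.sum_mul]
        refine Submodule.sum_mem _ fun k _ => ?_
        rw [← mul_assoc, ← mul_assoc, MonoidAlgebra.single_mul_single, mul_one,
          show MonoidAlgebra.single (k * g) (a.coeff k) = a.coeff k • MonoidAlgebra.single (k * g) 1 by
            simp, smul_mul_assoc, smul_mul_assoc]
        exact Submodule.smul_mem _ _ (Submodule.subset_span ⟨(k * g, h), rfl⟩)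
      | zero => rw [mul_zero]; exact Sp.zero_mem
      | add x y _ _ hx hy => rw [mul_add]; exact Sp.add_mem hx hy
      | smul c x _ hx => rw [mul_smul_comm]; exact Sp.smul_mem c hx
    have hall : ∀ x ∈ L, ridem hB * x ∈ Sp := by
      intro x hx
      induction hx using Submodule.span_induction with
      | mem x hx =>
        rcases hx with ⟨g, rfl⟩ | hx
        · refine hSl _ _ (Submodule.subset_span ⟨(1, g), ?_⟩)
          simp [← MonoidAlgebra.one_def]
        · rw [Set.mem_singleton_iff.mp hx, mul_sub, mul_one, ridem_mul_self, sub_self]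
          exact Sp.zero_mem
      | zero => rw [mul_zero]; exact Sp.zero_mem
      | add x y _ _ hx hy => rw [mul_add]; exact Sp.add_mem hx hy
      | smul c x _ hx =>
        rw [smul_eq_mul, ← mul_assoc, hcen, mul_assoc]
        exact hSl _ _ hx
    exact hb (by simpa using hall 1 (htop ▸ Submodule.mem_top))
  obtain ⟨𝔪, hm𝔪, hle⟩ := (eq_top_or_exists_le_coatom L).resolve_left hL
  have : IsSimpleModule (MonoidAlgebra (Res M) G) (MonoidAlgebra (Res M) G ⧸ 𝔪) :=
    isSimpleModule_iff_isCoatom.mpr hm𝔪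
  have hW : ∀ x : MonoidAlgebra (Res M) G ⧸ 𝔪, e₀ • x = 0 ∧ ridem hB • x = x := by
    intro x
    obtain ⟨x, rfl⟩ := Submodule.Quotient.mk_surjective _ x
    refine ⟨?_, ?_⟩
    · rw [← Submodule.Quotient.mk_smul, Submodule.Quotient.mk_eq_zero, smul_eq_mul, eq_sum_single x,
        Finset.mul_sum]
      refine Submodule.sum_mem _ fun g _ => ?_
      rw [show MonoidAlgebra.single g (x.coeff g) = x.coeff g • MonoidAlgebra.single g 1 by simp,
        mul_smul_comm]
      exact Submodule.smul_of_tower_mem _ _ (hle (Submodule.subset_span (Or.inl ⟨g, rfl⟩)))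
    · rw [← Submodule.Quotient.mk_smul, Submodule.Quotient.eq, smul_eq_mul,
        show ridem hB * x - x = -(x * (1 - ridem hB)) by rw [mul_sub, mul_one, hcen]; abel]
      exact Submodule.neg_mem _ (Submodule.smul_mem _ x (hle (Submodule.subset_span (Or.inr rfl))))
  let W := MonoidAlgebra (Res M) G ⧸ 𝔪
  have : Module.Finite (Res M) W :=
    Module.Finite.of_surjective (𝔪.mkQ.restrictScalars (Res M)) (Submodule.Quotient.mk_surjective _)
  let ρ : Representation (Res M) G W :=
    (Algebra.lsmul (Res M) (Res M) W).toMonoidHom.comp (MonoidAlgebra.of (Res M) G)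
  obtain ⟨τ, hτ⟩ := exists_fin_equiv ρ
  have hρ : ∀ (a : KG M G) (x : W), ρ.asAlgebraHom a x = a • x := by
    intro a x
    rw [asAlgebraHom_eq_sum, LinearMap.sum_apply]
    conv_rhs => rw [eq_sum_single a, Finset.sum_smul]
    refine Finset.sum_congr rfl fun g _ => ?_
    show a.coeff g • (MonoidAlgebra.single g (1 : Res M) • x) = _
    rw [← smul_assoc]
    simp
  set E := (Module.finBasis (Res M) W).equivFun
  have hcomm : ∀ (a : KG M G) (x : W), E (a • x) = τ.asAlgebraHom a (E x) := fun a x => by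
    rw [← hρ, ← LinearEquiv.coe_toLinearMap, asAlgebraHom_comm (ρ := ρ) E.toLinearMap hτ]
  have hτirr : τ.IsIrreducible := by
    have : Nonempty (Fin (Module.finrank (Res M) W)) := by
      have : Nontrivial W := IsSimpleModule.nontrivial (MonoidAlgebra (Res M) G) W
      exact ⟨⟨0, Module.finrank_pos⟩⟩
    by_contra hirr
    obtain ⟨U, hb', ht', hU⟩ := exists_invariant_of_not_irreducible τ hirr
    let U' : Submodule (MonoidAlgebra (Res M) G) W :=
      { carrier := {x | E x ∈ U}
        add_mem' := fun {a b} ha hb => by show E (a + b) ∈ U; rw [map_add]; exact U.add_mem ha hb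
        zero_mem' := by show E 0 ∈ U; rw [map_zero]; exact U.zero_mem
        smul_mem' := fun a x hx => by
          show E (a • x) ∈ U
          rw [hcomm, asAlgebraHom_eq_sum, LinearMap.sum_apply]
          exact U.sum_mem fun g _ => U.smul_mem _ (hU g hx) }
    rcases eq_bot_or_eq_top U' with h | h
    · refine hb' (Submodule.eq_bot_iff _ |>.mpr fun y hy => ?_)
      have : E.symm y ∈ U' := by show E (E.symm y) ∈ U; simpa using hy
      rw [h, Submodule.mem_bot] at this
      simpa using congrArg E this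
    · refine ht' (eq_top_iff.mpr fun y _ => ?_)
      have : E.symm y ∈ U' := h ▸ Submodule.mem_top
      simpa using (show E (E.symm y) ∈ U from this)
  have hτact : Acts τ (red (idem hB)) 1 := fun y => by
    obtain ⟨x, rfl⟩ := E.surjective y
    rw [← hcomm, (hW x).2, one_smul]
  have hmem := brauerFun_mem_ibrOf hM hB hτirr hτact
  have hmem0 := brauerFun_mem_ibrOf hM hB hσ hact
  rw [hIB, Finset.mem_singleton] at hmem hmem0
  have h3 := trace_eq_of_brauerFun_eq hM (hmem.trans hmem0.symm) e₀
  rw [show τ.asAlgebraHom e₀ = 0 from LinearMap.ext fun y => by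
    obtain ⟨x, rfl⟩ := E.surjective y
    rw [← hcomm, (hW x).1, map_zero, LinearMap.zero_apply]] at h3
  rw [map_zero, htr] at h3
  exact zero_ne_one h3

/-- The corner is at most as large as the block. -/
theorem corner_bound {B : Set (IrrCharacter G)} {j : LA M G} (hjj : j * j = j)
    (hjB : ∀ η ∈ B, charLin (η : G → ℂ) (toCA M G j) = 1)
    (hjo : ∀ η : IrrCharacter G, η ∉ B → charLin (η : G → ℂ) (toCA M G j) = 0)
    {e₀ : KG M G} (he : e₀ = redLA M G j) {m : ℕ} (w : Fin m → KG M G) (hw : ∀ i, e₀ * w i * e₀ = w i)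
    (hind : LinearIndependent (Res M) w) : m ≤ Nat.card B := by
  classical
  let Z : Fin m → LA M G := fun i => j * liftLA M (w i) * j
  let vec : Fin m → G → locRing M := fun i g => (Z i).coeff g
  have hres : ∀ i g, res M (vec i g) = (w i).coeff g := fun i g => by
    show res M ((Z i).coeff g) = _
    rw [← coeff_redLA, map_mul, map_mul, redLA_liftLA, ← he, hw]
  have hindC := PrimeLocal.linearIndependent_of_res vec fun c hc => funext fun i => by
    refine Fintype.linearIndependent_iff.mp hind c (ext_coeff fun g => ?_) i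
    simpa [hres] using hc g
  let V : Fin m → CA G := fun i => toCA M G (Z i)
  have hVjj : ∀ i, toCA M G j * V i * toCA M G j = V i := fun i => by
    simp only [V, Z, ← map_mul]
    congr 1
    calc j * (j * liftLA M (w i) * j) * j = (j * j) * liftLA M (w i) * (j * j) := by simp only [mul_assoc]
      _ = _ := by rw [hjj]
  have hzero : ∀ z : CA G, toCA M G j * z * toCA M G j = z →
      (∀ η ∈ B, charLin (η : G → ℂ) z = 0) → z = 0 := by
    intro z hz hzB
    refine MonoidAlgebra.coeff_injective (Finsupp.ext fun g => ?_)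
    have hterm : ∀ η : IrrCharacter G,
        charLin (η : G → ℂ) (MonoidAlgebra.single g⁻¹ 1 * z) = 0 := by
      intro η
      obtain ⟨d', ρ, hρ'⟩ := isCharacter_of_isIrr η.2
      have htr : ∀ a : CA G, charLin (η : G → ℂ) a = LinearMap.trace ℂ _ (ρ.asAlgebraHom a) := fun a => by
        rw [← charLin_eq_trace ρ a, hρ']
      set π' := ρ.asAlgebraHom (toCA M G j) with hπ'
      have hπ'π : π' * π' = π' := by rw [hπ', ← map_mul, ← map_mul, hjj]
      set S := ρ.asAlgebraHom (MonoidAlgebra.single g⁻¹ 1)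
      set F := ρ.asAlgebraHom z with hF
      have hFz : π' * F * π' = F := by rw [hπ', hF, ← map_mul, ← map_mul, hz]
      have hcyc : LinearMap.trace ℂ _ (S * F) = LinearMap.trace ℂ _ (π' * F * π' * (π' * S * π')) := by
        conv_lhs => rw [← hFz, LinearMap.trace_mul_comm]
        rw [show π' * F * π' * (π' * S * π') = π' * F * π' * S * π' by
          simp only [mul_assoc]; rw [← mul_assoc π' π', hπ'π],
          LinearMap.trace_mul_comm _ (π' * F * π' * S), ← mul_assoc, ← mul_assoc, ← mul_assoc, hπ'π]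
      rw [htr, map_mul, hcyc]
      by_cases hη : η ∈ B
      · rw [trace_rank_one_mul hπ'π (by rw [hπ', ← htr, hjB η hη]), hFz, hF, ← htr, hzB η hη, zero_mul]
      · rw [show π' = 0 from trace_eq_zero_idem hπ'π (by rw [hπ', ← htr, hjo η hη])]
        simp
    have h := sum_degree_charLin (MonoidAlgebra.single g⁻¹ 1 * z)
    simp only [hterm, mul_zero, Finset.sum_const_zero] at h
    rw [show (MonoidAlgebra.single g⁻¹ (1 : ℂ) * z).coeff 1 = z.coeff g by simp] at h
    simpa using h.symm
  let Φ : (Fin m → ℂ) →ₗ[ℂ] (B → ℂ) :=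
    { toFun := fun c η => charLin ((η : IrrCharacter G) : G → ℂ) (∑ i, c i • V i)
      map_add' := fun a b => funext fun η => by simp [add_smul, Finset.sum_add_distrib]
      map_smul' := fun r a => funext fun η => by
        simp only [map_sum, map_smul, Pi.smul_apply, smul_eq_mul, RingHom.id_apply, Finset.mul_sum, mul_assoc] }
  have hΦ : LinearMap.ker Φ = ⊥ := LinearMap.ker_eq_bot'.mpr fun c hc => by
    have h1 : ∑ i, c i • V i = 0 := hzero _ (by
      rw [Finset.mul_sum, Finset.sum_mul]
      exact Finset.sum_congr rfl fun i _ => by rw [mul_smul_comm, smul_mul_assoc, hVjj])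
      fun η hη => congrFun hc ⟨η, hη⟩
    funext i
    refine Fintype.linearIndependent_iff.mp hindC c (funext fun g => ?_) i
    simpa [V, vec] using congrArg (fun z : CA G => z.coeff g) h1
  let _ := Fintype.ofFinite B
  have h := LinearMap.finrank_le_finrank_of_injective (LinearMap.ker_eq_bot.mp hΦ)
  rwa [Module.finrank_fintype_fun_eq_card, Module.finrank_fintype_fun_eq_card, Fintype.card_fin,
    ← Nat.card_eq_fintype_card] at h

/-- **The corner.** -/
theorem exists_corner (hM : IsPModular p M) {B : Set (IrrCharacter G)}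
    (hB : IsPBlock M B) (hl : blockRank p B = 1)
    (hreg : ∀ η ∈ B, ∀ θ ∈ B, ∀ g : G, ¬ p ∣ orderOf g → (η : G → ℂ) g = (θ : G → ℂ) g) :
    ∃ e : KG M G, e * e = e ∧ e * ridem hB = e ∧
      (∃ x y : G × G → KG M G, ∑ i, x i * e * y i = ridem hB) ∧
      ∀ {m : ℕ} (w : Fin m → KG M G), (∀ i, e * w i * e = w i) → LinearIndependent (Res M) w →
        m ≤ Nat.card B := by
  classical
  have : Fact p.Prime := ⟨hM.1⟩
  obtain ⟨φ, hIB⟩ := Finset.card_eq_one.mp ((blockRank_eq_card hM hB).symm.trans hl)
  obtain ⟨χ₀, hχ₀⟩ := IsPBlock.nonempty hB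
  obtain ⟨j, n, σ, hjj, hjb, hσ, hact, htr, hjB, hjo⟩ :=
    exists_rank_idem hM hB hIB hreg hχ₀ (regPart_eq_of_const hM hB hIB hreg hχ₀)
  exact ⟨redLA M G j, by rw [← map_mul, hjj], hjb, exists_generation hM hB hIB hσ hact htr,
    fun w hw hind => corner_bound hjj hjB hjo rfl w hw hind⟩

end CfsgLib.Blocks
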