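import Cfsg.Agent.Lib.Blocks.CyclicMain
import Cfsg.Agent.Lib.Blocks.Covering
import Cfsg.Agent.Lib.Blocks.CharMod

/-!
# Perfect isometries between blocks with cyclic defect groups

* `sum_f_reg`, `sum_f_mul`: orthogonality of the functions `f`;
* `exists_expansion`: the values at a singular element through the functions `f`, with the divisibility
  of the coefficients;
* `isPerfect_of_match`: a signed bijection matching the functions `f` is a perfect isometry.
-/

set_option autoImplicit false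
set_option maxHeartbeats 1000000
set_option linter.unusedSectionVars false

noncomputable section

namespace CfsgLib.Blocks.Cyclic

open Cfsg CfsgLib.Blocks CfsgLib.BlockArith CfsgLib.Char CfsgLib.BrauerPairs CfsgLib.NilBlock
open scoped ComplexConjugate Classical

universe u v

variable {G : Type u} [Group G] [Fintype G] {p : ℕ} [hp : Fact p.Prime] {M : Ideal AlgInt} [M.IsMaximal]

omit [Fintype G] hp in
/-- Conjugate elements have centralisers of equal order. -/
theorem card_centralizer_conjElt (c g : G) :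
    Nat.card (Subgroup.centralizer ({c * g * c⁻¹} : Set G)) = Nat.card (Subgroup.centralizer ({g} : Set G)) := by
  refine Nat.card_congr
    { toFun := fun w => ⟨c⁻¹ * (w : G) * c, ?_⟩
      invFun := fun w => ⟨c * (w : G) * c⁻¹, ?_⟩
      left_inv := fun w => Subtype.ext (by simp [mul_assoc])
      right_inv := fun w => Subtype.ext (by simp [mul_assoc]) }
  · have h := Subgroup.mem_centralizer_singleton_iff.mp w.2
    rw [Subgroup.mem_centralizer_singleton_iff]
    calc c⁻¹ * (w : G) * c * g = c⁻¹ * ((w : G) * (c * g * c⁻¹)) * c := by group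
      _ = c⁻¹ * (c * g * c⁻¹ * (w : G)) * c := by rw [h]
      _ = g * (c⁻¹ * (w : G) * c) := by group
  · have h := Subgroup.mem_centralizer_singleton_iff.mp w.2
    rw [Subgroup.mem_centralizer_singleton_iff]
    calc c * (w : G) * c⁻¹ * (c * g * c⁻¹) = c * ((w : G) * g) * c⁻¹ := by group
      _ = c * (g * (w : G)) * c⁻¹ := by rw [h]
      _ = c * g * c⁻¹ * (c * (w : G) * c⁻¹) := by group

/-- A combination with local coefficients vanishing on singular elements is divisible, at a regular element,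
by the order of its centraliser. -/
theorem div_centralizer_mem (hM : IsPModular p M) (s : Finset (IrrCharacter G)) (a : IrrCharacter G → ℂ)
    (ha : ∀ χ ∈ s, a χ ∈ locRing M) (hv : ∀ g : G, p ∣ orderOf g → ∑ χ ∈ s, a χ * (χ : G → ℂ) g = 0)
    {x : G} (hx : ¬ p ∣ orderOf x) :
    (∑ χ ∈ s, a χ * (χ : G → ℂ) x) / (Nat.card (Subgroup.centralizer ({x} : Set G)) : ℂ) ∈ locRing M := by
  obtain ⟨K, hKd⟩ : ∃ K : Subgroup G, K = Subgroup.centralizer ({x} : Set G) := ⟨_, rfl⟩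
  subst hKd
  have hmem : x ∈ Subgroup.centralizer ({x} : Set G) := Subgroup.mem_centralizer_singleton_iff.mpr rfl
  let _ := Fintype.ofFinite (Subgroup.centralizer ({x} : Set G))
  let T : Sylow p (Subgroup.centralizer ({x} : Set G)) := Classical.arbitrary _
  let _ := Fintype.ofFinite (T : Subgroup (Subgroup.centralizer ({x} : Set G)))
  obtain ⟨E, hEd⟩ : ∃ E : IrrCharacter G → ℂ, E = fun (χ : IrrCharacter G) =>
      (Nat.card (T : Subgroup (Subgroup.centralizer ({x} : Set G))) : ℂ)⁻¹ *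
        ∑ t : (T : Subgroup (Subgroup.centralizer ({x} : Set G))),
          (χ : G → ℂ) (x * ((t : Subgroup.centralizer ({x} : Set G)) : G)) := ⟨_, rfl⟩
  have hE : ∀ χ, E χ ∈ locRing M := by
    intro χ
    have hcl : IsClassFunction (Subgroup.centralizer ({x} : Set G))
        (fun c : Subgroup.centralizer ({x} : Set G) => (χ : G → ℂ) (x * (c : G))) := by
      intro c d
      simp only [Subgroup.coe_mul, Subgroup.coe_inv]
      rw [show x * ((d : G) * (c : G) * (d : G)⁻¹) = (d : G) * (x * (c : G)) * (d : G)⁻¹ by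
        rw [← mul_assoc, ← mul_assoc, ← mul_assoc, (commute_of_mem_centralizer d).eq],
        isClassFunction_of_isIrr χ.2]
    have hexp : ∀ c : Subgroup.centralizer ({x} : Set G), (χ : G → ℂ) (x * (c : G)) =
        ∑ φ : IrrCharacter (Subgroup.centralizer ({x} : Set G)),
          centScal φ ⟨x, hmem⟩ * classInner (fun c : Subgroup.centralizer ({x} : Set G) => (χ : G → ℂ) c)
            (φ : _ → ℂ) * (φ : Subgroup.centralizer ({x} : Set G) → ℂ) c := fun c => by
      have h := congrFun (classFun_eq_sum hcl) c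
      simpa only [Finset.sum_apply, Pi.smul_apply, smul_eq_mul, classInner_shift hmem] using h
    rw [hEd]; beta_reduce
    simp only [hexp]
    rw [Finset.sum_comm, Finset.mul_sum]
    refine Subring.sum_mem _ fun φ _ => ?_
    rw [← Finset.mul_sum, mul_left_comm]
    obtain ⟨m, hm⟩ := classInner_char_nat
      (isCharacter_res (T : Subgroup (Subgroup.centralizer ({x} : Set G))) (isCharacter_of_isIrr φ.2))
      (isCharacter_of_isIrr (irrOne : IrrCharacter (T : Subgroup (Subgroup.centralizer ({x} : Set G)))).2)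
    refine Subring.mul_mem _ (algInt_le_locRing M ?_) ?_
    · obtain ⟨k, hk⟩ := classInner_char_nat
        (isCharacter_res (Subgroup.centralizer ({x} : Set G)) (isCharacter_of_isIrr χ.2))
        (isCharacter_of_isIrr φ.2)
      rw [hk]
      exact (isIntegral_centScal φ (mem_center_centralizer hmem)).mul (isIntegral_algebraMap (x := (k : ℤ)))
    · replace hm : classInner (fun t : (T : Subgroup (Subgroup.centralizer ({x} : Set G))) =>
          (φ : Subgroup.centralizer ({x} : Set G) → ℂ) t) (fun _ => (1 : ℂ)) = m := hm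
      rw [classInner_one_right] at hm
      rw [hm]
      exact natCast_mem _ m
  have hEx : ∑ χ ∈ s, a χ * E χ =
      (∑ χ ∈ s, a χ * (χ : G → ℂ) x) / (Nat.card (T : Subgroup (Subgroup.centralizer ({x} : Set G))) : ℂ) := by
    rw [hEd, div_eq_inv_mul]; beta_reduce
    simp only [Finset.mul_sum]
    rw [Finset.sum_comm, Finset.sum_eq_single (1 : (T : Subgroup (Subgroup.centralizer ({x} : Set G))))]
    · exact Finset.sum_congr rfl fun χ _ => by rw [Subgroup.coe_one, Subgroup.coe_one, mul_one]; ring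
    · intro t _ ht
      have h := hv (x * ((t : Subgroup.centralizer ({x} : Set G)) : G)) ?_
      · calc ∑ χ ∈ s, a χ * ((Nat.card (T : Subgroup (Subgroup.centralizer ({x} : Set G))) : ℂ)⁻¹ *
              (χ : G → ℂ) (x * ((t : Subgroup.centralizer ({x} : Set G)) : G)))
            = (Nat.card (T : Subgroup (Subgroup.centralizer ({x} : Set G))) : ℂ)⁻¹ * ∑ χ ∈ s,
              a χ * (χ : G → ℂ) (x * ((t : Subgroup.centralizer ({x} : Set G)) : G)) := by
              rw [Finset.mul_sum]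
              exact Finset.sum_congr rfl fun χ _ => by ring
          _ = 0 := by rw [h, mul_zero]
      · obtain ⟨k, hk⟩ := exists_pow_of_mem T.isPGroup' t.2
        have hk0 : k ≠ 0 := fun h0 => ht (Subtype.ext (orderOf_eq_one_iff.mp (by rw [hk, h0, pow_zero])))
        rw [← Subgroup.orderOf_coe] at hk
        have hc : Commute x ((t : Subgroup.centralizer ({x} : Set G)) : G) := commute_of_mem_centralizer _
        rw [hc.orderOf_mul_eq_mul_orderOf_of_coprime (by
          rw [hk]; exact (Nat.Coprime.pow_left k (hp.out.coprime_iff_not_dvd.mpr hx)).symm), hk]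
        exact (dvd_pow_self p hk0).mul_left _
    · simp
  obtain ⟨m, hm⟩ := Subgroup.card_subgroup_dvd_card (T : Subgroup (Subgroup.centralizer ({x} : Set G)))
  have hm' : ¬ p ∣ m := by
    intro h
    refine T.not_dvd_index ?_
    have h1 := Subgroup.card_mul_index (T : Subgroup (Subgroup.centralizer ({x} : Set G)))
    rw [hm] at h1
    rwa [Nat.eq_of_mul_eq_mul_left Nat.card_pos h1]
  rw [hm, Nat.cast_mul, ← div_div, ← hEx, div_eq_mul_inv]
  exact Subring.mul_mem _ (Subring.sum_mem _ fun χ hχ => Subring.mul_mem _ (ha χ hχ) (hE χ))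
    (natCast_inv_mem_locRing hM hm')

/-- The part on a section is a local integer divisible by the centraliser up to `p ^ d`. -/
theorem secH_div_mem (hM : IsPModular p M) {x : G} {H : Subgroup G}
    (hH : H = Subgroup.centralizer ({x} : Set G)) (hx : ∃ k : ℕ, orderOf x = p ^ k)
    {b : Set (IrrCharacter H)} (hb : IsPBlock M b) (χ : IrrCharacter G) {s : H} (hs : ¬ p ∣ orderOf s) :
    secH x H b χ s ∈ locRing M ∧ ((p ^ blockDefect p b : ℕ) : ℂ) * secH x H b χ s /
      (Nat.card (Subgroup.centralizer ({x * (s : G)} : Set G)) : ℂ) ∈ locRing M := by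
  subst hH
  have hmem : x ∈ Subgroup.centralizer ({x} : Set G) := Subgroup.mem_centralizer_singleton_iff.mpr rfl
  let _ := Fintype.ofFinite (Subgroup.centralizer ({x} : Set G))
  rw [show secH x _ b χ s = secPart x b χ s from rfl]
  refine ⟨algInt_le_locRing M (isIntegral_secPart χ hmem s), ?_⟩
  rw [card_centralizer_shift hx hs, secPart, blockPart_apply, Finset.mul_sum, Finset.sum_div]
  refine Subring.sum_mem _ fun φ _ => ?_
  split_ifs with hφ
  swap
  · rw [mul_zero, zero_div]; exact zero_mem _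
  obtain ⟨k, hk⟩ := classInner_char_nat
    (isCharacter_res (Subgroup.centralizer ({x} : Set G)) (isCharacter_of_isIrr χ.2))
    (isCharacter_of_isIrr φ.2)
  have hco : classInner (fun c : Subgroup.centralizer ({x} : Set G) => (χ : G → ℂ) (x * (c : G)))
      (φ : _ → ℂ) ∈ locRing M := by
    rw [classInner_shift hmem, hk]
    exact algInt_le_locRing M ((isIntegral_centScal φ (mem_center_centralizer hmem)).mul
      (isIntegral_algebraMap (x := (k : ℤ))))
  have hone := irr_one_ne_zero φ.2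
  have hK : (Nat.card (Subgroup.centralizer ({x} : Set G)) : ℂ) ≠ 0 := Nat.cast_ne_zero.mpr Nat.card_pos.ne'
  have hidx : (Nat.card (Subgroup.centralizer ({s} : Set (Subgroup.centralizer ({x} : Set G)))) : ℂ) *
      ((Subgroup.centralizer ({s} : Set (Subgroup.centralizer ({x} : Set G)))).index : ℂ) =
      (Nat.card (Subgroup.centralizer ({x} : Set G)) : ℂ) := by
    exact_mod_cast Subgroup.card_mul_index _
  have hC : (Nat.card (Subgroup.centralizer ({s} : Set (Subgroup.centralizer ({x} : Set G)))) : ℂ) ≠ 0 :=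
    Nat.cast_ne_zero.mpr Nat.card_pos.ne'
  have key : ((p ^ blockDefect p b : ℕ) : ℂ) *
      (classInner (fun c : Subgroup.centralizer ({x} : Set G) => (χ : G → ℂ) (x * (c : G))) (φ : _ → ℂ) *
        (φ : Subgroup.centralizer ({x} : Set G) → ℂ) s) /
      (Nat.card (Subgroup.centralizer ({s} : Set (Subgroup.centralizer ({x} : Set G)))) : ℂ) =
      classInner (fun c : Subgroup.centralizer ({x} : Set G) => (χ : G → ℂ) (x * (c : G))) (φ : _ → ℂ) *
        centralChar (φ : Subgroup.centralizer ({x} : Set G) → ℂ) s *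
        (((p ^ blockDefect p b * charDegree (φ : Subgroup.centralizer ({x} : Set G) → ℂ) : ℕ) : ℂ) /
          (Nat.card (Subgroup.centralizer ({x} : Set G)) : ℂ)) := by
    rw [Nat.cast_mul, CfsgLib.CharBlocks.coe_charDegree_irr, centralChar]
    field_simp
    linear_combination (-((p ^ blockDefect p b : ℕ) : ℂ) * (classInner (fun c : Subgroup.centralizer ({x} : Set G) => (χ : G → ℂ) (x * (c : G)))
      (φ : _ → ℂ) * (φ : Subgroup.centralizer ({x} : Set G) → ℂ) s)) * hidx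
  rw [key]
  refine Subring.mul_mem _ (Subring.mul_mem _ hco (algInt_le_locRing M (isIntegral_centralChar φ.2 _)))
    (frac_mem_locRing hM Nat.card_pos.ne' (Or.inr ?_))
  rw [Nat.factorization_mul (pow_ne_zero _ hp.out.ne_zero) (CfsgLib.CharBlocks.charDegree_pos φ.2).ne',
    Finsupp.coe_add, Pi.add_apply, Nat.Prime.factorization_pow hp.out, Finsupp.single_eq_same]
  have := degree_height hM hb hφ
  omega

variable {B : Set (IrrCharacter G)} {P : Subgroup G} {c : Set (IrrCharacter (Cen P))}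
  {β : (y : P) → Set (IrrCharacter (Cen (Subgroup.zpowers (y : G))))}

/-- The non-exceptional characters. -/
def CycData.nonexc (S : CycData p M B P c β) : Finset (IrrCharacter G) :=
  Finset.univ.filter (fun χ => χ ∈ B ∧ ∀ θ ∈ S.Θ, S.η θ ≠ χ)

omit hp in
theorem CycData.mem_nonexc (S : CycData p M B P c β) {χ : IrrCharacter G} :
    χ ∈ S.nonexc ↔ χ ∈ B ∧ ∀ θ ∈ S.Θ, S.η θ ≠ χ := by
  simp [CycData.nonexc]

omit hp in
theorem CycData.sum_split (S : CycData p M B P c β) {R : Type*} [AddCommMonoid R] (h : IrrCharacter G → R) :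
    ∑ χ ∈ Finset.univ.filter (· ∈ B), h χ = ∑ θ ∈ S.Θ, h (S.η θ) + ∑ χ ∈ S.nonexc, h χ := by
  rw [← Finset.sum_image S.hηinj, ← Finset.sum_union]
  · refine Finset.sum_congr ?_ fun _ _ => rfl
    ext χ
    simp only [Finset.mem_filter, Finset.mem_univ, true_and, Finset.mem_union, Finset.mem_image, S.mem_nonexc]
    constructor
    · intro hχ
      by_cases hex : ∃ θ ∈ S.Θ, S.η θ = χ
      · exact Or.inl hex
      · push Not at hex
        exact Or.inr ⟨hχ, hex⟩
    · rintro (⟨θ, hθ, rfl⟩ | h1)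
      · exact S.hηB θ hθ
      · exact h1.1
  · refine Finset.disjoint_left.mpr fun χ h1 h2 => ?_
    obtain ⟨θ, hθ, rfl⟩ := Finset.mem_image.mp h1
    exact (S.mem_nonexc.mp h2).2 θ hθ rfl

omit hp in
theorem CycData.card_nonexc (S : CycData p M B P c β) : S.nonexc.card = Nat.card S.A := by
  have h := S.sum_split (R := ℕ) fun _ => 1
  simp only [Finset.sum_const, smul_eq_mul, mul_one] at h
  have h1 : Nat.card B = (Finset.univ.filter (· ∈ B)).card := by
    rw [Nat.card_eq_fintype_card, Fintype.card_subtype]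
  rw [← h1, S.hk, ← S.hA] at h
  omega

omit hp in
theorem CycData.fη_orb (S : CycData p M B P c β) {θ : IrrCharacter P} (hθ : θ ∈ S.Θ) {y : P} (hy : y ≠ 1) :
    S.f (S.η θ) y = (S.δ₀ : ℂ) * CyclicOrbits.orb S.A (θ : P → ℂ) y := by
  rw [S.hfη θ hθ y hy, CyclicOrbits.orb,
    show (∑ᶠ a ∈ S.A, (θ : P → ℂ) (a y)) = ∑ᶠ a ∈ (S.A : Set (MulAut P)), (θ : P → ℂ) (a y) from rfl,
    finsum_mem_eq_finite_toFinset_sum _ (Set.toFinite _)]
  congr 1
  exact Finset.sum_subtype _ (fun a => Set.Finite.mem_toFinset _) (fun a : MulAut P => (θ : P → ℂ) (a y))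

omit hp in
/-- The values at a regular element are orthogonal to the functions `f`. -/
theorem sum_f_reg (S : CycData p M B P c β) (hab : ∀ x y : P, x * y = y * x) {g : G} (hg : ¬ p ∣ orderOf g)
    {y : P} (hy : y ≠ 1) : ∑ χ ∈ Finset.univ.filter (· ∈ B), (χ : G → ℂ) g * S.f χ y = 0 := by
  obtain ⟨E, hE⟩ : ∃ E, E = ∑ χ ∈ S.nonexc, (S.δ χ : ℂ) * (χ : G → ℂ) g := ⟨_, rfl⟩
  rw [S.sum_split, Finset.sum_congr (s₁ := S.Θ) rfl (g := fun (θ : IrrCharacter P) => -E * CyclicOrbits.orb S.A (θ : P → ℂ) y)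
    (fun θ hθ => ?_), Finset.sum_congr (s₁ := S.nonexc) rfl (g := fun χ => -((S.δ χ : ℂ) * (χ : G → ℂ) g))
    (fun χ hχ => ?_), ← Finset.mul_sum, Finset.sum_neg_distrib, ← hE,
    CyclicOrbits.sum_orb hab S.hAfree S.hΘnt S.hΘcov S.hΘuniq hy]
  · ring
  · rw [S.hfX χ (S.mem_nonexc.mp hχ).1 (S.mem_nonexc.mp hχ).2 y hy]; ring
  · have h := S.hreg θ hθ g hg
    rw [show Finset.univ.filter (fun χ => χ ∈ B ∧ ∀ θ ∈ S.Θ, S.η θ ≠ χ) = S.nonexc from rfl, ← hE] at h
    rw [S.fη_orb hθ hy]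
    linear_combination CyclicOrbits.orb S.A (θ : P → ℂ) y * h

omit hp in
/-- The functions `f` at two elements. -/
theorem sum_f_mul (S : CycData p M B P c β) (hab : ∀ x y : P, x * y = y * x) {y y' : P} (hy : y ≠ 1)
    (hy' : y' ≠ 1) :
    ∑ χ ∈ Finset.univ.filter (· ∈ B), S.f χ y * S.f χ y' = (Nat.card P : ℂ) *
      ((Finset.univ.filter fun a : S.A => y * (a : MulAut P) y' = 1).card : ℂ) := by
  have hpos : 0 < Nat.card P := Nat.card_pos
  have h0 : (S.δ₀ : ℂ) * S.δ₀ = 1 := by rcases S.hδ₀ with h | h <;> simp [h]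
  have hΘ : (S.Θ.card : ℂ) * (Fintype.card S.A : ℂ) = (Nat.card P : ℂ) - 1 := by
    rw [← Nat.cast_mul, ← Nat.card_eq_fintype_card, S.hΘcard, Nat.cast_sub hpos, Nat.cast_one]
  have hu : ∀ u : P, ∑ θ ∈ S.Θ, CyclicOrbits.orb S.A (θ : P → ℂ) u =
      (if u = 1 then (Nat.card P : ℂ) else 0) - 1 := by
    intro u
    split_ifs with h
    · subst h
      simp only [CyclicOrbits.orb_one hab, Finset.sum_const, nsmul_eq_mul, hΘ]
    · rw [CyclicOrbits.sum_orb hab S.hAfree S.hΘnt S.hΘcov S.hΘuniq h]; ring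
  have hprod : ∀ θ : IrrCharacter P, CyclicOrbits.orb S.A (θ : P → ℂ) y * CyclicOrbits.orb S.A (θ : P → ℂ) y' =
      ∑ a : S.A, CyclicOrbits.orb S.A (θ : P → ℂ) (y * (a : MulAut P) y') := by
    intro θ
    simp only [CyclicOrbits.orb, Finset.sum_mul]
    rw [Finset.sum_comm (s := (Finset.univ : Finset S.A)) (t := (Finset.univ : Finset S.A))]
    refine Finset.sum_congr rfl fun b _ => ?_
    rw [← Fintype.sum_equiv (Equiv.mulLeft b) (fun a : S.A => (θ : P → ℂ) (((b * a : S.A) : MulAut P) y'))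
      (fun a : S.A => (θ : P → ℂ) ((a : MulAut P) y')) fun a => rfl, Finset.mul_sum]
    exact Finset.sum_congr rfl fun a _ => by
      rw [map_mul, CyclicOrbits.irr_mul hab, Subgroup.coe_mul, MulAut.mul_apply]
  rw [S.sum_split, Finset.sum_congr (s₁ := S.Θ) rfl
      (g := fun (θ : IrrCharacter P) => ∑ a : S.A, CyclicOrbits.orb S.A (θ : P → ℂ) (y * (a : MulAut P) y'))
      (fun θ hθ => by
        rw [← hprod θ, S.fη_orb hθ hy, S.fη_orb hθ hy']
        linear_combination CyclicOrbits.orb S.A (θ : P → ℂ) y * CyclicOrbits.orb S.A (θ : P → ℂ) y' * h0),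
    Finset.sum_congr (s₁ := S.nonexc) rfl (g := fun _ => (1 : ℂ))
      (fun χ hχ => by
        rw [S.hfX χ (S.mem_nonexc.mp hχ).1 (S.mem_nonexc.mp hχ).2 y hy,
          S.hfX χ (S.mem_nonexc.mp hχ).1 (S.mem_nonexc.mp hχ).2 y' hy']
        rcases S.hδ χ with h | h <;> simp [h]),
    Finset.sum_comm]
  simp only [hu, Finset.sum_sub_distrib, Finset.sum_const, nsmul_eq_mul, mul_one, S.card_nonexc,
    Finset.card_univ, Nat.card_eq_fintype_card (α := S.A), sub_add_cancel]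
  rw [← Finset.sum_filter, Finset.sum_const, nsmul_eq_mul, mul_comm]

/-- The values at a singular element through the functions `f`. -/
theorem exists_expansion (hM : IsPModular p M) (hmax : IsMaximalBrauerPair p M B P c)
    (hab : ∀ x ∈ P, ∀ y ∈ P, x * y = y * x)
    (hβ : ∀ y : P, SubpairLE p M (Subgroup.zpowers (y : G)) (β y) P c) (S : CycData p M B P c β)
    {g : G} (hg : p ∣ orderOf g) :
    ∃ (n : ℕ) (y : Fin n → P) (W : Fin n → ℂ), (∀ i, y i ≠ 1) ∧
      (∀ i, W i ∈ locRing M ∧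
        (Nat.card P : ℂ) * W i / (Nat.card (Subgroup.centralizer ({g} : Set G)) : ℂ) ∈ locRing M) ∧
      ∀ χ ∈ B, (χ : G → ℂ) g = ∑ i, S.f χ (y i) * W i := by
  have hB := hmax.1.2.1
  have hP := hmax.1.1
  have hcardP : Nat.card P = p ^ blockDefect p B :=
    card_defectGroup hM hB (isDefectGroup_of_maximal hM hmax)
  obtain ⟨x, s', hgx, hxs, hx, hs'⟩ := exists_isPPart (p := p) g
  have hx1 : x ≠ 1 := fun h => hs' (by rw [← hgx, h, one_mul] at hg; exact hg)
  obtain ⟨H, hH⟩ : ∃ H : Subgroup G, H = Cen (Subgroup.zpowers x) := ⟨_, rfl⟩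
  subst hH
  have hsH : s' ∈ Cen (Subgroup.zpowers x) := by
    rw [cen_zpowers]; exact Subgroup.mem_centralizer_singleton_iff.mpr hxs.eq.symm
  have hsreg : ¬ p ∣ orderOf (⟨s', hsH⟩ : Cen (Subgroup.zpowers x)) := by rwa [Subgroup.orderOf_mk]
  let _ := Fintype.ofFinite (Cen (Subgroup.zpowers x))
  let _ := Fintype.ofFinite {b : Set (IrrCharacter (Cen (Subgroup.zpowers x))) // IsPBlock M b}
  obtain ⟨χ₀, hχ₀⟩ : S.nonexc.Nonempty := Finset.card_pos.mp (by rw [S.card_nonexc]; exact Nat.card_pos)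
  have key : ∀ b : {b : {b : Set (IrrCharacter (Cen (Subgroup.zpowers x))) // IsPBlock M b} //
      IsInducedBlock M (Cen (Subgroup.zpowers x)) b.1 B}, ∃ (y : P) (W : ℂ), y ≠ 1 ∧
      (W ∈ locRing M ∧
        (Nat.card P : ℂ) * W / (Nat.card (Subgroup.centralizer ({g} : Set G)) : ℂ) ∈ locRing M) ∧
      ∀ χ, secH x (Cen (Subgroup.zpowers x)) b.1.1 χ ⟨s', hsH⟩ = S.f χ y * W := by
    rintro ⟨⟨b, hbb⟩, hb⟩
    have hbp := (brauerPairOf_iff_induced hM (isPGroup_zpowers hx) hbb hB).mpr hb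
    obtain ⟨g₀, hg₀⟩ := exists_conj_le_maximal hM (a := ⟨Subgroup.zpowers x, b⟩) (b := ⟨P, c⟩) hmax hbp
    have hy'P : g₀ * x * g₀⁻¹ ∈ P := subgroup_le hg₀ (by
      rw [cjPair_fst, map_conj_zpowers]; exact Subgroup.mem_zpowers _)
    obtain ⟨y, hyd⟩ : ∃ y : P, y = ⟨_, hy'P⟩ := ⟨_, rfl⟩
    have hyG : (y : G) = g₀ * x * g₀⁻¹ := congrArg Subtype.val hyd
    have hy1 : y ≠ 1 := fun h => hx1 (conj_eq_one_iff.mp (hyG.symm.trans (congrArg Subtype.val h)))
    have hpair := (brauerPairOf_iff_of_subpair hM (a := ⟨_, β y⟩) (b := ⟨P, c⟩) (hβ y)).mp hmax.1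
    have hblk : IsPBlock M (β y) := hpair.1.2
    have hpe : cjPair g₀ (⟨Subgroup.zpowers x, b⟩ : BrauerPairIdx G) = ⟨_, β y⟩ :=
      pair_eq_of_le hM hP hg₀ (hβ y) (by rw [cjPair_fst, map_conj_zpowers]; exact congrArg Subgroup.zpowers hyG.symm)
    have hiff : ∀ z, z ∈ Cen (Subgroup.zpowers (y : G)) ↔ g₀⁻¹ * z * g₀ ∈ Cen (Subgroup.zpowers x) := fun z => by
      rw [hyG, ← map_conj_zpowers]
      exact mem_centralizer_map_conj
    let _ := Fintype.ofFinite (Cen (Subgroup.zpowers (y : G)))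
    have htb : tblock (conjEquiv g₀ _ _ hiff) b = β y := by
      refine gidem_inj (M := M) (isPBlock_tblock _ hbb) hblk ?_
      rw [gidem_tblock]
      have h2 := congrArg (pid M) hpe
      rwa [pid_cjPair] at h2
    obtain ⟨es, hesd⟩ : ∃ es, es = conjEquiv g₀ _ _ hiff ⟨s', hsH⟩ := ⟨_, rfl⟩
    have hesreg : ¬ p ∣ orderOf es := by rwa [hesd, MulEquiv.orderOf_eq]
    have hesG : (es : G) = g₀ * s' * g₀⁻¹ := by rw [hesd]; rfl
    have hval : ∀ χ, secH x (Cen (Subgroup.zpowers x)) b χ ⟨s', hsH⟩ = S.f χ y * S.w y es := by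
      intro χ
      rw [← S.hsec y hy1 χ es hesreg, secH, secH, ← htb, hesd, blockPart_tblock]
      refine congrArg (fun h => blockPart b h _) (funext fun k => ?_)
      rw [show ((conjEquiv g₀ _ _ hiff k : Cen (Subgroup.zpowers (y : G))) : G) = g₀ * (k : G) * g₀⁻¹ from rfl, hyG,
        show g₀ * x * g₀⁻¹ * (g₀ * (k : G) * g₀⁻¹) = g₀ * (x * (k : G)) * g₀⁻¹ by group,
        isClassFunction_of_isIrr χ.2]
    refine ⟨y, S.w y es, hy1, ?_, hval⟩
    have hPC : P ≤ Cen (Subgroup.zpowers (y : G)) := fun z hz =>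
      Subgroup.mem_centralizer_iff.mpr fun q hq => hab q (Subgroup.zpowers_le.mpr y.2 hq) z hz
    have hdef : p ^ blockDefect p (β y) = Nat.card P := by
      have h2 := card_defectGroup hM hblk (pairs_defect hM hmax hab (Q := Subgroup.zpowers (y : G)) (f := β y) (hβ y))
      rw [← card_subgroupOf' hPC, h2]
    obtain ⟨h1, h2⟩ := secH_div_mem hM (cen_zpowers (y : G)) (exists_pow_of_mem hP.1 y.2) hblk χ₀ hesreg
    have hcen : Nat.card (Subgroup.centralizer ({(y : G) * (es : G)} : Set G)) =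
        Nat.card (Subgroup.centralizer ({g} : Set G)) := by
      rw [hesG, hyG, show g₀ * x * g₀⁻¹ * (g₀ * s' * g₀⁻¹) = g₀ * (x * s') * g₀⁻¹ by group,
        card_centralizer_conjElt, hgx]
    rw [hdef, hcen] at h2
    rw [S.hsec y hy1 χ₀ es hesreg] at h1 h2
    rw [S.hfX χ₀ (S.mem_nonexc.mp hχ₀).1 (S.mem_nonexc.mp hχ₀).2 y hy1] at h1 h2
    rcases S.hδ χ₀ with h | h <;> rw [h] at h1 h2
    · push_cast at h1 h2
      rw [neg_one_mul] at h1 h2
      refine ⟨by simpa using neg_mem h1, ?_⟩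
      simpa [neg_div] using neg_mem h2
    · push_cast at h1 h2
      rw [neg_neg, one_mul] at h1 h2
      exact ⟨h1, h2⟩
  choose yb Wb hyb hWb hvb using key
  refine ⟨Fintype.card {b : {b : Set (IrrCharacter (Cen (Subgroup.zpowers x))) // IsPBlock M b} //
      IsInducedBlock M (Cen (Subgroup.zpowers x)) b.1 B},
    fun i => yb ((Fintype.equivFin _).symm i), fun i => Wb ((Fintype.equivFin _).symm i),
    fun i => hyb _, fun i => hWb _, fun χ hχ => ?_⟩
  rw [← hgx, ← sum_inducingH (cen_zpowers x) hM hx hB χ hχ hsreg, ← Finset.sum_filter,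
    Finset.sum_subtype (p := fun b : {b : Set (IrrCharacter (Cen (Subgroup.zpowers x))) // IsPBlock M b} =>
      IsInducedBlock M (Cen (Subgroup.zpowers x)) b.1 B) _ (fun b => by simp)]
  exact Fintype.sum_equiv (Fintype.equivFin _) _ _ fun b => by simp only [hvb b χ, Equiv.symm_apply_apply]

variable {H : Type v} [Group H] [Fintype H] {b : Set (IrrCharacter H)} {P' : Subgroup H}
  {c' : Set (IrrCharacter (Cen P'))} {β' : (y : P') → Set (IrrCharacter (Cen (Subgroup.zpowers (y : H))))}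

/-- **A signed bijection matching the functions `f` is a perfect isometry.** -/
theorem isPerfect_of_match (hM : IsPModular p M) (hmax : IsMaximalBrauerPair p M B P c) (hcyc : IsCyclic P)
    (hβ : ∀ y : P, SubpairLE p M (Subgroup.zpowers (y : G)) (β y) P c) (S : CycData p M B P c β)
    (hmax' : IsMaximalBrauerPair p M b P' c')
    (hβ' : ∀ y : P', SubpairLE p M (Subgroup.zpowers (y : H)) (β' y) P' c') (S' : CycData p M b P' c' β')
    (ψ : P' ≃* P) {I : IrrCharacter H → IrrCharacter G} {ε : IrrCharacter H → ℤ} (hI : Set.BijOn I b B)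
    (hε : ∀ η ∈ b, ε η = 1 ∨ ε η = -1)
    (hmatch : ∀ η ∈ b, ∀ y : P', y ≠ 1 → (ε η : ℂ) * S.f (I η) (ψ y) = S'.f η y) :
    IsPerfectIsometry p M b B I ε := by
  have hab : ∀ x ∈ P, ∀ y ∈ P, x * y = y * x := fun a ha d hd => by
    have := hcyc.commutative
    exact congrArg Subtype.val (mul_comm' (⟨a, ha⟩ : P) ⟨d, hd⟩)
  have habP : ∀ x y : P, x * y = y * x := fun x y => Subtype.ext (hab _ x.2 _ y.2)
  have habP' : ∀ x y : P', x * y = y * x := fun x y => ψ.injective (by rw [map_mul, map_mul, habP])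
  have hab' : ∀ x ∈ P', ∀ y ∈ P', x * y = y * x := fun a ha d hd =>
    congrArg Subtype.val (habP' ⟨a, ha⟩ ⟨d, hd⟩)
  have hψ1 : ∀ {y : P'}, y ≠ 1 → ψ y ≠ 1 := fun hy h => hy (ψ.injective (by rw [h, map_one]))
  have hψ1' : ∀ {y : P}, y ≠ 1 → ψ.symm y ≠ 1 := fun hy h => hy (ψ.symm.injective (by rw [h, map_one]))
  have hsq : ∀ η ∈ b, (ε η : ℂ) * ε η = 1 := fun η hη => by rcases hε η hη with h | h <;> simp [h]
  obtain ⟨bF, hbF⟩ : ∃ bF : Finset (IrrCharacter H), bF = Finset.univ.filter (· ∈ b) := ⟨_, rfl⟩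
  have hmem : ∀ {η}, η ∈ bF ↔ η ∈ b := fun {η} => by rw [hbF]; simp
  have hμ : ∀ x z, signedBijectionKernel b I ε x z =
      ∑ η ∈ bF, (ε η : ℂ) * (I η : G → ℂ) x * (η : H → ℂ) z := fun x z => by
    rw [signedBijectionKernel, finsum_mem_eq_finite_toFinset_sum _ (Set.toFinite _)]
    exact Finset.sum_congr (by ext η; simp [hmem]) fun _ _ => rfl
  have hchg : ∀ h : IrrCharacter G → ℂ, ∑ η ∈ bF, h (I η) = ∑ χ ∈ Finset.univ.filter (· ∈ B), h χ := fun h =>
    Finset.sum_nbij I (fun η hη => by simpa using hI.mapsTo (hmem.mp hη))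
      (fun η hη η' hη' he => hI.injOn (hmem.mp hη) (hmem.mp hη') he)
      (fun χ hχ => by
        obtain ⟨η, hη, rfl⟩ := hI.surjOn (show χ ∈ B by simpa using hχ)
        exact ⟨η, hmem.mpr hη, rfl⟩) fun η _ => rfl
  have : Nonempty (IrrCharacter H) := ⟨irrOne⟩
  obtain ⟨J, hJd⟩ : ∃ J : IrrCharacter G → IrrCharacter H, J = Function.invFunOn I b := ⟨_, rfl⟩
  have hJ : ∀ η ∈ b, J (I η) = η := fun η hη => by rw [hJd]; exact hI.injOn.leftInvOn_invFunOn hη
  have hA : ∀ x z, signedBijectionKernel b I ε x z =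
      ∑ χ ∈ Finset.univ.filter (· ∈ B), ((ε (J χ) : ℂ) * (J χ : H → ℂ) z) * (χ : G → ℂ) x := fun x z => by
    rw [hμ, ← hchg fun χ => ((ε (J χ) : ℂ) * (J χ : H → ℂ) z) * (χ : G → ℂ) x]
    exact Finset.sum_congr rfl fun η hη => by rw [hJ η (hmem.mp hη)]; ring
  have hA' : ∀ x z, signedBijectionKernel b I ε x z =
      ∑ η ∈ Finset.univ.filter (· ∈ b), ((ε η : ℂ) * (I η : G → ℂ) x) * (η : H → ℂ) z := fun x z => by
    rw [hμ, hbF]
  have hmix : ∀ x z, ¬ p ∣ orderOf x → p ∣ orderOf z → signedBijectionKernel b I ε x z = 0 := by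
    intro x z hx hz
    rw [hA']
    refine S'.hsing (fun η => (ε η : ℂ) * (I η : G → ℂ) x) (fun y hy => ?_) z hz
    rw [← hbF, ← sum_f_reg S habP hx (hψ1 hy), ← hchg fun χ => (χ : G → ℂ) x * S.f χ (ψ y)]
    exact Finset.sum_congr rfl fun η hη => by
      rw [← hmatch η (hmem.mp hη) y hy]
      linear_combination (I η : G → ℂ) x * S.f (I η) (ψ y) * hsq η (hmem.mp hη)
  have hmix' : ∀ x z, p ∣ orderOf x → ¬ p ∣ orderOf z → signedBijectionKernel b I ε x z = 0 := by
    intro x z hx hz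
    rw [hA]
    refine S.hsing (fun χ => (ε (J χ) : ℂ) * (J χ : H → ℂ) z) (fun y hy => ?_) x hx
    rw [← hchg fun χ => (ε (J χ) : ℂ) * (J χ : H → ℂ) z * S.f χ y, ← sum_f_reg S' habP' hz (hψ1' hy), ← hbF]
    exact Finset.sum_congr rfl fun η hη => by
      rw [hJ η (hmem.mp hη), ← hmatch η (hmem.mp hη) _ (hψ1' hy), ψ.apply_symm_apply]; ring
  have hint : ∀ (η : IrrCharacter H) z, (ε η : ℂ) * (η : H → ℂ) z ∈ locRing M := fun η z =>
    Subring.mul_mem _ (intCast_mem _ _) (algInt_le_locRing M (char_isIntegral (isCharacter_of_isIrr η.2) z))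
  have hint' : ∀ (η : IrrCharacter H) x, (ε η : ℂ) * (I η : G → ℂ) x ∈ locRing M := fun η x =>
    Subring.mul_mem _ (intCast_mem _ _) (algInt_le_locRing M (char_isIntegral (isCharacter_of_isIrr (I η).2) x))
  refine ⟨hI, hε, fun x z => ?_⟩
  by_cases hx : p ∣ orderOf x <;> by_cases hz : p ∣ orderOf z
  · obtain ⟨n, y, W, hy, hW, hxv⟩ := exists_expansion hM hmax hab hβ S hx
    obtain ⟨n', y', W', hy', hW', hzv⟩ := exists_expansion hM hmax' hab' hβ' S' hz
    have hcard : Nat.card P' = Nat.card P := Nat.card_congr ψ.toEquiv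
    obtain ⟨N, hNd⟩ : ∃ N : Fin n → Fin n' → ℕ, N = fun i j =>
        (Finset.univ.filter fun a : S.A => y i * (a : MulAut P) (ψ (y' j)) = 1).card := ⟨_, rfl⟩
    have hval : signedBijectionKernel b I ε x z = ∑ i, ∑ j, (Nat.card P : ℂ) * (N i j : ℂ) * W i * W' j := by
      rw [hμ, Finset.sum_congr rfl fun η hη => by
        rw [hxv _ (hI.mapsTo (hmem.mp hη)), hzv η (hmem.mp hη), mul_assoc, Finset.sum_mul_sum, Finset.mul_sum],
        Finset.sum_comm]
      refine Finset.sum_congr rfl fun i _ => ?_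
      simp only [Finset.mul_sum]
      rw [Finset.sum_comm]
      refine Finset.sum_congr rfl fun j _ => ?_
      rw [hNd]; beta_reduce
      rw [← sum_f_mul S habP (hy i) (hψ1 (hy' j)), ← hchg fun χ => S.f χ (y i) * S.f χ (ψ (y' j)),
        Finset.sum_mul, Finset.sum_mul]
      exact Finset.sum_congr rfl fun η hη => by
        rw [← hmatch η (hmem.mp hη) (y' j) (hy' j)]
        linear_combination S.f (I η) (y i) * S.f (I η) (ψ (y' j)) * W i * W' j * hsq η (hmem.mp hη)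
    refine ⟨(mem_locRing M).mp ?_, (mem_locRing M).mp ?_, Or.inl ⟨fun h => absurd hx h, fun h => absurd hz h⟩⟩
    · rw [hval, Finset.sum_div]
      refine Subring.sum_mem _ fun i _ => ?_
      rw [Finset.sum_div]
      refine Subring.sum_mem _ fun j _ => ?_
      rw [show (Nat.card P : ℂ) * (N i j : ℂ) * W i * W' j /
          (Nat.card (Subgroup.centralizer ({x} : Set G)) : ℂ) = (N i j : ℂ) *
          ((Nat.card P : ℂ) * W i / (Nat.card (Subgroup.centralizer ({x} : Set G)) : ℂ)) * W' j by ring]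
      exact Subring.mul_mem _ (Subring.mul_mem _ (natCast_mem _ _) (hW i).2) (hW' j).1
    · rw [hval, Finset.sum_div]
      refine Subring.sum_mem _ fun i _ => ?_
      rw [Finset.sum_div]
      refine Subring.sum_mem _ fun j _ => ?_
      rw [show (Nat.card P : ℂ) * (N i j : ℂ) * W i * W' j /
          (Nat.card (Subgroup.centralizer ({z} : Set H)) : ℂ) = (N i j : ℂ) *
          ((Nat.card P : ℂ) * W' j / (Nat.card (Subgroup.centralizer ({z} : Set H)) : ℂ)) * W i by ring,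
        ← hcard]
      exact Subring.mul_mem _ (Subring.mul_mem _ (natCast_mem _ _) (hW' j).2) (hW i).1
  · have h0 := hmix' x z hx hz
    refine ⟨(mem_locRing M).mp ?_, (mem_locRing M).mp ?_, Or.inr h0⟩ <;> rw [h0, zero_div] <;> exact zero_mem _
  · have h0 := hmix x z hx hz
    refine ⟨(mem_locRing M).mp ?_, (mem_locRing M).mp ?_, Or.inr h0⟩ <;> rw [h0, zero_div] <;> exact zero_mem _
  · refine ⟨(mem_locRing M).mp ?_, (mem_locRing M).mp ?_, Or.inl ⟨fun _ => hz, fun _ => hx⟩⟩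
    · rw [hA]
      exact div_centralizer_mem hM _ _ (fun χ _ => hint (J χ) z)
        (fun g hg => by rw [← hA]; exact hmix' g z hg hz) hx
    · rw [hA']
      exact div_centralizer_mem hM _ _ (fun η _ => hint' η x)
        (fun g hg => by rw [← hA']; exact hmix x g hx hg) hz

/-- **Matching bijections exist** when the two groups of automorphisms correspond. -/
theorem exists_match (S : CycData p M B P c β) (S' : CycData p M b P' c' β') (ψ : P' ≃* P)
    (hA : ∀ a : S.A, ∃ a' : S'.A, ∀ y, ψ ((a' : MulAut P') y) = (a : MulAut P) (ψ y))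
    (hcardA : Nat.card S'.A = Nat.card S.A) :
    ∃ (I : IrrCharacter H → IrrCharacter G) (ε : IrrCharacter H → ℤ), Set.BijOn I b B ∧
      (∀ η ∈ b, ε η = 1 ∨ ε η = -1) ∧
      (∀ η ∈ b, ∀ y : P', y ≠ 1 → (ε η : ℂ) * S.f (I η) (ψ y) = S'.f η y) ∧
      (∀ θ ∈ S'.Θ, ε (S'.η θ) = S.δ₀ * S'.δ₀) ∧
      ∀ η ∈ S'.nonexc, I η ∈ S.nonexc ∧ ε η = S.δ (I η) * S'.δ η := by
  have hcardP : Nat.card P' = Nat.card P := Nat.card_congr ψ.toEquiv
  choose a' ha' using hA
  have hbij : Function.Bijective a' := by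
    refine (Fintype.bijective_iff_injective_and_card a').mpr ⟨fun a₁ a₂ h => Subtype.ext (MulEquiv.ext fun y => ?_), ?_⟩
    · have h1 := ha' a₁ (ψ.symm y)
      rw [h, ha' a₂, ψ.apply_symm_apply] at h1
      exact h1.symm
    · rw [← Nat.card_eq_fintype_card, ← Nat.card_eq_fintype_card, hcardA]
  -- exceptional characters
  have hex : ∀ θ' ∈ S'.Θ, ∃ θ ∈ S.Θ, ∃ a : S.A,
      ∀ y, (θ' : P' → ℂ) (ψ.symm y) = (θ : P → ℂ) ((a : MulAut P) y) := fun θ' hθ' =>
    S.hΘcov (tirr ψ θ') fun h => S'.hΘnt θ' hθ' fun y => by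
      have h1 : (θ' : P' → ℂ) (ψ.symm (ψ y)) = 1 := h (ψ y)
      rwa [ψ.symm_apply_apply] at h1
  choose σ hσ a₀ ha₀ using hex
  have horb : ∀ θ' (h : θ' ∈ S'.Θ) y,
      CyclicOrbits.orb S'.A (θ' : P' → ℂ) y = CyclicOrbits.orb S.A (σ θ' h : P → ℂ) (ψ y) := by
    intro θ' h y
    simp only [CyclicOrbits.orb]
    rw [← Fintype.sum_equiv (Equiv.ofBijective a' hbij)
      (fun a : S.A => (θ' : P' → ℂ) ((a' a : MulAut P') y)) (fun b : S'.A => (θ' : P' → ℂ) ((b : MulAut P') y))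
      fun a => rfl]
    refine Fintype.sum_equiv (Equiv.mulLeft (a₀ θ' h)) _ _ fun a => ?_
    show (θ' : P' → ℂ) ((a' a : MulAut P') y) = (σ θ' h : P → ℂ) (((a₀ θ' h * a : S.A) : MulAut P) (ψ y))
    rw [Subgroup.coe_mul, MulAut.mul_apply, ← ha₀ θ' h, ← ha', ψ.symm_apply_apply]
  have hσinj : ∀ θ₁ (h₁ : θ₁ ∈ S'.Θ) θ₂ (h₂ : θ₂ ∈ S'.Θ), σ θ₁ h₁ = σ θ₂ h₂ → θ₁ = θ₂ := by
    intro θ₁ h₁ θ₂ h₂ he
    refine (S'.hΘuniq θ₁ h₁ θ₂ h₂ (a' ((a₀ θ₁ h₁)⁻¹ * a₀ θ₂ h₂)) fun y => ?_).1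
    have e2 := ha₀ θ₂ h₂ (ψ y)
    rw [ψ.symm_apply_apply] at e2
    have e1 := ha₀ θ₁ h₁ (((((a₀ θ₁ h₁)⁻¹ * a₀ θ₂ h₂ : S.A)) : MulAut P) (ψ y))
    rw [← ha', ψ.symm_apply_apply, ha', ← MulAut.mul_apply, ← Subgroup.coe_mul, mul_inv_cancel_left, he] at e1
    rw [e2, ← e1]
  obtain ⟨σ', hσ'd⟩ : ∃ σ' : IrrCharacter P' → IrrCharacter P,
      σ' = fun θ' => if h : θ' ∈ S'.Θ then σ θ' h else irrOne := ⟨_, rfl⟩
  have hσ'mem : ∀ θ' ∈ S'.Θ, σ' θ' ∈ S.Θ := fun θ' h => by rw [hσ'd]; simp only [dif_pos h]; exact hσ θ' h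
  have hσ'inj : Set.InjOn σ' S'.Θ := fun θ₁ h₁ θ₂ h₂ he => by
    rw [hσ'd] at he; beta_reduce at he
    rw [dif_pos (show θ₁ ∈ S'.Θ from h₁), dif_pos (show θ₂ ∈ S'.Θ from h₂)] at he
    exact hσinj θ₁ h₁ θ₂ h₂ he
  -- the others
  have : Nonempty (IrrCharacter P') := ⟨irrOne⟩
  have hXcard : S'.nonexc.card = S.nonexc.card := by rw [S.card_nonexc, S'.card_nonexc, hcardA]
  obtain ⟨τ⟩ : Nonempty (S'.nonexc ≃ S.nonexc) := ⟨Finset.equivOfCardEq hXcard⟩
  obtain ⟨I, hId⟩ : ∃ I : IrrCharacter H → IrrCharacter G, I = fun η =>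
      if h : η ∈ S'.nonexc then (τ ⟨η, h⟩ : IrrCharacter G) else S.η (σ' (Function.invFunOn S'.η S'.Θ η)) :=
    ⟨_, rfl⟩
  obtain ⟨ε, hεd⟩ : ∃ ε : IrrCharacter H → ℤ, ε = fun η =>
      if η ∈ S'.nonexc then S.δ (I η) * S'.δ η else S.δ₀ * S'.δ₀ := ⟨_, rfl⟩
  have hnotX : ∀ θ ∈ S'.Θ, S'.η θ ∉ S'.nonexc := fun θ hθ h => (S'.mem_nonexc.mp h).2 θ hθ rfl
  have hIη : ∀ θ ∈ S'.Θ, I (S'.η θ) = S.η (σ' θ) := fun θ hθ => by
    rw [hId]; beta_reduce
    rw [dif_neg (hnotX θ hθ), S'.hηinj.leftInvOn_invFunOn hθ]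
  have hIX : ∀ η (h : η ∈ S'.nonexc), I η = τ ⟨η, h⟩ := fun η h => by rw [hId]; simp only [dif_pos h]
  have hIX' : ∀ η ∈ S'.nonexc, I η ∈ S.nonexc := fun η h => by rw [hIX η h]; exact (τ ⟨η, h⟩).2
  have hεη : ∀ θ ∈ S'.Θ, ε (S'.η θ) = S.δ₀ * S'.δ₀ := fun θ hθ => by rw [hεd]; exact if_neg (hnotX θ hθ)
  have hεX : ∀ η ∈ S'.nonexc, ε η = S.δ (I η) * S'.δ η := fun η hη => by rw [hεd]; exact if_pos hη
  have hcases : ∀ η ∈ b, (∃ θ ∈ S'.Θ, S'.η θ = η) ∨ η ∈ S'.nonexc := fun η hη => by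
    by_cases h : ∃ θ ∈ S'.Θ, S'.η θ = η
    · exact Or.inl h
    · push Not at h
      exact Or.inr (S'.mem_nonexc.mpr ⟨hη, h⟩)
  have hmaps : Set.MapsTo I b B := fun η hη => by
    rcases hcases η hη with ⟨θ, hθ, rfl⟩ | h
    · rw [hIη θ hθ]; exact S.hηB _ (hσ'mem θ hθ)
    · exact (S.mem_nonexc.mp (hIX' η h)).1
  have hinj : Set.InjOn I b := by
    intro η₁ h₁ η₂ h₂ he
    rcases hcases η₁ h₁ with ⟨θ₁, hθ₁, rfl⟩ | k₁ <;> rcases hcases η₂ h₂ with ⟨θ₂, hθ₂, rfl⟩ | k₂
    · rw [hIη θ₁ hθ₁, hIη θ₂ hθ₂] at he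
      rw [hσ'inj hθ₁ hθ₂ (S.hηinj (hσ'mem θ₁ hθ₁) (hσ'mem θ₂ hθ₂) he)]
    · rw [hIη θ₁ hθ₁] at he
      exact absurd he ((S.mem_nonexc.mp (hIX' η₂ k₂)).2 _ (hσ'mem θ₁ hθ₁))
    · rw [hIη θ₂ hθ₂] at he
      exact absurd he.symm ((S.mem_nonexc.mp (hIX' η₁ k₁)).2 _ (hσ'mem θ₂ hθ₂))
    · rw [hIX η₁ k₁, hIX η₂ k₂] at he
      exact congrArg Subtype.val (τ.injective (Subtype.ext he))
  have hΘ : S'.Θ.card = S.Θ.card := Nat.eq_of_mul_eq_mul_right (Nat.card_pos (α := S.A))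
    (by rw [S.hΘcard, ← hcardP, ← S'.hΘcard, hcardA])
  have hBcard : Nat.card b = Nat.card B := by rw [S.hk, S'.hk, ← S.hA, ← S'.hA, hcardA, hΘ]
  have hfb : Function.Bijective (Set.MapsTo.restrict I b B hmaps) :=
    (Fintype.bijective_iff_injective_and_card _).mpr
      ⟨fun u v h => Subtype.ext (hinj u.2 v.2 (congrArg Subtype.val h)),
        by rw [← Nat.card_eq_fintype_card, ← Nat.card_eq_fintype_card, hBcard]⟩
  refine ⟨I, ε, ⟨hmaps, hinj, fun χ hχ => ?_⟩, fun η hη => ?_, fun η hη y hy => ?_, hεη,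
    fun η hη => ⟨hIX' η hη, hεX η hη⟩⟩
  · obtain ⟨u, hu⟩ := hfb.2 ⟨χ, hχ⟩
    exact ⟨u, u.2, congrArg Subtype.val hu⟩
  · rcases hcases η hη with ⟨θ, hθ, rfl⟩ | h
    · rw [hεη θ hθ]
      rcases S.hδ₀ with e | e <;> rcases S'.hδ₀ with e' | e' <;> simp [e, e']
    · rw [hεX η h]
      rcases S.hδ (I η) with e | e <;> rcases S'.hδ η with e' | e' <;> simp [e, e']
  · have hy' : ψ y ≠ 1 := fun h => hy (ψ.injective (by rw [h, map_one]))
    rcases hcases η hη with ⟨θ, hθ, rfl⟩ | h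
    · have hs : σ' θ = σ θ hθ := by rw [hσ'd]; simp only [dif_pos hθ]
      rw [hεη θ hθ, hIη θ hθ, S.fη_orb (hσ'mem θ hθ) hy', S'.fη_orb hθ hy, horb θ hθ, hs]
      rcases S.hδ₀ with e | e <;> simp [e]
    · rw [hεX η h, S.hfX _ (S.mem_nonexc.mp (hIX' η h)).1 (S.mem_nonexc.mp (hIX' η h)).2 _ hy',
        S'.hfX η (S'.mem_nonexc.mp h).1 (S'.mem_nonexc.mp h).2 y hy]
      rcases S.hδ (I η) with e | e <;> simp [e]

end CfsgLib.Blocks.Cyclic
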