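import Cfsg.Agent.Lib.Blocks.ThirdMain
import Mathlib.Algebra.CharP.Algebra
import Mathlib.Algebra.CharP.Lemmas
import Mathlib.Data.ZMod.Basic

/-!
# Külshammer's formula for the principal block idempotent
-/

set_option autoImplicit false

noncomputable section

namespace CfsgLib.Blocks

open Cfsg
open scoped ComplexConjugate

section Power

variable {G : Type*} [Group G] [Fintype G] {k : Type*} [CommRing k]

theorem coeff_pow_eq_sum (w : MonoidAlgebra k G) (n : ℕ) (g : G) [DecidableEq G] :
    (w ^ n).coeff g = ∑ t : Fin n → G, if (List.ofFn t).prod = g then ∏ i, w.coeff (t i) else 0 := by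
  induction n generalizing g with
  | zero =>
    simp [MonoidAlgebra.one_def, Finsupp.single_apply]
  | succ n ih =>
    rw [pow_succ', coeff_mul_eq_sum, ← (Fin.consEquiv fun _ => G).sum_comp, Fintype.sum_prod_type]
    refine Finset.sum_congr rfl fun h _ => ?_
    rw [ih, Finset.mul_sum]
    refine Finset.sum_congr rfl fun t _ => ?_
    simp only [Fin.consEquiv_apply, List.ofFn_cons, List.prod_cons, Fin.prod_univ_succ, Fin.cons_zero,
      Fin.cons_succ]
    rw [if_congr (eq_inv_mul_iff_mul_eq (a := (List.ofFn t).prod)) rfl rfl]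
    have hc : List.ofFn ((Fin.consEquiv fun _ => G) (h, t)) = h :: List.ofFn t := by
      rw [List.ofFn_succ]; simp [Fin.consEquiv]
    rw [hc, List.prod_cons]
    split_ifs <;> simp

/-- The trace of a `p^N`-th power. -/
theorem coeff_one_pow_charP {p : ℕ} [hp : Fact p.Prime] [CharP k p] (w : MonoidAlgebra k G) (N : ℕ)
    [DecidableEq G] :
    (w ^ (p ^ N)).coeff 1 = ∑ x : G, if x ^ (p ^ N) = 1 then w.coeff x ^ (p ^ N) else 0 := by
  classical
  set q := p ^ N with hq
  have : NeZero q := ⟨pow_ne_zero _ hp.out.ne_zero⟩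
  obtain ⟨m, hm⟩ : ∃ m, q = m + 1 := ⟨q - 1, (Nat.sub_add_cancel (Nat.pos_of_neZero q)).symm⟩
  set L : (ZMod q → G) → List G := fun t => (List.range q).map fun i : ℕ => t (i : ZMod q)
  set f : (ZMod q → G) → k := fun t => if (L t).prod = 1 then ∏ i, w.coeff (t i) else 0
  let _ : MulAction (Multiplicative (ZMod q)) (ZMod q → G) :=
    { smul := fun j t i => t (i + Multiplicative.toAdd j)
      one_smul := fun t => funext fun i => by change t (i + 0) = t i; rw [add_zero]
      mul_smul := fun a b t => funext fun i => by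
        change t (i + (Multiplicative.toAdd a + Multiplicative.toAdd b)) =
          t (i + Multiplicative.toAdd a + Multiplicative.toAdd b)
        rw [add_assoc] }
  have hsmul : ∀ (j : Multiplicative (ZMod q)) (t : ZMod q → G) (i : ZMod q),
      (j • t) i = t (i + Multiplicative.toAdd j) := fun _ _ _ => rfl
  have hstep : ∀ t : ZMod q → G, f (Multiplicative.ofAdd (1 : ZMod q) • t) = f t := by
    intro t
    have hA : L t = t 0 :: (List.range m).map fun i : ℕ => t ((i + 1 : ℕ) : ZMod q) := by
      simp only [L, hm, List.range_succ_eq_map, List.map_cons, List.map_map, Nat.cast_zero]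
      rfl
    have hB : L (Multiplicative.ofAdd (1 : ZMod q) • t) =
        ((List.range m).map fun i : ℕ => t ((i + 1 : ℕ) : ZMod q)) ++ [t 0] := by
      have hl : List.range q = List.range m ++ [m] := by rw [hm, List.range_succ]
      have hm0 : ((m : ℕ) : ZMod q) + 1 = 0 := by rw [← Nat.cast_one, ← Nat.cast_add, ← hm, ZMod.natCast_self]
      simp only [L, hl, List.map_append, List.map_cons, List.map_nil, hsmul, toAdd_ofAdd, hm0,
        Nat.cast_add, Nat.cast_one]
    have hiff : (L (Multiplicative.ofAdd (1 : ZMod q) • t)).prod = 1 ↔ (L t).prod = 1 := by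
      rw [hA, hB, List.prod_append, List.prod_cons, List.prod_cons, List.prod_nil, mul_one]
      exact mul_eq_one_comm
    refine if_congr hiff ?_ rfl
    exact Fintype.prod_equiv (Equiv.addRight (1 : ZMod q)) _ _ fun i => by simp [hsmul]
  have hinv : ∀ (j : Multiplicative (ZMod q)) (t : ZMod q → G), f (j • t) = f t := by
    intro j t
    obtain ⟨n, rfl⟩ : ∃ n : ℕ, Multiplicative.ofAdd (1 : ZMod q) ^ n = j :=
      ⟨(Multiplicative.toAdd j).val, by
        rw [← ofAdd_nsmul, nsmul_one, ZMod.natCast_zmod_val, ofAdd_toAdd]⟩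
    induction n with
    | zero => rw [pow_zero, one_smul]
    | succ n ih => rw [pow_succ', mul_smul, hstep, ih]
  have hP : IsPGroup p (Multiplicative (ZMod q)) := IsPGroup.of_card (n := N) (by
    rw [Nat.card_congr Multiplicative.toAdd, Nat.card_eq_fintype_card, ZMod.card])
  let e : Fin q ≃ ZMod q :=
    { toFun := fun i => (i.val : ZMod q)
      invFun := fun z => ⟨z.val, z.val_lt⟩
      left_inv := fun i => Fin.ext (ZMod.val_cast_of_lt i.isLt)
      right_inv := fun z => ZMod.natCast_zmod_val z }
  have hsum : (w ^ q).coeff 1 = ∑ t : ZMod q → G, f t := by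
    rw [coeff_pow_eq_sum]
    refine Fintype.sum_equiv (Equiv.arrowCongr e (Equiv.refl G)) _ _ fun s => ?_
    have hval : ∀ i : Fin q, (Equiv.arrowCongr e (Equiv.refl G)) s (e i) = s i := fun i => by simp
    have hL : L ((Equiv.arrowCongr e (Equiv.refl G)) s) = List.ofFn s := by
      simp only [L]
      refine List.ext_getElem (by simp) fun i h1 h2 => ?_
      simp only [List.getElem_map, List.getElem_range, List.getElem_ofFn]
      exact hval ⟨i, by simpa using h1⟩
    simp only [f, hL]
    refine if_congr Iff.rfl ?_ rfl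
    exact Fintype.prod_equiv e _ _ fun i => by rw [hval]
  rw [hsum, sum_eq_sum_fixedPoints hP f hinv]
  refine (Finset.sum_bij (fun x _ => fun _ : ZMod q => x) (fun x _ => ?_) (fun x _ y _ h => congrFun h 0)
    (fun t ht => ?_) (fun x _ => ?_)).symm
  · exact Finset.mem_filter.mpr ⟨Finset.mem_univ _, fun j => rfl⟩
  · refine ⟨t 0, Finset.mem_univ _, funext fun i => ?_⟩
    have := congrFun ((Finset.mem_filter.mp ht).2 (Multiplicative.ofAdd i)) 0
    rw [hsmul, toAdd_ofAdd, zero_add] at this
    exact this.symm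
  · simp [f, L, Finset.prod_const, ZMod.card]

end Power

variable {M : Ideal AlgInt} [M.IsMaximal] {G : Type*} [Group G] [Fintype G] {p : ℕ} [hp : Fact p.Prime]

omit hp in
/-- A central element killed by all reduced central characters is nilpotent modulo `M`. -/
theorem red_pow_eq_zero {a : Zint M G} (h : ∀ χ : IrrCharacter G, bomega χ a = 0) {n : ℕ}
    (hn : Fintype.card (IrrCharacter G) ≤ n) : red a ^ n = 0 := by
  classical
  have hprod : ∏ χ : IrrCharacter G, (a - scal M (zomega χ a)) = 0 := Zint_ext fun ψ => by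
    rw [map_prod, map_zero]
    exact Finset.prod_eq_zero (Finset.mem_univ ψ) (by rw [map_sub, zomega_scal, sub_self])
  have hscal : ∀ χ : IrrCharacter G, red (scal M (zomega χ a) : Zint M G) = 0 := fun χ => by
    refine MonoidAlgebra.coeff_injective (Finsupp.ext fun g => ?_)
    rw [coeff_red, ← mul_one (scal M (zomega χ a) : Zint M G), rcoeff_scal_mul, ← bomega_apply, h χ, zero_mul]
    rfl
  have h2 := congrArg red hprod
  have h3 : ∀ s : Finset (IrrCharacter G), red (∏ χ ∈ s, (a - scal M (zomega χ a))) = red a ^ s.card := by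
    intro s
    induction s using Finset.induction_on with
    | empty => simp
    | insert χ s hχ ih =>
      rw [Finset.prod_insert hχ, map_mul, ih, map_sub, hscal, sub_zero, Finset.card_insert_of_notMem hχ,
        pow_succ']
  rw [h3, map_zero, Finset.card_univ] at h2
  rw [← Nat.sub_add_cancel hn, pow_add, h2, mul_zero]

/-- The idempotent coefficient commutes with the Frobenius map. -/
theorem rcoeff_idem_pow (hM : IsPModular p M) {B : Set (IrrCharacter G)} (hB : IsPBlock M B) {g : G}
    (hg : ¬ p ∣ orderOf g) (N : ℕ) :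
    rcoeff (idem hB) (g ^ (p ^ N)) = rcoeff (idem hB) g ^ (p ^ N) := by
  classical
  have : CharP (Res M) p := res_charP M hM
  obtain ⟨f, hf⟩ := exists_functional hM hB
  have hint : ∀ z : ℤ, (z : Res M) ^ (p ^ N) = z := fun z => by
    rw [← iterateFrobenius_def, map_intCast]
  have h1 := hf g⁻¹ (by rwa [orderOf_inv])
  have h2 := hf (g⁻¹ ^ (p ^ N)) (fun hd => hg (by
    have := hd.trans (orderOf_pow_dvd _)
    rwa [orderOf_inv] at this))
  rw [inv_inv] at h1
  rw [inv_pow, inv_inv] at h2
  rw [h1, h2, sum_pow_char_pow]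
  refine Finset.sum_congr rfl fun η _ => ?_
  split_ifs
  · rw [mul_pow, hint, ← inv_pow, cval_pow hM]
  · rw [zero_pow (pow_ne_zero _ hp.out.ne_zero)]

theorem principal_regElt_value (hM : IsPModular p M) :
    bomega (CfsgLib.Char.irrOne : IrrCharacter G)
        (regElt M p (CfsgLib.Char.isCharacter_of_isIrr (CfsgLib.Char.irrOne : IrrCharacter G).2)) =
      (Nat.card {y : G // ¬ p ∣ orderOf y} : Res M) ∧
    (Nat.card {y : G // ¬ p ∣ orderOf y} : Res M) ≠ 0 := by
  classical
  set r := regElt M p (CfsgLib.Char.isCharacter_of_isIrr (CfsgLib.Char.irrOne : IrrCharacter G).2)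
  have hval : zomega (CfsgLib.Char.irrOne : IrrCharacter G) r =
      ((Nat.card {y : G // ¬ p ∣ orderOf y} : ℕ) : locRing M) := by
    refine Subtype.ext ?_
    rw [zomega_regElt]
    simp only [CfsgLib.Char.irrOne_apply, map_one, mul_one, div_one, SubringClass.coe_natCast,
      Nat.card_eq_fintype_card, Fintype.card_subtype]
    rw [← Finset.sum_boole]
    exact Finset.sum_congr rfl fun g _ => (ite_not _ _ _).symm
  have h1 : bomega (CfsgLib.Char.irrOne : IrrCharacter G) r =
      (Nat.card {y : G // ¬ p ∣ orderOf y} : Res M) := by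
    rw [bomega_apply, hval, map_natCast]
  refine ⟨h1, h1 ▸ (bomega_regElt_ne_zero_iff hM _ _).mpr ⟨mem_blockOf_self _, blockHeight_one⟩⟩

omit hp in
theorem irrOne_mem' : (CfsgLib.Char.irrOne : IrrCharacter G) ∈ principalBlock M G :=
  mem_blockOf_self (M := M) (CfsgLib.Char.irrOne : IrrCharacter G)

/-- **Külshammer's formula.** -/
theorem kulshammer (hM : IsPModular p M) (hB : IsPBlock M (principalBlock M G)) {g : G}
    (hg : ¬ p ∣ orderOf g) :
    (Nat.card {y : G // ¬ p ∣ orderOf y} : Res M) * rcoeff (idem hB) g =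
      (Nat.card {xy : G × G // (∃ k : ℕ, orderOf xy.1 = p ^ k) ∧ ¬ p ∣ orderOf xy.2 ∧ xy.1 * xy.2 = g} :
        Res M) := by
  classical
  have : CharP (Res M) p := res_charP M hM
  have : CharP (MonoidAlgebra (Res M) G) p :=
    charP_of_injective_algebraMap (R := Res M) (fun a b h => by
      simpa using congrArg (fun z : MonoidAlgebra (Res M) G => z.coeff 1) h) p
  set one : IrrCharacter G := CfsgLib.Char.irrOne
  set r := regElt M p (CfsgLib.Char.isCharacter_of_isIrr one.2)
  set R : ℕ := Nat.card {y : G // ¬ p ∣ orderOf y}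
  obtain ⟨N, hN1, hN2⟩ : ∃ N : ℕ, Fintype.card (IrrCharacter G) ≤ p ^ N ∧
      (Nat.card G).factorization p ≤ N := by
    refine ⟨Fintype.card (IrrCharacter G) + (Nat.card G).factorization p, ?_, Nat.le_add_left _ _⟩
    exact (Nat.le_add_right _ _).trans (Nat.lt_pow_self hp.out.one_lt).le
  set q := p ^ N
  have hq0 : q ≠ 0 := pow_ne_zero _ hp.out.ne_zero
  -- `r ≡ R • e` up to a nilpotent element
  have hre : r * idem hB = r := Zint_ext fun χ => by
    rw [map_mul, zomega_idem hB]
    split_ifs with h
    · rw [mul_one]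
    · rw [mul_zero, zomega_regElt_eq_zero hM]
      intro hs
      exact h (mem_of_bomega_eq hB (irrOne_mem' (M := M)) ((sameBlock_iff _ _).mp hs).symm)
  set n : Zint M G := r - scal M (R : locRing M) * idem hB
  have hn : red n ^ q = 0 := red_pow_eq_zero (fun χ => by
    rw [map_sub, map_mul, bomega_scal, map_natCast, bomega_idem hB]
    split_ifs with h
    · rw [bomega_eq_of_mem hB h (irrOne_mem' (M := M)), (principal_regElt_value hM).1, mul_one, sub_self]
    · rw [← hre, map_mul, bomega_idem hB, if_neg h, mul_zero, mul_zero, sub_self]) hN1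
  have hrq : red r ^ q = red (scal M ((R : locRing M) ^ q) * idem hB) := by
    have hidem : idem hB ^ q = idem hB := by
      obtain ⟨j, hj⟩ := Nat.exists_eq_succ_of_ne_zero hq0
      rw [hj]
      clear hj
      induction j with
      | zero => rw [pow_one]
      | succ j ih => rw [pow_succ, ih, idem_mul_self]
    have hc : Commute (red n) (red (scal M (R : locRing M) * idem hB)) := by
      rw [Commute, SemiconjBy, ← map_mul, ← map_mul, mul_comm]
    rw [show r = n + scal M (R : locRing M) * idem hB from (sub_add_cancel _ _).symm, map_add,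
      add_pow_char_pow_of_commute _ _ hc, hn, zero_add, ← map_pow, mul_pow, ← map_pow, hidem]
  -- the trace of the twisted power
  set w : MonoidAlgebra (Res M) G := red r * MonoidAlgebra.single g⁻¹ 1
  have hwq : (w ^ q).coeff 1 = (R : Res M) ^ q * rcoeff (idem hB) g ^ q := by
    have hc : Commute (red r) (MonoidAlgebra.single g⁻¹ (1 : Res M)) :=
      (Subsemiring.mem_center_iff.mp (red_mem_center r) _).symm
    rw [hc.mul_pow, MonoidAlgebra.single_pow, one_pow, MonoidAlgebra.coeff_mul_single_apply, one_mul,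
      mul_one, hrq, coeff_red, rcoeff_scal_mul, map_pow, map_natCast, inv_pow, inv_inv,
      rcoeff_idem_pow hM hB hg]
  have hpe : ∀ x : G, x ^ q = 1 ↔ ∃ k : ℕ, orderOf x = p ^ k := by
    intro x
    constructor
    · intro h
      obtain ⟨k, -, hk⟩ := (Nat.dvd_prime_pow hp.out).mp (orderOf_dvd_of_pow_eq_one h)
      exact ⟨k, hk⟩
    · rintro ⟨k, hk⟩
      rw [← orderOf_dvd_iff_pow_eq_one, hk]
      refine pow_dvd_pow p (le_trans ?_ hN2)
      exact (hp.out.pow_dvd_iff_le_factorization Nat.card_pos.ne').mp (hk ▸ orderOf_dvd_natCard x)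
  have hwx : ∀ x : G, w.coeff x = if p ∣ orderOf (x * g) then 0 else 1 := by
    intro x
    rw [MonoidAlgebra.coeff_mul_single_apply, inv_inv, mul_one, coeff_red, rcoeff_regElt]
    split_ifs
    · rfl
    · exact (res_val_congr _ (Subring.one_mem _) (CfsgLib.Char.irrOne_apply _)).trans (map_one _)
  have hcount : (w ^ q).coeff 1 =
      (Nat.card {xy : G × G // (∃ k : ℕ, orderOf xy.1 = p ^ k) ∧ ¬ p ∣ orderOf xy.2 ∧ xy.1 * xy.2 = g} :
        Res M) := by
    rw [coeff_one_pow_charP]
    have : ∀ x : G, (if x ^ q = 1 then w.coeff x ^ q else 0) =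
        if (∃ k : ℕ, orderOf x = p ^ k) ∧ ¬ p ∣ orderOf (x * g) then (1 : Res M) else 0 := by
      intro x
      rw [hwx, if_congr (hpe x) rfl rfl]
      by_cases h1 : ∃ k : ℕ, orderOf x = p ^ k <;> by_cases h2 : p ∣ orderOf (x * g) <;> simp [h1, h2, hq0]
    rw [Finset.sum_congr rfl fun x _ => this x, Finset.sum_boole]
    refine congrArg _ (Eq.trans ?_ (Nat.card_eq_fintype_card).symm)
    rw [← Fintype.card_subtype]
    refine Fintype.card_congr
      { toFun := fun x => ⟨(x.1⁻¹, x.1 * g), by simpa using x.2.1, x.2.2, inv_mul_cancel_left _ _⟩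
        invFun := fun v => ⟨v.1.1⁻¹, by simpa using v.2.1, by
          rw [show v.1.1⁻¹ * g = v.1.2 from inv_mul_eq_of_eq_mul v.2.2.2.symm]; exact v.2.2.1⟩
        left_inv := fun x => Subtype.ext (inv_inv _)
        right_inv := fun v => Subtype.ext (Prod.ext (inv_inv _) (inv_mul_eq_of_eq_mul v.2.2.2.symm)) }
  refine iterateFrobenius_inj (Res M) p N ?_
  rw [iterateFrobenius_def, iterateFrobenius_def, mul_pow, ← hwq, hcount]
  rw [← iterateFrobenius_def, map_natCast]

end CfsgLib.Blocks
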