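import Cfsg.Agent.Lib.FGS.Basics
import Cfsg.Agent.Lib.Transfer.Frobenius
import Mathlib.GroupTheory.SpecificGroups.Cyclic
import Mathlib.FieldTheory.Finite.Basic
import Mathlib.Data.ZMod.Units

/-!
# The local structure of a Sylow subgroup of prime order

`pw P` parametrizes the subgroup `P` of order `p` by `ZMod p`, `rho P` is the action of its
normalizer on the exponents.
-/

set_option autoImplicit false

noncomputable section

namespace CfsgLib.Blocks.PrimeSylow

variable {G : Type*} [Group G] [Finite G] {p : ℕ} [hp : Fact p.Prime] (P : Sylow p G)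
  (hP : Nat.card P = p)

include hP in
theorem exists_gen : ∃ x : G, x ∈ (P : Subgroup G) ∧ orderOf x = p ∧
    Subgroup.zpowers x = (P : Subgroup G) := by
  have : Nontrivial (P : Subgroup G) := Finite.one_lt_card_iff_nontrivial.mp (by
    rw [show Nat.card (P : Subgroup G) = p from hP]; exact hp.out.one_lt)
  obtain ⟨⟨x, hx⟩, hne⟩ := exists_ne (1 : (P : Subgroup G))
  have hox : orderOf x = p := by
    refine orderOf_eq_prime ?_ fun h => hne (Subtype.ext h)
    have := congrArg (fun v : (P : Subgroup G) => (v : G)) (pow_card_eq_one' (x := (⟨x, hx⟩ : (P : Subgroup G))))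
    rwa [show Nat.card (P : Subgroup G) = p from hP] at this
  refine ⟨x, hx, hox, Subgroup.eq_of_le_of_card_ge (Subgroup.zpowers_le.mpr hx) ?_⟩
  rw [Nat.card_zpowers, hox]
  exact (le_of_eq hP)

/-- A generator. -/
def gen : G := Classical.choose (exists_gen P hP)

theorem gen_mem : gen P hP ∈ (P : Subgroup G) := (Classical.choose_spec (exists_gen P hP)).1

theorem orderOf_gen : orderOf (gen P hP) = p := (Classical.choose_spec (exists_gen P hP)).2.1

theorem zpowers_gen : Subgroup.zpowers (gen P hP) = (P : Subgroup G) :=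
  (Classical.choose_spec (exists_gen P hP)).2.2

/-- The powers of the generator. -/
def pw (a : ZMod p) : G := gen P hP ^ a.val

theorem pw_natCast (n : ℕ) : pw P hP (n : ZMod p) = gen P hP ^ n := by
  rw [pw, ZMod.val_natCast]
  conv_rhs => rw [← pow_mod_orderOf, orderOf_gen P hP]

theorem pw_mem (a : ZMod p) : pw P hP a ∈ (P : Subgroup G) := Subgroup.pow_mem _ (gen_mem P hP) _

theorem pw_zero : pw P hP 0 = 1 := by
  have := pw_natCast P hP 0
  rwa [Nat.cast_zero, pow_zero] at this

theorem pw_one : pw P hP 1 = gen P hP := by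
  have := pw_natCast P hP 1
  rwa [Nat.cast_one, pow_one] at this

theorem pw_add (a b : ZMod p) : pw P hP (a + b) = pw P hP a * pw P hP b := by
  have : NeZero p := ⟨hp.out.ne_zero⟩
  rw [← ZMod.natCast_zmod_val a, ← ZMod.natCast_zmod_val b, ← Nat.cast_add, pw_natCast, pw_natCast,
    pw_natCast, pow_add]

theorem pw_pow (a : ZMod p) (n : ℕ) : pw P hP a ^ n = pw P hP (n * a) := by
  have : NeZero p := ⟨hp.out.ne_zero⟩
  rw [← ZMod.natCast_zmod_val a, ← Nat.cast_mul, pw_natCast, pw_natCast, ← pow_mul, mul_comm]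

theorem pw_injective : Function.Injective (pw P hP) := by
  intro a b h
  have : NeZero p := ⟨hp.out.ne_zero⟩
  rw [← ZMod.natCast_zmod_val a, ← ZMod.natCast_zmod_val b, pw_natCast, pw_natCast,
    pow_inj_mod, orderOf_gen P hP, Nat.mod_eq_of_lt a.val_lt, Nat.mod_eq_of_lt b.val_lt] at h
  exact ZMod.val_injective _ h

theorem pw_surjOn {y : G} (hy : y ∈ (P : Subgroup G)) : ∃ a : ZMod p, pw P hP a = y := by
  classical
  rw [← zpowers_gen P hP, mem_zpowers_iff_mem_range_orderOf] at hy
  obtain ⟨j, -, rfl⟩ := Finset.mem_image.mp hy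
  exact ⟨j, pw_natCast P hP j⟩

theorem pw_eq_one_iff {a : ZMod p} : pw P hP a = 1 ↔ a = 0 :=
  ⟨fun h => pw_injective P hP (h.trans (pw_zero P hP).symm), fun h => h ▸ pw_zero P hP⟩

theorem zpowers_pw {a : ZMod p} (ha : a ≠ 0) : Subgroup.zpowers (pw P hP a) = (P : Subgroup G) := by
  refine le_antisymm (Subgroup.zpowers_le.mpr (pw_mem P hP a)) ?_
  rw [← zpowers_gen P hP, Subgroup.zpowers_le]
  have : NeZero p := ⟨hp.out.ne_zero⟩
  refine ⟨((a⁻¹).val : ℤ), ?_⟩
  change pw P hP a ^ (((a⁻¹).val : ℕ) : ℤ) = _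
  rw [zpow_natCast, pw_pow, ZMod.natCast_zmod_val, inv_mul_cancel₀ ha, pw_one]

omit [Finite G] hP in
theorem le_normalizer : (P : Subgroup G) ≤ Subgroup.normalizer ((P : Subgroup G) : Set G) :=
  Subgroup.le_normalizer

theorem exists_exponent (n : Subgroup.normalizer ((P : Subgroup G) : Set G)) :
    ∃ a : ZMod p, (n : G) * gen P hP * (n : G)⁻¹ = pw P hP a := by
  obtain ⟨a, ha⟩ := pw_surjOn P hP ((Subgroup.mem_normalizer_iff.mp n.2 _).mp (gen_mem P hP))
  exact ⟨a, ha.symm⟩

/-- The exponent of conjugation. -/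
def expo (n : Subgroup.normalizer ((P : Subgroup G) : Set G)) : ZMod p :=
  Classical.choose (exists_exponent P hP n)

theorem expo_spec (n : Subgroup.normalizer ((P : Subgroup G) : Set G)) :
    (n : G) * gen P hP * (n : G)⁻¹ = pw P hP (expo P hP n) := Classical.choose_spec (exists_exponent P hP n)

theorem conj_pw (n : Subgroup.normalizer ((P : Subgroup G) : Set G)) (a : ZMod p) :
    (n : G) * pw P hP a * (n : G)⁻¹ = pw P hP (expo P hP n * a) := by
  have : NeZero p := ⟨hp.out.ne_zero⟩
  calc (n : G) * pw P hP a * (n : G)⁻¹ = ((n : G) * gen P hP * (n : G)⁻¹) ^ a.val := by rw [conj_pow]; rfl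
    _ = _ := by rw [expo_spec, pw_pow, ZMod.natCast_zmod_val, mul_comm]

/-- The action of the normalizer. -/
def rho : Subgroup.normalizer ((P : Subgroup G) : Set G) →* ZMod p where
  toFun := expo P hP
  map_one' := pw_injective P hP (by rw [← expo_spec]; simp [pw_one])
  map_mul' m n := pw_injective P hP (by
    rw [← expo_spec, ← conj_pw, ← expo_spec, Subgroup.coe_mul]
    group)

theorem conj_pw' (n : Subgroup.normalizer ((P : Subgroup G) : Set G)) (a : ZMod p) :
    (n : G) * pw P hP a * (n : G)⁻¹ = pw P hP (rho P hP n * a) := conj_pw P hP n a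

theorem rho_ne_zero (n : Subgroup.normalizer ((P : Subgroup G) : Set G)) : rho P hP n ≠ 0 := fun h =>
  one_ne_zero (α := ZMod p) (by rw [← map_one (rho P hP), ← mul_inv_cancel n, map_mul, h, zero_mul])

theorem rho_eq_one_iff (n : Subgroup.normalizer ((P : Subgroup G) : Set G)) :
    rho P hP n = 1 ↔ (n : G) ∈ Subgroup.centralizer ((P : Subgroup G) : Set G) := by
  constructor
  · intro h
    refine Subgroup.mem_centralizer_iff.mpr fun y hy => ?_
    obtain ⟨a, rfl⟩ := pw_surjOn P hP hy
    have h1 := conj_pw' P hP n a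
    rw [h, one_mul, mul_inv_eq_iff_eq_mul] at h1
    exact h1.symm
  · intro h
    refine pw_injective P hP ?_
    rw [pw_one, show pw P hP (rho P hP n) = (n : G) * gen P hP * (n : G)⁻¹ from (expo_spec P hP n).symm,
      ← Subgroup.mem_centralizer_iff.mp h _ (gen_mem P hP), mul_inv_cancel_right]

/-- The unit valued action. -/
def rhoU : Subgroup.normalizer ((P : Subgroup G) : Set G) →* (ZMod p)ˣ := (rho P hP).toHomUnits

theorem coe_rhoU (n : Subgroup.normalizer ((P : Subgroup G) : Set G)) :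
    ((rhoU P hP n : (ZMod p)ˣ) : ZMod p) = rho P hP n := rfl

theorem card_range_rhoU : Nat.card (rhoU P hP).range =
    (Subgroup.centralizer ((P : Subgroup G) : Set G)).relIndex (Subgroup.normalizer ((P : Subgroup G) : Set G)) := by
  rw [← Subgroup.index_ker, Subgroup.relIndex]
  congr 1
  ext n
  rw [MonoidHom.mem_ker, Subgroup.mem_subgroupOf, ← rho_eq_one_iff P hP, Units.ext_iff, coe_rhoU, Units.val_one]

include hP in
theorem relIndex_dvd :
    (Subgroup.centralizer ((P : Subgroup G) : Set G)).relIndex (Subgroup.normalizer ((P : Subgroup G) : Set G)) ∣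
      p - 1 := by
  rw [← card_range_rhoU P hP]
  have := Subgroup.card_subgroup_dvd_card (rhoU P hP).range
  rwa [Nat.card_eq_fintype_card (α := (ZMod p)ˣ), ZMod.card_units] at this

theorem mem_of_pElement_centralizer {y : G} (hy : y ∈ Subgroup.centralizer ((P : Subgroup G) : Set G))
    (hy' : ∃ k : ℕ, orderOf y = p ^ k) : y ∈ (P : Subgroup G) :=
  CfsgLib.FGS.mem_of_mem_normalizer P hy' (Subgroup.centralizer_le_normalizer _ hy)

include hP in
theorem le_centralizer : (P : Subgroup G) ≤ Subgroup.centralizer ((P : Subgroup G) : Set G) := by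
  intro y hy
  refine Subgroup.mem_centralizer_iff.mpr fun z hz => ?_
  obtain ⟨a, rfl⟩ := pw_surjOn P hP hy
  obtain ⟨b, rfl⟩ := pw_surjOn P hP hz
  rw [← pw_add, ← pw_add, add_comm]

include hP in
theorem centralizer_pw {a : ZMod p} (ha : a ≠ 0) :
    Subgroup.centralizer ({pw P hP a} : Set G) = Subgroup.centralizer ((P : Subgroup G) : Set G) := by
  rw [← zpowers_pw P hP ha, Subgroup.zpowers_eq_closure, Subgroup.centralizer_closure]

/-- Fusion is controlled by the normalizer. -/
theorem isConj_pw_iff {a b : ZMod p} (ha : a ≠ 0) :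
    IsConj (pw P hP a) (pw P hP b) ↔ ∃ u ∈ (rhoU P hP).range, (u : ZMod p) * a = b := by
  constructor
  · intro h
    obtain ⟨g, hg⟩ := isConj_iff.mp h
    have hb : b ≠ 0 := fun hb => ha ((pw_eq_one_iff P hP).mp (by
      rw [hb, pw_zero] at hg; exact (conj_eq_one_iff (a := g)).mp hg))
    have hgN : g ∈ Subgroup.normalizer ((P : Subgroup G) : Set G) := by
      rw [Subgroup.mem_normalizer_iff_map_conj_eq, ← zpowers_pw P hP ha]
      conv_rhs => rw [zpowers_pw P hP ha, ← zpowers_pw P hP hb]
      rw [MonoidHom.map_zpowers]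
      exact congrArg Subgroup.zpowers hg
    exact ⟨rhoU P hP ⟨g, hgN⟩, ⟨_, rfl⟩, pw_injective P hP (by rw [coe_rhoU, ← conj_pw', hg])⟩
  · rintro ⟨u, ⟨n, rfl⟩, rfl⟩
    exact isConj_iff.mpr ⟨(n : G), by rw [coe_rhoU, conj_pw']⟩

/-- Outside the normalizer, no conjugate of `P` lies in it. -/
theorem exists_conj_notMem {g : G} (hg : g ∉ Subgroup.normalizer ((P : Subgroup G) : Set G)) :
    ∃ π ∈ (P : Subgroup G), g⁻¹ * π * g ∉ Subgroup.normalizer ((P : Subgroup G) : Set G) := by
  by_contra h
  push Not at h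
  refine hg (inv_inv g ▸ Subgroup.inv_mem _ ?_)
  rw [Subgroup.mem_normalizer_iff_map_conj_eq]
  refine Subgroup.eq_of_le_of_card_ge ?_ (by rw [Subgroup.card_map_of_injective (MulEquiv.injective _)])
  rintro y ⟨π, hπ, rfl⟩
  have : MulAut.conj g⁻¹ π = g⁻¹ * π * g := by simp
  change MulAut.conj g⁻¹ π ∈ _
  rw [this]
  obtain ⟨k, hk⟩ := P.isPGroup' ⟨π, hπ⟩
  refine CfsgLib.FGS.mem_of_mem_normalizer P ?_ (h π hπ)
  obtain ⟨j, -, hj⟩ := (Nat.dvd_prime_pow hp.out).mp
    (orderOf_dvd_of_pow_eq_one (show π ^ p ^ k = 1 by simpa using congrArg Subtype.val hk))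
  exact ⟨j, by rw [← this, MulEquiv.orderOf_eq, hj]⟩

include hP in
/-- The centralizer has a normal `p`-complement. -/
theorem hasNormalPComplement_centralizer :
    Cfsg.HasNormalPComplement p (Subgroup.centralizer ((P : Subgroup G) : Set G)) := by
  refine CfsgLib.Transfer.hasNormalPComplement_of_normalizer_le_centralizer
    (P.subtype (le_centralizer P hP)) fun c _ => ?_
  refine Subgroup.mem_centralizer_iff.mpr fun w hw => Subtype.ext ?_
  exact Subgroup.mem_centralizer_iff.mp c.2 _ hw

end CfsgLib.Blocks.PrimeSylow
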