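import Cfsg.Agent.Lib.Blocks.PointsCentral
import Cfsg.Agent.Lib.Blocks.PrimeSylow
import Cfsg.Agent.Lib.Blocks.PrincipalSection
import Cfsg.Agent.Lib.Blocks.Kulshammer
import Cfsg.Agent.Lib.Blocks.Heights
import Mathlib.RingTheory.Nilpotent.Lemmas
import Mathlib.LinearAlgebra.Eigenspace.Zero

/-!
# A lower bound for the number of characters in the principal block, Sylow subgroup of prime order

The centre of the reduced block contains the images of the `p`-singular class sums and the trace
forms of `e` pairwise non-isomorphic simple modules, where `e = |N(P) : C(P)|`.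
-/

set_option autoImplicit false

noncomputable section

namespace CfsgLib.Blocks

open Cfsg

attribute [local instance] resField

variable {M : Ideal AlgInt} [M.IsMaximal] {G : Type*} [Group G] [Fintype G] {p : ℕ} [hp : Fact p.Prime]

/-- Integral central elements of a block independent modulo `M` are at most as many as its characters. -/
theorem card_le_card_block {B : Set (IrrCharacter G)} (hB : IsPBlock M B) {ι : Type*} [Fintype ι]
    (v : ι → Zint M G) (hv : ∀ i, red (v i * idem hB) = red (v i))
    (hind : ∀ c : ι → Res M, (∀ g : G, ∑ i, c i * rcoeff (v i) g = 0) → c = 0) :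
    Nat.card ι ≤ Nat.card B := by
  classical
  let _ := Fintype.ofFinite B
  -- dual functionals
  let Φ : (ι → Res M) →ₗ[Res M] (G → Res M) :=
    { toFun := fun c g => ∑ i, c i * rcoeff (v i) g
      map_add' := fun a b => funext fun g => by simp [add_mul, Finset.sum_add_distrib]
      map_smul' := fun a b => funext fun g => by simp [Finset.mul_sum, mul_assoc] }
  have hker : LinearMap.ker Φ = ⊥ := LinearMap.ker_eq_bot'.mpr fun c hc => hind c fun g => congrFun hc g
  obtain ⟨Ψ, hΨ⟩ := LinearMap.exists_leftInverse_of_injective Φ hker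
  choose lift hlift using res_surjective M
  let cI : ι → G → locRing M := fun i g => lift (Ψ (Pi.single g 1) i)
  let w : ι → Zint M G := fun i => v i * idem hB
  let A : Matrix ι ι (locRing M) := fun i j =>
    ∑ g : G, cI i g * ⟨((w j : Zint M G) : CA G).coeff g, (mem_Zint_iff.mp (w j).2).1 g⟩
  have hA : A.map (res M) = 1 := by
    ext i j
    rw [Matrix.map_apply, map_sum]
    have h1 := LinearMap.congr_fun hΨ (Pi.single j (1 : Res M))
    rw [LinearMap.id_apply] at h1
    have h2 : Φ (Pi.single j (1 : Res M)) = ∑ g : G, rcoeff (w j) g • Pi.single g (1 : Res M) := by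
      rw [← pi_eq_sum_univ']
      funext g
      simp only [Φ, LinearMap.coe_mk, AddHom.coe_mk, Pi.single_apply, ite_mul, one_mul, zero_mul,
        Finset.sum_ite_eq', Finset.mem_univ, if_true]
      rw [← coeff_red, ← coeff_red, hv]
    rw [LinearMap.comp_apply, h2, map_sum] at h1
    have h3 := congrFun h1 i
    rw [Finset.sum_apply, Pi.single_apply, ← Matrix.one_apply] at h3
    rw [← h3]
    refine Finset.sum_congr rfl fun g _ => ?_
    rw [map_mul, hlift, map_smul, Pi.smul_apply, smul_eq_mul, mul_comm]
    rfl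
  have hdet : (A.map (locRing M).subtype).det ≠ 0 := by
    have hu : res M A.det = 1 := by
      rw [RingHom.map_det, RingHom.mapMatrix_apply, hA, Matrix.det_one]
    rw [← RingHom.mapMatrix_apply, ← RingHom.map_det]
    intro h0
    have h1 : A.det = 0 := Subtype.ext (by simpa using h0)
    rw [h1, map_zero] at hu
    exact zero_ne_one hu
  have hli : LinearIndependent ℂ (fun (i : ι) (χ : B) => omega ((χ : IrrCharacter G) : G → ℂ) ((w i : Zint M G) : CA G)) := by
    rw [Fintype.linearIndependent_iff]
    intro d hd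
    have hcoef : ∀ g : G, ∑ i, d i * ((w i : Zint M G) : CA G).coeff g = 0 := by
      intro g
      simp only [coeff_eq_sum_omega (Zint_center (w _)) g, Finset.mul_sum]
      rw [Finset.sum_comm]
      refine Finset.sum_eq_zero fun χ _ => ?_
      by_cases hχ : χ ∈ B
      · have h := congrFun hd ⟨χ, hχ⟩
        simp only [Finset.sum_apply, Pi.smul_apply, smul_eq_mul, Pi.zero_apply] at h
        calc ∑ i, d i * ((Nat.card G : ℂ)⁻¹ * (omega (χ : G → ℂ) ((w i : Zint M G) : CA G) *
              ((χ : G → ℂ) 1 * (starRingEnd ℂ) ((χ : G → ℂ) g))))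
            = (Nat.card G : ℂ)⁻¹ * ((χ : G → ℂ) 1 * (starRingEnd ℂ) ((χ : G → ℂ) g)) *
              ∑ i, d i * omega (χ : G → ℂ) ((w i : Zint M G) : CA G) := by
                rw [Finset.mul_sum]; exact Finset.sum_congr rfl fun i _ => by ring
          _ = 0 := by rw [h, mul_zero]
      · refine Finset.sum_eq_zero fun i _ => ?_
        have : omega (χ : G → ℂ) ((w i : Zint M G) : CA G) = 0 := by
          rw [← coe_zomega, map_mul, zomega_idem, if_neg hχ, mul_zero]; rfl
        rw [this, zero_mul, mul_zero, mul_zero]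
    have hvec : Matrix.mulVec (A.map (locRing M).subtype) d = 0 := by
      funext i
      change ∑ j, ((∑ g, cI i g * ⟨((w j : Zint M G) : CA G).coeff g, (mem_Zint_iff.mp (w j).2).1 g⟩ :
        locRing M) : ℂ) * d j = 0
      simp only [AddSubmonoidClass.coe_finsetSum, Subring.coe_mul]
      calc ∑ j, (∑ g, ((cI i g : locRing M) : ℂ) * ((w j : Zint M G) : CA G).coeff g) * d j
          = ∑ g, ((cI i g : locRing M) : ℂ) * ∑ j, d j * ((w j : Zint M G) : CA G).coeff g := by
            simp only [Finset.sum_mul, Finset.mul_sum]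
            rw [Finset.sum_comm]
            exact Finset.sum_congr rfl fun g _ => Finset.sum_congr rfl fun j _ => by ring
        _ = 0 := Finset.sum_eq_zero fun g _ => by rw [hcoef, mul_zero]
    intro i
    by_contra hi
    exact hdet (Matrix.exists_mulVec_eq_zero_iff.mp ⟨d, fun h => hi (congrFun h i), hvec⟩)
  have := hli.fintype_card_le_finrank
  rwa [Module.finrank_fintype_fun_eq_card, ← Nat.card_eq_fintype_card, ← Nat.card_eq_fintype_card] at this

/-- A sum invariant under conjugation by a `p`-group reduces to its centralizer. -/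
theorem sum_centralizer (hM : IsPModular p M) {P : Subgroup G} (hP : IsPGroup p P) (f : G → Res M)
    (hf : ∀ x ∈ P, ∀ g, f (x * g * x⁻¹) = f g) [DecidablePred (· ∈ Subgroup.centralizer (P : Set G))] :
    ∑ g : G, f g = ∑ g ∈ Finset.univ.filter (· ∈ Subgroup.centralizer (P : Set G)), f g := by
  classical
  have : CharP (Res M) p := res_charP M hM
  let _ : MulAction P G :=
    { smul := fun x g => (x : G) * g * (x : G)⁻¹
      one_smul := fun g => show ((1 : P) : G) * g * ((1 : P) : G)⁻¹ = g by simp
      mul_smul := fun x y g => show ((x * y : P) : G) * g * ((x * y : P) : G)⁻¹ =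
        (x : G) * ((y : G) * g * (y : G)⁻¹) * (x : G)⁻¹ by push_cast; group }
  rw [sum_eq_sum_fixedPoints (p := p) hP f (fun x g => hf x x.2 g)]
  refine Finset.sum_congr (Finset.filter_congr (fun g _ => ?_)) (fun _ _ => rfl)
  rw [Subgroup.mem_centralizer_iff]
  exact ⟨fun h x hx => mul_inv_eq_iff_eq_mul.mp (h ⟨x, hx⟩),
    fun h x => mul_inv_eq_iff_eq_mul.mpr (h x x.2)⟩

/-- The reduced coefficients of the principal idempotent sum to one. -/
theorem sum_rcoeff_idem_principal (hB : IsPBlock M (principalBlock M G)) :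
    ∑ g : G, rcoeff (idem hB) g = 1 := by
  classical
  have h := bomega_idem (M := M) hB (CfsgLib.Char.irrOne : IrrCharacter G)
  rw [if_pos irrOne_mem_principalBlock] at h
  rw [← h, bomega_apply]
  simp only [rcoeff, ← map_sum]
  refine congrArg (res M) (Subtype.ext ?_)
  rw [coe_zomega, AddSubmonoidClass.coe_finsetSum, omega, charLin_apply]
  simp [CfsgLib.Char.irrOne]

variable (P : Sylow p G)

omit [Fintype G] in
/-- Linear characters of `N / C` over the residue field. -/
theorem exists_linear_chars [Finite G] (hM : IsPModular p M) (hP : Nat.card P = p) :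
    ∃ l : Fin ((Subgroup.centralizer ((P : Subgroup G) : Set G)).relIndex
        (Subgroup.normalizer ((P : Subgroup G) : Set G))) →
        (Subgroup.normalizer ((P : Subgroup G) : Set G) →* Res M),
      Function.Injective l ∧ ∀ m (n : Subgroup.normalizer ((P : Subgroup G) : Set G)), (n : G) ∈ Subgroup.centralizer ((P : Subgroup G) : Set G) → l m n = 1 := by
  classical
  have : CharP (Res M) p := res_charP M hM
  have heq := PrimeSylow.card_range_rhoU P hP
  obtain ⟨u₀, hu₀⟩ := IsCyclic.exists_generator (α := (PrimeSylow.rhoU P hP).range)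
  obtain ⟨n₀, hn₀⟩ := u₀.2
  have hord₀ : orderOf (PrimeSylow.rhoU P hP n₀) = (Subgroup.centralizer ((P : Subgroup G) : Set G)).relIndex
      (Subgroup.normalizer ((P : Subgroup G) : Set G)) := by
    rw [hn₀, Subgroup.orderOf_coe, orderOf_eq_card_of_forall_mem_zpowers hu₀, heq]
  let ι₀ : ZMod p →+* Res M := ZMod.castHom dvd_rfl (Res M)
  refine ⟨fun m => ((powMonoidHom (m : ℕ)).comp ι₀.toMonoidHom).comp (PrimeSylow.rho P hP), fun a b h => ?_,
    fun m n hn => ?_⟩
  · have h1 : ι₀ (PrimeSylow.rho P hP n₀) ^ (a : ℕ) = ι₀ (PrimeSylow.rho P hP n₀) ^ (b : ℕ) :=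
      DFunLike.congr_fun h n₀
    have h2 : (PrimeSylow.rhoU P hP n₀) ^ (a : ℕ) = (PrimeSylow.rhoU P hP n₀) ^ (b : ℕ) := Units.ext (by
      rw [Units.val_pow_eq_pow_val, Units.val_pow_eq_pow_val, PrimeSylow.coe_rhoU]
      exact ι₀.injective (by rw [map_pow, map_pow]; exact h1))
    exact Fin.ext (pow_injOn_Iio_orderOf (by simpa [hord₀] using a.2) (by simpa [hord₀] using b.2) h2)
  · change ι₀ (PrimeSylow.rho P hP n) ^ (m : ℕ) = 1
    rw [(PrimeSylow.rho_eq_one_iff P hP n).mpr hn, map_one, one_pow]

theorem sum_idem_centralizer (hM : IsPModular p M) (hB : IsPBlock M (principalBlock M G))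
    [DecidablePred (· ∈ Subgroup.centralizer ((P : Subgroup G) : Set G))] :
    ∑ g ∈ Finset.univ.filter (· ∈ Subgroup.centralizer ((P : Subgroup G) : Set G)), rcoeff (idem hB) g = 1 := by
  rw [← sum_rcoeff_idem_principal hB, sum_centralizer hM P.isPGroup']
  exact fun x _ g => (rcoeff_eq_of_isConj _ (isConj_iff.mpr ⟨x, rfl⟩)).symm

/-- Central elements of the principal block given by the trace forms of `e` simple modules. -/
theorem exists_trace_elements (hM : IsPModular p M) (hP : Nat.card P = p) (hB : IsPBlock M (principalBlock M G)) :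
    ∃ z : Fin ((Subgroup.centralizer ((P : Subgroup G) : Set G)).relIndex
        (Subgroup.normalizer ((P : Subgroup G) : Set G))) → Zint M G,
      (∀ m, red (z m * idem hB) = red (z m)) ∧
      (∀ m π h, π ∈ (P : Subgroup G) → h ∈ Subgroup.centralizer ((P : Subgroup G) : Set G) →
        rcoeff (z m) (π * h) = rcoeff (z m) h) ∧
      ∀ c : Fin ((Subgroup.centralizer ((P : Subgroup G) : Set G)).relIndex
        (Subgroup.normalizer ((P : Subgroup G) : Set G))) → Res M,
        (∀ g : G, ∑ m, c m * rcoeff (z m) g = 0) → c = 0 := by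
  classical
  have : CharP (Res M) p := res_charP M hM
  have : IsAlgClosed (Res M) := res_isAlgClosed M
  let _ := Fintype.ofFinite (P : Subgroup G)
  let _ := Fintype.ofFinite (Subgroup.normalizer ((P : Subgroup G) : Set G) ⧸
    (P : Subgroup G).subgroupOf (Subgroup.normalizer ((P : Subgroup G) : Set G)))
  obtain ⟨l, hlinj, hlC⟩ := exists_linear_chars (M := M) P hM hP
  have hPN : (P : Subgroup G) ≤ Subgroup.normalizer ((P : Subgroup G) : Set G) := Subgroup.le_normalizer
  have hcard : (Fintype.card (Subgroup.normalizer ((P : Subgroup G) : Set G) ⧸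
      (P : Subgroup G).subgroupOf (Subgroup.normalizer ((P : Subgroup G) : Set G))) : Res M) ≠ 0 := by
    rw [Ne, CharP.cast_eq_zero_iff (Res M) p, ← Nat.card_eq_fintype_card, ← Subgroup.index_eq_card]
    exact fun h => P.not_dvd_index (h.trans (Subgroup.relIndex_dvd_index_of_le hPN))
  have hidem : red (idem hB) * red (idem hB) = red (idem hB) := by rw [← map_mul, idem_mul_self]
  have hcenter : ∀ a, a * red (idem hB) = red (idem hB) * a := fun a =>
    Subsemiring.mem_center_iff.mp (red_mem_center (idem hB)) a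
  have hsum : ∑ g ∈ Finset.univ.filter (· ∈ Subgroup.centralizer ((P : Subgroup G) : Set G)),
      (red (idem hB)).coeff g = 1 := sum_idem_centralizer P hM hB
  obtain ⟨z, hzc, hzE, hzπ, hzind⟩ := Points.exists_block_class_functions (k := Res M) hP hPN le_rfl
    (Subgroup.centralizer_le_normalizer _) (PrimeSylow.le_centralizer P hP)
    (fun g hg => PrimeSylow.exists_conj_notMem P hg) hcard hidem hcenter hsum l hlinj hlC
  choose lift hlift using res_surjective M
  let Z : _ → Zint M G := fun m =>
    ⟨ofFun fun g => ((lift (z m g) : locRing M) : ℂ),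
      mem_Zint_iff.mpr ⟨fun g => (lift _).2, fun g h => by
        simp only [coeff_ofFun]; rw [hzc]⟩⟩
  have hZ : ∀ m g, rcoeff (Z m) g = z m g := fun m g => hlift _
  refine ⟨Z, fun m => ?_, fun m π h hπ hh => ?_, fun c hc => hzind c fun g => ?_⟩
  · refine MonoidAlgebra.coeff_injective (Finsupp.ext fun g => ?_)
    rw [coeff_red, coeff_red, rcoeff_mul, hZ, ← hzE]
    exact Finset.sum_congr rfl fun h _ => by rw [hZ]; rfl
  · rw [hZ, hZ, hzπ m π h hπ hh]
  · have := hc g
    simpa only [hZ] using this

set_option maxHeartbeats 800000 in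
/-- The value at `π * h` of the block part of a singular class sum. -/
theorem rcoeff_singular_class (hM : IsPModular p M) (hP : Nat.card P = p) {B : Set (IrrCharacter G)}
    (hB : IsPBlock M B) {a : ZMod p} {π h : G} (hπ : π ∈ (P : Subgroup G))
    (hh : h ∈ Subgroup.centralizer ((P : Subgroup G) : Set G)) (hreg : ¬ p ∣ orderOf h)
    [Decidable (IsConj (PrimeSylow.pw P hP a) π)] :
    rcoeff (zclass M (PrimeSylow.pw P hP a) * idem hB) (π * h) =
      if IsConj (PrimeSylow.pw P hP a) π then rcoeff (idem hB) h else 0 := by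
  classical
  have hπhC : π * h ∈ Subgroup.centralizer ((P : Subgroup G) : Set G) :=
    Subgroup.mul_mem _ (PrimeSylow.le_centralizer P hP hπ) hh
  rw [rcoeff_mul_centralizer hM P.isPGroup' _ _ hπhC, Finset.sum_eq_single π]
  · rw [if_pos (PrimeSylow.le_centralizer P hP hπ), rcoeff_zclass, inv_mul_cancel_left, ite_mul, one_mul,
      zero_mul]
  · intro y _ hy
    split_ifs with hyC
    · rw [rcoeff_zclass, ite_mul, one_mul, zero_mul]
      split_ifs with hc
      · have hyP : y ∈ (P : Subgroup G) := by
          obtain ⟨g, hg⟩ := isConj_iff.mp hc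
          obtain ⟨k, hk⟩ := P.isPGroup' ⟨_, PrimeSylow.pw_mem P hP a⟩
          obtain ⟨j, -, hj⟩ := (Nat.dvd_prime_pow hp.out).mp
            (orderOf_dvd_of_pow_eq_one (show (PrimeSylow.pw P hP a) ^ p ^ k = 1 by
              simpa using congrArg Subtype.val hk))
          refine PrimeSylow.mem_of_pElement_centralizer P hyC ⟨j, ?_⟩
          rw [← hg, show g * PrimeSylow.pw P hP a * g⁻¹ = MulAut.conj g (PrimeSylow.pw P hP a) by simp,
            MulEquiv.orderOf_eq, hj]
        refine rcoeff_idem_singular hM hB ?_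
        have hρ : y⁻¹ * π ∈ (P : Subgroup G) := Subgroup.mul_mem _ (Subgroup.inv_mem _ hyP) hπ
        obtain ⟨b, hb⟩ := PrimeSylow.pw_surjOn P hP hρ
        have hb0 : b ≠ 0 := fun h => hy (by
          rw [h, PrimeSylow.pw_zero] at hb
          exact inv_mul_eq_one.mp hb.symm)
        have hord : orderOf (y⁻¹ * π) = p := by
          rw [← hb, ← Nat.card_zpowers, PrimeSylow.zpowers_pw P hP hb0]
          exact hP
        have hcomm : Commute (y⁻¹ * π) h := Subgroup.mem_centralizer_iff.mp hh _ hρ
        rw [← mul_assoc, hcomm.orderOf_mul_eq_mul_orderOf_of_coprime, hord]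
        · exact dvd_mul_right p _
        · rw [hord]; exact (hp.out.coprime_iff_not_dvd).mpr hreg
      · rfl
    · rfl
  · simp

theorem card_singular_classes (hP : Nat.card P = p) [DecidableEq (ConjClasses G)] :
    ((Finset.univ.erase (0 : ZMod p)).image fun a => ConjClasses.mk (PrimeSylow.pw P hP a)).card *
      (Subgroup.centralizer ((P : Subgroup G) : Set G)).relIndex
        (Subgroup.normalizer ((P : Subgroup G) : Set G)) = p - 1 := by
  classical
  let _ := Fintype.ofFinite (PrimeSylow.rhoU P hP).range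
  have hcnt : (Finset.univ.erase (0 : ZMod p)).card = p - 1 := by
    rw [Finset.card_erase_of_mem (Finset.mem_univ _), Finset.card_univ, ZMod.card]
  rw [← hcnt]
  refine (Finset.card_eq_sum_card_fiberwise (f := fun a => ConjClasses.mk (PrimeSylow.pw P hP a))
    (fun a ha => Finset.mem_image_of_mem (fun a => ConjClasses.mk (PrimeSylow.pw P hP a)) ha) |>.trans ?_).symm
  refine Finset.sum_const_nat fun Q hQ => ?_
  obtain ⟨r, hr, rfl⟩ := Finset.mem_image.mp hQ
  have ha0 : r ≠ 0 := (Finset.mem_erase.mp hr).1
  rw [← PrimeSylow.card_range_rhoU P hP, Nat.card_eq_fintype_card, ← Finset.card_univ]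
  refine (Finset.card_bij (fun (u : (PrimeSylow.rhoU P hP).range) _ => ((u : (ZMod p)ˣ) : ZMod p) * r)
    (fun u _ => ?_) (fun u _ u' _ h => ?_) (fun b hb => ?_)).symm
  · refine Finset.mem_filter.mpr
      ⟨Finset.mem_erase.mpr ⟨mul_ne_zero (Units.ne_zero _) ha0, Finset.mem_univ _⟩, ?_⟩
    exact ConjClasses.mk_eq_mk_iff_isConj.mpr ((PrimeSylow.isConj_pw_iff P hP ha0).mpr ⟨u, u.2, rfl⟩).symm
  · exact Subtype.ext (Units.ext (mul_right_cancel₀ ha0 h))
  · obtain ⟨u, hu, hu'⟩ := (PrimeSylow.isConj_pw_iff P hP ha0).mp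
      (ConjClasses.mk_eq_mk_iff_isConj.mp (Finset.mem_filter.mp hb).2).symm
    exact ⟨⟨u, hu⟩, Finset.mem_univ _, hu'⟩

/-- **Lower bound.** -/
theorem card_principal_ge (hM : IsPModular p M) (hP : Nat.card P = p) (e : ℕ)
    (he : (Subgroup.centralizer ((P : Subgroup G) : Set G)).relIndex
      (Subgroup.normalizer ((P : Subgroup G) : Set G)) = e) :
    e + (p - 1) / e ≤ Nat.card (principalBlock M G) := by
  classical
  subst he
  have hB : IsPBlock M (principalBlock M G) := isPBlock_principalBlock
  obtain ⟨h₀, hh₀C, hh₀⟩ := Finset.exists_ne_zero_of_sum_ne_zero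
    ((sum_idem_centralizer P hM hB).trans_ne one_ne_zero)
  replace hh₀C := (Finset.mem_filter.mp hh₀C).2
  have hh₀reg : ¬ p ∣ orderOf h₀ := fun h => hh₀ (rcoeff_idem_singular hM hB h)
  obtain ⟨z, hzid, hzπ, hzind⟩ := exists_trace_elements P hM hP hB
  set R : Finset (ConjClasses G) :=
    (Finset.univ.erase (0 : ZMod p)).image fun a => ConjClasses.mk (PrimeSylow.pw P hP a)
  have hRcard : R.card * _ = p - 1 := card_singular_classes P hP
  have hR : ∀ Q : R, ∃ a : ZMod p, a ≠ 0 ∧ ConjClasses.mk (PrimeSylow.pw P hP a) = Q.1 := fun Q => by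
    obtain ⟨a, ha, h⟩ := Finset.mem_image.mp Q.2
    exact ⟨a, (Finset.mem_erase.mp ha).1, h⟩
  choose rep hrep0 hrep using hR
  let w : R → Zint M G := fun Q => zclass M (PrimeSylow.pw P hP (rep Q)) * idem hB
  have hmain := card_le_card_block hB (Sum.elim z w) (fun i => by
    rcases i with m | Q
    · exact hzid m
    · simp only [Sum.elim_inr, w]; rw [mul_assoc, idem_mul_self]) (fun c hc => by
    simp only [Fintype.sum_sum_type, Sum.elim_inl, Sum.elim_inr, w] at hc
    have h1 := hc h₀
    have hw1 : ∀ Q : R, rcoeff (zclass M (PrimeSylow.pw P hP (rep Q)) * idem hB) h₀ = 0 := fun Q => by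
      have := rcoeff_singular_class P hM hP hB (a := rep Q) (Subgroup.one_mem _) hh₀C hh₀reg
      rwa [one_mul, if_neg] at this
      intro h
      exact hrep0 Q ((PrimeSylow.pw_eq_one_iff P hP).mp (isConj_one_left.mp h))
    rw [Finset.sum_eq_zero (fun (Q : R) _ => by rw [hw1, mul_zero]), add_zero] at h1
    have hcR : ∀ Q : R, c (Sum.inr Q) = 0 := by
      intro Q
      have h2 := hc (PrimeSylow.pw P hP (rep Q) * h₀)
      rw [Finset.sum_congr rfl fun m _ => by rw [hzπ m _ _ (PrimeSylow.pw_mem P hP _) hh₀C], h1, zero_add,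
        Finset.sum_eq_single Q, rcoeff_singular_class P hM hP hB (PrimeSylow.pw_mem P hP _) hh₀C hh₀reg,
        if_pos (IsConj.refl _)] at h2
      · exact (mul_eq_zero.mp h2).resolve_right hh₀
      · intro Q' _ hQ'
        rw [rcoeff_singular_class P hM hP hB (PrimeSylow.pw_mem P hP _) hh₀C hh₀reg, if_neg, mul_zero]
        intro h
        refine hQ' (Subtype.ext ?_)
        rw [← hrep Q', ← hrep Q]
        exact ConjClasses.mk_eq_mk_iff_isConj.mpr h
      · simp
    have hd := hzind (fun m => c (Sum.inl m)) fun g => by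
      have h2 := hc g
      rwa [Finset.sum_eq_zero (fun (Q : R) _ => by rw [hcR, zero_mul]), add_zero] at h2
    funext i
    rcases i with m | Q
    · exact congrFun hd m
    · exact hcR Q)
  rw [Nat.card_sum, Nat.card_eq_fintype_card, Fintype.card_fin, Nat.card_eq_fintype_card,
    Fintype.card_coe] at hmain
  have he0 : 0 < (Subgroup.centralizer ((P : Subgroup G) : Set G)).relIndex
      (Subgroup.normalizer ((P : Subgroup G) : Set G)) := by
    rw [← PrimeSylow.card_range_rhoU P hP]; exact Nat.card_pos
  rw [← hRcard, Nat.mul_div_cancel _ he0]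
  exact hmain

end CfsgLib.Blocks
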