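import Mathlib.Algebra.Order.BigOperators.Ring.Finset
import Mathlib.Algebra.BigOperators.Ring.Finset
import Mathlib.Data.Fintype.BigOperators
import Mathlib.Data.Fintype.Card
import Mathlib.Tactic.Linarith

/-!
# Integer columns with Gram matrix `I + e J`
-/

set_option autoImplicit false

namespace CfsgLib.Blocks.CyclicRows

open Finset

variable {α ι : Type*} [Fintype α] [Fintype ι] [DecidableEq ι] {r : α → ι → ℤ} {e : ℕ}
  (hgram : ∀ i j, ∑ a, r a i * r a j = (e : ℤ) + if i = j then 1 else 0)

include hgram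

omit [Fintype ι] in
theorem sum_sq_diff {i j : ι} (hij : i ≠ j) : ∑ a, (r a i - r a j) ^ 2 = 2 := by
  have h : ∀ a, (r a i - r a j) ^ 2 = r a i * r a i + r a j * r a j - 2 * (r a i * r a j) := fun a => by ring
  rw [sum_congr rfl fun a _ => h a, sum_sub_distrib, sum_add_distrib, ← mul_sum, hgram, hgram, hgram, if_pos rfl,
    if_pos rfl, if_neg hij]
  ring

omit [Fintype ι] in
theorem sq_diff_le {i j : ι} (hij : i ≠ j) (a : α) : (r a i - r a j) ^ 2 ≤ 2 := by
  rw [← sum_sq_diff hgram hij]
  exact single_le_sum (f := fun a => (r a i - r a j) ^ 2) (fun b _ => sq_nonneg _) (mem_univ a)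

omit [Fintype ι] in
theorem subsingleton_of_zero {i j : ι} (hij : i ≠ j) {a b : α} (ha : r a i = 0) (ha' : r a j ≠ 0)
    (hb : r b i = 0) (hb' : r b j ≠ 0) : a = b := by
  classical
  by_contra hne
  have h1 : ∀ c : α, r c i = 0 → r c j ≠ 0 → 1 ≤ (r c i - r c j) ^ 2 := fun c hc hc' => by
    have := mul_self_pos.mpr hc'
    rw [hc, zero_sub, neg_sq, sq]
    omega
  have hsum := sum_sq_diff hgram hij
  rw [← add_sum_erase _ _ (mem_univ a),
    ← add_sum_erase _ _ (mem_erase.mpr ⟨Ne.symm hne, mem_univ b⟩)] at hsum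
  have hrest : ∀ c ∈ (univ.erase a).erase b, r c i = r c j := by
    intro c hc
    have hle := single_le_sum (f := fun c => (r c i - r c j) ^ 2) (fun c _ => sq_nonneg _) hc
    have := h1 a ha ha'
    have := h1 b hb hb'
    have h0 : (r c i - r c j) ^ 2 = 0 := le_antisymm (by linarith) (sq_nonneg _)
    exact sub_eq_zero.mp (eq_zero_of_pow_eq_zero h0)
  have hi := hgram i i
  have hj := hgram j j
  rw [if_pos rfl, ← add_sum_erase _ _ (mem_univ a),
    ← add_sum_erase _ _ (mem_erase.mpr ⟨Ne.symm hne, mem_univ b⟩)] at hi hj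
  rw [ha, hb, sum_congr rfl fun c hc => by rw [hrest c hc]] at hi
  have hpa : 0 < r a j * r a j := mul_self_pos.mpr ha'
  have hpb : 0 < r b j * r b j := mul_self_pos.mpr hb'
  linarith

variable (hnz : ∀ a, ∃ i, r a i ≠ 0) (hcard : e + Fintype.card ι ≤ Fintype.card α)

include hnz hcard

theorem tight (i : ι) : Fintype.card α = e + Fintype.card ι ∧
    (∀ a, r a i ≠ 0 → r a i = 1 ∨ r a i = -1) ∧ (univ.filter fun a => r a i ≠ 0).card = e + 1 ∧
    ∀ a, r a i = 0 → ∀ j k, r a j ≠ 0 → r a k ≠ 0 → j = k := by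
  classical
  set A := univ.filter fun a => r a i ≠ 0
  set Z := univ.filter fun a => ¬ r a i ≠ 0
  have hAZ : A.card + Z.card = Fintype.card α := card_filter_add_card_filter_not _
  have hsq : ∀ a ∈ A, 1 ≤ r a i * r a i := fun a ha => by
    have := (mem_filter.mp ha).2
    have := mul_self_pos.mpr this
    omega
  have hsumA : ∑ a ∈ A, r a i * r a i = (e : ℤ) + 1 := by
    rw [sum_subset (subset_univ A) fun a _ ha => ?_, hgram, if_pos rfl]
    have : r a i = 0 := by simpa [A] using ha
    rw [this, mul_zero]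
  have hA : (A.card : ℤ) ≤ (e : ℤ) + 1 := by
    rw [← hsumA, card_eq_sum_ones, Nat.cast_sum, Nat.cast_one]
    exact sum_le_sum hsq
  set S := (Z ×ˢ (univ.erase i)).filter fun q => r q.1 q.2 ≠ 0
  have hS : S.card ≤ Fintype.card ι - 1 := by
    rw [← card_univ, ← card_erase_of_mem (mem_univ i)]
    refine card_le_card_of_injOn Prod.snd (fun q hq => (mem_product.mp (mem_filter.mp hq).1).2) ?_
    intro q hq q' hq' h
    have h1 := mem_filter.mp hq
    have h2 := mem_filter.mp hq'
    have hne : i ≠ q.2 := (mem_erase.mp (mem_product.mp h1.1).2).1.symm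
    refine Prod.ext (subsingleton_of_zero hgram hne ?_ h1.2 ?_ ?_) h
    · simpa [Z] using (mem_product.mp h1.1).1
    · simpa [Z] using (mem_product.mp h2.1).1
    · rw [h]; exact h2.2
  have hfib : S.card = ∑ a ∈ Z, ((univ.erase i).filter fun j => r a j ≠ 0).card := by
    simp only [S, card_filter]
    rw [sum_product]
  have hone : ∀ a ∈ Z, 1 ≤ ((univ.erase i).filter fun j => r a j ≠ 0).card := by
    intro a ha
    obtain ⟨j, hj⟩ := hnz a
    refine card_pos.mpr ⟨j, mem_filter.mpr ⟨mem_erase.mpr ⟨?_, mem_univ _⟩, hj⟩⟩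
    rintro rfl
    exact (mem_filter.mp ha).2 hj
  have hZ : Z.card ≤ S.card := by
    rw [hfib, card_eq_sum_ones]
    exact sum_le_sum hone
  have hι : 1 ≤ Fintype.card ι := Fintype.card_pos_iff.mpr ⟨i⟩
  have hAnat : A.card = e + 1 := by omega
  refine ⟨by omega, fun a ha => ?_, hAnat, fun a ha j k hj hk => ?_⟩
  · have hmem : a ∈ A := mem_filter.mpr ⟨mem_univ _, ha⟩
    have h1 : ∀ c ∈ A, (1 : ℤ) = r c i * r c i :=
      (sum_eq_sum_iff_of_le hsq).mp (by rw [hsumA, sum_const, nsmul_one, hAnat]; push_cast; rfl)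
    exact mul_self_eq_one_iff.mp (h1 a hmem).symm
  · have haZ : a ∈ Z := mem_filter.mpr ⟨mem_univ _, by simpa using ha⟩
    have h1 : ∀ c ∈ Z, 1 = ((univ.erase i).filter fun j => r c j ≠ 0).card :=
      (sum_eq_sum_iff_of_le hone).mp (by rw [← card_eq_sum_ones, ← hfib]; omega)
    exact card_le_one.mp (h1 a haZ).symm.le j
      (mem_filter.mpr ⟨mem_erase.mpr ⟨fun h => hj (h ▸ ha), mem_univ _⟩, hj⟩) k
      (mem_filter.mpr ⟨mem_erase.mpr ⟨fun h => hk (h ▸ ha), mem_univ _⟩, hk⟩)

/-- The rows are `e` constant rows and one unit row for each column, up to signs. -/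
theorem structure_rows [Nonempty ι] : Fintype.card α = e + Fintype.card ι ∧
    ∃ (η : ι → α) (σ : ι → ℤ), Function.Injective η ∧ (∀ i, σ i = 1 ∨ σ i = -1) ∧
      (∀ i j, r (η i) j = if i = j then σ i else 0) ∧
      ∀ a, (∀ i, η i ≠ a) → ∃ s : ℤ, (s = 1 ∨ s = -1) ∧ ∀ i, r a i = s := by
  classical
  refine ⟨(tight hgram hnz hcard (Classical.arbitrary ι)).1, ?_⟩
  have hfull : ∀ a i j, r a i ≠ 0 → r a j ≠ 0 → r a i = r a j := by
    intro a i j hi hj
    by_cases hij : i = j
    · rw [hij]
    have h := sq_diff_le hgram hij a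
    rcases (tight hgram hnz hcard i).2.1 a hi with h1 | h1 <;>
      rcases (tight hgram hnz hcard j).2.1 a hj with h2 | h2 <;> rw [h1, h2] at h ⊢ <;> norm_num at h
  by_cases hsub : Subsingleton ι
  · obtain ⟨i₀⟩ := ‹Nonempty ι›
    have hne : ∀ a, r a i₀ ≠ 0 := fun a => by
      obtain ⟨i, hi⟩ := hnz a
      rwa [Subsingleton.elim i₀ i]
    have : Nonempty α := Fintype.card_pos_iff.mp (by
      have : 0 < Fintype.card ι := Fintype.card_pos_iff.mpr ⟨i₀⟩
      omega)
    refine ⟨fun _ => Classical.arbitrary α, fun _ => r (Classical.arbitrary α) i₀,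
      fun i j _ => Subsingleton.elim i j, fun _ => (tight hgram hnz hcard i₀).2.1 _ (hne _), fun i j => ?_,
      fun a _ => ⟨r a i₀, (tight hgram hnz hcard i₀).2.1 a (hne a), fun i => by rw [Subsingleton.elim i i₀]⟩⟩
    rw [if_pos (Subsingleton.elim i j), Subsingleton.elim j i₀]
  · have hdich : ∀ a, (∀ i, r a i ≠ 0) ∨ ∀ j k, r a j ≠ 0 → r a k ≠ 0 → j = k := by
      intro a
      by_cases h : ∀ i, r a i ≠ 0
      · exact Or.inl h
      · push Not at h
        obtain ⟨i, hi⟩ := h
        exact Or.inr ((tight hgram hnz hcard i).2.2.2 a hi)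
    have hcount : ∀ _i : ι, ((univ.filter fun a => ∀ j, r a j ≠ 0).card : ℤ) = e := by
      intro i
      obtain ⟨j, hij⟩ : ∃ j, i ≠ j := by
        by_contra h; push Not at h; exact hsub ⟨fun a b => (h a).symm.trans (h b)⟩
      have h := hgram i j
      rw [if_neg hij, add_zero] at h
      rw [← h, card_filter, Nat.cast_sum]
      refine sum_congr rfl fun a _ => ?_
      split_ifs with hf
      · rcases (tight hgram hnz hcard i).2.1 a (hf i) with h1 | h1 <;>
          rw [← hfull a i j (hf i) (hf j), h1] <;> simp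
      · rcases hdich a with h1 | h1
        · exact absurd h1 hf
        · rw [Nat.cast_zero, eq_comm, mul_eq_zero]
          by_contra h2
          push Not at h2
          exact hij (h1 i j h2.1 h2.2)
    have hex : ∀ i, ∃ a, r a i ≠ 0 ∧ ¬ ∀ j, r a j ≠ 0 := by
      intro i
      by_contra h
      push Not at h
      have h2 : (univ.filter fun a => r a i ≠ 0) = univ.filter fun a => ∀ j, r a j ≠ 0 :=
        filter_congr fun a _ => ⟨fun ha => h a ha, fun ha => ha i⟩
      have h3 := (tight hgram hnz hcard i).2.2.1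
      have h4 := hcount i
      rw [← h2, h3] at h4
      push_cast at h4
      linarith
    choose η hη hη' using hex
    have hzero : ∀ i j, i ≠ j → r (η i) j = 0 := fun i j hij => by
      by_contra h
      rcases hdich (η i) with h1 | h1
      · exact hη' i h1
      · exact hij (h1 i j (hη i) h)
    refine ⟨η, fun i => r (η i) i, fun i j h => ?_, fun i => (tight hgram hnz hcard i).2.1 _ (hη i), fun i j => ?_,
      fun a ha => ?_⟩
    · by_contra hij
      exact hη i (h ▸ hzero j i (Ne.symm hij))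
    · split_ifs with h
      · rw [h]
      · exact hzero i j h
    · obtain ⟨i, hi⟩ := hnz a
      have hall : ∀ j, r a j ≠ 0 := by
        by_contra hall
        refine ha i ?_
        have hsame : ∀ j ≠ i, r a j = 0 := fun j hj => by
          by_contra h
          rcases hdich a with h1 | h1
          · exact hall h1
          · exact hj (h1 j i h hi)
        obtain ⟨j, hij⟩ : ∃ j, j ≠ i := by
          by_contra h; push Not at h; exact hsub ⟨fun a b => (h a).trans (h b).symm⟩
        exact subsingleton_of_zero hgram hij (hzero i j hij.symm) (hη i) (hsame j hij) hi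
      exact ⟨r a i, (tight hgram hnz hcard i).2.1 a hi, fun j => hfull a j i (hall j) hi⟩

end CfsgLib.Blocks.CyclicRows
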