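import Cfsg.Agent.Lib.Blocks.CyclicLower
import Cfsg.Agent.Lib.Blocks.CyclicRows
import Mathlib.Analysis.SpecialFunctions.Complex.CircleAddChar
import Mathlib.NumberTheory.LegendreSymbol.AddCharacter

/-!
# The principal block for a Sylow subgroup of prime order
-/

set_option autoImplicit false

noncomputable section

namespace CfsgLib.Blocks

open Cfsg PrimeSylow
open scoped ComplexConjugate

variable {M : Ideal AlgInt} [M.IsMaximal] {G : Type*} [Group G] [Fintype G] {p : ℕ} [hp : Fact p.Prime]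
  (P : Sylow p G)

local notation "ψ" => ZMod.stdAddChar

omit [M.IsMaximal] [Fintype G] in
theorem conj_stdAddChar (c : ZMod p) : conj (ψ c) = ψ (-c) := by
  have : NeZero p := ⟨hp.out.ne_zero⟩
  rw [AddChar.starComp_apply (by rw [ZMod.ringChar_zmod_n]; exact hp.out.pos), AddChar.inv_apply]

omit [Fintype G] in
theorem sum_stdAddChar (b : ZMod p) : ∑ i : ZMod p, ψ (i * b) = if b = 0 then (p : ℂ) else 0 := by
  have : NeZero p := ⟨hp.out.ne_zero⟩
  rw [AddChar.sum_mulShift b (ZMod.isPrimitive_stdAddChar p), ZMod.card]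
  split_ifs <;> simp

/-- Integral Fourier coefficients of a character on `P`. -/
theorem exists_fourier (hP : Nat.card P = p) (χ : IrrCharacter G) :
    ∃ a : ZMod p → ℤ, ∀ j : ZMod p, (p : ℂ) * (a j : ℂ) = ∑ i : ZMod p, ψ (-(j * i)) * (χ : G → ℂ) (pw P hP i) := by
  have : NeZero p := ⟨hp.out.ne_zero⟩
  obtain ⟨n, -, hn⟩ := exists_multiplicities (CfsgLib.Char.isCharacter_of_isIrr χ.2) (gen P hP)
  rw [orderOf_gen P hP] at hn
  refine ⟨fun j => (n j.val : ℤ), fun j => ?_⟩
  rw [Int.cast_natCast, hn j.val (Finset.mem_range.mpr j.val_lt)]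
  refine Finset.sum_bij' (fun i _ => (i : ZMod p)) (fun c _ => c.val) (fun i _ => Finset.mem_univ _)
    (fun c _ => Finset.mem_range.mpr c.val_lt) (fun i hi => ZMod.val_natCast_of_lt (Finset.mem_range.mp hi))
    (fun c _ => ZMod.natCast_zmod_val c) fun i hi => ?_
  rw [pw_natCast, AddChar.map_neg_eq_inv, inv_pow, ← pow_mul]
  congr 2
  rw [show j * (i : ZMod p) = (((j.val * i : ℕ) : ℤ) : ZMod p) by push_cast; rw [ZMod.natCast_zmod_val],
    ZMod.stdAddChar_coe, ← Complex.exp_nat_mul]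
  congr 1
  push_cast
  ring

omit [M.IsMaximal] in
theorem inversion (hP : Nat.card P = p) {χ : IrrCharacter G} {a : ZMod p → ℤ}
    (ha : ∀ j : ZMod p, (p : ℂ) * (a j : ℂ) = ∑ i : ZMod p, ψ (-(j * i)) * (χ : G → ℂ) (pw P hP i)) (i : ZMod p) :
    (χ : G → ℂ) (pw P hP i) = ∑ j : ZMod p, (a j : ℂ) * ψ (j * i) := by
  have hp0 : (p : ℂ) ≠ 0 := Nat.cast_ne_zero.mpr hp.out.ne_zero
  refine mul_left_cancel₀ hp0 ?_
  symm
  calc (p : ℂ) * ∑ j : ZMod p, (a j : ℂ) * ψ (j * i)
      = ∑ j : ZMod p, (∑ l : ZMod p, ψ (-(j * l)) * (χ : G → ℂ) (pw P hP l)) * ψ (j * i) := by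
        rw [Finset.mul_sum]
        exact Finset.sum_congr rfl fun j _ => by rw [← ha]; ring
    _ = ∑ l : ZMod p, (χ : G → ℂ) (pw P hP l) * ∑ j : ZMod p, ψ (j * (i - l)) := by
        simp only [Finset.sum_mul, Finset.mul_sum]
        rw [Finset.sum_comm]
        refine Finset.sum_congr rfl fun l _ => Finset.sum_congr rfl fun j _ => ?_
        rw [mul_sub, sub_eq_add_neg, AddChar.map_add_eq_mul]
        ring
    _ = _ := by
        rw [Finset.sum_congr rfl fun l _ => by rw [sum_stdAddChar], Finset.sum_eq_single i]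
        · rw [if_pos (sub_self i), mul_comm]
        · intro l _ hl
          rw [if_neg (sub_ne_zero.mpr hl.symm), mul_zero]
        · simp

omit [M.IsMaximal] in
theorem orderOf_pw_pow (hP : Nat.card P = p) (a : ZMod p) : ∃ k : ℕ, orderOf (pw P hP a) = p ^ k := by
  by_cases h : a = 0
  · exact ⟨0, by rw [h, pw_zero, orderOf_one, pow_zero]⟩
  · exact ⟨1, by rw [pow_one, ← Nat.card_zpowers, zpowers_pw P hP h]; exact hP⟩

omit [M.IsMaximal] in
theorem nc_centralizer_pw (hP : Nat.card P = p) {a : ZMod p} (ha : a ≠ 0) :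
    ∃ k : ℕ, (pPrimeCore p (Subgroup.centralizer ({pw P hP a} : Set G))).index = p ^ k := by
  rw [centralizer_pw P hP ha]
  obtain ⟨N, hN, hcop, k, hk⟩ :=
    CfsgLib.Transfer.hasNormalPComplement_iff.mp (hasNormalPComplement_centralizer P hP)
  have hle : N ≤ pPrimeCore p _ := @CfsgLib.Cores.le_pPrimeCore _ _ p N hN hcop
  obtain ⟨j, -, hj⟩ := (Nat.dvd_prime_pow hp.out).mp (hk ▸ Subgroup.index_dvd_of_le hle)
  exact ⟨j, hj⟩

omit [M.IsMaximal] in
theorem factorization_card (hP : Nat.card P = p) : (Nat.card G).factorization p = 1 := by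
  have h := P.card_eq_multiplicity
  rw [show Nat.card (P : Subgroup G) = p from hP] at h
  exact ((Nat.pow_eq_self_iff hp.out.one_lt).mp h.symm)

/-- The Gram matrix of the columns of the principal block at the elements of `P`. -/
theorem column_inner (hM : IsPModular p M) (hP : Nat.card P = p) {i l : ZMod p} (hi : i ≠ 0) (hl : l ≠ 0)
    [DecidablePred (· ∈ principalBlock M G)] [Decidable (IsConj (pw P hP i) (pw P hP l))] :
    ∑ χ : IrrCharacter G, (if χ ∈ principalBlock M G then
        (χ : G → ℂ) (pw P hP i) * conj ((χ : G → ℂ) (pw P hP l)) else 0) =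
      if IsConj (pw P hP i) (pw P hP l) then (p : ℂ) else 0 := by
  classical
  let _ := Fintype.ofFinite (Subgroup.centralizer ({pw P hP i} : Set G))
  split_ifs with h
  · have h1 := sum_principal_section_complement hM (x := pw P hP i) (orderOf_pw_pow P hP i)
      (nc_centralizer_pw P hP hi) (y := 1) (by rw [orderOf_one]; exact hp.out.not_dvd_one)
    rw [OneMemClass.coe_one, mul_one] at h1
    have hfac : (Nat.card (Subgroup.centralizer ({pw P hP i} : Set G))).factorization p = 1 := by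
      refine le_antisymm ?_ ?_
      · rw [← factorization_card P hP]
        exact (Nat.factorization_le_iff_dvd Nat.card_pos.ne' Nat.card_pos.ne').mpr
          (Subgroup.card_subgroup_dvd_card _) p
      · refine hp.out.factorization_pos_of_dvd Nat.card_pos.ne' ?_
        rw [centralizer_pw P hP hi]
        exact (dvd_of_eq hP.symm).trans (Subgroup.card_dvd_of_le (le_centralizer P hP))
    rw [hfac, pow_one] at h1
    refine Eq.trans (Finset.sum_congr rfl fun χ _ => ?_) h1
    rw [(CfsgLib.Char.isClassFunction_iff.mp (CfsgLib.Char.isClassFunction_of_isIrr χ.2)) _ _ h]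
  · exact block_orthogonality hM (isPPart_self hp.out (orderOf_pw_pow P hP i))
      (isPPart_self hp.out (orderOf_pw_pow P hP l)) h isPBlock_principalBlock

/-- Columns at nontrivial elements of `P` are orthogonal to `p`-regular columns. -/
theorem column_regular (hM : IsPModular p M) (hP : Nat.card P = p) {i : ZMod p} (hi : i ≠ 0) {g : G}
    (hg : ¬ p ∣ orderOf g) [DecidablePred (· ∈ principalBlock M G)] :
    ∑ χ : IrrCharacter G, (if χ ∈ principalBlock M G then
        (χ : G → ℂ) (pw P hP i) * (χ : G → ℂ) g else 0) = 0 := by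
  classical
  let _ := Fintype.ofFinite (Subgroup.centralizer ({pw P hP i} : Set G))
  have h := block_orthogonality hM (g := pw P hP i) (h := g⁻¹) (x := pw P hP i) (y := 1)
    (isPPart_self hp.out (orderOf_pw_pow P hP i)) (isPPart_one_iff.mpr (by rwa [orderOf_inv]))
    (fun h => hi ((pw_eq_one_iff P hP).mp (isConj_one_left.mp h))) (isPBlock_principalBlock (M := M))
  refine Eq.trans (Finset.sum_congr rfl fun χ _ => ?_) h
  rw [CfsgLib.Char.char_inv (CfsgLib.Char.isCharacter_of_isIrr χ.2), Complex.conj_conj]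

/-- The value of a principal block character on the `p`-singular elements. -/
theorem principal_value (hM : IsPModular p M) (hP : Nat.card P = p) {χ : IrrCharacter G}
    (hχ : χ ∈ principalBlock M G) {i : ZMod p} (hi : i ≠ 0) {y : G}
    (hy : y ∈ Subgroup.centralizer ((P : Subgroup G) : Set G)) (hreg : ¬ p ∣ orderOf y) :
    (χ : G → ℂ) (pw P hP i * y) = (χ : G → ℂ) (pw P hP i) := by
  classical
  let _ := Fintype.ofFinite (Subgroup.centralizer ({pw P hP i} : Set G))
  rw [← centralizer_pw P hP hi] at hy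
  exact principal_section_const hM (orderOf_pw_pow P hP i) (nc_centralizer_pw P hP hi) hχ
    (y := ⟨y, hy⟩) (by rwa [Subgroup.orderOf_mk])

/-- No character of the principal block vanishes on `P \ 1`. -/
theorem exists_value_ne_zero (hM : IsPModular p M) (hP : Nat.card P = p) {χ : IrrCharacter G}
    (hχ : χ ∈ principalBlock M G) {a : ZMod p → ℤ}
    (ha : ∀ j : ZMod p, (p : ℂ) * (a j : ℂ) = ∑ i : ZMod p, ψ (-(j * i)) * (χ : G → ℂ) (pw P hP i)) :
    ∃ j, j ≠ 0 ∧ a j ≠ a 0 := by
  classical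
  by_contra hcon
  push Not at hcon
  have hall : ∀ j, a j = a 0 := fun j => by
    by_cases h : j = 0
    · rw [h]
    · exact hcon j h
  have hval : ∀ i : ZMod p, (χ : G → ℂ) (pw P hP i) = (a 0 : ℂ) * if i = 0 then (p : ℂ) else 0 := fun i => by
    rw [inversion P hP ha, ← sum_stdAddChar i, Finset.mul_sum]
    exact Finset.sum_congr rfl fun j _ => by rw [hall]
  have hvan : ∀ g : G, p ∣ orderOf g → (χ : G → ℂ) g = 0 := by
    intro g hg
    obtain ⟨z, hz⟩ := exists_isPPart (p := p) g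
    have hz1 : z ≠ 1 := fun h => (isPPart_one_iff.mp (h ▸ hz)) hg
    obtain ⟨y, hzy, hcomm, ⟨k, hk⟩, hy⟩ := hz
    obtain ⟨Q, hQ⟩ := (IsPGroup.of_card (n := k) (show Nat.card (Subgroup.zpowers z) = p ^ k by
      rw [Nat.card_zpowers, hk])).exists_le_sylow
    obtain ⟨c, hc⟩ := MulAction.exists_smul_eq G Q P
    have hzP : c * z * c⁻¹ ∈ (P : Subgroup G) := by
      rw [← hc, Sylow.coe_subgroup_smul]
      exact ⟨z, hQ (Subgroup.mem_zpowers z), by simp⟩
    obtain ⟨i, hi⟩ := pw_surjOn P hP hzP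
    have hi0 : i ≠ 0 := fun h => hz1 (by
      rw [h, pw_zero] at hi
      exact (conj_eq_one_iff (a := c)).mp hi.symm)
    have hcy : c * y * c⁻¹ ∈ Subgroup.centralizer ((P : Subgroup G) : Set G) := by
      rw [← centralizer_pw P hP hi0, hi, Subgroup.mem_centralizer_singleton_iff]
      have := hcomm.eq
      calc c * y * c⁻¹ * (c * z * c⁻¹) = c * (y * z) * c⁻¹ := by group
        _ = c * (z * y) * c⁻¹ := by rw [this]
        _ = c * z * c⁻¹ * (c * y * c⁻¹) := by group
    rw [← CfsgLib.Char.isClassFunction_of_isIrr χ.2 g c, show c * g * c⁻¹ = pw P hP i * (c * y * c⁻¹) by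
      rw [hi, ← hzy]; group, principal_value P hM hP hχ hi0 hcy (by
      rwa [show c * y * c⁻¹ = MulAut.conj c y by simp, MulEquiv.orderOf_eq]), hval, if_neg hi0, mul_zero]
  have h1 : (χ : G → ℂ) 1 = (charDegree (χ : G → ℂ) : ℂ) := charDegree_eq (CfsgLib.Char.isCharacter_of_isIrr χ.2)
  have hdeg : (charDegree (χ : G → ℂ) : ℤ) = a 0 * p := by
    have h := hval 0
    rw [pw_zero, h1, if_pos rfl] at h
    exact_mod_cast h
  have hsub := blockOf_subset_of_integral (M := M) (A := {χ}) (χ := χ) (fun g => ?_) rfl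
  · rw [← isPBlock_eq_blockOf isPBlock_principalBlock hχ] at hsub
    have h2 : (CfsgLib.Char.irrOne : IrrCharacter G) = χ := hsub irrOne_mem_principalBlock
    rw [← h2] at hdeg
    rw [show charDegree ((CfsgLib.Char.irrOne : IrrCharacter G) : G → ℂ) = 1 from charDegree_one] at hdeg
    exact hp.out.not_dvd_one (Int.natCast_dvd_natCast.mp ⟨a 0, by rw [mul_comm]; exact hdeg⟩)
  · rw [blockCoeff_eq, Finset.sum_eq_single χ]
    · rw [if_pos (Set.mem_singleton χ)]
      by_cases hg : p ∣ orderOf g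
      · rw [hvan g hg, map_zero, mul_zero, mul_zero]
        exact Subring.zero_mem _
      · rw [← mul_assoc, h1, ← div_eq_inv_mul]
        refine Subring.mul_mem _ (frac_mem_locRing hM Nat.card_pos.ne' (Or.inr ?_)) ?_
        · rw [factorization_card P hP]
          exact hp.out.factorization_pos_of_dvd (charDegree_ne_zero χ) (Int.natCast_dvd_natCast.mp ⟨a 0, by rw [hdeg, mul_comm]⟩)
        · rw [← CfsgLib.Char.char_inv (CfsgLib.Char.isCharacter_of_isIrr χ.2)]
          exact algInt_le_locRing M (CfsgLib.Char.char_isIntegral (CfsgLib.Char.isCharacter_of_isIrr χ.2) _)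
    · intro b _ hb; rw [if_neg (show b ∉ ({χ} : Set (IrrCharacter G)) by simpa using hb)]
    · simp

set_option maxHeartbeats 1600000 in
/-- **The principal block.** `η` lists the exceptional characters, `ε` gives the signs. -/
theorem principal_block_prime_sylow (hM : IsPModular p M) (hP : Nat.card P = p) (e : ℕ)
    (he : (Subgroup.centralizer ((P : Subgroup G) : Set G)).relIndex
      (Subgroup.normalizer ((P : Subgroup G) : Set G)) = e) :
    ∃ X Y : Set (IrrCharacter G), principalBlock M G = X ∪ Y ∧ Disjoint X Y ∧ Nat.card X = e ∧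
      Nat.card Y = (p - 1) / e ∧ Nat.card (principalBlock M G) = e + (p - 1) / e ∧
      ∃ (εX : IrrCharacter G → ℤ) (ε : ℤ),
        (∀ χ ∈ X, (εX χ = 1 ∨ εX χ = -1) ∧ (charDegree (χ : G → ℂ) : ℤ) ≡ εX χ [ZMOD p] ∧
          ∀ x : G, x ∈ (P : Subgroup G) → x ≠ 1 → ∀ y : G,
            y ∈ Subgroup.centralizer ((P : Subgroup G) : Set G) → ¬ p ∣ orderOf y →
              (χ : G → ℂ) (x * y) = (εX χ : ℂ)) ∧
        (ε = 1 ∨ ε = -1) ∧ (∀ θ ∈ Y, (charDegree (θ : G → ℂ) : ℤ) ≡ ε * (e : ℤ) [ZMOD p]) ∧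
        (∀ θ ∈ Y, ∀ θ' ∈ Y, ∀ g : G, ¬ p ∣ orderOf g → (θ : G → ℂ) g = (θ' : G → ℂ) g) ∧
        ∀ θ ∈ Y, ∀ g : G, ¬ p ∣ orderOf g →
          (ε : ℂ) * (θ : G → ℂ) g = ∑ᶠ χ ∈ X, (εX χ : ℂ) * (χ : G → ℂ) g := by
  classical
  have : NeZero p := ⟨hp.out.ne_zero⟩
  have hp0 : (p : ℂ) ≠ 0 := Nat.cast_ne_zero.mpr hp.out.ne_zero
  let _ := Fintype.ofFinite (principalBlock M G)
  choose a ha using exists_fourier P hP
  set E : Finset (ZMod p) := Finset.univ.filter fun u => ∃ n, rho P hP n = u with hE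
  have hEcard : E.card = e := by
    rw [← he, ← card_range_rhoU P hP, Nat.card_eq_fintype_card, ← Finset.card_univ]
    refine (Finset.card_bij (fun (u : (rhoU P hP).range) _ => ((u : (ZMod p)ˣ) : ZMod p)) (fun u _ => ?_)
      (fun u _ u' _ h => Subtype.ext (Units.ext h)) fun b hb => ?_).symm
    · obtain ⟨n, hn⟩ := u.2
      exact Finset.mem_filter.mpr ⟨Finset.mem_univ _, n, by rw [← coe_rhoU, hn]⟩
    · obtain ⟨n, rfl⟩ := (Finset.mem_filter.mp hb).2
      exact ⟨⟨rhoU P hP n, n, rfl⟩, Finset.mem_univ _, coe_rhoU P hP n⟩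
  have hconj : ∀ {i : ZMod p}, i ≠ 0 → ∀ l, IsConj (pw P hP i) (pw P hP l) ↔ ∃ u ∈ E, u * i = l := by
    intro i hi l
    rw [isConj_pw_iff P hP hi]
    constructor
    · rintro ⟨u, ⟨n, rfl⟩, h⟩
      exact ⟨rho P hP n, Finset.mem_filter.mpr ⟨Finset.mem_univ _, n, rfl⟩, h⟩
    · rintro ⟨u, hu, h⟩
      obtain ⟨n, rfl⟩ := (Finset.mem_filter.mp hu).2
      exact ⟨_, ⟨n, rfl⟩, h⟩
  have hE0 : ∀ u ∈ E, u ≠ 0 := fun u hu => by
    obtain ⟨n, rfl⟩ := (Finset.mem_filter.mp hu).2
    exact rho_ne_zero P hP n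
  let b : IrrCharacter G → ZMod p → ℤ := fun χ j => a χ j - a χ 0
  have hb : ∀ χ j, (p : ℂ) * (b χ j : ℂ) = ∑ i : ZMod p, (ψ (-(j * i)) - 1) * (χ : G → ℂ) (pw P hP i) := by
    intro χ j
    simp only [b, Int.cast_sub, mul_sub, ha, sub_mul, one_mul, Finset.sum_sub_distrib, zero_mul, neg_zero,
      AddChar.map_zero_eq_one]
  -- Gram matrix
  have hgram : ∀ j k : ZMod p, j ≠ 0 → k ≠ 0 →
      ∑ χ : principalBlock M G, b χ j * b χ k = (e : ℤ) + if IsConj (pw P hP k) (pw P hP j) then 1 else 0 := by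
    intro j k hj hk
    refine Int.cast_injective (α := ℂ) ?_
    refine mul_left_cancel₀ (mul_ne_zero hp0 hp0) ?_
    calc (p : ℂ) * p * ((∑ χ : principalBlock M G, b χ j * b χ k : ℤ) : ℂ)
        = ∑ χ : principalBlock M G, ((p : ℂ) * (b χ j : ℂ)) * conj ((p : ℂ) * (b χ k : ℂ)) := by
          push_cast
          rw [Finset.mul_sum]
          refine Finset.sum_congr rfl fun χ _ => ?_
          rw [map_mul, map_natCast, map_intCast] -- real
          ring
      _ = ∑ i : ZMod p, ∑ l : ZMod p, (ψ (-(j * i)) - 1) * (ψ (k * l) - 1) *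
            ∑ χ : principalBlock M G, (χ : G → ℂ) (pw P hP i) * conj ((χ : G → ℂ) (pw P hP l)) := by
          simp only [hb, map_sum, map_mul, map_sub, map_one, conj_stdAddChar, neg_neg, Finset.sum_mul,
            Finset.mul_sum]
          rw [Finset.sum_comm]
          conv_rhs => rw [Finset.sum_comm]
          refine Finset.sum_congr rfl fun i _ => ?_
          rw [Finset.sum_comm]
          exact Finset.sum_congr rfl fun l _ => Finset.sum_congr rfl fun χ _ => by ring
      _ = ∑ i : ZMod p, (ψ (-(j * i)) - 1) * ((p : ℂ) * ∑ u ∈ E, (ψ (k * (u * i)) - 1)) := by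
          refine Finset.sum_congr rfl fun i _ => ?_
          by_cases hi : i = 0
          · subst hi; simp
          rw [Finset.mul_sum, Finset.mul_sum]
          refine Eq.trans (Finset.sum_subset (Finset.subset_univ (E.image fun u => u * i)) ?_).symm ?_
          · intro l _ hl
            by_cases hl0 : l = 0
            · subst hl0; simp
            have hcol := column_inner P hM hP hi hl0
            rw [← Finset.sum_filter, Finset.sum_subtype _ (p := fun χ => χ ∈ principalBlock M G) (by simp)] at hcol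
            rw [hcol, if_neg, mul_zero]
            rw [hconj hi]
            exact fun ⟨u, hu, h⟩ => hl (Finset.mem_image.mpr ⟨u, hu, h⟩)
          · rw [Finset.sum_image fun u _ u' _ h => mul_right_cancel₀ hi h]
            refine Finset.sum_congr rfl fun u hu => ?_
            have hcol := column_inner P hM hP hi (mul_ne_zero (hE0 u hu) hi)
            rw [← Finset.sum_filter, Finset.sum_subtype _ (p := fun χ => χ ∈ principalBlock M G) (by simp)] at hcol
            rw [hcol, if_pos ((hconj hi _).mpr ⟨u, hu, rfl⟩)]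
            ring
      _ = (p : ℂ) * ∑ u ∈ E, ∑ i : ZMod p, (ψ (i * (k * u - j)) - ψ (i * -j) - ψ (i * (k * u)) + 1) := by
          simp only [Finset.mul_sum]
          rw [Finset.sum_comm]
          refine Finset.sum_congr rfl fun u _ => Finset.sum_congr rfl fun i _ => ?_
          rw [show k * (u * i) = i * (k * u) by ring, show -(j * i) = i * -j by ring,
            show i * (k * u - j) = i * -j + i * (k * u) by ring, AddChar.map_add_eq_mul]
          ring
      _ = (p : ℂ) * ∑ u ∈ E, ((p : ℂ) * if k * u = j then 1 else 0) + (p : ℂ) * ((E.card : ℂ) * p) := by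
          rw [← mul_add]
          congr 1
          rw [← nsmul_eq_mul, ← Finset.sum_const, ← Finset.sum_add_distrib]
          refine Finset.sum_congr rfl fun u hu => ?_
          rw [Finset.sum_add_distrib, Finset.sum_sub_distrib, Finset.sum_sub_distrib, sum_stdAddChar,
            sum_stdAddChar, sum_stdAddChar, if_neg (neg_ne_zero.mpr hj), if_neg (mul_ne_zero hk (hE0 u hu)),
            Finset.sum_const, Finset.card_univ, ZMod.card, nsmul_one, sub_zero, sub_zero]
          simp only [sub_eq_zero, mul_ite, mul_one, mul_zero]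
      _ = _ := by
          rw [← Finset.mul_sum, Finset.sum_boole, hEcard]
          have hc : ((E.filter fun u => k * u = j).card : ℂ) =
              ((if IsConj (pw P hP k) (pw P hP j) then 1 else 0 : ℤ) : ℂ) := by
            split_ifs with h
            · obtain ⟨u, hu, hu'⟩ := (hconj hk j).mp h
              have : (E.filter fun u => k * u = j) = {u} := by
                ext v
                simp only [Finset.mem_filter, Finset.mem_singleton]
                exact ⟨fun ⟨_, hv⟩ => mul_left_cancel₀ hk (hv.trans (by rw [← hu', mul_comm])),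
                  fun hv => ⟨hv ▸ hu, by rw [hv, ← hu', mul_comm]⟩⟩
              rw [this, Finset.card_singleton, Nat.cast_one, Int.cast_one]
            · rw [Finset.filter_false_of_mem, Finset.card_empty, Nat.cast_zero, Int.cast_zero]
              exact fun u hu hv => h ((hconj hk j).mpr ⟨u, hu, by rw [mul_comm]; exact hv⟩)
          rw [hc]
          push_cast
          ring
  have hconst : ∀ j k : ZMod p, j ≠ 0 → k ≠ 0 → IsConj (pw P hP k) (pw P hP j) →
      ∀ χ : principalBlock M G, b χ j = b χ k := by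
    intro j k hj hk h χ
    have h0 : ∑ χ : principalBlock M G, (b χ j - b χ k) ^ 2 = 0 := by
      have e1 : ∀ χ : principalBlock M G, (b χ j - b χ k) ^ 2 =
          b χ j * b χ j + b χ k * b χ k - 2 * (b χ j * b χ k) := fun χ => by ring
      rw [Finset.sum_congr rfl fun χ _ => e1 χ, Finset.sum_sub_distrib, Finset.sum_add_distrib, ← Finset.mul_sum,
        hgram j j hj hj, hgram k k hk hk, hgram j k hj hk, if_pos h, if_pos (IsConj.refl _), if_pos (IsConj.refl _)]
      ring
    exact sub_eq_zero.mp (eq_zero_of_pow_eq_zero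
      ((Finset.sum_eq_zero_iff_of_nonneg fun c _ => sq_nonneg _).mp h0 χ (Finset.mem_univ _)))
  -- representatives
  set R : Finset (ConjClasses G) := (Finset.univ.erase (0 : ZMod p)).image fun i => ConjClasses.mk (pw P hP i)
  have hR : ∀ Q : R, ∃ i : ZMod p, i ≠ 0 ∧ ConjClasses.mk (pw P hP i) = Q.1 := fun Q => by
    obtain ⟨i, hi, h⟩ := Finset.mem_image.mp Q.2
    exact ⟨i, (Finset.mem_erase.mp hi).1, h⟩
  choose rep hrep0 hrep using hR
  have hcls : ∀ j : ZMod p, j ≠ 0 → ∃ Q : R, IsConj (pw P hP (rep Q)) (pw P hP j) := fun j hj =>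
    ⟨⟨_, Finset.mem_image_of_mem (fun i => ConjClasses.mk (pw P hP i)) (Finset.mem_erase.mpr ⟨hj, Finset.mem_univ j⟩)⟩,
      ConjClasses.mk_eq_mk_iff_isConj.mp (hrep _)⟩
  have he0 : 0 < e := by rw [← he, ← card_range_rhoU P hP]; exact Nat.card_pos
  have hRcard : R.card * e = p - 1 := he ▸ card_singular_classes P hP
  have ht : (p - 1) / e = Fintype.card R := by
    rw [← hRcard, Nat.mul_div_cancel _ he0, Fintype.card_coe]
  have : Nonempty R := Fintype.card_pos_iff.mp (by
    rw [Fintype.card_coe]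
    have := hp.out.two_le
    rcases Nat.eq_zero_or_pos R.card with h | h
    · rw [h] at hRcard; omega
    · exact h)
  let r : principalBlock M G → R → ℤ := fun χ Q => b χ (rep Q)
  have hgramR : ∀ Q Q' : R, ∑ χ, r χ Q * r χ Q' = (e : ℤ) + if Q = Q' then 1 else 0 := by
    intro Q Q'
    rw [hgram _ _ (hrep0 Q) (hrep0 Q')]
    refine congrArg _ (if_congr ?_ rfl rfl)
    refine ⟨fun h => Subtype.ext ?_, fun h => h ▸ IsConj.refl _⟩
    rw [← hrep Q, ← hrep Q']
    exact (ConjClasses.mk_eq_mk_iff_isConj.mpr h).symm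
  have hnz : ∀ χ : principalBlock M G, ∃ Q, r χ Q ≠ 0 := fun χ => by
    obtain ⟨j, hj, hne⟩ := exists_value_ne_zero P hM hP χ.2 (ha χ.1)
    obtain ⟨Q, hQ⟩ := hcls j hj
    refine ⟨Q, ?_⟩
    simp only [r]
    rw [← hconst j _ hj (hrep0 Q) hQ χ]
    exact sub_ne_zero.mpr hne
  have hlow : e + Fintype.card R ≤ Fintype.card (principalBlock M G) := by
    rw [← ht, ← Nat.card_eq_fintype_card]
    exact card_principal_ge P hM hP e he
  obtain ⟨hk, η, σ, hηinj, hσ, hη, hfull⟩ := CyclicRows.structure_rows hgramR hnz hlow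
  set Y : Set (IrrCharacter G) := Set.range fun Q => (η Q).1 with hY
  set X : Set (IrrCharacter G) := principalBlock M G \ Y with hX
  have hYB : Y ⊆ principalBlock M G := by rintro _ ⟨Q, rfl⟩; exact (η Q).2
  have hYcard : Nat.card Y = (p - 1) / e := by
    rw [hY, Nat.card_range_of_injective (f := fun Q => (η Q).1) (Subtype.val_injective.comp hηinj), ht, Nat.card_eq_fintype_card]
  have hBcard : Nat.card (principalBlock M G) = e + (p - 1) / e := by
    rw [Nat.card_eq_fintype_card, hk, ht]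
  have hXcard : Nat.card X = e := by
    have h := Set.ncard_sdiff hYB (Set.toFinite Y)
    rw [Nat.card_coe_set_eq, hX, h, ← Nat.card_coe_set_eq, ← Nat.card_coe_set_eq, hBcard, hYcard]
    omega
  choose s hs hsval using fun (χ : {χ : principalBlock M G // ∀ Q, η Q ≠ χ}) => hfull χ.1 χ.2
  let εX : IrrCharacter G → ℤ := fun χ => if h : χ ∈ principalBlock M G ∧ χ ∉ Y then
    -s ⟨⟨χ, h.1⟩, fun Q hQ => h.2 ⟨Q, congrArg Subtype.val hQ⟩⟩ else 1
  have hXb : ∀ χ ∈ X, (εX χ = 1 ∨ εX χ = -1) ∧ ∀ j, j ≠ 0 → b χ j = -εX χ := by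
    intro χ hχ
    have hh : χ ∈ principalBlock M G ∧ χ ∉ Y := ⟨hχ.1, hχ.2⟩
    simp only [εX, dif_pos hh]
    refine ⟨?_, fun j hj => ?_⟩
    · rcases hs ⟨⟨χ, hh.1⟩, fun Q hQ => hh.2 ⟨Q, congrArg Subtype.val hQ⟩⟩ with h | h <;> simp [h]
    · obtain ⟨Q, hQ⟩ := hcls j hj
      rw [neg_neg, hconst j _ hj (hrep0 Q) hQ ⟨χ, hh.1⟩]
      exact hsval ⟨⟨χ, hh.1⟩, fun Q hQ => hh.2 ⟨Q, congrArg Subtype.val hQ⟩⟩ Q
  have hdeg : ∀ χ : IrrCharacter G, (charDegree (χ : G → ℂ) : ℤ) ≡ ∑ j ∈ Finset.univ.erase 0, b χ j [ZMOD p] := by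
    intro χ
    have h := inversion P hP (ha χ) 0
    rw [pw_zero, charDegree_eq (CfsgLib.Char.isCharacter_of_isIrr χ.2)] at h
    simp only [mul_zero, AddChar.map_zero_eq_one, mul_one] at h
    have hsum : (charDegree (χ : G → ℂ) : ℤ) = ∑ j, a χ j := by exact_mod_cast h
    rw [hsum, Finset.sum_erase _ (show b χ 0 = 0 from sub_self _)]
    simp only [b, Finset.sum_sub_distrib, Finset.sum_const, Finset.card_univ, ZMod.card, nsmul_eq_mul]
    exact (Int.modEq_iff_dvd.mpr ⟨a χ 0, by ring⟩).symm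
  have hcardne : (Finset.univ.erase (0 : ZMod p)).card = p - 1 := by
    rw [Finset.card_erase_of_mem (Finset.mem_univ _), Finset.card_univ, ZMod.card]
  have hYb : ∀ Q : R, ∀ j, j ≠ 0 → b (η Q).1 j = if IsConj (pw P hP (rep Q)) (pw P hP j) then σ Q else 0 := by
    intro Q j hj
    obtain ⟨Q', hQ'⟩ := hcls j hj
    rw [hconst j _ hj (hrep0 Q') hQ' (η Q)]
    change r (η Q) Q' = _
    rw [hη]
    refine if_congr ?_ rfl rfl
    refine ⟨fun h => h ▸ hQ', fun h => Subtype.ext ?_⟩
    rw [← hrep Q, ← hrep Q', ConjClasses.mk_eq_mk_iff_isConj]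
    exact h.trans hQ'.symm
  -- the linear relation on regular elements
  have hrel : ∀ Q : R, ∀ g : G, ¬ p ∣ orderOf g →
      (σ Q : ℂ) * ((η Q).1 : G → ℂ) g = ∑ᶠ χ ∈ X, (εX χ : ℂ) * (χ : G → ℂ) g := by
    intro Q g hg
    have h0 : ∑ χ : principalBlock M G, (b χ (rep Q) : ℂ) * (χ.1 : G → ℂ) g = 0 := by
      refine (mul_eq_zero.mp ?_).resolve_left hp0
      simp only [Finset.mul_sum, ← mul_assoc, hb, Finset.sum_mul]
      rw [Finset.sum_comm]
      refine Finset.sum_eq_zero fun i _ => ?_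
      by_cases hi : i = 0
      · subst hi; simp
      have h := column_regular P hM hP hi hg
      rw [← Finset.sum_filter, Finset.sum_subtype _ (p := fun χ => χ ∈ principalBlock M G) (by simp)] at h
      calc _ = (ψ (-(rep Q * i)) - 1) * ∑ χ : principalBlock M G, (χ.1 : G → ℂ) (pw P hP i) * (χ.1 : G → ℂ) g := by
            rw [Finset.mul_sum]; exact Finset.sum_congr rfl fun χ _ => by ring
        _ = 0 := by rw [h, mul_zero]
    rw [← Finset.sum_filter_add_sum_filter_not Finset.univ (fun χ : principalBlock M G => χ.1 ∈ Y),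
      Finset.sum_eq_single_of_mem (η Q) (Finset.mem_filter.mpr ⟨Finset.mem_univ _, Q, rfl⟩) ?_] at h0
    · rw [show b (η Q).1 (rep Q) = σ Q by rw [hYb Q _ (hrep0 Q), if_pos (IsConj.refl _)]] at h0
      rw [finsum_mem_eq_finite_toFinset_sum _ (Set.toFinite X), eq_neg_of_add_eq_zero_left h0,
        ← Finset.sum_neg_distrib]
      refine Finset.sum_bij (fun χ _ => χ.1) (fun χ hχ => ?_) (fun c _ d _ h => Subtype.ext h) (fun χ hχ => ?_)
        (fun χ hχ => ?_)
      · simpa [hX] using And.intro χ.2 (Finset.mem_filter.mp hχ).2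
      · have hh : χ ∈ X := (Set.Finite.mem_toFinset _).mp hχ
        exact ⟨⟨χ, hh.1⟩, Finset.mem_filter.mpr ⟨Finset.mem_univ _, hh.2⟩, rfl⟩
      · rw [(hXb χ.1 ⟨χ.2, (Finset.mem_filter.mp hχ).2⟩).2 _ (hrep0 Q)]
        push_cast; ring
    · intro χ hχ hne
      obtain ⟨Q', hQ'⟩ := (Finset.mem_filter.mp hχ).2
      have hQ'' : η Q' = χ := Subtype.ext hQ'
      rw [← hQ'', hYb Q' _ (hrep0 Q), if_neg, Int.cast_zero, zero_mul]
      intro h
      refine hne (hQ''.symm.trans (congrArg η (Subtype.ext ?_)))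
      rw [← hrep Q, ← hrep Q']
      exact ConjClasses.mk_eq_mk_iff_isConj.mpr h
  have hσeq : ∀ Q Q' : R, σ Q = σ Q' := by
    intro Q Q'
    have h := (hrel Q 1 (by rw [orderOf_one]; exact hp.out.not_dvd_one)).trans
      (hrel Q' 1 (by rw [orderOf_one]; exact hp.out.not_dvd_one)).symm
    rw [charDegree_eq (CfsgLib.Char.isCharacter_of_isIrr (η Q).1.2),
      charDegree_eq (CfsgLib.Char.isCharacter_of_isIrr (η Q').1.2)] at h
    have h' : σ Q * (charDegree ((η Q).1 : G → ℂ) : ℤ) = σ Q' * (charDegree ((η Q').1 : G → ℂ) : ℤ) := by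
      exact_mod_cast h
    have := charDegree_ne_zero (η Q).1
    have := charDegree_ne_zero (η Q').1
    rcases hσ Q with h1 | h1 <;> rcases hσ Q' with h2 | h2 <;> rw [h1, h2] at h' ⊢ <;> omega
  obtain ⟨Q₀⟩ := ‹Nonempty R›
  refine ⟨X, Y, (Set.sdiff_union_of_subset hYB).symm, Set.disjoint_sdiff_left, hXcard, hYcard, hBcard, εX, σ Q₀,
    fun χ hχ => ⟨(hXb χ hχ).1, ?_, fun x hx hx1 y hy hreg => ?_⟩, hσ Q₀, ?_, ?_, ?_⟩
  · refine (hdeg χ).trans ?_
    rw [Finset.sum_congr rfl fun j hj => (hXb χ hχ).2 j (Finset.mem_erase.mp hj).1, Finset.sum_const, hcardne,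
      nsmul_eq_mul, Nat.cast_sub hp.out.one_le]
    exact (Int.modEq_iff_dvd.mpr ⟨εX χ, by push_cast; ring⟩)
  · obtain ⟨i, rfl⟩ := pw_surjOn P hP hx
    have hi : i ≠ 0 := fun h => hx1 (h ▸ pw_zero P hP)
    rw [principal_value P hM hP hχ.1 hi hy hreg, inversion P hP (ha χ)]
    have hA : ∀ j : ZMod p, (a χ j : ℂ) = ((a χ 0 : ℂ) + -(εX χ : ℂ)) + if j = 0 then (εX χ : ℂ) else 0 := by
      intro j
      split_ifs with hj
      · subst hj; ring
      · have h := (hXb χ hχ).2 j hj
        simp only [b] at h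
        rw [show a χ j = a χ 0 + -εX χ by omega]
        push_cast; ring
    rw [Finset.sum_congr rfl fun j _ => by rw [hA j]]
    simp only [add_mul, ite_mul, zero_mul, Finset.sum_add_distrib, ← Finset.mul_sum, sum_stdAddChar, if_neg hi,
      mul_zero, zero_add, Finset.sum_ite_eq', Finset.mem_univ, if_true, zero_mul, AddChar.map_zero_eq_one, mul_one]
  · rintro _ ⟨Q, rfl⟩
    refine (hdeg _).trans ?_
    rw [Finset.sum_congr rfl fun j hj => hYb Q j (Finset.mem_erase.mp hj).1, Finset.sum_ite, Finset.sum_const_zero,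
      add_zero, Finset.sum_const, nsmul_eq_mul, hσeq Q Q₀, mul_comm]
    rw [show (((Finset.univ.erase 0).filter fun j => IsConj (pw P hP (rep Q)) (pw P hP j)).card : ℤ) = (e : ℤ) by
      rw [← hEcard]
      norm_cast
      refine (Finset.card_bij (fun u _ => u * rep Q) (fun u hu => ?_)
        (fun u _ u' _ h => mul_right_cancel₀ (hrep0 Q) h) fun j hj => ?_).symm
      · exact Finset.mem_filter.mpr ⟨Finset.mem_erase.mpr ⟨mul_ne_zero (hE0 u hu) (hrep0 Q), Finset.mem_univ _⟩,
          (hconj (hrep0 Q) _).mpr ⟨u, hu, rfl⟩⟩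
      · obtain ⟨u, hu, h⟩ := (hconj (hrep0 Q) j).mp (Finset.mem_filter.mp hj).2
        exact ⟨u, hu, h⟩]
  · rintro _ ⟨Q, rfl⟩ _ ⟨Q', rfl⟩ g hg
    have h := (hrel Q g hg).trans (hrel Q' g hg).symm
    rw [hσeq Q Q'] at h
    exact mul_left_cancel₀ (Int.cast_ne_zero.mpr (by rcases hσ Q' with h1 | h1 <;> simp [h1])) h
  · rintro _ ⟨Q, rfl⟩ g hg
    rw [← hσeq Q Q₀]
    exact hrel Q g hg

end CfsgLib.Blocks
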