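import Cfsg.Agent.Lib.Blocks.CyclicUni
import Cfsg.Agent.Lib.BrauerPairs.CyclicDefect

/-!
# The algebra at the subgroup of order `p` for a block with cyclic defect group

`Corner`: a corner `k[n]` of the block of `C(Z)` below the maximal pair, an element `X` inducing the
inertial quotient on it and a trace element for `P`; `exists_corner_data`: it exists.
-/

set_option autoImplicit false
set_option maxHeartbeats 800000
set_option synthInstance.maxHeartbeats 200000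

noncomputable section

namespace CfsgLib.Blocks.Cyclic

open Cfsg CfsgLib.Blocks CfsgLib.BlockArith CfsgLib.Char CfsgLib.BrauerPairs CfsgLib.NilBlock

attribute [local instance] resField

universe u

variable {G : Type u} [Group G] [Fintype G] {p : ℕ} [hp : Fact p.Prime] {M : Ideal AlgInt} [M.IsMaximal]

/-- Supported on the subgroup. -/
def SuppIn (H : Subgroup G) (a : KG M G) : Prop := ∀ g, g ∉ H → a.coeff g = 0

/-- Supported on the coset `g H`. -/
def SuppAt (H : Subgroup G) (g : G) (a : KG M G) : Prop := ∀ y, g⁻¹ * y ∉ H → a.coeff y = 0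

/-- In the corner. -/
def InCorner (C : Subgroup G) (e₀ a : KG M G) : Prop := SuppIn C a ∧ e₀ * a * e₀ = a

section supports

variable {H : Subgroup G} {a b : KG M G} {g g' : G}

omit [Fintype G] hp in
theorem suppAt_one_iff : SuppAt H (1 : G) a ↔ SuppIn H a := by simp [SuppAt, SuppIn]

omit [Fintype G] hp in
theorem suppAt_congr (h : g⁻¹ * g' ∈ H) (ha : SuppAt H g a) : SuppAt H g' a := fun y hy =>
  ha y fun hc => hy (by
    have := H.mul_mem (H.inv_mem h) hc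
    rwa [mul_inv_rev, inv_inv, mul_assoc, mul_inv_cancel_left] at this)

omit [Fintype G] hp in
theorem suppAt_single (g : G) (r : Res M) : SuppAt H g (MonoidAlgebra.single g r) := fun y hy => by
  classical
  rw [MonoidAlgebra.coeff_single, Finsupp.single_apply, if_neg]
  rintro rfl
  exact hy (by rw [inv_mul_cancel]; exact H.one_mem)

omit hp in
theorem SuppAt.mul (hN : g' ∈ Subgroup.normalizer (H : Set G)) (ha : SuppAt H g a) (hb : SuppAt H g' b) :
    SuppAt H (g * g') (a * b) := by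
  intro y hy
  rw [coeff_mul_eq_sum]
  refine Finset.sum_eq_zero fun z _ => ?_
  by_cases hz : g⁻¹ * z ∈ H
  · rw [hb _ fun hc => hy ?_, mul_zero]
    have h1 := H.mul_mem ((Subgroup.mem_set_normalizer_iff''.mp hN _).mp hz) hc
    simpa [mul_assoc] using h1
  · rw [ha z hz, zero_mul]

omit hp in
theorem SuppIn.mul (ha : SuppIn H a) (hb : SuppIn H b) : SuppIn H (a * b) := fun _ hg =>
  NilBlock.supp_mul ha hb hg

omit [Fintype G] hp in
theorem suppIn_smul (r : Res M) (ha : SuppIn H a) : SuppIn H (r • a) := fun y hy => by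
  rw [MonoidAlgebra.coeff_smul, Finsupp.smul_apply, ha y hy, smul_zero]

omit [Fintype G] hp in
theorem suppIn_add (ha : SuppIn H a) (hb : SuppIn H b) : SuppIn H (a + b) := fun y hy => by
  rw [MonoidAlgebra.coeff_add, Finsupp.add_apply, ha y hy, hb y hy, add_zero]

omit [Fintype G] hp in
theorem suppIn_one : SuppIn (M := M) H 1 := fun y hy => by
  classical
  rw [MonoidAlgebra.one_def, MonoidAlgebra.coeff_single, Finsupp.single_apply, if_neg]
  rintro rfl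
  exact hy H.one_mem

omit hp in
theorem suppIn_pow (ha : SuppIn H a) (n : ℕ) : SuppIn H (a ^ n) := by
  induction n with
  | zero => rw [pow_zero]; exact suppIn_one
  | succ n ih => rw [pow_succ]; exact ih.mul ha

omit [Fintype G] hp in
theorem suppIn_emb (x : KG M H) : SuppIn H (emb H x) := fun _ hy => coeff_emb_of_notMem H x hy

omit [Fintype G] hp in
theorem exists_emb_of_suppIn [Fintype H] (ha : SuppIn H a) : ∃ x : KG M H, emb H x = a := by
  refine ⟨ofFun fun h : H => a.coeff (h : G), ext_coeff fun y => ?_⟩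
  by_cases hy : y ∈ H
  · rw [show y = ((⟨y, hy⟩ : H) : G) from rfl, coeff_emb, coeff_ofFun]
  · rw [coeff_emb_of_notMem H _ hy, ha y hy]

omit hp in
theorem suppIn_cjA {s : G} (hs : s ∈ Subgroup.normalizer (H : Set G)) (ha : SuppIn H a) :
    SuppIn H (cjA s a) := fun y hy => by
  rw [coeff_cjA]
  exact ha _ fun h => hy ((Subgroup.mem_set_normalizer_iff''.mp hs y).mpr h)

omit [Fintype G] hp in
theorem emb_smul' (r : Res M) (x : KG M H) : emb H (r • x) = r • emb H x := ext_coeff fun y => by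
  by_cases hy : y ∈ H
  · rw [show y = ((⟨y, hy⟩ : H) : G) from rfl, coeff_emb, MonoidAlgebra.coeff_smul, Finsupp.smul_apply,
      MonoidAlgebra.coeff_smul, Finsupp.smul_apply, coeff_emb]
  · rw [coeff_emb_of_notMem H _ hy, MonoidAlgebra.coeff_smul, Finsupp.smul_apply, coeff_emb_of_notMem H _ hy,
      smul_zero]

omit hp in
theorem single_mul_mul_single_inv (g : G) (a : KG M G) :
    MonoidAlgebra.single g (1 : Res M) * a * MonoidAlgebra.single g⁻¹ 1 = cjA g a :=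
  ext_coeff fun y => by
    rw [MonoidAlgebra.mul_single_apply, MonoidAlgebra.single_mul_apply, coeff_cjA]
    simp [mul_assoc]

omit hp in
/-- An element of a coset passes the elements central in the group algebra of `H` by conjugating them. -/
theorem SuppAt.passing {z : KG M G} (hz : ∀ w, SuppIn H w → z * w = w * z) (ha : SuppAt H g a) :
    cjA g z * a = a * z := by
  obtain ⟨w, hw⟩ : ∃ w, w = MonoidAlgebra.single g⁻¹ (1 : Res M) * a := ⟨_, rfl⟩
  have ha' : a = MonoidAlgebra.single g 1 * w := by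
    rw [hw, ← mul_assoc, MonoidAlgebra.single_mul_single, mul_inv_cancel, mul_one, ← MonoidAlgebra.one_def, one_mul]
  have hws : SuppIn H w := fun y hy => by
    rw [hw, MonoidAlgebra.single_mul_apply, one_mul]
    exact ha _ (by simpa using hy)
  rw [ha', ← single_mul_mul_single_inv, mul_assoc (MonoidAlgebra.single g 1) z,
    mul_assoc (MonoidAlgebra.single g 1) (z * MonoidAlgebra.single g⁻¹ 1),
    mul_assoc z, ← mul_assoc (MonoidAlgebra.single g⁻¹ (1 : Res M)), MonoidAlgebra.single_mul_single,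
    inv_mul_cancel, mul_one, ← MonoidAlgebra.one_def, one_mul, hz w hws, mul_assoc]

end supports

/-- The corner data at the subgroup `Z` of order `p`. -/
structure Corner (M : Ideal AlgInt) [M.IsMaximal] (B : Set (IrrCharacter G)) (P Z : Subgroup G) (e : ℕ) where
  K : Subgroup G
  b₀ : KG M G
  e₀ : KG M G
  n : KG M G
  X : KG M G
  X' : KG M G
  d : KG M G
  Xg : G × G → KG M G
  Yg : G × G → KG M G
  q : ℕ
  hq : 2 ≤ q
  hqP : Nat.card P = q
  he : (e : Res M) ≠ 0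
  hPC : P ≤ Cen Z
  hCK : Cen Z ≤ K
  hKN : K ≤ Subgroup.normalizer (Z : Set G)
  hfree : ∀ g : G, ∀ π ∈ P, π ≠ 1 → g⁻¹ * π * g ∈ P → g ∈ Subgroup.normalizer (Z : Set G)
  hb₀ : SuppIn (Cen Z) b₀
  hb₀b₀ : b₀ * b₀ = b₀
  hb₀c : ∀ w, SuppIn (Cen Z) w → b₀ * w = w * b₀
  hb₀K : ∀ g ∈ K, cjA g b₀ = b₀
  hb₀N : ∀ g ∈ Subgroup.normalizer (Z : Set G), g ∉ K → cjA g b₀ * b₀ = 0
  hbrZ : br Z (gidemTop M B) * b₀ = b₀
  he₀ : InCorner (Cen Z) e₀ e₀
  he₀e₀ : e₀ * e₀ = e₀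
  he₀b : e₀ * b₀ = e₀
  hgen : (∀ i, SuppIn (Cen Z) (Xg i)) ∧ (∀ i, SuppIn (Cen Z) (Yg i)) ∧ ∑ i, Xg i * e₀ * Yg i = b₀
  hn : InCorner (Cen Z) e₀ n
  hnq : n ^ q = 0
  hntop : n ^ (q - 1) ≠ 0
  hcomm : ∀ a b, InCorner (Cen Z) e₀ a → InCorner (Cen Z) e₀ b → a * b = b * a
  hpol : ∀ a, InCorner (Cen Z) e₀ a → ∃ c : Res M, ∃ r, InCorner (Cen Z) e₀ r ∧ a = c • e₀ + r * n
  hX : e₀ * X = X ∧ X * e₀ = X
  hX' : e₀ * X' = X' ∧ X' * e₀ = X'
  hXK : SuppIn K X
  hX'K : SuppIn K X'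
  hXX' : X * X' = e₀
  hX'X : X' * X = e₀
  hXe : ∃ r, InCorner (Cen Z) e₀ r ∧ X ^ e * e₀ = e₀ + r * n
  hnX : ∀ j : Fin e, ∃ r, InCorner (Cen Z) e₀ r ∧ n * (X ^ (j : ℕ) * e₀) = X ^ (j : ℕ) * (r * n) ∧
    ((j : ℕ) ≠ 0 → ∀ w, InCorner (Cen Z) e₀ w → r * n * w = n * w → n * w = 0)
  hXn : ∀ j : ℕ, ∃ s, X ^ j * n ^ (q - 1) = n ^ (q - 1) * s
  hdec : ∀ a, SuppIn K a → ∃ w : Fin e → KG M G, (∀ j, InCorner (Cen Z) e₀ (w j)) ∧
    e₀ * a * e₀ = ∑ j : Fin e, X ^ (j : ℕ) * w j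
  hind : ∀ w : Fin e → KG M G, (∀ j, InCorner (Cen Z) e₀ (w j)) → ∑ j : Fin e, X ^ (j : ℕ) * w j = 0 →
    ∀ j, w j = 0
  hbr₀ : ∀ w : Fin e → KG M G, (∀ j, InCorner (Cen Z) e₀ (w j)) →
    br Z (∑ j : Fin e, X ^ (j : ℕ) * w j) = ∑ j : Fin e, if (j : ℕ) = 0 then w j else 0
  hdP : IsFixed P d
  hdb : d * b₀ = d
  hdK : ∀ [Fintype (G ⧸ P)] [DecidablePred (· ∈ K)],
    ∑ c ∈ Finset.univ.filter (fun c : G ⧸ P => c.out ∈ K), cjA c.out d = (e : Res M) • b₀
  hdC : ∀ [Fintype (G ⧸ P)] [DecidablePred (· ∈ Cen Z)],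
    ∑ c ∈ Finset.univ.filter (fun c : G ⧸ P => c.out ∈ Cen Z), cjA c.out d = b₀

set_option maxHeartbeats 4000000 in
/-- **The data exist.** -/
theorem exists_corner_data (hM : IsPModular p M) {B : Set (IrrCharacter G)} {P : Subgroup G}
    {c : Set (IrrCharacter (Cen P))} (hmax : IsMaximalBrauerPair p M B P c) (hcyc : IsCyclic P)
    (hne : P ≠ ⊥) :
    ∃ Z : Subgroup G, Nonempty (Corner M B P Z ((Cen P).relIndex (stab M P c))) := by
  classical
  have : CharP (Res M) p := res_charP M hM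
  have : IsAlgClosed (Res M) := res_isAlgClosed M
  have : CharP (KG M G) p := charP_of_injective_algebraMap (algebraMap (Res M) (KG M G)).injective p
  have hP := hmax.1.1
  have hPp : IsPGroup p P := hP.1
  have hB := hmax.1.2.1
  have hab : ∀ x ∈ P, ∀ y ∈ P, x * y = y * x := fun a ha b hb => by
    have := hcyc.commutative
    exact congrArg Subtype.val (mul_comm' (⟨a, ha⟩ : P) ⟨b, hb⟩)
  have hfree := cyclic_free hM hmax hcyc
  obtain ⟨⟨x, hxP⟩, hgenP⟩ := hcyc.exists_generator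
  have hx : Subgroup.zpowers x = P := le_antisymm (Subgroup.zpowers_le.mpr hxP) fun y hy => by
    obtain ⟨i, hi⟩ := Subgroup.mem_zpowers_iff.mp (hgenP ⟨y, hy⟩)
    exact Subgroup.mem_zpowers_iff.mpr ⟨i, congrArg Subtype.val hi⟩
  obtain ⟨a, ha0, hcardP⟩ := IsPGroup.nontrivial_iff_card (p := p) hPp |>.mp
    (Subgroup.nontrivial_iff_ne_bot _ |>.mpr hne)
  have hq2 : 2 ≤ p ^ a := hp.out.two_le.trans (Nat.le_self_pow ha0.ne' p)
  have hordx : orderOf x = p ^ a := by rw [← Nat.card_zpowers, hx, hcardP]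
  obtain ⟨z, hz⟩ := exists_prime_orderOf_dvd_card' (G := P) p (hcardP ▸ dvd_pow_self p ha0.ne')
  obtain ⟨Z, hZdef⟩ : ∃ Z : Subgroup G, Z = Subgroup.zpowers (z : G) := ⟨_, rfl⟩
  have hZc : Nat.card Z = p := by rw [hZdef, Nat.card_zpowers, Subgroup.orderOf_coe, hz]
  have hZP : Z ≤ P := by rw [hZdef]; exact Subgroup.zpowers_le.mpr z.2
  have hz1 : (z : G) ≠ 1 := fun h => by
    rw [← Subgroup.orderOf_coe, h, orderOf_one] at hz; exact hp.out.ne_one hz.symm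
  have hPCZ : P ≤ Cen Z := fun y hy => Subgroup.mem_centralizer_iff.mpr fun q hq => hab q (hZP hq) y hy
  have hTCZ : ∀ g ∈ stab M P c, g ∈ Cen Z → g ∈ Cen P := fun g hg hgZ => by
    refine hfree g hg (z : G) z.2 hz1 ?_
    rw [← Subgroup.mem_centralizer_iff.mp hgZ (z : G) (by rw [hZdef]; exact Subgroup.mem_zpowers _),
      mul_inv_cancel_right]
  -- the block of `C(Z)`
  let _ : Fintype (Cen Z) := Fintype.ofFinite _
  obtain ⟨bZ, hbZ, -⟩ := existsUnique_subpair hM hZP hP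
  have hZpair := isBrauerPair_left (a := ⟨Z, bZ⟩) hbZ hP
  have hI : InertOne p M bZ := stab_inertOne hM hmax hab hbZ hTCZ
  obtain ⟨c', hc'b, hu, hiff⟩ := inducedIn_setup (M := M) (Q := Z) hZP hPCZ hP.2
  have hP'p : IsPGroup p (P.subgroupOf (Cen Z)) := hPp.of_equiv (Subgroup.subgroupOfEquivOfLe hPCZ).symm
  have hpair' : IsBrauerPairOf p M bZ (P.subgroupOf (Cen Z)) c' := by
    let _ : Fintype (Cen (P.subgroupOf (Cen Z))) := Fintype.ofFinite _
    exact (brauerPairOf_iff_induced hM hP'p hc'b hZpair.2).mpr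
      ((hiff bZ).mp (inducedIn_of_subpair hM hZP hPCZ hP hbZ))
  have hDZ : IsDefectGroup p M bZ (P.subgroupOf (Cen Z)) := pairs_defect hM hmax hab hbZ
  have hmax' : IsMaximalBrauerPair p M bZ (P.subgroupOf (Cen Z)) c' :=
    isMaximal_of_card hM hpair' (by rw [← card_defectGroup hM hZpair.2 hDZ])
  have hx' : Subgroup.zpowers (⟨x, hPCZ hxP⟩ : Cen Z) = P.subgroupOf (Cen Z) := by
    apply Subgroup.map_injective (Cen Z).subtype_injective
    rw [MonoidHom.map_zpowers, Subgroup.map_subgroupOf_eq_of_le hPCZ]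
    exact hx
  obtain ⟨e', u', hee, heb, huc, hub, huq, hutop, hbru, ⟨X0, Y0, hXY⟩, hspan⟩ :=
    exists_uniserial_corner hM hZpair.2 hI hmax' hx'
  rw [card_subgroupOf' hPCZ, hcardP] at huq hutop hspan
  -- inside `G`
  obtain ⟨b₀, hb₀d⟩ : ∃ b₀ : KG M G, b₀ = pid M ⟨Z, bZ⟩ := ⟨_, rfl⟩
  have hb₀e : b₀ = emb (Cen Z) (ridem hZpair.2) := hb₀d.trans (gidem_eq_emb hZpair.2)
  obtain ⟨e₀, he₀d⟩ : ∃ e₀ : KG M G, e₀ = emb (Cen Z) e' := ⟨_, rfl⟩
  obtain ⟨u₀, hu₀d⟩ : ∃ u₀ : KG M G, u₀ = emb (Cen Z) u' := ⟨_, rfl⟩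
  have hb₀s : SuppIn (Cen Z) b₀ := hb₀e ▸ suppIn_emb _
  have he₀s : SuppIn (Cen Z) e₀ := he₀d ▸ suppIn_emb _
  have hu₀s : SuppIn (Cen Z) u₀ := hu₀d ▸ suppIn_emb _
  have hb₀c : ∀ w, SuppIn (Cen Z) w → b₀ * w = w * b₀ := fun w hw => by
    obtain ⟨w', rfl⟩ := exists_emb_of_suppIn hw
    rw [hb₀e, ← map_mul, ← map_mul, ridem_comm hZpair.2]
  have hu₀c : ∀ w, SuppIn (Cen Z) w → u₀ * w = w * u₀ := fun w hw => by
    obtain ⟨w', rfl⟩ := exists_emb_of_suppIn hw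
    rw [hu₀d, ← map_mul, ← map_mul, huc]
  have hb₀b₀ : b₀ * b₀ = b₀ := by rw [hb₀e, ← map_mul, ridem_mul_self]
  have he₀e₀ : e₀ * e₀ = e₀ := by rw [he₀d, ← map_mul, hee]
  have he₀b : e₀ * b₀ = e₀ := by rw [he₀d, hb₀e, ← map_mul, heb]
  have hu₀b : u₀ * b₀ = u₀ := by rw [hu₀d, hb₀e, ← map_mul, hub]
  obtain ⟨n, hnd⟩ : ∃ n : KG M G, n = u₀ * e₀ := ⟨_, rfl⟩
  have hue : Commute u₀ e₀ := hu₀c e₀ he₀s
  have hnpow : ∀ j : ℕ, 1 ≤ j → n ^ j = u₀ ^ j * e₀ := fun j hj => by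
    obtain ⟨i, rfl⟩ := Nat.exists_eq_add_of_le hj
    rw [hnd, hue.mul_pow, add_comm, IsIdempotentElem.pow_succ_eq i he₀e₀]
  have hnc : InCorner (Cen Z) e₀ n := ⟨hnd ▸ hu₀s.mul he₀s, by
    rw [hnd, ← mul_assoc, ← hue.eq, mul_assoc u₀, he₀e₀, mul_assoc, he₀e₀]⟩
  have hnq : n ^ p ^ a = 0 := by
    rw [hnpow _ (one_le_two.trans hq2), hu₀d, he₀d, ← map_pow, ← map_mul, huq, zero_mul, map_zero]
  have hntop : n ^ (p ^ a - 1) ≠ 0 := by
    rw [hnpow _ (by omega), hu₀d, he₀d, ← map_pow, ← map_mul]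
    exact fun h => hutop (emb_injective _ (h.trans (map_zero _).symm))
  have he₀c : InCorner (Cen Z) e₀ e₀ := ⟨he₀s, by rw [he₀e₀, he₀e₀]⟩
  have hspanG : ∀ w, InCorner (Cen Z) e₀ w →
      w ∈ Submodule.span (Res M) (Set.range fun j : Fin (p ^ a) => u₀ ^ (j : ℕ) * e₀) := by
    rintro w ⟨hws, hwc⟩
    obtain ⟨w', rfl⟩ := exists_emb_of_suppIn hws
    have h1 : e' * w' * e' = w' := emb_injective _ (by rw [map_mul, map_mul, ← he₀d, hwc])
    obtain ⟨cs, hcs⟩ := (Submodule.mem_span_range_iff_exists_fun (Res M)).mp (hspan w' h1)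
    refine (Submodule.mem_span_range_iff_exists_fun (Res M)).mpr ⟨cs, ?_⟩
    rw [← hcs, map_sum]
    exact Finset.sum_congr rfl fun j _ => by rw [emb_smul', map_mul, map_pow, ← hu₀d, ← he₀d]
  have hcomm : ∀ a b, InCorner (Cen Z) e₀ a → InCorner (Cen Z) e₀ b → a * b = b * a := by
    intro w w' hw hw'
    have h1 : Commute w' e₀ := by
      show w' * e₀ = e₀ * w'
      conv_lhs => rw [← hw'.2, mul_assoc, he₀e₀]
      conv_rhs => rw [← hw'.2, ← mul_assoc, ← mul_assoc, he₀e₀]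
    have h2 : Commute w' u₀ := (hu₀c w' hw'.1).symm
    suffices key : ∀ v ∈ Submodule.span (Res M) (Set.range fun j : Fin (p ^ a) => u₀ ^ (j : ℕ) * e₀),
        v * w' = w' * v from key w (hspanG w hw)
    intro v hv
    induction hv using Submodule.span_induction with
    | mem v hv =>
      obtain ⟨j, rfl⟩ := hv
      exact ((h2.pow_right _).mul_right h1).eq.symm
    | zero => simp
    | add v v' _ _ h h' => rw [add_mul, mul_add, h, h']
    | smul r v _ h => rw [smul_mul_assoc, mul_smul_comm, h]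
  have hmulc : ∀ a b, InCorner (Cen Z) e₀ a → InCorner (Cen Z) e₀ b → InCorner (Cen Z) e₀ (a * b) := by
    rintro w w' ⟨h1, h2⟩ ⟨h3, h4⟩
    refine ⟨h1.mul h3, ?_⟩
    conv_rhs => rw [← h2, ← h4]
    conv_lhs => rw [← h2, ← h4]
    simp only [mul_assoc, he₀e₀]
    simp only [← mul_assoc, he₀e₀]
  have hsmulc : ∀ (r : Res M) w, InCorner (Cen Z) e₀ w → InCorner (Cen Z) e₀ (r • w) := fun r w hw =>
    ⟨suppIn_smul r hw.1, by rw [mul_smul_comm, smul_mul_assoc, hw.2]⟩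
  have haddc : ∀ w w', InCorner (Cen Z) e₀ w → InCorner (Cen Z) e₀ w' → InCorner (Cen Z) e₀ (w + w') :=
    fun w w' hw hw' => ⟨suppIn_add hw.1 hw'.1, by rw [mul_add, add_mul, hw.2, hw'.2]⟩
  have hzeroc : InCorner (M := M) (Cen Z) e₀ 0 := ⟨fun y _ => by simp, by simp⟩
  have hpowc : ∀ j : ℕ, InCorner (Cen Z) e₀ (u₀ ^ j * e₀) := fun j => ⟨(suppIn_pow hu₀s _).mul he₀s, by
    rw [← mul_assoc, ← (hue.pow_left j).eq, mul_assoc (u₀ ^ j), he₀e₀, mul_assoc, he₀e₀]⟩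
  have hsumc : ∀ {ι : Type} (s : Finset ι) (f : ι → KG M G), (∀ i ∈ s, InCorner (Cen Z) e₀ (f i)) →
      InCorner (Cen Z) e₀ (∑ i ∈ s, f i) := fun s f hf => Finset.sum_induction f _ haddc hzeroc hf
  have hpol : ∀ w, InCorner (Cen Z) e₀ w → ∃ cc : Res M, ∃ r, InCorner (Cen Z) e₀ r ∧ w = cc • e₀ + r * n := by
    intro w hw
    obtain ⟨cs, hcs⟩ := (Submodule.mem_span_range_iff_exists_fun (Res M)).mp (hspanG w hw)
    obtain ⟨z₀, hz₀⟩ : ∃ z₀ : Fin (p ^ a), (z₀ : ℕ) = 0 := ⟨⟨0, by omega⟩, rfl⟩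
    refine ⟨cs z₀, ∑ j ∈ Finset.univ.erase z₀, cs j • (u₀ ^ ((j : ℕ) - 1) * e₀),
      hsumc _ _ fun j _ => hsmulc _ _ (hpowc _), ?_⟩
    rw [← hcs, ← Finset.add_sum_erase _ _ (Finset.mem_univ z₀), hz₀, pow_zero, one_mul, Finset.sum_mul]
    refine congrArg _ (Finset.sum_congr rfl fun j hj => ?_)
    have hj1 : 1 ≤ (j : ℕ) := Nat.one_le_iff_ne_zero.mpr fun h =>
      (Finset.mem_erase.mp hj).1 (Fin.ext (h.trans hz₀.symm))
    rw [smul_mul_assoc, hnd, mul_assoc, ← mul_assoc e₀ u₀, ← hue.eq, mul_assoc u₀, he₀e₀, ← mul_assoc,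
      ← pow_succ, Nat.sub_add_cancel hj1]
  have hinvc : ∀ (cc : Res M) r, InCorner (Cen Z) e₀ r → cc ≠ 0 →
      ∃ v, InCorner (Cen Z) e₀ v ∧ (cc • e₀ + r * n) * v = e₀ := by
    intro cc r hr hcc
    obtain ⟨N, hN⟩ : ∃ N : KG M G, N = (-cc⁻¹) • (r * n) := ⟨_, rfl⟩
    have hNc : InCorner (Cen Z) e₀ N := hN ▸ hsmulc _ _ (hmulc _ _ hr hnc)
    have hNq : N ^ p ^ a = 0 := by
      have h : Commute r n := hcomm r n hr hnc
      rw [hN, smul_pow, h.mul_pow, hnq, mul_zero, smul_zero]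
    have hNe : Commute N e₀ := hcomm N e₀ hNc he₀c
    have hgeom : (1 - N) * ∑ i ∈ Finset.range (p ^ a), N ^ i = 1 := by rw [mul_neg_geom_sum, hNq, sub_zero]
    obtain ⟨S, hS⟩ : ∃ S : KG M G, S = (∑ i ∈ Finset.range (p ^ a), N ^ i) * e₀ := ⟨_, rfl⟩
    have heS : e₀ * S = S := by
      rw [hS, ← mul_assoc, ← (Commute.sum_left _ _ _ fun i _ => hNe.pow_left i).eq, mul_assoc, he₀e₀]
    refine ⟨cc⁻¹ • S, hsmulc _ _ ⟨?_, ?_⟩, ?_⟩
    · rw [hS, Finset.sum_mul]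
      exact fun y hy => by
        rw [MonoidAlgebra.coeff_sum, Finsupp.finsetSum_apply]
        exact Finset.sum_eq_zero fun i _ => ((suppIn_pow hNc.1 i).mul he₀s) y hy
    · rw [heS, hS, mul_assoc, he₀e₀]
    · have h1 : cc • e₀ + r * n = cc • (e₀ - N) := by
        rw [hN, smul_sub, smul_smul, mul_neg, mul_inv_cancel₀ hcc, neg_one_smul, sub_neg_eq_add]
      have h2 : (e₀ - N) * S = e₀ := by
        rw [sub_mul, heS]
        calc S - N * S = (1 - N) * S := by rw [sub_mul, one_mul]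
          _ = e₀ := by rw [hS, ← mul_assoc, hgeom, one_mul]
      rw [h1, smul_mul_assoc, mul_smul_comm, smul_smul, mul_inv_cancel₀ hcc, one_smul, h2]
  have hpq : ∀ (cc : Res M) r, InCorner (Cen Z) e₀ r → (cc • e₀ + r * n) ^ p ^ a = 0 → cc = 0 := by
    intro cc r hr h0
    have h1 : Commute (cc • e₀) (r * n) := hcomm _ _ (hsmulc _ _ he₀c) (hmulc _ _ hr hnc)
    have h2 : Commute r n := hcomm r n hr hnc
    rw [add_pow_char_pow_of_commute _ _ h1, h2.mul_pow, hnq, mul_zero, add_zero, smul_pow,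
      show e₀ ^ p ^ a = e₀ by
        obtain ⟨i, hi⟩ := Nat.exists_eq_add_of_le (one_le_two.trans hq2)
        rw [hi, add_comm, IsIdempotentElem.pow_succ_eq i he₀e₀]] at h0
    rcases smul_eq_zero.mp h0 with h | h
    · exact eq_zero_of_pow_eq_zero h
    · refine absurd ?_ hntop
      rw [hnpow _ (by omega), h, mul_zero]
  -- the group `K`
  obtain ⟨K, hKd⟩ : ∃ K : Subgroup G, K = stab M Z bZ := ⟨_, rfl⟩
  have hKN : K ≤ Subgroup.normalizer (Z : Set G) := hKd ▸ fun g hg => hg.1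
  have hCK : Cen Z ≤ K := hKd ▸ cen_le_stab bZ
  have hKC : ∀ g ∈ K, g ∈ Subgroup.normalizer ((Cen Z : Subgroup G) : Set G) := fun g hg =>
    mem_normalizer_centralizer (hKN hg)
  have hb₀K : ∀ g ∈ K, cjA g b₀ = b₀ := fun g hg => by
    rw [hKd] at hg
    rw [hb₀d]
    exact hg.2
  have hb₀N : ∀ g ∈ Subgroup.normalizer (Z : Set G), g ∉ K → cjA g b₀ * b₀ = 0 := by
    intro g hg hgK
    let eg := conjEquiv g (Cen Z) (Cen Z) (cen_iff hg)
    have hg1 : cjA g b₀ = gidem M (Cen Z) (tblock eg bZ) := by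
      rw [hb₀d]; exact (gidem_tblock g (cen_iff hg) bZ).symm
    rw [hg1, hb₀d]
    refine gidem_mul_of_ne (isPBlock_tblock eg hZpair.2) hZpair.2 fun h => hgK ?_
    rw [hKd]
    refine ⟨hg, ?_⟩
    show cjA g (gidem M (Cen Z) bZ) = gidem M (Cen Z) bZ
    exact ((gidem_tblock g (cen_iff hg) bZ).symm).trans (congrArg _ h)
  have huniqZ : ∀ R : Subgroup G, R ≤ P → Nat.card R = p → R = Z := by
    intro R hR hRc
    refine Subgroup.eq_of_le_of_card_ge ?_ (hZc.trans_le hRc.ge)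
    rw [hZdef]
    exact le_zpowers_of_card hPp hcyc hR hRc z.2 hz1
  have hTK : stab M P c ≤ K := by
    intro g hg
    have hgP : ∀ y ∈ P, g * y * g⁻¹ ∈ P := fun y hy => (Subgroup.mem_set_normalizer_iff.mp hg.1 y).mp hy
    have hmap : Z.map (MulAut.conj g).toMonoidHom = Z := by
      refine huniqZ _ ?_ (by rw [Subgroup.card_map_of_injective (MulEquiv.injective _), hZc])
      rintro _ ⟨y, hy, rfl⟩
      exact hgP y (hZP hy)
    rw [hKd]
    refine ⟨Subgroup.mem_normalizer_iff_map_conj_eq.mpr hmap, ?_⟩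
    show cjA g (gidem M (Cen Z) bZ) = gidem M (Cen Z) bZ
    have h1 : cjPair g (⟨Z, bZ⟩ : BrauerPairIdx G) = ⟨Z, bZ⟩ := by
      refine pair_eq_of_le hM hP ?_ hbZ hmap
      rw [← cjPair_eq_self_of_mem_stab hP hg]
      exact subpair_cjPair hM g hbZ
    have h2 := congrArg (pid M) h1
    rwa [pid_cjPair] at h2
  have hfreeZ : ∀ g : G, ∀ π ∈ P, π ≠ 1 → g⁻¹ * π * g ∈ P → g ∈ Subgroup.normalizer (Z : Set G) := by
    intro g π hπ hπ1 hgπ
    have hmap : Z.map (MulAut.conj g⁻¹).toMonoidHom = Z := by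
      refine huniqZ _ ?_ (by rw [Subgroup.card_map_of_injective (MulEquiv.injective _), hZc])
      rintro _ ⟨y, hy, rfl⟩
      obtain ⟨i, rfl⟩ := Subgroup.mem_zpowers_iff.mp (le_zpowers_of_card hPp hcyc hZP hZc hπ hπ1 hy)
      rw [map_zpow]
      exact zpow_mem (by simpa using hgπ) i
    have h := Subgroup.inv_mem _ (Subgroup.mem_normalizer_iff_map_conj_eq.mpr hmap)
    rwa [inv_inv] at h
  -- the generator
  have hnorm : ((Cen P).subgroupOf (stab M P c)).Normal :=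
    (Subgroup.normal_subgroupOf_iff_le_normalizer (cen_le_stab c)).mpr fun t ht =>
      mem_normalizer_centralizer ht.1
  obtain ⟨hcycQ, -⟩ := cyclic_quotient hM hmax hcyc hne (hn := hnorm)
  obtain ⟨tq, htq⟩ := hcycQ.exists_generator
  obtain ⟨t, rfl⟩ := QuotientGroup.mk_surjective tq
  obtain ⟨e, hed⟩ : ∃ e : ℕ, e = (Cen P).relIndex (stab M P c) := ⟨_, rfl⟩
  rw [← hed]
  have hord : orderOf (QuotientGroup.mk t : stab M P c ⧸ (Cen P).subgroupOf (stab M P c)) = e := by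
    rw [orderOf_eq_card_of_forall_mem_zpowers htq, hed]; rfl
  have hpe : ¬ p ∣ e := hed ▸ not_dvd_relIndex_stab hM hmax hab
  have he0 : (e : Res M) ≠ 0 := by rw [Ne, CharP.cast_eq_zero_iff (Res M) p]; exact hpe
  have hepos : 0 < e := Nat.pos_of_ne_zero fun h => hpe (h ▸ dvd_zero p)
  have hiffT : ∀ j : ℕ, (t : G) ^ j ∈ Cen P ↔ e ∣ j := fun j => by
    rw [← hord, orderOf_dvd_iff_pow_eq_one, ← QuotientGroup.mk_pow, QuotientGroup.eq_one_iff,
      Subgroup.mem_subgroupOf, Subgroup.coe_pow]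
  have hgenK : ∀ g ∈ K, ∃ j : Fin e, ((t : G) ^ (j : ℕ))⁻¹ * g ∈ Cen Z := by
    intro g hg
    obtain ⟨tt, htt, httg⟩ := exists_cen_mul_stab hM hmax hab hbZ (hKd ▸ hg)
    obtain ⟨j, hj, hj'⟩ := Finset.mem_image.mp
      ((mem_zpowers_iff_mem_range_orderOf).mp (htq (QuotientGroup.mk ⟨tt * g, httg⟩)))
    rw [Finset.mem_range, hord] at hj
    refine ⟨⟨j, hj⟩, ?_⟩
    have h1 : ((t : G) ^ j)⁻¹ * (tt * g) ∈ Cen P := by
      rw [← QuotientGroup.mk_pow, QuotientGroup.eq, Subgroup.mem_subgroupOf] at hj'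
      simpa using hj'
    have h2 : ((t : G) ^ j)⁻¹ * tt⁻¹ * (t : G) ^ j ∈ Cen Z :=
      (Subgroup.mem_set_normalizer_iff''.mp (hKC _ (K.pow_mem (hTK t.2) j)) _).mp (inv_mem htt)
    have h3 := mul_mem h2 (centralizer_anti hZP h1)
    simpa [mul_assoc] using h3
  have huniqK : ∀ (i j : Fin e) (g : G), ((t : G) ^ (i : ℕ))⁻¹ * g ∈ Cen Z → ((t : G) ^ (j : ℕ))⁻¹ * g ∈ Cen Z →
      i = j := by
    intro i j g hi hj
    have h1 : ((t : G) ^ (i : ℕ))⁻¹ * (t : G) ^ (j : ℕ) ∈ Cen Z := by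
      have h := mul_mem hi (inv_mem hj)
      simpa [mul_assoc] using h
    have h2 : ((t : G) ^ (i : ℕ))⁻¹ * (t : G) ^ (j : ℕ) ∈ Cen P :=
      hTCZ _ (mul_mem (inv_mem (pow_mem t.2 _)) (pow_mem t.2 _)) h1
    have h3 : (QuotientGroup.mk t : stab M P c ⧸ (Cen P).subgroupOf (stab M P c)) ^ (i : ℕ) =
        QuotientGroup.mk t ^ (j : ℕ) := by
      rw [← QuotientGroup.mk_pow, ← QuotientGroup.mk_pow, QuotientGroup.eq, Subgroup.mem_subgroupOf]
      simpa using h2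
    exact Fin.ext (pow_injOn_Iio_orderOf (hord ▸ i.2 : (i : ℕ) < _) (hord ▸ j.2 : (j : ℕ) < _) h3)
  -- generation
  obtain ⟨Xg, hXgd⟩ : ∃ Xg : G × G → KG M G, Xg = fun i => if h : i.1 ∈ Cen Z ∧ i.2 ∈ Cen Z then
      emb (Cen Z) (X0 (⟨i.1, h.1⟩, ⟨i.2, h.2⟩)) else 0 := ⟨_, rfl⟩
  obtain ⟨Yg, hYgd⟩ : ∃ Yg : G × G → KG M G, Yg = fun i => if h : i.1 ∈ Cen Z ∧ i.2 ∈ Cen Z then
      emb (Cen Z) (Y0 (⟨i.1, h.1⟩, ⟨i.2, h.2⟩)) else 0 := ⟨_, rfl⟩
  have hXgs : ∀ i, SuppIn (Cen Z) (Xg i) := fun i => by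
    rw [hXgd]; beta_reduce; split_ifs
    · exact suppIn_emb _
    · exact fun y _ => by simp
  have hYgs : ∀ i, SuppIn (Cen Z) (Yg i) := fun i => by
    rw [hYgd]; beta_reduce; split_ifs
    · exact suppIn_emb _
    · exact fun y _ => by simp
  have hgen : ∑ i, Xg i * e₀ * Yg i = b₀ := by
    rw [hb₀e, ← hXY, map_sum]
    symm
    refine Finset.sum_bij_ne_zero (fun i _ _ => ((i.1 : G), (i.2 : G))) (fun _ _ _ => Finset.mem_univ _)
      (fun i _ _ j _ _ h => Prod.ext (Subtype.ext (congrArg Prod.fst h)) (Subtype.ext (congrArg Prod.snd h)))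
      (fun i _ hi => ?_) (fun i _ _ => ?_)
    · have hmem : i.1 ∈ Cen Z ∧ i.2 ∈ Cen Z := by
        by_contra h
        refine hi ?_
        rw [hXgd]; beta_reduce
        rw [dif_neg h, zero_mul, zero_mul]
      refine ⟨(⟨i.1, hmem.1⟩, ⟨i.2, hmem.2⟩), Finset.mem_univ _, ?_, rfl⟩
      intro h
      refine hi ?_
      rw [map_mul, map_mul] at h
      rw [hXgd, hYgd, he₀d]; beta_reduce
      rw [dif_pos hmem, dif_pos hmem]
      exact h
    · rw [map_mul, map_mul, hXgd, hYgd, he₀d]; beta_reduce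
      rw [dif_pos ⟨i.1.2, i.2.2⟩, dif_pos ⟨i.1.2, i.2.2⟩]
  -- conjugates of the generator of the corner
  have hconjc : ∀ g ∈ K, ∀ w, SuppIn (Cen Z) w → cjA g u₀ * w = w * cjA g u₀ := by
    intro g hg w hw
    have h1 := congrArg (cjA g) (hu₀c _ (suppIn_cjA (hKC _ (inv_mem hg)) hw))
    rwa [map_mul, map_mul, cjA_cjA_inv] at h1
  have hu₀q : u₀ ^ p ^ a = 0 := by rw [hu₀d, ← map_pow, huq, map_zero]
  have hconjn : ∀ g ∈ K, ∃ r, InCorner (Cen Z) e₀ r ∧ cjA g u₀ * e₀ = r * n ∧ e₀ * cjA g u₀ = r * n := by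
    intro g hg
    have hs := suppIn_cjA (hKC g hg) hu₀s
    have hc : Commute (cjA g u₀) e₀ := hconjc g hg e₀ he₀s
    have hin : InCorner (Cen Z) e₀ (cjA g u₀ * e₀) := ⟨hs.mul he₀s, by
      rw [← mul_assoc, ← hc.eq, mul_assoc (cjA g u₀), he₀e₀, mul_assoc, he₀e₀]⟩
    obtain ⟨cc, r, hr, hw⟩ := hpol _ hin
    have h0 : cc = 0 := hpq cc r hr (by rw [← hw, hc.mul_pow, ← map_pow, hu₀q, map_zero, zero_mul])
    rw [h0, zero_smul, zero_add] at hw
    exact ⟨r, hr, hw, by rw [← hc.eq, hw]⟩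
  -- the element `X`
  have hX1 : ∃ i : G × G, ∃ cc : Res M, cc ≠ 0 ∧ ∃ r, InCorner (Cen Z) e₀ r ∧
      e₀ * MonoidAlgebra.single (t : G) 1 * Xg i * e₀ * (e₀ * Yg i * MonoidAlgebra.single (t : G)⁻¹ 1 * e₀) =
        cc • e₀ + r * n := by
    have hterm : ∀ i, InCorner (Cen Z) e₀
        (e₀ * MonoidAlgebra.single (t : G) 1 * Xg i * e₀ * (e₀ * Yg i * MonoidAlgebra.single (t : G)⁻¹ 1 * e₀)) := by
      intro i
      refine ⟨?_, ?_⟩
      · have h : e₀ * MonoidAlgebra.single (t : G) 1 * Xg i * e₀ * (e₀ * Yg i * MonoidAlgebra.single (t : G)⁻¹ 1 * e₀) =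
            e₀ * cjA (t : G) (Xg i * e₀ * Yg i) * e₀ := by
          rw [← single_mul_mul_single_inv]
          simp only [mul_assoc]
          rw [← mul_assoc e₀ e₀, he₀e₀]
        rw [h]
        exact (he₀s.mul (suppIn_cjA (hKC _ (hTK t.2)) (((hXgs i).mul he₀s).mul (hYgs i)))).mul he₀s
      · simp only [mul_assoc, he₀e₀]
        simp only [← mul_assoc, he₀e₀]
    choose cc r hr hw using fun i => hpol _ (hterm i)
    by_contra! hcon
    have hcc : ∀ i, cc i = 0 := fun i => by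
      by_contra h
      exact hcon i (cc i) h (r i) (hr i) (hw i)
    have hsum : e₀ = (∑ i, r i) * n := by
      rw [Finset.sum_mul]
      calc e₀ = e₀ * cjA (t : G) b₀ * e₀ := by rw [hb₀K _ (hTK t.2), he₀b, he₀e₀]
        _ = ∑ i, e₀ * MonoidAlgebra.single (t : G) 1 * Xg i * e₀ *
              (e₀ * Yg i * MonoidAlgebra.single (t : G)⁻¹ 1 * e₀) := by
          rw [← hgen, map_sum, Finset.mul_sum, Finset.sum_mul]
          refine Finset.sum_congr rfl fun i _ => ?_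
          rw [← single_mul_mul_single_inv]
          simp only [mul_assoc]
          rw [← mul_assoc e₀ e₀, he₀e₀]
        _ = _ := Finset.sum_congr rfl fun i _ => by rw [hw i, hcc i, zero_smul, zero_add]
    refine hntop ?_
    have h1 : n ^ (p ^ a - 1) = e₀ * n ^ (p ^ a - 1) := by
      rw [hnpow _ (by omega), ← mul_assoc, ← (hue.pow_left _).eq, mul_assoc, he₀e₀]
    rw [h1, hsum, mul_assoc, ← pow_succ', Nat.sub_add_cancel (by omega), hnq, mul_zero]
  obtain ⟨i₀, cc₀, hcc₀, r₀, hr₀, hprod⟩ := hX1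
  obtain ⟨v₀, hv₀, hv₀e⟩ := hinvc cc₀ r₀ hr₀ hcc₀
  obtain ⟨X1, hX1d⟩ : ∃ X1 : KG M G, X1 = e₀ * MonoidAlgebra.single (t : G) 1 * Xg i₀ * e₀ := ⟨_, rfl⟩
  obtain ⟨X1', hX1'd⟩ : ∃ X1' : KG M G,
      X1' = e₀ * Yg i₀ * MonoidAlgebra.single (t : G)⁻¹ 1 * e₀ * v₀ := ⟨_, rfl⟩
  have hv₀1 : e₀ * v₀ = v₀ ∧ v₀ * e₀ = v₀ := by
    constructor
    · conv_rhs => rw [← hv₀.2]
      conv_lhs => rw [← hv₀.2, ← mul_assoc, ← mul_assoc, he₀e₀]
    · conv_rhs => rw [← hv₀.2]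
      conv_lhs => rw [← hv₀.2, mul_assoc, he₀e₀]
  have hXa : e₀ * X1 = X1 ∧ X1 * e₀ = X1 :=
    ⟨by rw [hX1d, ← mul_assoc, ← mul_assoc, ← mul_assoc, he₀e₀], by rw [hX1d, mul_assoc, he₀e₀]⟩
  have hXb : e₀ * X1' = X1' ∧ X1' * e₀ = X1' :=
    ⟨by rw [hX1'd, ← mul_assoc, ← mul_assoc, ← mul_assoc, ← mul_assoc, he₀e₀],
      by rw [hX1'd, mul_assoc, hv₀1.2]⟩
  have htC : ∀ j : ℕ, (t : G) ^ j ∈ Subgroup.normalizer ((Cen Z : Subgroup G) : Set G) := fun j =>
    hKC _ (pow_mem (hTK t.2) j)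
  have htC' : ∀ j : ℕ, (t : G)⁻¹ ^ j ∈ Subgroup.normalizer ((Cen Z : Subgroup G) : Set G) := fun j =>
    hKC _ (pow_mem (inv_mem (hTK t.2)) j)
  have h1C : (1 : G) ∈ Subgroup.normalizer ((Cen Z : Subgroup G) : Set G) := Subgroup.one_mem _
  have hs1 : ∀ {w : KG M G}, SuppIn (Cen Z) w → SuppAt (Cen Z) 1 w := fun h => suppAt_one_iff.mpr h
  have hXs1 : SuppAt (Cen Z) (t : G) X1 := by
    have h := (((hs1 he₀s).mul (by simpa using htC 1) (suppAt_single (H := Cen Z) (t : G) (1 : Res M))).mul h1C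
      (hs1 (hXgs i₀))).mul h1C (hs1 he₀s)
    rw [one_mul, mul_one, mul_one] at h
    rwa [hX1d]
  have hXs1' : SuppAt (Cen Z) (t : G)⁻¹ X1' := by
    have h := ((((hs1 he₀s).mul h1C (hs1 (hYgs i₀))).mul (by simpa using htC' 1)
      (suppAt_single (H := Cen Z) (t : G)⁻¹ (1 : Res M))).mul h1C (hs1 he₀s)).mul h1C (hs1 hv₀.1)
    rw [one_mul, one_mul, mul_one, mul_one] at h
    rwa [hX1'd]
  have hXX1 : X1 * X1' = e₀ := by
    rw [hX1d, hX1'd, ← mul_assoc, hprod, hv₀e]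
  have hX'X1 : X1' * X1 = e₀ := by
    have hin : InCorner (Cen Z) e₀ (X1' * X1) := by
      refine ⟨suppAt_one_iff.mp ?_, by rw [← mul_assoc, hXb.1, mul_assoc, hXa.2]⟩
      have h := hXs1'.mul (by simpa using htC 1) hXs1
      rwa [inv_mul_cancel] at h
    obtain ⟨cc, r, hr, hw⟩ := hpol _ hin
    have hidem : X1' * X1 * (X1' * X1) = X1' * X1 := by
      rw [mul_assoc, ← mul_assoc X1, hXX1, hXa.1]
    by_cases hcc : cc = 0
    · exfalso
      rw [hcc, zero_smul, zero_add] at hw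
      have h1 : X1' * X1 = 0 := by
        have hpow' : (X1' * X1) ^ p ^ a = X1' * X1 := by
          obtain ⟨i, hi⟩ := Nat.exists_eq_add_of_le (one_le_two.trans hq2)
          rw [hi, add_comm, IsIdempotentElem.pow_succ_eq i hidem]
        rw [← hpow', hw, (show Commute r n from hcomm r n hr hnc).mul_pow, hnq, mul_zero]
      refine hntop ?_
      have h2 : e₀ = 0 := by
        calc e₀ = X1 * (X1' * X1) * X1' := by rw [← mul_assoc, hXX1, hXa.1, hXX1]
          _ = 0 := by rw [h1, mul_zero, zero_mul]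
      rw [hnpow _ (by omega), h2, mul_zero]
    · obtain ⟨v, hv, hve⟩ := hinvc cc r hr hcc
      rw [← hw] at hve
      calc X1' * X1 = X1' * X1 * e₀ := by rw [mul_assoc, hXa.2]
        _ = X1' * X1 * (X1' * X1 * v) := by rw [hve]
        _ = X1' * X1 * v := by rw [← mul_assoc, hidem]
        _ = e₀ := hve
  -- powers
  have hpw : ∀ {Y Y' : KG M G}, e₀ * Y = Y ∧ Y * e₀ = Y → Y * Y' = e₀ → e₀ * Y' = Y' →
      (∀ j : ℕ, e₀ * (Y ^ j * e₀) = Y ^ j * e₀) ∧ ∀ j : ℕ, Y ^ j * (Y' ^ j * e₀) = e₀ := by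
    intro Y Y' hY hYY' hY'
    have h1 : ∀ j : ℕ, e₀ * (Y ^ j * e₀) = Y ^ j * e₀ := fun j => by
      cases j with
      | zero => rw [pow_zero, one_mul, he₀e₀]
      | succ j => rw [pow_succ', mul_assoc Y, ← mul_assoc e₀, hY.1]
    have h2 : ∀ j : ℕ, e₀ * (Y' ^ j * e₀) = Y' ^ j * e₀ := fun j => by
      cases j with
      | zero => rw [pow_zero, one_mul, he₀e₀]
      | succ j => rw [pow_succ', mul_assoc Y', ← mul_assoc e₀, hY']
    refine ⟨h1, fun j => ?_⟩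
    induction j with
    | zero => rw [pow_zero, pow_zero, one_mul, one_mul]
    | succ j ih => rw [pow_succ, pow_succ' Y', mul_assoc (Y ^ j), mul_assoc Y', ← mul_assoc Y, hYY', h2, ih]
  obtain ⟨hXe1, hXX1j⟩ := hpw hXa hXX1 hXb.1
  obtain ⟨hXe1', hXX1j'⟩ := hpw hXb hX'X1 hXa.1
  have hSj : ∀ j : ℕ, SuppAt (Cen Z) ((t : G) ^ j) (X1 ^ j * e₀) := fun j => by
    induction j with
    | zero => rw [pow_zero, pow_zero, one_mul]; exact hs1 he₀s
    | succ j ih =>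
      rw [pow_succ', pow_succ', mul_assoc]
      exact hXs1.mul (htC j) ih
  have hSj' : ∀ j : ℕ, SuppAt (Cen Z) ((t : G)⁻¹ ^ j) (X1' ^ j * e₀) := fun j => by
    induction j with
    | zero => rw [pow_zero, pow_zero, one_mul]; exact hs1 he₀s
    | succ j ih =>
      rw [pow_succ', pow_succ', mul_assoc]
      exact hXs1'.mul (htC' j) ih
  have hte : (t : G) ^ e ∈ Cen Z := centralizer_anti hZP ((hiffT e).mpr dvd_rfl)
  have hXec : InCorner (Cen Z) e₀ (X1 ^ e * e₀) :=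
    ⟨suppAt_one_iff.mp (suppAt_congr (by simpa using inv_mem hte) (hSj e)),
      by rw [hXe1, mul_assoc, he₀e₀]⟩
  obtain ⟨α, rα, hrα, hα⟩ := hpol _ hXec
  have hα0 : α ≠ 0 := by
    intro h
    rw [h, zero_smul, zero_add] at hα
    have hc' : InCorner (Cen Z) e₀ (X1' ^ e * e₀) :=
      ⟨suppAt_one_iff.mp (suppAt_congr (by simpa using hte) (hSj' e)), by rw [hXe1', mul_assoc, he₀e₀]⟩
    have h1 : e₀ = rα * n * (X1' ^ e * e₀) := by
      rw [← hα, mul_assoc, hXe1', hXX1j]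
    refine hntop ?_
    rw [hnpow _ (by omega)]
    have h2 : e₀ = 0 := by
      have h4 : Commute rα n := hcomm rα n hrα hnc
      have h5 : Commute (rα * n) (X1' ^ e * e₀) := hcomm _ _ (hmulc _ _ hrα hnc) hc'
      have h6 : e₀ = e₀ ^ p ^ a := by
        obtain ⟨i, hi⟩ := Nat.exists_eq_add_of_le (one_le_two.trans hq2)
        rw [hi, add_comm, IsIdempotentElem.pow_succ_eq i he₀e₀]
      rw [h6, h1, h5.mul_pow, h4.mul_pow, hnq, mul_zero, zero_mul]
    rw [h2, mul_zero]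
  obtain ⟨β, hβ⟩ := IsAlgClosed.exists_pow_nat_eq α hepos
  have hβ0 : β ≠ 0 := fun h => hα0 (by rw [← hβ, h, zero_pow hepos.ne'])
  obtain ⟨X, hXd⟩ : ∃ X : KG M G, X = β⁻¹ • X1 := ⟨_, rfl⟩
  obtain ⟨X', hX'd⟩ : ∃ X' : KG M G, X' = β • X1' := ⟨_, rfl⟩
  have hXpow : ∀ j : ℕ, X ^ j = β⁻¹ ^ j • X1 ^ j := fun j => by rw [hXd, smul_pow]
  have hSX : ∀ (j : ℕ) w, InCorner (Cen Z) e₀ w → SuppAt (Cen Z) ((t : G) ^ j) (X ^ j * w) := by
    intro j w hw
    have h := (hSj j).mul h1C (hs1 hw.1)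
    rw [mul_one, mul_assoc] at h
    intro y hy
    rw [hXpow, smul_mul_assoc, MonoidAlgebra.coeff_smul, Finsupp.smul_apply]
    have h2 := h y hy
    rw [show e₀ * w = w by conv_rhs => rw [← hw.2]
                           conv_lhs => rw [← hw.2, ← mul_assoc, ← mul_assoc, he₀e₀]] at h2
    rw [h2, smul_zero]
  have hcoef : ∀ w : Fin e → KG M G, (∀ j, InCorner (Cen Z) e₀ (w j)) → ∀ (j : Fin e) (y : G),
      ((t : G) ^ (j : ℕ))⁻¹ * y ∈ Cen Z →
      (∑ i : Fin e, X ^ (i : ℕ) * w i).coeff y = (X ^ (j : ℕ) * w j).coeff y := by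
    intro w hw j y hy
    rw [MonoidAlgebra.coeff_sum, Finsupp.finsetSum_apply]
    exact Finset.sum_eq_single j (fun i _ hi => hSX _ _ (hw i) y fun h => hi (huniqK i j y h hy)) (by simp)
  have hXinv : ∀ j : ℕ, X ^ j * (X' ^ j * e₀) = e₀ ∧ X' ^ j * (X ^ j * e₀) = e₀ := fun j => by
    constructor
    · rw [hXpow, hX'd, smul_pow, smul_mul_assoc, smul_mul_assoc, mul_smul_comm, smul_smul, ← mul_pow,
        inv_mul_cancel₀ hβ0, one_pow, one_smul, hXX1j]
    · rw [hXpow, hX'd, smul_pow, smul_mul_assoc, smul_mul_assoc, mul_smul_comm, smul_smul, ← mul_pow,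
        mul_inv_cancel₀ hβ0, one_pow, one_smul, hXX1j']
  have hewj : ∀ w, InCorner (Cen Z) e₀ w → e₀ * w = w := fun w hw => by
    conv_rhs => rw [← hw.2]
    conv_lhs => rw [← hw.2, ← mul_assoc, ← mul_assoc, he₀e₀]
  -- the Brauer images
  obtain ⟨pc, hpc⟩ : ∃ pc : KG M G, pc = pid M ⟨P, c⟩ := ⟨_, rfl⟩
  have hpcs : ∀ g, g ∉ Cen P → pc.coeff g = 0 := fun g hg => hpc ▸ (centralIn_gidem c).1 g hg
  have hpcG : pc = emb (Cen Z) (pid M (⟨P.subgroupOf (Cen Z), c'⟩ : BrauerPairIdx (Cen Z))) :=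
    hpc.trans hu.pid_eq
  have hembbr : ∀ w : KG M (Cen Z), emb (Cen Z) (br (P.subgroupOf (Cen Z)) w) = br P (emb (Cen Z) w) :=
    fun w => emb_br (fun z => cen_iff_map hu.cen z) w
  obtain ⟨sx, hsx⟩ : ∃ sx : KG M G, sx = MonoidAlgebra.single x (1 : Res M) - 1 := ⟨_, rfl⟩
  have hbrG : br P u₀ * pc = sx * pc := by
    rw [hu₀d, ← hembbr, hpcG, ← map_mul, hbru, map_mul, map_sub, map_one, hsx]
    congr 2
    simp [emb, MonoidAlgebra.mapDomainRingHom, MonoidAlgebra.mapDomain_single]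
  have hbrb : br P b₀ * pc = pc := by
    rw [hb₀e, ← hembbr, hpcG, ← map_mul]
    have h := ((brauerPairOf_iff hM).mp hpair').2.2
    rw [gidemTop_eq hZpair.2] at h
    exact congrArg (emb (Cen Z)) h
  have hsxci : CentralIn (Cen P) sx := by
    have hxC : x ∈ Cen P := Subgroup.mem_centralizer_iff.mpr fun q hq => hab q hq x hxP
    refine ⟨fun g hg => ?_, fun v hv => ?_⟩
    · rw [hsx, MonoidAlgebra.coeff_sub, Finsupp.sub_apply, MonoidAlgebra.one_def, MonoidAlgebra.coeff_single,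
        MonoidAlgebra.coeff_single, Finsupp.single_apply, Finsupp.single_apply,
        if_neg (show x ≠ g from fun h => hg (h ▸ hxC)), if_neg (show (1 : G) ≠ g from fun h => hg (h ▸ (Cen P).one_mem)),
        sub_zero]
    · rw [hsx, map_sub, map_one, cjA_single, ← Subgroup.mem_centralizer_iff.mp hv x hxP, mul_inv_cancel_right]
  have hsxpc : Commute sx pc := hsxci.commute_of_supp hpcs
  have hfixC : ∀ w : KG M G, (∀ v, SuppIn (Cen Z) v → w * v = v * w) → IsFixed P w := by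
    intro w hw v hv
    rw [← single_mul_mul_single_inv, ← hw _ (fun y hy => ?_), mul_assoc, MonoidAlgebra.single_mul_single,
      mul_inv_cancel, mul_one, ← MonoidAlgebra.one_def, mul_one]
    classical
    rw [MonoidAlgebra.coeff_single, Finsupp.single_apply, if_neg (fun h => hy (by rw [← h]; exact hPCZ hv))]
  have hbrupow : ∀ i : ℕ, br P (u₀ ^ i) * pc = sx ^ i * pc := by
    intro i
    induction i with
    | zero => rw [pow_zero, pow_zero, br_one]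
    | succ i ih =>
      rw [pow_succ, br_mul hM hPp (fun v hv => by rw [map_pow, hfixC u₀ hu₀c v hv]) (hfixC u₀ hu₀c), mul_assoc,
        hbrG, hsxpc.eq, ← mul_assoc, ih, mul_assoc, ← hsxpc.eq, ← mul_assoc, ← pow_succ]
  have hsxq : sx ^ p ^ a = 0 := by
    rw [hsx, sub_pow_char_pow_of_commute _ _ (Commute.one_right _), MonoidAlgebra.single_pow, one_pow,
      ← hordx, pow_orderOf_eq_one, one_pow, ← MonoidAlgebra.one_def, sub_self]
  -- the twist
  have hcc1 : ∀ j : Fin e, (j : ℕ) ≠ 0 → ∀ (cc : Res M) r, InCorner (Cen Z) e₀ r →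
      cjA ((t : G) ^ (j : ℕ))⁻¹ u₀ * e₀ = (cc • e₀ + r * n) * n → cc ≠ 1 := by
    intro j hj cc r hr hA hcc
    rw [hcc, one_smul] at hA
    obtain ⟨s, hs⟩ : ∃ s : G, s = ((t : G) ^ (j : ℕ))⁻¹ := ⟨_, rfl⟩
    rw [← hs] at hA
    have hsT : s ∈ stab M P c := hs ▸ inv_mem (pow_mem t.2 _)
    have hsK := hTK hsT
    obtain ⟨A, hAd⟩ : ∃ A : KG M G, A = cjA s u₀ := ⟨_, rfl⟩
    rw [← hAd] at hA
    have hAc : ∀ w, SuppIn (Cen Z) w → A * w = w * A := hAd ▸ hconjc s hsK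
    have h1 : A * u₀ ^ (p ^ a - 2) * e₀ = u₀ ^ (p ^ a - 1) * e₀ := by
      have hn2 : n * (u₀ ^ (p ^ a - 2) * e₀) = u₀ ^ (p ^ a - 1) * e₀ := by
        rw [hnd, mul_assoc, ← mul_assoc e₀, ← (hue.pow_left _).eq, mul_assoc _ e₀ e₀, he₀e₀, ← mul_assoc,
          ← pow_succ', show p ^ a - 2 + 1 = p ^ a - 1 by omega]
      rw [mul_assoc, (hue.pow_left _).eq, ← mul_assoc, hA, mul_assoc (_ + _) n,
        show n * u₀ ^ (p ^ a - 2) = n * (u₀ ^ (p ^ a - 2) * e₀) by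
          rw [hnd, mul_assoc, mul_assoc, ← mul_assoc e₀, ← (hue.pow_left _).eq, mul_assoc _ e₀ e₀, he₀e₀],
        hn2, add_mul, ← mul_assoc e₀, ← (hue.pow_left _).eq, mul_assoc _ e₀, he₀e₀, mul_assoc r,
        show n * (u₀ ^ (p ^ a - 1) * e₀) = 0 by
          rw [← hnpow _ (by omega), ← pow_succ', Nat.sub_add_cancel (by omega), hnq],
        mul_zero, add_zero]
    have h2 : A * u₀ ^ (p ^ a - 2) * b₀ = u₀ ^ (p ^ a - 1) * b₀ := by
      rw [← hgen, Finset.mul_sum, Finset.mul_sum]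
      refine Finset.sum_congr rfl fun i _ => ?_
      have c1 : A * u₀ ^ (p ^ a - 2) * Xg i = Xg i * (A * u₀ ^ (p ^ a - 2)) :=
        (Commute.mul_left (hAc _ (hXgs i)) (Commute.pow_left (hu₀c _ (hXgs i)) _)).eq
      have c2 : u₀ ^ (p ^ a - 1) * Xg i = Xg i * u₀ ^ (p ^ a - 1) := (Commute.pow_left (hu₀c _ (hXgs i)) _).eq
      calc A * u₀ ^ (p ^ a - 2) * (Xg i * e₀ * Yg i) = A * u₀ ^ (p ^ a - 2) * Xg i * e₀ * Yg i := by
            simp only [mul_assoc]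
        _ = Xg i * (A * u₀ ^ (p ^ a - 2) * e₀) * Yg i := by rw [c1]; simp only [mul_assoc]
        _ = Xg i * u₀ ^ (p ^ a - 1) * e₀ * Yg i := by rw [h1]; simp only [mul_assoc]
        _ = u₀ ^ (p ^ a - 1) * (Xg i * e₀ * Yg i) := by rw [← c2]; simp only [mul_assoc]
    have hsP : ∀ y ∈ P, s * y * s⁻¹ ∈ P := fun y hy => (Subgroup.mem_set_normalizer_iff.mp hsT.1 y).mp hy
    obtain ⟨k, hk⟩ : ∃ k : ℕ, x ^ k = s * x * s⁻¹ := by
      have h := hsP x hxP
      rw [← hx] at h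
      exact mem_powers_iff_mem_zpowers.mpr h
    have hbrA : br P A * pc = (MonoidAlgebra.single x (1 : Res M) ^ k - 1) * pc := by
      have h := congrArg (cjA s) hbrG
      rw [map_mul, map_mul, cjA_br, map_conj_eq_self hsT.1, ← hAd,
        show cjA s pc = pc by rw [hpc]; exact hsT.2] at h
      rw [h, hsx, map_sub, map_one, cjA_single, ← hk, MonoidAlgebra.single_pow, one_pow]
    have h3 := congrArg (fun w => br P w * pc) h2
    beta_reduce at h3
    have hfu : ∀ i : ℕ, IsFixed P (u₀ ^ i) := fun i v hv => by rw [map_pow, hfixC u₀ hu₀c v hv]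
    have hL : br P (A * u₀ ^ (p ^ a - 2) * b₀) * pc =
        (MonoidAlgebra.single x (1 : Res M) ^ k - 1) * sx ^ (p ^ a - 2) * pc := by
      rw [br_mul hM hPp ((hfixC A hAc).mul (hfu _)) (hfixC b₀ hb₀c), mul_assoc (br P _), hbrb,
        br_mul hM hPp (hfixC A hAc) (hfu _), mul_assoc (br P A), hbrupow, (hsxpc.pow_left _).eq, ← mul_assoc,
        hbrA, mul_assoc _ pc, ← (hsxpc.pow_left _).eq, ← mul_assoc]
    have hR : br P (u₀ ^ (p ^ a - 1) * b₀) * pc = sx ^ (p ^ a - 1) * pc := by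
      rw [br_mul hM hPp (hfu _) (hfixC b₀ hb₀c), mul_assoc, hbrb, hbrupow]
    rw [hL, hR] at h3
    have htop : ∀ i : ℕ, MonoidAlgebra.single x (1 : Res M) ^ i * sx ^ (p ^ a - 1) = sx ^ (p ^ a - 1) := by
      intro i
      induction i with
      | zero => rw [pow_zero, one_mul]
      | succ i ih =>
        rw [pow_succ, mul_assoc, show MonoidAlgebra.single x (1 : Res M) = sx + 1 by rw [hsx, sub_add_cancel],
          add_mul sx, one_mul, ← pow_succ', Nat.sub_add_cancel (by omega), hsxq, zero_add]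
        rwa [hsx, sub_add_cancel, ← hsx]
    rw [← geom_sum_mul (MonoidAlgebra.single x (1 : Res M)) k, ← hsx, mul_assoc (∑ _ ∈ _, _), ← pow_succ',
      show p ^ a - 2 + 1 = p ^ a - 1 by omega, Finset.sum_mul, Finset.sum_congr rfl fun i _ => htop i,
      Finset.sum_const, Finset.card_range, ← Nat.cast_smul_eq_nsmul (Res M), smul_mul_assoc] at h3
    have hk1 : (k : Res M) = ((1 : ℕ) : Res M) := by
      have h4 : ((k : Res M) - 1) • (sx ^ (p ^ a - 1) * pc) = 0 := by rw [sub_smul, one_smul, h3, sub_self]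
      rw [Nat.cast_one]
      exact sub_eq_zero.mp ((smul_eq_zero.mp h4).resolve_right
        (by rw [hsx, hpc]; exact top_mul_pid_ne hM hP hx hcardP))
    have hmod : k ≡ 1 [MOD p] := (CharP.natCast_eq_natCast (Res M) p).mp hk1
    have hzfix : s * (z : G) * s⁻¹ = z := by
      obtain ⟨i, hi⟩ := Subgroup.mem_zpowers_iff.mp (show (z : G) ∈ Subgroup.zpowers x by rw [hx]; exact z.2)
      have h5 : (z : G) ^ k = (z : G) ^ 1 := pow_eq_pow_iff_modEq.mpr (by rwa [Subgroup.orderOf_coe, hz])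
      rw [pow_one] at h5
      conv_lhs => rw [← hi, ← conj_zpow, ← hk, ← zpow_natCast, ← zpow_mul, mul_comm, zpow_mul, hi, zpow_natCast, h5]
    have hsP' : s ∈ Cen P := hfree s hsT (z : G) z.2 hz1 hzfix
    have hdvd : e ∣ (j : ℕ) := (hiffT j).mp (by simpa [hs] using inv_mem hsP')
    exact absurd (Nat.le_of_dvd (Nat.pos_of_ne_zero hj) hdvd) (not_le.mpr j.2)
  have hnX : ∀ j : Fin e, ∃ r, InCorner (Cen Z) e₀ r ∧ n * (X ^ (j : ℕ) * e₀) = X ^ (j : ℕ) * (r * n) ∧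
      ((j : ℕ) ≠ 0 → ∀ w, InCorner (Cen Z) e₀ w → r * n * w = n * w → n * w = 0) := by
    intro j
    have hgK : ((t : G) ^ (j : ℕ))⁻¹ ∈ K := inv_mem (pow_mem (hTK t.2) _)
    obtain ⟨r, hr, hr1, hr2⟩ := hconjn _ hgK
    refine ⟨r, hr, ?_, fun hj w hw hrw => ?_⟩
    · have hpass := SuppAt.passing (hconjc _ hgK) (hSX (j : ℕ) e₀ he₀c)
      rw [cjA_cjA_inv] at hpass
      have heX : e₀ * (X ^ (j : ℕ) * e₀) = X ^ (j : ℕ) * e₀ := by
        rw [hXpow, smul_mul_assoc, mul_smul_comm, hXe1]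
      rw [hnd, mul_assoc, heX, hpass, mul_assoc, hr2, hnd]
    · obtain ⟨cc, r', hr', hr0⟩ := hpol r hr
      have hcc : cc - 1 ≠ 0 := sub_ne_zero.mpr (hcc1 j hj cc r' hr' (by rw [hr1, hr0]))
      rw [hr0, add_mul, add_mul, smul_mul_assoc, smul_mul_assoc, hewj n hnc] at hrw
      have hcn : r' * n * n * w = (-(cc - 1)) • (n * w) := by
        rw [neg_smul, sub_smul, one_smul]
        exact eq_neg_of_add_eq_zero_left (by rw [← sub_eq_zero] at hrw; rw [← hrw]; abel)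
      obtain ⟨N, hN⟩ : ∃ N : KG M G, N = (-(cc - 1))⁻¹ • (r' * n) := ⟨_, rfl⟩
      have hstep : N * (n * w) = n * w := by
        rw [hN, smul_mul_assoc, ← mul_assoc, hcn, smul_smul, inv_mul_cancel₀ (neg_ne_zero.mpr hcc), one_smul]
      have hit : ∀ i : ℕ, N ^ i * (n * w) = n * w := fun i => by
        induction i with
        | zero => rw [pow_zero, one_mul]
        | succ i ih => rw [pow_succ, mul_assoc, hstep, ih]
      rw [← hit (p ^ a), hN, smul_pow, (show Commute r' n from hcomm r' n hr' hnc).mul_pow, hnq, mul_zero,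
        smul_zero, zero_mul]
  have hXn : ∀ j : ℕ, ∃ s, X ^ j * n ^ (p ^ a - 1) = n ^ (p ^ a - 1) * s := by
    intro j
    have hgK : (t : G) ^ j ∈ K := pow_mem (hTK t.2) j
    obtain ⟨r, hr, hr1, -⟩ := hconjn _ hgK
    refine ⟨r ^ (p ^ a - 1) * (X ^ j * e₀), ?_⟩
    have hp1 : ∀ v, SuppIn (Cen Z) v → u₀ ^ (p ^ a - 1) * v = v * u₀ ^ (p ^ a - 1) := fun v hv =>
      (Commute.pow_left (hu₀c v hv) _).eq
    have hpass := SuppAt.passing hp1 (hSX j e₀ he₀c)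
    have hc : Commute (cjA ((t : G) ^ j) u₀) e₀ := hconjc _ hgK e₀ he₀s
    have h1 : (cjA ((t : G) ^ j) u₀) ^ (p ^ a - 1) * e₀ = n ^ (p ^ a - 1) * r ^ (p ^ a - 1) := by
      have hrn : Commute n r := hcomm n r hnc hr
      rw [← hrn.mul_pow, hrn.eq, ← hr1, hc.mul_pow]
      congr 1
      obtain ⟨i, hi⟩ := Nat.exists_eq_add_of_le (show 1 ≤ p ^ a - 1 by omega)
      rw [hi, add_comm, IsIdempotentElem.pow_succ_eq i he₀e₀]
    calc X ^ j * n ^ (p ^ a - 1) = X ^ j * e₀ * u₀ ^ (p ^ a - 1) := by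
          rw [hnpow _ (by omega), (hue.pow_left _).eq, mul_assoc]
      _ = cjA ((t : G) ^ j) (u₀ ^ (p ^ a - 1)) * (e₀ * (X ^ j * e₀)) := by
          rw [← hpass, show e₀ * (X ^ j * e₀) = X ^ j * e₀ by rw [hXpow, smul_mul_assoc, mul_smul_comm, hXe1]]
      _ = _ := by rw [← mul_assoc, map_pow, h1, mul_assoc]
  -- the decomposition
  have hdec : ∀ v, SuppIn K v → ∃ w : Fin e → KG M G, (∀ j, InCorner (Cen Z) e₀ (w j)) ∧
      e₀ * v * e₀ = ∑ j : Fin e, X ^ (j : ℕ) * w j := by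
    intro v hv
    let part : Fin e → KG M G := fun j =>
      ofFun fun y => if ((t : G) ^ (j : ℕ))⁻¹ * y ∈ Cen Z then v.coeff y else 0
    have hpart : v = ∑ j, part j := by
      refine ext_coeff fun y => ?_
      rw [MonoidAlgebra.coeff_sum, Finsupp.finsetSum_apply]
      by_cases hy : y ∈ K
      · obtain ⟨j, hj⟩ := hgenK y hy
        rw [Finset.sum_eq_single j (fun i _ hi => by
          simp only [part, coeff_ofFun]
          exact if_neg fun h => hi (huniqK i j y h hj)) (by simp)]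
        simp only [part, coeff_ofFun, if_pos hj]
      · rw [hv y hy]
        exact (Finset.sum_eq_zero fun i _ => by simp only [part, coeff_ofFun, hv y hy, ite_self]).symm
    have hps : ∀ j : Fin e, SuppAt (Cen Z) ((t : G) ^ (j : ℕ)) (part j) := fun j y hy => by
      simp only [part, coeff_ofFun, if_neg hy]
    refine ⟨fun j => X' ^ (j : ℕ) * e₀ * part j * e₀, fun j => ⟨suppAt_one_iff.mp ?_, ?_⟩, ?_⟩
    · have h := ((hSj' (j : ℕ)).mul (htC _) (hps j)).mul h1C (hs1 he₀s)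
      rw [mul_one, inv_pow, inv_mul_cancel] at h
      intro y hy
      beta_reduce
      rw [hX'd, smul_pow, smul_mul_assoc, smul_mul_assoc, smul_mul_assoc, MonoidAlgebra.coeff_smul,
        Finsupp.smul_apply, h y hy, smul_zero]
    · beta_reduce
      rw [hX'd, smul_pow, smul_mul_assoc, smul_mul_assoc, smul_mul_assoc, mul_smul_comm, smul_mul_assoc]
      congr 1
      calc e₀ * (X1' ^ (j : ℕ) * e₀ * part j * e₀) * e₀ = e₀ * (X1' ^ (j : ℕ) * e₀) * part j * (e₀ * e₀) := by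
            simp only [mul_assoc]
        _ = _ := by rw [hXe1', he₀e₀]
    · conv_lhs => rw [hpart]
      rw [Finset.mul_sum, Finset.sum_mul]
      refine Finset.sum_congr rfl fun j _ => ?_
      rw [← mul_assoc, ← mul_assoc, (hXinv j).1]
  -- the trace element
  let _ : Fintype (Cen Z ⧸ P.subgroupOf (Cen Z)) := Fintype.ofFinite _
  obtain ⟨d₀, hd₀P, hd₀b, hd₀sum⟩ := exists_trace_idem hM hZpair.2 (D := P.subgroupOf (Cen Z)) hDZ
  obtain ⟨d, hdd⟩ : ∃ d : KG M G, d = emb (Cen Z) d₀ := ⟨_, rfl⟩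
  have hdP : IsFixed P d := fun v hv => by
    rw [hdd, show v = ((⟨v, hPCZ hv⟩ : Cen Z) : G) from rfl, ← emb_cjA, hd₀P _ hv]
  have hcjd : ∀ g : G, cjA (QuotientGroup.mk g : G ⧸ P).out d = cjA g d := fun g => by
    obtain ⟨w, hw⟩ := QuotientGroup.mk_out_eq_mul P g
    rw [hw, ← cjA_cjA, hdP w w.2]
  have houtmem : ∀ (R : Subgroup G), P ≤ R → ∀ g : G, (QuotientGroup.mk g : G ⧸ P).out ∈ R ↔ g ∈ R := by
    intro R hR g
    obtain ⟨w, hw⟩ := QuotientGroup.mk_out_eq_mul P g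
    rw [hw, R.mul_mem_cancel_right (hR w.2)]
  have hdC : ∀ [Fintype (G ⧸ P)] [DecidablePred (· ∈ Cen Z)],
      ∑ c ∈ Finset.univ.filter (fun c : G ⧸ P => c.out ∈ Cen Z), cjA c.out d = b₀ := by
    intro _ _
    rw [hb₀e, ← hd₀sum, map_sum]
    symm
    refine Finset.sum_bij (fun (q : Cen Z ⧸ P.subgroupOf (Cen Z)) _ => (((q.out : Cen Z) : G) : G ⧸ P))
      (fun q _ => Finset.mem_filter.mpr ⟨Finset.mem_univ _, (houtmem _ hPCZ _).mpr q.out.2⟩)
      (fun q _ q' _ h => ?_) (fun q hq => ?_) (fun q _ => ?_)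
    · rw [← QuotientGroup.out_eq' q, ← QuotientGroup.out_eq' q']
      refine QuotientGroup.eq.mpr (Subgroup.mem_subgroupOf.mpr ?_)
      simpa using QuotientGroup.eq.mp h
    · refine ⟨QuotientGroup.mk ⟨q.out, (Finset.mem_filter.mp hq).2⟩, Finset.mem_univ _, ?_⟩
      obtain ⟨w, hw⟩ := QuotientGroup.mk_out_eq_mul (P.subgroupOf (Cen Z)) ⟨q.out, (Finset.mem_filter.mp hq).2⟩
      conv_rhs => rw [← QuotientGroup.out_eq' q]
      rw [hw]
      refine QuotientGroup.eq.mpr ?_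
      simpa using P.inv_mem (Subgroup.mem_subgroupOf.mp w.2)
    · rw [hcjd, hdd, emb_cjA]
  have hdK : ∀ [Fintype (G ⧸ P)] [DecidablePred (· ∈ K)],
      ∑ c ∈ Finset.univ.filter (fun c : G ⧸ P => c.out ∈ K), cjA c.out d = (e : Res M) • b₀ := by
    intro _ _
    have hj : ∀ j : Fin e, ∑ c ∈ Finset.univ.filter
        (fun c : G ⧸ P => ((t : G) ^ (j : ℕ))⁻¹ * c.out ∈ Cen Z), cjA c.out d = b₀ := by
      intro j
      rw [← hb₀K _ (pow_mem (hTK t.2) (j : ℕ))]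
      conv_rhs => rw [← hdC, map_sum]
      symm
      refine Finset.sum_equiv (MulAction.toPerm ((t : G) ^ (j : ℕ))) (fun c => ?_) (fun c _ => ?_)
      · obtain ⟨g, rfl⟩ := QuotientGroup.mk_surjective c
        simp only [Finset.mem_filter, Finset.mem_univ, true_and, MulAction.toPerm_apply,
          MulAction.Quotient.smul_mk, smul_eq_mul]
        obtain ⟨w, hw⟩ := QuotientGroup.mk_out_eq_mul P ((t : G) ^ (j : ℕ) * g)
        rw [houtmem _ hPCZ, hw, mul_assoc ((t : G) ^ (j : ℕ)), inv_mul_cancel_left,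
          (Cen Z).mul_mem_cancel_right (hPCZ w.2)]
      · obtain ⟨g, rfl⟩ := QuotientGroup.mk_surjective c
        rw [MulAction.toPerm_apply, MulAction.Quotient.smul_mk, smul_eq_mul, hcjd, hcjd, cjA_cjA]
    have hsplit : Finset.univ.filter (fun c : G ⧸ P => c.out ∈ K) = (Finset.univ : Finset (Fin e)).biUnion
        fun j => Finset.univ.filter fun c : G ⧸ P => ((t : G) ^ (j : ℕ))⁻¹ * c.out ∈ Cen Z := by
      ext c
      simp only [Finset.mem_filter, Finset.mem_univ, true_and, Finset.mem_biUnion]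
      refine ⟨hgenK _, fun ⟨j, hj⟩ => ?_⟩
      have h := mul_mem (pow_mem (hTK t.2) (j : ℕ)) (hCK hj)
      rwa [mul_inv_cancel_left] at h
    rw [hsplit, Finset.sum_biUnion, Finset.sum_congr rfl fun j _ => hj j, Finset.sum_const, Finset.card_univ,
      Fintype.card_fin, Nat.cast_smul_eq_nsmul]
    intro i _ j _ hij
    exact Finset.disjoint_left.mpr fun c hc hc' =>
      hij (huniqK i j _ (Finset.mem_filter.mp hc).2 (Finset.mem_filter.mp hc').2)
  refine ⟨Z, ⟨⟨K, b₀, e₀, n, X, X', d, Xg, Yg, p ^ a, hq2, hcardP, he0, hPCZ, hCK, hKN, hfreeZ, hb₀s, hb₀b₀,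
    hb₀c, hb₀K, hb₀N, ?_, he₀c, he₀e₀, he₀b, ⟨hXgs, hYgs, hgen⟩, hnc, hnq, hntop, hcomm, hpol,
    ⟨?_, ?_⟩, ⟨?_, ?_⟩, ?_, ?_, ?_, ?_, ?_, hnX, hXn, hdec, ?_, ?_, hdP, ?_, hdK, hdC⟩⟩⟩
  · have h := ((brauerPairOf_iff hM).mp
      ((brauerPairOf_iff_of_subpair hM (a := ⟨Z, bZ⟩) (b := ⟨P, c⟩) hbZ).mp hmax.1)).2.2
    rw [hb₀d]
    exact h
  · rw [hXd, mul_smul_comm, hXa.1]
  · rw [hXd, smul_mul_assoc, hXa.2]
  · rw [hX'd, mul_smul_comm, hXb.1]
  · rw [hX'd, smul_mul_assoc, hXb.2]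
  · rw [hXd]
    refine suppIn_smul _ fun y hy => hXs1 y fun hc => hy ?_
    simpa using mul_mem (hTK t.2) (hCK hc)
  · rw [hX'd]
    refine suppIn_smul _ fun y hy => hXs1' y fun hc => hy ?_
    simpa using mul_mem (inv_mem (hTK t.2)) (hCK hc)
  · rw [hXd, hX'd, smul_mul_assoc, mul_smul_comm, smul_smul, inv_mul_cancel₀ hβ0, one_smul, hXX1]
  · rw [hXd, hX'd, smul_mul_assoc, mul_smul_comm, smul_smul, mul_inv_cancel₀ hβ0, one_smul, hX'X1]
  · refine ⟨α⁻¹ • rα, hsmulc _ _ hrα, ?_⟩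
    rw [hXpow, inv_pow, hβ, smul_mul_assoc, hα, smul_add, smul_smul, inv_mul_cancel₀ hα0, one_smul,
      smul_mul_assoc]
  · intro w hw hsum j
    have h1 : X ^ (j : ℕ) * w j = 0 := ext_coeff fun y => by
      by_cases hy : ((t : G) ^ (j : ℕ))⁻¹ * y ∈ Cen Z
      · rw [← hcoef w hw j y hy, hsum]
      · rw [hSX _ _ (hw j) y hy]; simp
    calc w j = X' ^ (j : ℕ) * (X ^ (j : ℕ) * e₀) * w j := by rw [(hXinv j).2, hewj _ (hw j)]
      _ = X' ^ (j : ℕ) * (X ^ (j : ℕ) * w j) := by rw [mul_assoc, mul_assoc, hewj _ (hw j)]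
      _ = 0 := by rw [h1, mul_zero]
  · intro w hw
    rw [br_sum]
    refine Finset.sum_congr rfl fun j _ => ?_
    by_cases hj : (j : ℕ) = 0
    · rw [if_pos hj, hj, pow_zero, one_mul]
      exact br_eq_self (hw j).1
    · rw [if_neg hj]
      refine ext_coeff fun y => ?_
      rw [coeff_br]
      split_ifs with hy
      · rw [hSX _ _ (hw j) y fun h => hj ?_]; simp
        have := huniqK j ⟨0, hepos⟩ y h (by simpa using hy)
        exact congrArg Fin.val this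
      · simp
  · rw [hdd, hb₀e, ← map_mul, hd₀b]

end CfsgLib.Blocks.Cyclic
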