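import Cfsg.Agent.Lib.Blocks.CyclicCorner
import Cfsg.Agent.Lib.Blocks.CyclicLocal
import Cfsg.Agent.Lib.Blocks.Heights

/-!
# The corner of a block with cyclic defect group and inertial index one

`exists_uniserial_corner`: such a block has a central element `u` congruent to `x - 1` at the defect
group and an idempotent generating it whose corner is spanned by the powers of `u`.
-/

set_option autoImplicit false
set_option maxHeartbeats 800000
set_option synthInstance.maxHeartbeats 200000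

noncomputable section

namespace CfsgLib.Blocks.Cyclic

open Cfsg CfsgLib.Blocks CfsgLib.BlockArith CfsgLib.Char CfsgLib.BrauerPairs CfsgLib.NilBlock

attribute [local instance] resField

universe u

variable {G : Type u} [Group G] [Fintype G] {p : ℕ} [hp : Fact p.Prime] {M : Ideal AlgInt} [M.IsMaximal]

omit [Fintype G] hp [M.IsMaximal] in
theorem pow_sub_one_of_prime_pow {R : Type*} [Ring R] [CharP R p] [Fact p.Prime] (a : ℕ) (y : R) :
    (y - 1) ^ (p ^ a - 1) = ∑ i ∈ Finset.range (p ^ a), y ^ i := by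
  let _ := ZMod.algebra R p
  have h : (Polynomial.X - 1 : Polynomial (ZMod p)) ^ (p ^ a - 1) =
      ∑ i ∈ Finset.range (p ^ a), Polynomial.X ^ i := by
    refine mul_right_cancel₀ (b := (Polynomial.X - 1 : Polynomial (ZMod p)))
      (by simpa using Polynomial.X_sub_C_ne_zero (1 : ZMod p)) ?_
    rw [← pow_succ, Nat.sub_add_cancel (Nat.one_le_iff_ne_zero.mpr (pow_ne_zero _ (Fact.out : p.Prime).ne_zero)),
      geom_sum_mul, sub_pow_char_pow, one_pow]
  simpa using congrArg (Polynomial.aeval y) h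

/-- The norm of a cyclic defect group does not kill the block at it. -/
theorem top_mul_pid_ne (hM : IsPModular p M) {P : Subgroup G} {c : Set (IrrCharacter (Cen P))}
    (hP : IsBrauerPair p M P c) {x : G} (hx : Subgroup.zpowers x = P) {a : ℕ} (hcard : Nat.card P = p ^ a) :
    (MonoidAlgebra.single x (1 : Res M) - 1) ^ (p ^ a - 1) * pid M ⟨P, c⟩ ≠ 0 := by
  classical
  have : CharP (Res M) p := res_charP M hM
  have : CharP (KG M G) p := charP_of_injective_algebraMap (algebraMap (Res M) (KG M G)).injective p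
  have hordx : orderOf x = p ^ a := by rw [← Nat.card_zpowers, hx, hcard]
  have hxP : x ∈ P := hx ▸ Subgroup.mem_zpowers x
  let _ : Fintype (Cen P) := Fintype.ofFinite _
  obtain ⟨pc, hpc⟩ : ∃ pc : KG M G, pc = pid M ⟨P, c⟩ := ⟨_, rfl⟩
  rw [← hpc]
  intro h1
  rw [pow_sub_one_of_prime_pow, Finset.sum_mul] at h1
  have hpcs : ∀ g, g ∉ Cen P → pc.coeff g = 0 := fun g hg => hpc ▸ (centralIn_gidem c).1 g hg
  obtain ⟨g, hg⟩ : ∃ g, pc.coeff g ≠ 0 := by
    by_contra! hc
    refine gidem_ne_zero hP.2 (hpc.symm.trans (ext_coeff fun g => ?_))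
    rw [hc]; simp
  have hgC : g ∈ Cen P := by by_contra h; exact hg (hpcs g h)
  have hreg : ∀ z, p ∣ orderOf z → pc.coeff z = 0 := by
    intro z hz
    by_cases hzC : z ∈ Cen P
    · rw [hpc, show pid M (⟨P, c⟩ : BrauerPairIdx G) = emb (Cen P) (ridem hP.2) from gidem_eq_emb hP.2,
        show z = ((⟨z, hzC⟩ : Cen P) : G) from rfl, coeff_emb, coeff_red]
      exact rcoeff_idem_singular hM hP.2 (by rwa [Subgroup.orderOf_mk])
    · exact hpcs z hzC
  have hgreg : ¬ p ∣ orderOf g := fun h => hg (hreg g h)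
  have h2 := congrArg (fun z : KG M G => z.coeff g) h1
  simp only [MonoidAlgebra.coeff_zero, Finsupp.coe_zero, Pi.zero_apply, MonoidAlgebra.coeff_sum,
    Finsupp.finsetSum_apply, MonoidAlgebra.single_pow, one_pow, MonoidAlgebra.single_mul_apply, one_mul] at h2
  rw [Finset.sum_eq_single 0 ?_ (fun h => absurd (Finset.mem_range.mpr (pow_pos hp.out.pos a)) h),
    pow_zero, inv_one, one_mul] at h2
  · exact hg h2
  · intro i hi hi0
    refine hreg _ ?_
    have hcm : Commute ((x ^ i)⁻¹) g := (Subgroup.mem_centralizer_iff.mp hgC _ (P.inv_mem (P.pow_mem hxP i)))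
    obtain ⟨j, hj⟩ := IsPGroup.iff_orderOf.mp hP.1 ⟨(x ^ i)⁻¹, P.inv_mem (P.pow_mem hxP i)⟩
    rw [Subgroup.orderOf_mk] at hj
    have hj0 : j ≠ 0 := fun h => by
      rw [h, pow_zero, orderOf_eq_one_iff, inv_eq_one, ← orderOf_dvd_iff_pow_eq_one, hordx] at hj
      exact absurd (Nat.le_of_dvd (Nat.pos_of_ne_zero hi0) hj) (not_le.mpr (Finset.mem_range.mp hi))
    rw [hcm.orderOf_mul_eq_mul_orderOf_of_coprime (by
      rw [hj]; exact Nat.Coprime.pow_left _ (hp.out.coprime_iff_not_dvd.mpr hgreg)), hj]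
    exact Dvd.dvd.mul_right (dvd_pow_self p hj0) _

/-- **The uniserial corner.** -/
theorem exists_uniserial_corner (hM : IsPModular p M) {B : Set (IrrCharacter G)} (hB : IsPBlock M B)
    (hI : InertOne p M B) {P : Subgroup G} {c : Set (IrrCharacter (Cen P))}
    (hmax : IsMaximalBrauerPair p M B P c) {x : G} (hx : Subgroup.zpowers x = P) :
    ∃ e u : KG M G, e * e = e ∧ e * ridem hB = e ∧ (∀ w, u * w = w * u) ∧ u * ridem hB = u ∧
      u ^ Nat.card P = 0 ∧ u ^ (Nat.card P - 1) * e ≠ 0 ∧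
      br P u * pid M ⟨P, c⟩ = (MonoidAlgebra.single x (1 : Res M) - 1) * pid M ⟨P, c⟩ ∧
      (∃ X Y : G × G → KG M G, ∑ i, X i * e * Y i = ridem hB) ∧
      ∀ w, e * w * e = w →
        w ∈ Submodule.span (Res M) (Set.range fun n : Fin (Nat.card P) => u ^ (n : ℕ) * e) := by
  classical
  have : CharP (Res M) p := res_charP M hM
  have : CharP (KG M G) p := charP_of_injective_algebraMap (algebraMap (Res M) (KG M G)).injective p
  obtain ⟨hab, hst⟩ := hI P c hmax
  have hPp : IsPGroup p P := hmax.1.1.1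
  have hc : IsPBlock M c := hmax.1.1.2
  obtain ⟨a, hcard⟩ := IsPGroup.iff_card.mp hPp
  have hxP : x ∈ P := hx ▸ Subgroup.mem_zpowers x
  have hordx : orderOf x = p ^ a := by rw [← Nat.card_zpowers, hx, hcard]
  have hPC : P ≤ Cen P := fun v hv => Subgroup.mem_centralizer_iff.mpr fun q hq => hab q hq v hv
  let _ : Fintype (Cen P) := Fintype.ofFinite _
  -- the block at `P`
  obtain ⟨pc, hpc⟩ : ∃ pc : KG M G, pc = pid M ⟨P, c⟩ := ⟨_, rfl⟩
  have hpc' : pc = emb (Cen P) (ridem hc) := hpc.trans (gidem_eq_emb hc)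
  have hpcpc : pc * pc = pc := by rw [hpc', ← map_mul, ridem_mul_self]
  have hpc0 : pc ≠ 0 := hpc ▸ gidem_ne_zero hc
  have hpcC : CentralIn (Cen P) pc := hpc ▸ centralIn_gidem c
  have hpcP : IsFixed P pc := hpcC.2.mono hPC
  obtain ⟨bb, hbb⟩ : ∃ bb : KG M G, bb = ridem hB := ⟨_, rfl⟩
  have hbc : ∀ z, bb * z = z * bb := fun z => hbb ▸ ridem_comm hB z
  have hbb1 : bb * bb = bb := hbb ▸ ridem_mul_self hB
  have hbrb : br P bb * pc = pc := by
    have h := ((brauerPairOf_iff hM).mp hmax.1).2.2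
    rwa [gidemTop_eq hB, ← hbb, show gidem M (Subgroup.centralizer (P : Set G)) c = pc from hpc.symm] at h
  -- the trace from `P`
  have hDc : IsDefectGroup p M c (P.subgroupOf (Cen P)) :=
    pairs_defect hM hmax hab (Q := P) (f := c) Relation.ReflTransGen.refl
  let _ : Fintype (Cen P ⧸ P.subgroupOf (Cen P)) := Fintype.ofFinite _
  let _ : Fintype (G ⧸ P) := Fintype.ofFinite _
  obtain ⟨d, -, hd, hdsum⟩ := exists_trace_idem hM hc (D := P.subgroupOf (Cen P)) hDc
  obtain ⟨d', hd'⟩ : ∃ d' : KG M G, d' = emb (Cen P) d := ⟨_, rfl⟩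
  have hd'pc : d' * pc = d' := by rw [hd', hpc', ← map_mul, hd]
  obtain ⟨sx, hsx⟩ : ∃ sx : KG M G, sx = MonoidAlgebra.single x (1 : Res M) - 1 := ⟨_, rfl⟩
  obtain ⟨s₀, hs₀⟩ : ∃ s₀ : KG M G, s₀ = sx * d' := ⟨_, rfl⟩
  have hsxP : ∀ g : G, Commute g x → cjA g sx = sx := fun g hg => by
    rw [hsx, map_sub, map_one, cjA_single, hg.eq, mul_inv_cancel_right]
  have hsxC : ∀ w : KG M G, (∀ g, g ∉ Cen P → w.coeff g = 0) → sx * w = w * sx := by
    intro w hw
    have hci : CentralIn (Cen P) sx := by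
      refine ⟨fun g hg => ?_, fun v hv => hsxP v (Subgroup.mem_centralizer_iff.mp hv x hxP).symm⟩
      rw [hsx, MonoidAlgebra.coeff_sub, Finsupp.sub_apply, MonoidAlgebra.one_def, MonoidAlgebra.coeff_single,
        MonoidAlgebra.coeff_single, Finsupp.single_apply, Finsupp.single_apply,
        if_neg (show x ≠ g from fun h => hg (h ▸ hPC hxP)), if_neg (show (1 : G) ≠ g from fun h => hg (h ▸ (Cen P).one_mem)),
        sub_zero]
    exact hci.commute_of_supp hw
  have hd's : ∀ g, g ∉ Cen P → d'.coeff g = 0 := fun g hg => hd' ▸ coeff_emb_of_notMem _ d hg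
  have hs₀s : ∀ g, g ∉ Cen P → s₀.coeff g = 0 := by
    intro g hg
    have hsxs : ∀ g, g ∉ Cen P → sx.coeff g = 0 := fun g hg => by
      rw [hsx, MonoidAlgebra.coeff_sub, Finsupp.sub_apply, MonoidAlgebra.one_def, MonoidAlgebra.coeff_single,
        MonoidAlgebra.coeff_single, Finsupp.single_apply, Finsupp.single_apply,
        if_neg (show x ≠ g from fun h => hg (h ▸ hPC hxP)), if_neg (show (1 : G) ≠ g from fun h => hg (h ▸ (Cen P).one_mem)),
        sub_zero]
    rw [hs₀]
    exact NilBlock.supp_mul hsxs hd's hg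
  have hs₀pc : s₀ * pc = s₀ := by rw [hs₀, mul_assoc, hd'pc]
  -- conjugates of supported elements by `P`
  have hfixsupp : ∀ w : KG M G, (∀ g, g ∉ Cen P → w.coeff g = 0) → IsFixed P w := by
    intro w hw v hv
    refine ext_coeff fun g => ?_
    rw [coeff_cjA]
    by_cases hg : g ∈ Cen P
    · rw [show v⁻¹ * g * v = g by rw [mul_assoc, ← Subgroup.mem_centralizer_iff.mp hg v hv, inv_mul_cancel_left]]
    · rw [hw g hg, hw _ fun h => hg (by
        have h2 := mul_mem (mul_mem (hPC hv) h) (inv_mem (hPC hv))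
        simpa [mul_assoc] using h2)]
  obtain ⟨T, hT⟩ : ∃ T : KG M G, T = ∑ q : G ⧸ P, cjA q.out s₀ := ⟨_, rfl⟩
  have hcj : ∀ (g : G), cjA (QuotientGroup.mk g : G ⧸ P).out s₀ = cjA g s₀ := by
    intro g
    obtain ⟨q, hq⟩ := QuotientGroup.mk_out_eq_mul P g
    rw [hq, ← cjA_cjA, hfixsupp s₀ hs₀s q q.2]
  have hTfix : ∀ g : G, cjA g T = T := by
    intro g
    rw [hT, map_sum]
    refine Fintype.sum_equiv (MulAction.toPerm g) _ _ fun q => ?_
    rw [MulAction.toPerm_apply, cjA_cjA]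
    obtain ⟨w, rfl⟩ := QuotientGroup.mk_surjective q
    rw [MulAction.Quotient.smul_mk, smul_eq_mul, hcj, ← cjA_cjA, hcj, cjA_cjA]
  have hbrT : br P T * pc = sx * pc := by
    have hfx : ∀ (v : P) (q : G ⧸ P), cjA (v : G) (cjA q.out s₀) = cjA (v • q).out s₀ := by
      intro v q
      obtain ⟨g, rfl⟩ := QuotientGroup.mk_surjective q
      rw [show (v • (g : G ⧸ P)) = (((v : G) * g : G) : G ⧸ P) from rfl, hcj, hcj, cjA_cjA]
    rw [hT, sum_br_fixed hM hPp _ hfx, Finset.sum_mul]
    have hterm : ∀ g : G, g ∈ Subgroup.normalizer (P : Set G) →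
        br P (cjA g s₀) * pc = if g ∈ Cen P then sx * (cjA g d' * pc) else 0 := by
      intro g hg
      have hbr0 : br P s₀ = s₀ := br_eq_self hs₀s
      have hb1 : br P (cjA g s₀) = cjA g s₀ := by
        have h := cjA_br g P s₀
        rw [hbr0, map_conj_eq_self hg] at h
        exact h.symm
      rw [hb1]
      split_ifs with hgC
      · rw [hs₀, map_mul, hsxP g (Subgroup.mem_centralizer_iff.mp hgC x hxP).symm, mul_assoc]
      · have hne : cjA g pc * pc = 0 := by
          have hfx' : g ∉ stab M P c := fun h => hgC (hst h)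
          let eg := conjEquiv g (Cen P) (Cen P) (cen_iff hg)
          have hg1 : cjA g pc = gidem M (Cen P) (tblock eg c) := by
            rw [hpc]; exact (gidem_tblock g (cen_iff hg) c).symm
          rw [hg1, hpc]
          refine gidem_mul_of_ne (isPBlock_tblock eg hc) hc fun h => hfx' ⟨hg, ?_⟩
          show cjA g (gidem M (Cen P) c) = gidem M (Cen P) c
          exact ((gidem_tblock g (cen_iff hg) c).symm).trans (congrArg _ h)
        rw [← hs₀pc, map_mul, mul_assoc, hne, mul_zero]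
    have hfp : ∀ q : G ⧸ P, q ∈ MulAction.fixedPoints P (G ⧸ P) → q.out ∈ Subgroup.normalizer (P : Set G) := by
      intro q hq
      refine Subgroup.mem_normalizer_iff_map_conj_eq.mpr ?_
      rw [← inv_inv q.out]
      have hinv : ∀ v ∈ P, q.out⁻¹ * v * q.out ∈ P := fun v hv => by
        have h := MulAction.mem_fixedPoints.mp hq ⟨v, hv⟩
        rw [← QuotientGroup.out_eq' q] at h
        change ((v * q.out : G) : G ⧸ P) = _ at h
        have h2 := P.inv_mem (QuotientGroup.eq.mp h)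
        simpa [mul_assoc] using h2
      have : q.out⁻¹ ∈ Subgroup.normalizer (P : Set G) := by
        refine Subgroup.mem_normalizer_iff_map_conj_eq.mpr (Subgroup.eq_of_le_of_card_ge ?_
          (Subgroup.card_map_of_injective (MulEquiv.injective _)).ge)
        rintro _ ⟨v, hv, rfl⟩
        show q.out⁻¹ * v * q.out⁻¹⁻¹ ∈ P
        rw [inv_inv]; exact hinv v hv
      exact Subgroup.mem_normalizer_iff_map_conj_eq.mp (Subgroup.inv_mem _ this)
    rw [Finset.sum_congr rfl fun q hq => hterm q.out (hfp q (Finset.mem_filter.mp hq).2), ← Finset.sum_filter,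
      ← Finset.mul_sum, ← Finset.sum_mul]
    refine congrArg (sx * ·) ?_
    suffices h : ∑ q ∈ (Finset.univ.filter fun q : G ⧸ P => q ∈ MulAction.fixedPoints P (G ⧸ P)).filter
        (fun q => q.out ∈ Cen P), cjA q.out d' = pc by rw [h, hpcpc]
    conv_rhs => rw [hpc', ← hdsum, map_sum]
    symm
    have hd'fix : ∀ v ∈ P, cjA v d' = d' := hfixsupp d' hd's
    have hcjd : ∀ (g : G), cjA (QuotientGroup.mk g : G ⧸ P).out d' = cjA g d' := by
      intro g
      obtain ⟨q, hq⟩ := QuotientGroup.mk_out_eq_mul P g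
      rw [hq, ← cjA_cjA, hd'fix q q.2]
    refine Finset.sum_bij (fun (q : Cen P ⧸ P.subgroupOf (Cen P)) _ => (((q.out : Cen P) : G) : G ⧸ P))
      (fun q _ => ?_) (fun q _ q' _ h => ?_) (fun q hq => ?_) (fun q _ => ?_)
    · refine Finset.mem_filter.mpr ⟨Finset.mem_filter.mpr ⟨Finset.mem_univ _,
        MulAction.mem_fixedPoints.mpr fun v => ?_⟩, ?_⟩
      · change (((v : G) * (q.out : Cen P) : G) : G ⧸ P) = _
        refine QuotientGroup.eq.mpr ?_
        rw [mul_inv_rev, mul_assoc, show ((v : G))⁻¹ * ((q.out : Cen P) : G) = ((q.out : Cen P) : G) * (v : G)⁻¹ from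
          Subgroup.mem_centralizer_iff.mp q.out.2 _ (P.inv_mem v.2), ← mul_assoc, inv_mul_cancel, one_mul]
        exact P.inv_mem v.2
      · obtain ⟨w, hw⟩ := QuotientGroup.mk_out_eq_mul P ((q.out : Cen P) : G)
        rw [hw]
        exact mul_mem q.out.2 (hPC w.2)
    · rw [← QuotientGroup.out_eq' q, ← QuotientGroup.out_eq' q']
      refine QuotientGroup.eq.mpr (Subgroup.mem_subgroupOf.mpr ?_)
      simpa using QuotientGroup.eq.mp h
    · refine ⟨QuotientGroup.mk ⟨q.out, (Finset.mem_filter.mp hq).2⟩, Finset.mem_univ _, ?_⟩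
      obtain ⟨w, hw⟩ := QuotientGroup.mk_out_eq_mul (P.subgroupOf (Cen P)) ⟨q.out, (Finset.mem_filter.mp hq).2⟩
      conv_rhs => rw [← QuotientGroup.out_eq' q]
      rw [hw]
      refine QuotientGroup.eq.mpr ?_
      simpa using P.inv_mem (Subgroup.mem_subgroupOf.mp w.2)
    · rw [hcjd, hd', emb_cjA]
  obtain ⟨u, hu⟩ : ∃ u : KG M G, u = bb * T := ⟨_, rfl⟩
  have hufix : ∀ g, cjA g u = u := fun g => by rw [hu, map_mul, hTfix, hbb, ridem, cjA_red]
  have huc : u ∈ Subsemiring.center (KG M G) := by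
    rw [mem_center_iff]
    exact fun g h => isFixed_iff.mp (fun v _ => hufix v : IsFixed (⊤ : Subgroup G) u) h trivial g
  have hucomm : ∀ w, u * w = w * u := fun w => (Subsemiring.mem_center_iff.mp huc w).symm
  have hub : u * bb = u := by rw [hucomm bb, hu, ← mul_assoc, hbb1]
  have hbrmul : ∀ a b : KG M G, IsFixed P a → IsFixed P b → br P (a * b) = br P a * br P b := fun a b =>
    br_mul hM hPp
  have hbru : br P u * pc = sx * pc := by
    rw [hu, hbrmul _ _ (fun v _ => by rw [hbb, ridem, cjA_red]) (fun v _ => hTfix v), mul_assoc, hbrT,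
      ← mul_assoc, ← hsxC _ (fun g hg => by rw [coeff_br, if_neg hg]), mul_assoc, hbrb]
  -- nilpotence
  have hsxq : sx ^ p ^ a = 0 := by
    rw [hsx, sub_pow_char_pow_of_commute _ _ (Commute.one_right _), MonoidAlgebra.single_pow, one_pow,
      ← hordx, pow_orderOf_eq_one, one_pow, ← MonoidAlgebra.one_def, sub_self]
  obtain ⟨ω, m, hm⟩ := SmallBlock.exists_isNilpotent_sub hB huc (by rw [show red (idem hB) = bb from hbb.symm, hub])
  rw [show red (idem hB) = bb from hbb.symm] at hm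
  have hsxpc : sx * pc = pc * sx := hsxC pc hpcC.1
  have hpow : ∀ (w : KG M G) (v : KG M G), IsFixed P w → v * pc = pc * v → br P w * pc = v * pc →
      ∀ n : ℕ, br P (w ^ n) * pc = v ^ n * pc := by
    intro w v hw hv hwv n
    have hfx : ∀ n : ℕ, IsFixed P (w ^ n) := fun n y hy => by rw [map_pow, hw y hy]
    induction n with
    | zero => rw [pow_zero, pow_zero, br_one]
    | succ n ih =>
      rw [pow_succ, hbrmul _ _ (hfx n) hw, mul_assoc, hwv, hv, ← mul_assoc, ih, mul_assoc, ← hv, ← mul_assoc,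
        ← pow_succ]
  have hω : ω = 0 := by
    by_contra hω
    obtain ⟨v, hv⟩ : ∃ v : KG M G, v = sx - ω • 1 := ⟨_, rfl⟩
    have hvpc : v * pc = pc * v := by rw [hv, sub_mul, mul_sub, hsxpc, smul_one_mul, mul_smul_comm, mul_one]
    have hbrsub : ∀ a b : KG M G, br P (a - ω • b) = br P a - ω • br P b := fun a b => ext_coeff fun g => by
      simp only [coeff_br, MonoidAlgebra.coeff_sub, Finsupp.sub_apply, MonoidAlgebra.coeff_smul, Finsupp.smul_apply]
      split_ifs <;> simp
    have h1 := hpow (u - ω • bb) v (fun y _ => by rw [map_sub, cjA_smul, hufix, hbb, ridem, cjA_red]) hvpc (by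
      rw [hbrsub, sub_mul, smul_mul_assoc, hbru, hbrb, hv, sub_mul, smul_one_mul]) m
    rw [hm, br_zero, zero_mul] at h1
    have h2 : v ^ p ^ a = -(ω ^ p ^ a) • (1 : KG M G) := by
      rw [hv, sub_pow_char_pow_of_commute _ _ ((Commute.one_right sx).smul_right ω), hsxq, smul_pow, one_pow,
        zero_sub, neg_smul]
    have h3 : v ^ (p ^ a * m) * pc = 0 := by
      obtain ⟨j, hj⟩ := Nat.exists_eq_add_of_le (Nat.le_mul_of_pos_left m (pow_pos hp.out.pos a))
      rw [hj, add_comm, pow_add, mul_assoc, ← h1, mul_zero]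
    rw [pow_mul, h2, smul_pow, one_pow, smul_mul_assoc, one_mul, smul_eq_zero] at h3
    exact h3.elim (pow_ne_zero _ (neg_ne_zero.mpr (pow_ne_zero _ hω))) hpc0
  rw [hω, zero_smul, sub_zero] at hm
  -- the top power
  have hq1 : 1 ≤ p ^ a := Nat.one_le_iff_ne_zero.mpr (pow_ne_zero _ hp.out.ne_zero)
  have htop : u ^ (p ^ a - 1) ≠ 0 := by
    intro h0
    have h1 := hpow u sx (fun y _ => hufix y) hsxpc hbru (p ^ a - 1)
    rw [h0, br_zero, zero_mul, hsx, hpc] at h1
    exact top_mul_pid_ne hM hmax.1.1 hx hcard h1.symm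
  -- the corner
  have hnil := isNilpotentBlock_of_inertOne hM hB hI
  have hl := blockRank_eq_one_of_nilpotent hM G B hnil
  have hPD := isDefectGroup_of_maximal hM hmax
  obtain ⟨χ₀, -, -, f, hf⟩ := exists_equiv_of_nilpotent hM hnil hPD
  have hreg : ∀ η ∈ B, ∀ θ ∈ B, ∀ g : G, ¬ p ∣ orderOf g → (η : G → ℂ) g = (θ : G → ℂ) g := by
    have key : ∀ η ∈ B, ∀ g : G, ¬ p ∣ orderOf g → (η : G → ℂ) g = (χ₀ : G → ℂ) g := by
      intro η hη g hg
      have h := hf (f.symm ⟨η, hη⟩) g hg
      rw [Equiv.apply_symm_apply, ← CfsgLib.Blocks.charDegree_eq (isCharacter_of_isIrr (f.symm ⟨η, hη⟩).2),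
        irr_one_eq_one_of_comm (fun a b => Subtype.ext (hab a a.2 b b.2)) (f.symm ⟨η, hη⟩).2, one_mul] at h
      exact h
    exact fun η hη θ hθ g hg => (key η hη g hg).trans (key θ hθ g hg).symm
  obtain ⟨e, hee, heb, ⟨X, Y, hXY⟩, hcb⟩ := exists_corner hM hB hl hreg
  rw [← hbb] at heb hXY
  have hkB : Nat.card B = p ^ a := by
    rw [(inertOne_counts hM (Nat.card G) G B rfl hB hI).2.1, ← card_defectGroup hM hB hPD, hcard]
  have hzero : ∀ n, u ^ n * e = 0 → u ^ n * bb = 0 := by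
    intro n hn
    rw [← hXY, Finset.mul_sum]
    refine Finset.sum_eq_zero fun i _ => ?_
    have hun : u ^ n * X i = X i * u ^ n := (Commute.pow_left (hucomm (X i)) n)
    calc u ^ n * (X i * e * Y i) = u ^ n * X i * e * Y i := by simp only [mul_assoc]
      _ = X i * (u ^ n * e) * Y i := by rw [hun]; simp only [mul_assoc]
      _ = 0 := by rw [hn, mul_zero, zero_mul]
  have hpb : ∀ n, 1 ≤ n → u ^ n * bb = u ^ n := fun n hn => by
    obtain ⟨j, rfl⟩ := Nat.exists_eq_add_of_le hn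
    rw [add_comm, pow_succ, mul_assoc, hub]
  have htope : u ^ (p ^ a - 1) * e ≠ 0 := by
    intro h
    have h2 := hzero _ h
    rcases Nat.eq_zero_or_pos (p ^ a - 1) with h0 | h0
    · rw [h0, pow_zero, one_mul] at h2
      exact htop (by rw [h0, pow_zero, ← mul_one (1 : KG M G)]; exact absurd h2 (hbb ▸ ridem_ne_zero hB))
    · exact htop (by rw [← hpb _ h0]; exact h2)
  have hex : ∃ N, u ^ N * e = 0 := ⟨m, by rw [hm, zero_mul]⟩
  have hN0 : u ^ Nat.find hex * e = 0 := Nat.find_spec hex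
  have hNq : p ^ a ≤ Nat.find hex := by
    by_contra hlt
    refine htope ?_
    obtain ⟨j, hj⟩ := Nat.exists_eq_add_of_le (show Nat.find hex ≤ p ^ a - 1 by omega)
    rw [hj, add_comm, pow_add, mul_assoc, hN0, mul_zero]
  let w : Fin (Nat.find hex) → KG M G := fun n => u ^ (n : ℕ) * e
  have hw : ∀ n, e * w n * e = w n := fun n => by
    have hc : e * u ^ (n : ℕ) = u ^ (n : ℕ) * e := (Commute.pow_left (hucomm e) n).symm
    rw [← mul_assoc, hc, mul_assoc (u ^ (n : ℕ)), hee, mul_assoc, hee]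
  have hli : LinearIndependent (Res M) w := by
    rw [Fintype.linearIndependent_iff]
    intro cs hcs i
    by_contra hi
    obtain ⟨i₀, hi₀, hmin⟩ := Finset.exists_min_image (Finset.univ.filter fun n => cs n ≠ 0) (fun n => (n : ℕ))
      ⟨i, Finset.mem_filter.mpr ⟨Finset.mem_univ _, hi⟩⟩
    have h := congrArg (u ^ (Nat.find hex - 1 - (i₀ : ℕ)) * ·) hcs
    simp only [mul_zero, Finset.mul_sum, w, mul_smul_comm, ← mul_assoc, ← pow_add] at h
    rw [Finset.sum_eq_single i₀ (fun n _ hn => ?_) (by simp)] at h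
    · refine (smul_eq_zero.mp h).elim (Finset.mem_filter.mp hi₀).2 fun h0 => ?_
      have := i₀.2
      rw [show Nat.find hex - 1 - (i₀ : ℕ) + (i₀ : ℕ) = Nat.find hex - 1 by omega] at h0
      exact Nat.find_min hex (by omega) h0
    · by_cases hc0 : cs n = 0
      · rw [hc0, zero_smul]
      · have h1 := hmin n (Finset.mem_filter.mpr ⟨Finset.mem_univ _, hc0⟩)
        have h2 : (i₀ : ℕ) ≠ n := fun h => hn (Fin.ext h.symm)
        obtain ⟨j, hj⟩ := Nat.exists_eq_add_of_le (show Nat.find hex ≤ Nat.find hex - 1 - (i₀ : ℕ) + n by omega)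
        rw [hj, add_comm, pow_add, mul_assoc, hN0, mul_zero, smul_zero]
  have hNeq : Nat.find hex = p ^ a := le_antisymm (hkB ▸ hcb w hw hli) hNq
  refine ⟨e, u, hee, hbb ▸ heb, hucomm, hbb ▸ hub, ?_, by rw [hcard]; exact htope, ?_, ⟨X, Y, hbb ▸ hXY⟩, ?_⟩
  · rw [hcard, ← hpb _ hq1, ← hNeq]
    exact hzero _ hN0
  · rw [← hpc, ← hsx]; exact hbru
  · intro z hz
    rw [hcard]
    by_contra hzs
    rw [← hNeq] at hzs
    have h := hcb (Fin.cons z w) (fun n => Fin.cases hz hw n) (linearIndependent_finCons.mpr ⟨hli, hzs⟩)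
    rw [hkB, hNeq] at h
    omega

end CfsgLib.Blocks.Cyclic
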