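import Cfsg.Agent.Lib.Blocks.KleinFour
import Cfsg.Agent.Lib.CharBlocks.ClassMul
import Cfsg.Agent.Lib.CharBlocks.Indicator
import Cfsg.Agent.Lib.Invol.KleinSylow

/-!
# Structure sums on the section of an involution with a Klein four Sylow subgroup
-/

set_option autoImplicit false

noncomputable section

namespace CfsgLib.Blocks

open Cfsg
open scoped ComplexConjugate

variable {G : Type*} [Group G] [Fintype G]

open scoped Classical in
/-- Number of pairs of conjugates of `x` and `y` with product `z`, as a character sum. -/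
theorem card_pairs (x y z : G) :
    ((Finset.univ.filter fun gw : G × G => gw.1 * x * gw.1⁻¹ * (gw.2 * y * gw.2⁻¹) = z).card : ℂ) =
      (Nat.card G : ℂ) * ∑ χ : IrrCharacter G,
        (χ : G → ℂ) x * (χ : G → ℂ) y * (χ : G → ℂ) z⁻¹ / (χ : G → ℂ) 1 := by
  classical
  have hG := CfsgLib.Char.card_ne_zero' (G := G)
  have h1 : ((Finset.univ.filter fun gw : G × G => gw.1 * x * gw.1⁻¹ * (gw.2 * y * gw.2⁻¹) = z).card : ℂ)
      * (Nat.card G : ℂ) =
      ∑ gw : G × G, ∑ χ : IrrCharacter G,
        (χ : G → ℂ) 1 * (χ : G → ℂ) (gw.1 * x * gw.1⁻¹ * (gw.2 * y * gw.2⁻¹) * z⁻¹) := by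
    rw [Finset.card_eq_sum_ones, Nat.cast_sum, Finset.sum_filter, Finset.sum_mul]
    refine Finset.sum_congr rfl fun gw _ => ?_
    rw [CfsgLib.Char.sum_degree_mul_apply]
    simp only [mul_inv_eq_one, Nat.cast_one, ite_mul, one_mul, zero_mul]
  have h2 : ∀ χ : IrrCharacter G, ∑ gw : G × G,
      (χ : G → ℂ) 1 * (χ : G → ℂ) (gw.1 * x * gw.1⁻¹ * (gw.2 * y * gw.2⁻¹) * z⁻¹) =
      (Nat.card G : ℂ) * ((Nat.card G : ℂ) *
        ((χ : G → ℂ) x * (χ : G → ℂ) y * (χ : G → ℂ) z⁻¹ / (χ : G → ℂ) 1)) := by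
    intro χ
    rw [Fintype.sum_prod_type, Finset.sum_comm]
    have hw : ∀ w : G, ∑ g : G,
        (χ : G → ℂ) 1 * (χ : G → ℂ) (g * x * g⁻¹ * (w * y * w⁻¹) * z⁻¹) =
        (Nat.card G : ℂ) * (χ : G → ℂ) x * (χ : G → ℂ) (w * y * w⁻¹ * z⁻¹) := by
      intro w
      rw [← CfsgLib.CharBlocks.sum_conj_mul χ.2 x (w * y * w⁻¹ * z⁻¹), Finset.mul_sum]
      exact Finset.sum_congr rfl fun g _ => by simp only [mul_assoc]
    simp only [hw, ← Finset.mul_sum]
    have h := CfsgLib.CharBlocks.sum_conj_mul χ.2 y z⁻¹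
    field_simp [CfsgLib.Char.irr_one_ne_zero χ.2]
    linear_combination (χ : G → ℂ) x * h
  rw [Finset.sum_comm, Finset.sum_congr rfl fun χ _ => h2 χ, ← Finset.mul_sum, ← Finset.mul_sum,
    mul_comm] at h1
  exact mul_left_cancel₀ hG h1

open scoped Classical in
/-- A sum over `G` of a function of the conjugate of `x` is a sum over the class of `x`. -/
theorem sum_conjugates (x : G) (f : G → ℕ) :
    ∑ g : G, f (g * x * g⁻¹) = Nat.card (Subgroup.centralizer ({x} : Set G)) *
      ∑ a ∈ Finset.univ.image (fun g : G => g * x * g⁻¹), f a := by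
  rw [← Finset.sum_fiberwise_of_maps_to (g := fun g : G => g * x * g⁻¹)
    (t := Finset.univ.image (fun g : G => g * x * g⁻¹)) (fun g _ => Finset.mem_image_of_mem _ (Finset.mem_univ g)),
    Finset.mul_sum]
  refine Finset.sum_congr rfl fun a ha => ?_
  obtain ⟨w, -, hw⟩ := Finset.mem_image.mp ha
  rw [Finset.sum_congr rfl fun g hg => by rw [(Finset.mem_filter.mp hg).2], Finset.sum_const,
    smul_eq_mul]
  congr 1
  rw [← Fintype.card_subtype, ← Nat.card_eq_fintype_card]
  refine Nat.card_congr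
    { toFun := fun g => ⟨w⁻¹ * g, ?_⟩
      invFun := fun c => ⟨w * c, ?_⟩
      left_inv := fun g => Subtype.ext (by simp)
      right_inv := fun c => Subtype.ext (by simp) }
  · have h : (g : G) * x * (g : G)⁻¹ = w * x * w⁻¹ := g.2.trans hw.symm
    refine Subgroup.mem_centralizer_singleton_iff.mpr ?_
    calc w⁻¹ * g * x = w⁻¹ * ((g : G) * x * (g : G)⁻¹) * g := by group
      _ = x * (w⁻¹ * g) := by rw [h]; group
  · change w * (c : G) * x * (w * (c : G))⁻¹ = a
    rw [← hw, mul_assoc w, Subgroup.mem_centralizer_singleton_iff.mp c.2]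
    group

variable {M : Ideal AlgInt} [M.IsMaximal]

/-- Complex conjugation keeps the principal block. -/
theorem irrConj_mem_principalBlock {χ : IrrCharacter G} (h : χ ∈ principalBlock M G) :
    CfsgLib.Char.irrConj χ ∈ principalBlock M G := by
  intro g
  have hg := h g⁻¹
  have hc : Subgroup.centralizer ({g⁻¹} : Set G) = Subgroup.centralizer ({g} : Set G) := by
    ext w
    rw [Subgroup.mem_centralizer_singleton_iff, Subgroup.mem_centralizer_singleton_iff]
    exact ⟨fun e => Commute.inv_right_iff.mp e, fun e => Commute.inv_right e⟩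
  have e : centralChar (CfsgLib.Char.irrConj χ : G → ℂ) g = centralChar (χ : G → ℂ) g⁻¹ := by
    simp only [centralChar, CfsgLib.Char.irrConj_apply, hc,
      ← CfsgLib.Char.char_inv (CfsgLib.Char.isCharacter_of_isIrr χ.2), inv_one]
  rw [e]
  simpa only [centralChar, hc] using hg

/-- Linear combinations of values on a section, seen by the principal block. -/
theorem sum_block_section {p : ℕ} [Fact p.Prime] (hM : IsPModular p M) {x : G}
    [Fintype (Subgroup.centralizer ({x} : Set G))] (hx : ∃ k : ℕ, orderOf x = p ^ k)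
    [DecidablePred (· ∈ principalBlock M G)] (a : IrrCharacter G → ℂ)
    {y : Subgroup.centralizer ({x} : Set G)} (hy : ¬ p ∣ orderOf y) :
    ∑ χ : IrrCharacter G, (if χ ∈ principalBlock M G then a χ * (χ : G → ℂ) (x * (y : G)) else 0) =
      blockPart (principalBlock M (Subgroup.centralizer ({x} : Set G)))
        (fun c : Subgroup.centralizer ({x} : Set G) =>
          ∑ χ : IrrCharacter G, a χ * (χ : G → ℂ) (x * (c : G))) y := by
  classical
  calc _ = ∑ χ : IrrCharacter G, a χ * blockPart (principalBlock M (Subgroup.centralizer ({x} : Set G)))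
        (fun c : Subgroup.centralizer ({x} : Set G) => (χ : G → ℂ) (x * (c : G))) y := by
        refine Finset.sum_congr rfl fun χ _ => ?_
        rw [principal_section hM hx χ hy, mul_ite, mul_zero]
    _ = blockPart (principalBlock M (Subgroup.centralizer ({x} : Set G)))
        (∑ χ : IrrCharacter G, a χ •
          fun c : Subgroup.centralizer ({x} : Set G) => (χ : G → ℂ) (x * (c : G))) y := by
        simp only [blockPart_apply, CfsgLib.Char.classInner_sum_left, CfsgLib.Char.classInner_smul_left,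
          Finset.mul_sum, Finset.sum_mul]
        rw [Finset.sum_comm]
        refine Finset.sum_congr rfl fun φ _ => ?_
        split_ifs
        · exact Finset.sum_congr rfl fun χ _ => by ring
        · simp
    _ = _ := by
        congr 1
        funext c
        simp only [Finset.sum_apply, Pi.smul_apply, smul_eq_mul]

/-- Value at `1` of the principal block part when there is a normal `p`-complement. -/
theorem blockPart_principal_one {H : Type*} [Group H] [Fintype H] {p : ℕ} [Fact p.Prime]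
    (hM : IsPModular p M) (hnc : ∃ k : ℕ, (pPrimeCore p H).index = p ^ k) (f : H → ℂ) :
    blockPart (principalBlock M H) f 1 = (Nat.card H : ℂ)⁻¹ *
      ((p ^ (Nat.card H).factorization p : ℕ) : ℂ) * ∑ c : H, (if p ∣ orderOf c then 0 else f c) := by
  classical
  rw [blockPart_eq_sum, mul_assoc, Finset.mul_sum (a := ((p ^ (Nat.card H).factorization p : ℕ) : ℂ))]
  refine congrArg _ (Finset.sum_congr rfl fun c _ => ?_)
  by_cases hc : p ∣ orderOf c
  · rw [if_pos hc, mul_zero, mul_eq_zero]
    exact .inr (weak_orthogonality hM isPBlock_principalBlock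
      (by rw [orderOf_one]; exact (Fact.out : p.Prime).not_dvd_one) hc)
  · rw [if_neg hc, ← sum_degree_sq_principal hM hnc, mul_comm]
    congr 1
    refine Finset.sum_congr rfl fun χ _ => ?_
    split_ifs with h
    · have := CfsgLib.Cores.pPrimeCore_characteristic (G := H) p
      have hK : c ∈ pPrimeCore p H := mem_of_index_pow hM.1 hnc hc
      rw [Cfsg.Agent.S0939.result p M hM hnc] at h
      rw [h c hK, ← CfsgLib.Char.char_inv (CfsgLib.Char.isCharacter_of_isIrr χ.2), inv_one]
    · rfl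

/-- Without a normal 2-complement a Sylow subgroup of order four is a four-group with fused involutions. -/
theorem klein_of_no_complement (g₀ : ℕ) (hg₀ : Odd g₀) (hG : Nat.card G = 4 * g₀)
    (hnc : ¬ ∃ N : Subgroup G, N.Normal ∧ Nat.card N = g₀) (P : Sylow 2 G) :
    IsKleinFour (P : Subgroup G) ∧ ∀ s t : G, orderOf s = 2 → orderOf t = 2 → IsConj s t := by
  classical
  have : Fact (Nat.Prime 2) := ⟨Nat.prime_two⟩
  have h2g : ¬ 2 ∣ g₀ := Odd.not_two_dvd_nat hg₀
  have hg₀0 : g₀ ≠ 0 := fun h => h2g (h ▸ dvd_zero 2)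
  have hfac : (Nat.card G).factorization 2 = 2 := by
    rw [hG, Nat.factorization_mul (by norm_num) hg₀0, Finsupp.add_apply,
      Nat.factorization_eq_zero_of_not_dvd h2g,
      show (4 : ℕ) = 2 ^ 2 by norm_num, Nat.Prime.factorization_pow Nat.prime_two, Finsupp.single_eq_same]
  have h4 : Nat.card (P : Subgroup G) = 2 ^ 2 := by rw [P.card_eq_multiplicity, hfac]
  have hab : ∀ a b : (P : Subgroup G), a * b = b * a :=
    IsPGroup.commutative_of_card_eq_prime_sq h4
  have key : ¬ (Subgroup.normalizer ((P : Subgroup G) : Set G) ≤ Subgroup.centralizer ((P : Subgroup G) : Set G)) := by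
    intro hle
    have h := CfsgLib.Transfer.hasNormalPComplement_of_normalizer_le_centralizer P hle
    obtain ⟨N, hN, hcop, k, hk⟩ := CfsgLib.Transfer.hasNormalPComplement_iff.mp h
    refine hnc ⟨N, hN, ?_⟩
    have hm := N.card_mul_index
    rw [hk, hG, show (4 : ℕ) = 2 ^ 2 by norm_num] at hm
    have hd1 : Nat.card N ∣ g₀ := (Nat.Coprime.pow_right 2 hcop).dvd_of_dvd_mul_left ⟨2 ^ k, hm.symm⟩
    have hd2 : g₀ ∣ Nat.card N :=
      ((Nat.prime_two.coprime_iff_not_dvd.mpr h2g).pow_left k).symm.dvd_of_dvd_mul_right ⟨2 ^ 2, by rw [hm]; ring⟩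
    exact Nat.dvd_antisymm hd1 hd2
  have hexp : ∀ a : (P : Subgroup G), a * a = 1 := by
    intro a
    by_contra hne
    refine key fun n hn => ?_
    have hord : orderOf a = 4 := by
      obtain ⟨k, hk2, hk⟩ := (Nat.dvd_prime_pow Nat.prime_two).mp (h4 ▸ orderOf_dvd_natCard a)
      interval_cases k
      · exact absurd (by rw [orderOf_eq_one_iff.mp hk, one_mul]) hne
      · exact absurd (by simpa [pow_two] using orderOf_dvd_iff_pow_eq_one.mp (dvd_of_eq hk)) hne
      · exact hk
    have hgen : ∀ w ∈ (P : Subgroup G), ∃ i : ℕ, (a : G) ^ i = w := by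
      intro w hw
      have htop : Subgroup.zpowers a = ⊤ := Subgroup.eq_top_of_card_eq _ (by rw [Nat.card_zpowers, hord, h4]; norm_num)
      obtain ⟨i, hi⟩ := Submonoid.mem_powers_iff _ _ |>.mp ((isOfFinOrder_of_finite a).mem_powers_iff_mem_zpowers.mpr
        (htop ▸ Subgroup.mem_top (⟨w, hw⟩ : (P : Subgroup G))))
      exact ⟨i, by simpa using congrArg Subtype.val hi⟩
    obtain ⟨i, j, hi, hj, hij, -⟩ := CfsgLib.FGS.exists_p_parts 2 n
    have hnP : (n ^ i) ∈ (P : Subgroup G) := CfsgLib.FGS.mem_of_mem_normalizer P hi (pow_mem hn i)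
    have hjc : Commute (n ^ j) (a : G) := by
      set m := n ^ j
      obtain ⟨i1, hi1⟩ := hgen _ ((Subgroup.mem_normalizer_iff.mp (pow_mem hn j) (a : G)).mp a.2)
      have h2 : m ^ 2 * (a : G) * (m ^ 2)⁻¹ = (a : G) := by
        have hodd : ¬ 2 ∣ i1 := fun hd => by
          have : (m * (a : G) * m⁻¹) ^ 2 = 1 := by
            rw [← hi1, ← pow_mul, ← orderOf_dvd_iff_pow_eq_one, Subgroup.orderOf_coe, hord]
            exact Nat.mul_dvd_mul hd dvd_rfl
          rw [conj_pow, conj_eq_one_iff] at this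
          exact hne (Subtype.ext (by rw [Subgroup.coe_mul, ← pow_two, this]; rfl))
        calc m ^ 2 * (a : G) * (m ^ 2)⁻¹ = m * (m * (a : G) * m⁻¹) * m⁻¹ := by rw [pow_two]; group
          _ = (m * (a : G) * m⁻¹) ^ i1 := by rw [conj_pow, hi1]
          _ = (a : G) ^ (i1 * i1) := by rw [← hi1, ← pow_mul]
          _ = (a : G) := by
              conv_rhs => rw [← pow_one (a : G)]
              rw [pow_eq_pow_iff_modEq, Subgroup.orderOf_coe, hord]
              have : i1 % 4 = 1 ∨ i1 % 4 = 3 := by omega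
              rcases this with h | h <;> simp [Nat.ModEq, Nat.mul_mod, h]
      obtain ⟨r, hr⟩ := exists_pow_eq_self_of_coprime (x := m) (n := 2) hj.symm
      have := (Commute.pow_left (mul_inv_eq_iff_eq_mul.mp h2 : Commute (m ^ 2) (a : G)) r)
      rwa [hr] at this
    have hnc' : Commute n (a : G) := by
      rw [← hij]
      exact Commute.mul_left (congrArg Subtype.val (hab ⟨_, hnP⟩ a)) hjc
    refine Subgroup.mem_centralizer_iff.mpr fun w hw => ?_
    obtain ⟨i, rfl⟩ := hgen w hw
    exact ((hnc'.pow_right i).symm).eq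
  have : Nontrivial (P : Subgroup G) := Finite.one_lt_card_iff_nontrivial.mp (by rw [h4]; norm_num)
  obtain ⟨b, hb⟩ := exists_ne (1 : (P : Subgroup G))
  have hK : IsKleinFour (P : Subgroup G) := by
    refine ⟨by rw [h4]; norm_num, Nat.dvd_antisymm
      (Monoid.exponent_dvd_of_forall_pow_eq_one fun x => by rw [pow_two]; exact hexp x) ?_⟩
    have h2 : orderOf b = 2 := orderOf_eq_prime (by rw [pow_two]; exact hexp b) hb
    exact (dvd_of_eq h2.symm).trans (Monoid.order_dvd_exponent b)
  refine ⟨hK, fun s t hs ht => ?_⟩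
  have hcard := CfsgLib.Invol.card_classes_of_not_central P hK fun hc => key fun n hn =>
    Subgroup.mem_centralizer_iff.mpr fun a ha => (hc n hn a ha).symm
  have := (Nat.card_eq_one_iff_unique.mp hcard).1
  have h := @Subsingleton.elim _ this ⟨ConjClasses.mk s, s, hs, rfl⟩ ⟨ConjClasses.mk t, t, ht, rfl⟩
  exact ConjClasses.mk_eq_mk_iff_isConj.mp (congrArg Subtype.val h)

open scoped Classical in
/-- The pairs of involutions whose product lies in the section of the involution `J`. -/
theorem card_pairs_section (P : Sylow 2 G) (hP : IsKleinFour (P : Subgroup G))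
    (hone : ∀ s t : G, orderOf s = 2 → orderOf t = 2 → IsConj s t) {J : G}
    (hJ : J ∈ (P : Subgroup G)) (hJ2 : orderOf J = 2) :
    (Finset.univ.filter fun gw : G × G =>
        J * (gw.1 * J * gw.1⁻¹) * (gw.2 * J * gw.2⁻¹) ∈ Subgroup.centralizer ({J} : Set G) ∧
          ¬ 2 ∣ orderOf (J * (gw.1 * J * gw.1⁻¹) * (gw.2 * J * gw.2⁻¹))).card *
      Nat.card (Subgroup.centralizer ((P : Subgroup G) : Set G)) ^ 2 =
    2 * Nat.card (Subgroup.centralizer ({J} : Set G)) ^ 4 := by
  classical
  have : Fact (Nat.Prime 2) := ⟨Nat.prime_two⟩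
  have := hP
  have hJJ : J * J = 1 := by rw [← pow_two, ← hJ2, pow_orderOf_eq_one]
  have hJ1 : J ≠ 1 := fun h => by rw [h, orderOf_one] at hJ2; omega
  have hnc := index_pPrimeCore_centralizer P hP hJ hJ1
  set H := Subgroup.centralizer ({J} : Set G) with hH
  set K := pPrimeCore 2 H with hKdef
  have : K.Normal := by
    have := CfsgLib.Cores.pPrimeCore_characteristic (G := H) 2
    exact inferInstance
  have hPH : (P : Subgroup G) ≤ H := fun w hw =>
    Subgroup.mem_centralizer_singleton_iff.mpr (CfsgLib.Invol.commute_of_kleinFour hP hw hJ)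
  have hoddK : ¬ 2 ∣ Nat.card K := CfsgLib.Cores.not_dvd_card_pPrimeCore 2
  have hidx : K.index = 2 ^ 2 := by
    obtain ⟨k, hk⟩ := hnc
    have hdH : 2 ^ 2 ∣ Nat.card H := by
      have h := Subgroup.card_dvd_of_le hPH
      rwa [hP.card_four] at h
    have hfac : (Nat.card G).factorization 2 = 2 := by
      have h := P.card_eq_multiplicity
      rw [hP.card_four] at h
      exact (Nat.pow_right_injective le_rfl (show (2 : ℕ) ^ 2 = _ from by simpa using h)).symm
    have hm := K.card_mul_index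
    rw [hk] at hm
    have hkH : (Nat.card H).factorization 2 = k := by
      rw [← hm, Nat.factorization_mul Nat.card_pos.ne' (by positivity), Finsupp.add_apply,
        Nat.Prime.factorization_pow Nat.prime_two, Finsupp.single_eq_same,
        Nat.factorization_eq_zero_of_not_dvd hoddK, zero_add]
    have h1 : k ≤ 2 := hkH ▸ ((Nat.factorization_le_iff_dvd Nat.card_pos.ne' Nat.card_pos.ne').mpr
      (Subgroup.card_subgroup_dvd_card H) 2).trans hfac.le
    have h2 : 2 ≤ k := hkH ▸ (Nat.prime_two.pow_dvd_iff_le_factorization Nat.card_pos.ne').mp hdH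
    rw [hk, le_antisymm h1 h2]
  have hregK : ∀ c : H, ¬ 2 ∣ orderOf c ↔ c ∈ K := fun c =>
    ⟨fun hc => mem_of_index_pow Nat.prime_two ⟨2, hidx⟩ hc, fun hc h => hoddK (h.trans (by
      rw [← Subgroup.orderOf_mk c hc]; exact orderOf_dvd_natCard _))⟩
  have hqab : ∀ a b : H ⧸ K, a * b = b * a :=
    IsPGroup.commutative_of_card_eq_prime_sq (p := 2) (by rw [← Subgroup.index_eq_card, hidx])
  obtain ⟨x', hx'1, hx'J⟩ : ∃ x' : (P : Subgroup G), x' ≠ 1 ∧ x' ≠ ⟨J, hJ⟩ := by
    let _ := Fintype.ofFinite (P : Subgroup G)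
    by_contra hno
    push Not at hno
    have hle : (Finset.univ : Finset (P : Subgroup G)) ⊆ {1, ⟨J, hJ⟩} := fun w _ => by
      by_cases h : w = 1
      · simp [h]
      · simp [hno w h]
    have h := Finset.card_le_card hle
    rw [Finset.card_univ, ← Nat.card_eq_fintype_card, hP.card_four] at h
    exact absurd (h.trans Finset.card_le_two) (by norm_num)
  set j' : (P : Subgroup G) := ⟨J, hJ⟩ with hj'
  have hj1 : j' ≠ 1 := fun h => hJ1 (congrArg Subtype.val h)
  let _ := Fintype.ofFinite (P : Subgroup G)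
  have huniv := IsKleinFour.eq_finset_univ hj1 hx'1 hx'J.symm
  set x : G := (x' : G) with hxdef
  have hxx : x * x = 1 := congrArg Subtype.val (IsKleinFour.mul_self x')
  have hxJ : Commute x J := CfsgLib.Invol.commute_of_kleinFour hP x'.2 hJ
  have hxH : x ∈ H := hPH x'.2
  have hJH : J ∈ H := hPH hJ
  have hmem2 : ∀ a ∈ (P : Subgroup G), a = J * x ∨ a = J ∨ a = x ∨ a = 1 := by
    intro a ha
    have h : (⟨a, ha⟩ : (P : Subgroup G)) ∈ ({j' * x', j', x', 1} : Finset (P : Subgroup G)) := by
      rw [huniv]; exact Finset.mem_univ _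
    simp only [Finset.mem_insert, Finset.mem_singleton] at h
    rcases h with h | h | h | h
    · exact .inl (congrArg Subtype.val h)
    · exact .inr (.inl (congrArg Subtype.val h))
    · exact .inr (.inr (.inl (congrArg Subtype.val h)))
    · exact .inr (.inr (.inr (congrArg Subtype.val h)))
  have hJxinv : orderOf (J * x) = 2 := by
    refine orderOf_eq_prime ?_ fun h => hx'J (Subtype.ext ?_)
    · rw [pow_two]
      calc J * x * (J * x) = J * (x * J) * x := by group
        _ = 1 := by rw [hxJ.eq, ← mul_assoc J, hJJ, one_mul, hxx]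
    · exact (mul_eq_one_iff_inv_eq.mp h).symm.trans (inv_eq_of_mul_eq_one_right hJJ)
  have hxinv : orderOf x = 2 := orderOf_eq_prime (by rw [pow_two]; exact hxx)
    fun h => hx'1 (Subtype.ext h)
  have hJnot : (⟨J, hJH⟩ : H) ∉ K := fun h =>
    (hregK _).mpr h (by rw [Subgroup.orderOf_mk, hJ2])
  let xH : H := ⟨x, hxH⟩
  let yH : H := ⟨J * x, H.mul_mem hJH hxH⟩
  let jH : H := ⟨J, hJH⟩
  let cls : H → Finset G := fun u => Finset.univ.image fun h : H => ((h * u * h⁻¹ : H) : G)
  have hclsq : ∀ u : H, ∀ a ∈ cls u, ∃ ha : a ∈ H, ((⟨a, ha⟩ : H) : H ⧸ K) = (u : H ⧸ K) ∧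
      orderOf a = orderOf (u : G) := by
    intro u a ha
    obtain ⟨h, -, rfl⟩ := Finset.mem_image.mp ha
    refine ⟨(h * u * h⁻¹).2, ?_, ?_⟩
    · rw [Subtype.coe_eta, QuotientGroup.mk_mul, QuotientGroup.mk_mul, QuotientGroup.mk_inv,
        hqab _ (u : H ⧸ K), mul_inv_cancel_right]
    · rw [Subgroup.orderOf_coe, Subgroup.orderOf_coe]
      exact orderOf_injective (MulAut.conj h).toMonoidHom (MulAut.conj h).injective u
  have hcover : ∀ a : G, orderOf a = 2 → a ∈ H → a = J ∨ a ∈ cls xH ∨ a ∈ cls yH := by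
    intro a ha haH
    have hpg : IsPGroup 2 (Subgroup.zpowers (⟨a, haH⟩ : H)) :=
      IsPGroup.of_card (n := 1) (by rw [Nat.card_zpowers, Subgroup.orderOf_mk, ha, pow_one])
    obtain ⟨Q, hQ⟩ := hpg.exists_le_sylow
    obtain ⟨h, hh⟩ := MulAction.exists_smul_eq H (P.subtype hPH) Q
    have h1 : (⟨a, haH⟩ : H) ∈ ((h • P.subtype hPH : Sylow 2 H) : Subgroup H) :=
      hh ▸ hQ (Subgroup.mem_zpowers _)
    rw [Sylow.coe_subgroup_smul, Subgroup.mem_pointwise_smul_iff_inv_smul_mem] at h1
    have h2 : ((h⁻¹ * ⟨a, haH⟩ * h : H) : G) ∈ (P : Subgroup G) := by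
      simpa [Subgroup.mem_subgroupOf] using h1
    have hback : ∀ u : H, ((h⁻¹ * ⟨a, haH⟩ * h : H) : G) = u → a = ((h * u * h⁻¹ : H) : G) := by
      intro u hu
      rw [← Subtype.ext hu]
      simp [mul_assoc]
    rcases hmem2 _ h2 with e | e | e | e
    · exact .inr (.inr (Finset.mem_image.mpr ⟨h, Finset.mem_univ _, (hback yH e).symm⟩))
    · refine .inl ?_
      rw [hback jH e, Subgroup.coe_mul, Subgroup.coe_mul, Subgroup.coe_inv]
      rw [Subgroup.mem_centralizer_singleton_iff.mp h.2, mul_inv_cancel_right]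
    · exact .inr (.inl (Finset.mem_image.mpr ⟨h, Finset.mem_univ _, (hback xH e).symm⟩))
    · exfalso
      rw [hback 1 e] at ha
      simp at ha
  set I := Finset.univ.image fun g : G => g * J * g⁻¹ with hI
  have hmemI : ∀ a, a ∈ I ↔ orderOf a = 2 := fun a => by
    constructor
    · intro ha
      obtain ⟨g, -, rfl⟩ := Finset.mem_image.mp ha
      rw [← hJ2]
      exact orderOf_injective (MulAut.conj g).toMonoidHom (MulAut.conj g).injective J
    · intro ha
      obtain ⟨g, hg⟩ := isConj_iff.mp (hone J a hJ2 ha)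
      exact Finset.mem_image.mpr ⟨g, Finset.mem_univ _, hg⟩
  set S := (I ×ˢ I).filter fun ab : G × G =>
    J * ab.1 * ab.2 ∈ H ∧ ¬ 2 ∣ orderOf (J * ab.1 * ab.2) with hS
  have hSeq : S = cls xH ×ˢ cls yH ∪ cls yH ×ˢ cls xH := by
    ext ⟨a, b⟩
    constructor
    · intro h
      rw [hS] at h
      simp only [Finset.mem_filter, Finset.mem_product, hmemI] at h
      obtain ⟨⟨ha, hb⟩, hcH, hc⟩ := h
      have haa : a * a = 1 := by rw [← pow_two, ← ha, pow_orderOf_eq_one]
      have hbb : b * b = 1 := by rw [← pow_two, ← hb, pow_orderOf_eq_one]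
      set c := J * a * b with hcdef
      have hab : a * b = J * c := by rw [hcdef, ← mul_assoc, ← mul_assoc, hJJ, one_mul]
      have hJc : Commute J c := (Subgroup.mem_centralizer_singleton_iff.mp hcH).symm
      have h1 : IsPPart 2 (J * c) J := isPPart_mul hJc ⟨1, by simpa using hJ2⟩ hc
      have hJinv : J⁻¹ = J := inv_eq_of_mul_eq_one_right hJJ
      have hainv : a⁻¹ = a := inv_eq_of_mul_eq_one_right haa
      have hbinv : b⁻¹ = b := inv_eq_of_mul_eq_one_right hbb
      have h2 : IsPPart 2 (J * c⁻¹) J :=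
        isPPart_mul hJc.inv_right ⟨1, by simpa using hJ2⟩ (by rwa [orderOf_inv])
      have h3 : a * (J * c) * a⁻¹ = J * c⁻¹ := by
        rw [← hab, (hJc.inv_right).eq, ← hJinv, ← mul_inv_rev, ← hab, mul_inv_rev, hainv, hbinv,
          ← mul_assoc, haa, one_mul]
      have h4 : a * J * a⁻¹ = J := isPPart_unique (h3 ▸ isPPart_conj h1 a) h2
      have haH : a ∈ H := Subgroup.mem_centralizer_singleton_iff.mpr (mul_inv_eq_iff_eq_mul.mp h4)
      have hbe : b = a * J * c := by rw [mul_assoc, ← hab, ← mul_assoc, haa, one_mul]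
      have hbH : b ∈ H := hbe ▸ H.mul_mem (H.mul_mem haH hJH) hcH
      have hcK : (⟨c, hcH⟩ : H) ∈ K := (hregK _).mp (by rwa [Subgroup.orderOf_mk])
      have hq : ((⟨a, haH⟩ : H) : H ⧸ K) * ((⟨b, hbH⟩ : H) : H ⧸ K) = (jH : H ⧸ K) := by
        rw [← QuotientGroup.mk_mul, show (⟨a, haH⟩ : H) * ⟨b, hbH⟩ = jH * ⟨c, hcH⟩ from Subtype.ext hab,
          QuotientGroup.mk_mul, (QuotientGroup.eq_one_iff _).mpr hcK, mul_one]
      have hne : ∀ u : H, ((⟨a, haH⟩ : H) : H ⧸ K) = (u : H ⧸ K) → ((⟨b, hbH⟩ : H) : H ⧸ K) = (u : H ⧸ K) →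
          (u : G) * u = 1 → False := by
        intro u e1 e2 hu
        rw [e1, e2, ← QuotientGroup.mk_mul, show u * u = 1 from Subtype.ext hu, QuotientGroup.mk_one,
          eq_comm, QuotientGroup.eq_one_iff] at hq
        exact hJnot hq
      have hyy : (yH : G) * yH = 1 := by rw [← pow_two, ← hJxinv, pow_orderOf_eq_one]
      rcases hcover a ha haH with ea | ha' | ha'
      · exfalso
        have : b = c := by rw [hbe, ea, hJJ, one_mul]
        exact hc (this ▸ hb ▸ dvd_rfl)
      · rcases hcover b hb hbH with eb | hb' | hb'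
        · exfalso
          have hca : J * a * J = a := by
            rw [← Subgroup.mem_centralizer_singleton_iff.mp haH, mul_assoc, hJJ, mul_one]
          exact hc (by rw [hcdef, eb, hca, ha])
        · exfalso
          obtain ⟨_, e1, -⟩ := hclsq _ _ ha'
          obtain ⟨_, e2, -⟩ := hclsq _ _ hb'
          exact hne xH e1 e2 hxx
        · exact Finset.mem_union_left _ (Finset.mem_product.mpr ⟨ha', hb'⟩)
      · rcases hcover b hb hbH with eb | hb' | hb'
        · exfalso
          have hca : J * a * J = a := by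
            rw [← Subgroup.mem_centralizer_singleton_iff.mp haH, mul_assoc, hJJ, mul_one]
          exact hc (by rw [hcdef, eb, hca, ha])
        · exact Finset.mem_union_right _ (Finset.mem_product.mpr ⟨ha', hb'⟩)
        · exfalso
          obtain ⟨_, e1, -⟩ := hclsq _ _ ha'
          obtain ⟨_, e2, -⟩ := hclsq _ _ hb'
          exact hne yH e1 e2 hyy
    · intro h
      have key : ∀ u v : H, (u : G) * v = J → orderOf (u : G) = 2 → orderOf (v : G) = 2 →
          a ∈ cls u → b ∈ cls v → (a, b) ∈ S := by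
        intro u v huv hu hv ha hb
        obtain ⟨haH, e1, ha2⟩ := hclsq _ _ ha
        obtain ⟨hbH, e2, hb2⟩ := hclsq _ _ hb
        rw [hS]
        simp only [Finset.mem_filter, Finset.mem_product, hmemI]
        refine ⟨⟨ha2.trans hu, hb2.trans hv⟩, H.mul_mem (H.mul_mem hJH haH) hbH, ?_⟩
        have hK : (jH * ⟨a, haH⟩ * ⟨b, hbH⟩ : H) ∈ K := by
          rw [← QuotientGroup.eq_one_iff, QuotientGroup.mk_mul, QuotientGroup.mk_mul, e1, e2,
            mul_assoc, ← QuotientGroup.mk_mul, show u * v = jH from Subtype.ext huv, ← QuotientGroup.mk_mul,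
            show jH * jH = 1 from Subtype.ext hJJ, QuotientGroup.mk_one]
        have := (hregK _).mpr hK
        rwa [← Subgroup.orderOf_coe] at this
      rcases Finset.mem_union.mp h with h | h <;> obtain ⟨ha, hb⟩ := Finset.mem_product.mp h
      · refine key xH yH ?_ hxinv hJxinv ha hb
        change x * (J * x) = J
        rw [← mul_assoc, hxJ.eq, mul_assoc, hxx, mul_one]
      · refine key yH xH ?_ hJxinv hxinv ha hb
        change J * x * x = J
        rw [mul_assoc, hxx, mul_one]
  have hdisj : Disjoint (cls xH ×ˢ cls yH) (cls yH ×ˢ cls xH) := by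
    rw [Finset.disjoint_left]
    rintro ⟨a, b⟩ h1 h2
    obtain ⟨h, e1, -⟩ := hclsq _ _ (Finset.mem_product.mp h1).1
    obtain ⟨h', e2, -⟩ := hclsq _ _ (Finset.mem_product.mp h2).1
    have e3 : (xH : H ⧸ K) = (yH : H ⧸ K) := e1.symm.trans e2
    rw [show yH = jH * xH from rfl, QuotientGroup.mk_mul, right_eq_mul, QuotientGroup.eq_one_iff] at e3
    exact hJnot e3
  have hCP : ∀ u : H, (u : G) ∈ (P : Subgroup G) → (u : G) ≠ 1 → (u : G) ≠ J →
      (cls u).card * Nat.card (Subgroup.centralizer ((P : Subgroup G) : Set G)) = Nat.card H := by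
    intro u huP hu1 huJ
    have huniv' := IsKleinFour.eq_finset_univ hj1 (show (⟨_, huP⟩ : (P : Subgroup G)) ≠ 1 from
      fun h => hu1 (congrArg Subtype.val h)) (show j' ≠ ⟨_, huP⟩ from fun h => huJ (congrArg Subtype.val h).symm)
    have e : Nat.card (Subgroup.centralizer ({u} : Set H)) =
        Nat.card (Subgroup.centralizer ((P : Subgroup G) : Set G)) := by
      refine Nat.card_congr
        { toFun := fun h => ⟨((h : H) : G), ?_⟩
          invFun := fun w => ⟨⟨(w : G), ?_⟩, ?_⟩
          left_inv := fun h => rfl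
          right_inv := fun w => rfl }
      · refine Subgroup.mem_centralizer_iff.mpr fun a ha => ?_
        have c1 : Commute J ((h : H) : G) := (Subgroup.mem_centralizer_singleton_iff.mp (h : H).2).symm
        have c2 : Commute (u : G) ((h : H) : G) :=
          (congrArg Subtype.val (Subgroup.mem_centralizer_singleton_iff.mp h.2)).symm
        have h' : (⟨a, ha⟩ : (P : Subgroup G)) ∈
            ({j' * ⟨_, huP⟩, j', ⟨_, huP⟩, 1} : Finset (P : Subgroup G)) := by
          rw [huniv']; exact Finset.mem_univ _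
        simp only [Finset.mem_insert, Finset.mem_singleton] at h'
        rcases h' with h' | h' | h' | h' <;> have e := congrArg Subtype.val h'
        · rw [show a = _ from e]; exact (c1.mul_left c2).eq
        · rw [show a = _ from e]; exact c1.eq
        · rw [show a = _ from e]; exact c2.eq
        · rw [show a = _ from e]; exact (Commute.one_left _).eq
      · exact Subgroup.mem_centralizer_singleton_iff.mpr (Subgroup.mem_centralizer_iff.mp w.2 J hJ).symm
      · exact Subgroup.mem_centralizer_singleton_iff.mpr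
          (Subtype.ext (Subgroup.mem_centralizer_iff.mp w.2 _ huP).symm)
    rw [← e, ← CfsgLib.Char.card_isConj_mul_card_centralizer u]
    congr 1
    rw [show cls u = (Finset.univ.image fun h : H => h * u * h⁻¹).map ⟨Subtype.val, Subtype.val_injective⟩
        from by rw [Finset.map_eq_image, Finset.image_image]; rfl, Finset.card_map, Nat.card_eq_fintype_card,
      Fintype.card_subtype]
    congr 1
    ext w
    simp [isConj_iff]
  have hN : (Finset.univ.filter fun gw : G × G =>
      J * (gw.1 * J * gw.1⁻¹) * (gw.2 * J * gw.2⁻¹) ∈ H ∧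
        ¬ 2 ∣ orderOf (J * (gw.1 * J * gw.1⁻¹) * (gw.2 * J * gw.2⁻¹))).card =
      Nat.card H ^ 2 * S.card := by
    rw [Finset.card_eq_sum_ones, Finset.sum_filter, Fintype.sum_prod_type]
    rw [show (∑ g : G, ∑ w : G, (if J * (g * J * g⁻¹) * (w * J * w⁻¹) ∈ H ∧
        ¬ 2 ∣ orderOf (J * (g * J * g⁻¹) * (w * J * w⁻¹)) then 1 else 0 : ℕ)) =
        ∑ g : G, (fun a => Nat.card H * ∑ b ∈ I, (if J * a * b ∈ H ∧ ¬ 2 ∣ orderOf (J * a * b)
          then 1 else 0 : ℕ)) (g * J * g⁻¹) from Finset.sum_congr rfl fun g _ =>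
      sum_conjugates J fun b => if J * (g * J * g⁻¹) * b ∈ H ∧
        ¬ 2 ∣ orderOf (J * (g * J * g⁻¹) * b) then 1 else 0]
    rw [sum_conjugates J (fun a => Nat.card H * ∑ b ∈ I, (if J * a * b ∈ H ∧ ¬ 2 ∣ orderOf (J * a * b)
          then 1 else 0 : ℕ)), ← Finset.mul_sum, ← mul_assoc, ← pow_two, ← hI, hS,
      ← Finset.sum_product', Finset.card_eq_sum_ones, Finset.sum_filter]
  rw [hN, hSeq, Finset.card_union_of_disjoint hdisj, Finset.card_product, Finset.card_product]
  have ex := hCP xH x'.2 (fun h => hx'1 (Subtype.ext h)) (fun h => hx'J (Subtype.ext h))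
  have ey := hCP yH ((P : Subgroup G).mul_mem hJ x'.2)
    (fun h => by rw [show J * x = (1 : G) from h, orderOf_one] at hJxinv; omega)
    (fun h => hx'1 (Subtype.ext (mul_eq_left.mp (h : J * x = J))))
  calc Nat.card H ^ 2 * ((cls xH).card * (cls yH).card + (cls yH).card * (cls xH).card) *
        Nat.card (Subgroup.centralizer ((P : Subgroup G) : Set G)) ^ 2
      = 2 * Nat.card H ^ 2 * (((cls xH).card * Nat.card (Subgroup.centralizer ((P : Subgroup G) : Set G))) *
          ((cls yH).card * Nat.card (Subgroup.centralizer ((P : Subgroup G) : Set G)))) := by ring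
    _ = 2 * Nat.card H ^ 4 := by rw [ex, ey]; ring

open scoped Classical in
/-- The structure constant of the involutions, seen by the principal block. -/
theorem klein_structure_value (hM : IsPModular 2 M) (P : Sylow 2 G) (hP : IsKleinFour (P : Subgroup G))
    (hone : ∀ s t : G, orderOf s = 2 → orderOf t = 2 → IsConj s t) {J : G}
    (hJ : J ∈ (P : Subgroup G)) (hJ2 : orderOf J = 2) [DecidablePred (· ∈ principalBlock M G)] :
    (Nat.card G : ℂ) * (Nat.card (Subgroup.centralizer ((P : Subgroup G) : Set G)) : ℂ) ^ 2 *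
      ∑ χ : IrrCharacter G, (if χ ∈ principalBlock M G then
        (χ : G → ℂ) J * (χ : G → ℂ) J / (χ : G → ℂ) 1 * (χ : G → ℂ) J else 0) =
    8 * (Nat.card (Subgroup.centralizer ({J} : Set G)) : ℂ) ^ 3 := by
  classical
  have : Fact (Nat.Prime 2) := ⟨Nat.prime_two⟩
  have := hP
  have hJ1 : J ≠ 1 := fun h => by rw [h, orderOf_one] at hJ2; omega
  have hJJ : J * J = 1 := by rw [← pow_two, ← hJ2, pow_orderOf_eq_one]
  have hx : ∃ k : ℕ, orderOf J = 2 ^ k := ⟨1, by simpa using hJ2⟩
  have hnc := index_pPrimeCore_centralizer P hP hJ hJ1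
  let _ := Fintype.ofFinite (Subgroup.centralizer ({J} : Set G))
  set H := Subgroup.centralizer ({J} : Set G) with hH
  have hJinv : J⁻¹ = J := inv_eq_of_mul_eq_one_right hJJ
  have h := sum_block_section hM hx (fun χ : IrrCharacter G => (χ : G → ℂ) J * (χ : G → ℂ) J / (χ : G → ℂ) 1)
    (y := (1 : H)) (by simp)
  simp only [OneMemClass.coe_one, mul_one] at h
  have hfacH : (Nat.card H).factorization 2 = 2 := by
    have hfac : (Nat.card G).factorization 2 = 2 := by
      have h := P.card_eq_multiplicity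
      rw [hP.card_four] at h
      exact (Nat.pow_right_injective le_rfl (show (2 : ℕ) ^ 2 = _ from by simpa using h)).symm
    have hPH : (P : Subgroup G) ≤ H := fun w hw =>
      Subgroup.mem_centralizer_singleton_iff.mpr (CfsgLib.Invol.commute_of_kleinFour hP hw hJ)
    have hd := Subgroup.card_dvd_of_le hPH
    rw [hP.card_four, show (4 : ℕ) = 2 ^ 2 by norm_num] at hd
    exact le_antisymm (((Nat.factorization_le_iff_dvd Nat.card_pos.ne' Nat.card_pos.ne').mpr
      (Subgroup.card_subgroup_dvd_card H) 2).trans hfac.le) ((Nat.prime_two.pow_dvd_iff_le_factorization Nat.card_pos.ne').mp hd)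
  rw [h, blockPart_principal_one hM hnc, hfacH]
  have hpairs : ∀ c : H, (Nat.card G : ℂ) *
      ∑ χ : IrrCharacter G, (χ : G → ℂ) J * (χ : G → ℂ) J / (χ : G → ℂ) 1 * (χ : G → ℂ) (J * (c : G)) =
      ((Finset.univ.filter fun gw : G × G =>
        gw.1 * J * gw.1⁻¹ * (gw.2 * J * gw.2⁻¹) = J * ((c⁻¹ : H) : G)).card : ℂ) := by
    intro c
    rw [card_pairs]
    refine congrArg _ (Finset.sum_congr rfl fun χ _ => ?_)
    rw [mul_inv_rev, Subgroup.coe_inv, inv_inv, hJinv, Subgroup.mem_centralizer_singleton_iff.mp c.2]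
    ring
  have hre : (Finset.univ.filter fun gw : G × G =>
      J * (gw.1 * J * gw.1⁻¹) * (gw.2 * J * gw.2⁻¹) ∈ H ∧
        ¬ 2 ∣ orderOf (J * (gw.1 * J * gw.1⁻¹) * (gw.2 * J * gw.2⁻¹))).card =
      ∑ c : H, if 2 ∣ orderOf c then 0 else (Finset.univ.filter fun gw : G × G =>
        gw.1 * J * gw.1⁻¹ * (gw.2 * J * gw.2⁻¹) = J * ((c⁻¹ : H) : G)).card := by
    simp only [Finset.card_eq_sum_ones, Finset.sum_filter]
    rw [show (∑ c : H, if 2 ∣ orderOf c then 0 else ∑ gw : G × G,
        if gw.1 * J * gw.1⁻¹ * (gw.2 * J * gw.2⁻¹) = J * ((c⁻¹ : H) : G) then 1 else 0) =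
      ∑ c : H, ∑ gw : G × G, if ¬ 2 ∣ orderOf c ∧
        gw.1 * J * gw.1⁻¹ * (gw.2 * J * gw.2⁻¹) = J * ((c⁻¹ : H) : G) then 1 else 0 from
      Finset.sum_congr rfl fun c _ => by split_ifs with h <;> simp [h], Finset.sum_comm]
    refine Finset.sum_congr rfl fun gw _ => ?_
    split_ifs with hP'
    · obtain ⟨hm, hodd⟩ := hP'
      rw [Finset.sum_eq_single (⟨_, hm⟩⁻¹ : H)]
      · refine (if_pos ⟨by rwa [orderOf_inv, Subgroup.orderOf_mk], ?_⟩).symm
        rw [inv_inv]
        simp [← mul_assoc, hJJ]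
      · intro c _ hne
        rw [if_neg]
        rintro ⟨-, e⟩
        refine hne ?_
        rw [eq_inv_iff_mul_eq_one, ← inv_eq_iff_mul_eq_one]
        refine Subtype.ext ?_
        change ((c⁻¹ : H) : G) = J * (gw.1 * J * gw.1⁻¹) * (gw.2 * J * gw.2⁻¹)
        rw [mul_assoc, e, ← mul_assoc, hJJ, one_mul]
      · simp
    · refine (Finset.sum_eq_zero fun c _ => if_neg ?_).symm
      rintro ⟨hc, e⟩
      refine hP' ?_
      rw [mul_assoc, e, ← mul_assoc, hJJ, one_mul]
      exact ⟨(c⁻¹ : H).2, by rwa [Subgroup.orderOf_coe, orderOf_inv]⟩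
  have hsum : (Nat.card G : ℂ) * ∑ c : H, (if 2 ∣ orderOf c then (0 : ℂ) else
      ∑ χ : IrrCharacter G, (χ : G → ℂ) J * (χ : G → ℂ) J / (χ : G → ℂ) 1 * (χ : G → ℂ) (J * (c : G))) =
      ((∑ c : H, if 2 ∣ orderOf c then 0 else (Finset.univ.filter fun gw : G × G =>
        gw.1 * J * gw.1⁻¹ * (gw.2 * J * gw.2⁻¹) = J * ((c⁻¹ : H) : G)).card : ℕ) : ℂ) := by
    rw [Finset.mul_sum, Nat.cast_sum]
    refine Finset.sum_congr rfl fun c _ => ?_
    split_ifs
    · simp
    · exact hpairs c
  rw [← hre] at hsum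
  have hcount := congrArg (Nat.cast : ℕ → ℂ) (card_pairs_section P hP hone hJ hJ2)
  push_cast at hcount
  rw [← hsum] at hcount
  have hH0 : (Nat.card H : ℂ) ≠ 0 := CfsgLib.Char.card_ne_zero'
  generalize (∑ c : H, (if 2 ∣ orderOf c then (0 : ℂ) else
    ∑ χ : IrrCharacter G, (χ : G → ℂ) J * (χ : G → ℂ) J / (χ : G → ℂ) 1 * (χ : G → ℂ) (J * (c : G)))) = T
    at hcount ⊢
  push_cast
  field_simp
  linear_combination 4 * hcount

end CfsgLib.Blocks
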