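import Mathlib
import Cfsg.Agent.S0915
import Cfsg.Agent.S0939
import Cfsg.Agent.Lib.CharNormal.Kernel
import Cfsg.Agent.Lib.Cores.Basic
import Cfsg.Agent.Lib.Transfer.PSolvable

/-!
# The principal block of a `p`-solvable group

* `sameBlock_comp_mk'`: inflation preserves blocks;
* `mem_principalBlock_iff_of_pSolvable`: the members are the characters trivial on `O_{p'}(G)`.
-/

set_option autoImplicit false

noncomputable section

namespace CfsgLib.Blocks

open Cfsg

variable {M : Ideal AlgInt} [M.IsMaximal] {G : Type*} [Group G] [Finite G] {p : ℕ}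

theorem centralChar_comp_mk' (K : Subgroup G) [K.Normal] (g : G) :
    ∃ n : ℕ, ∀ ψ : G ⧸ K → ℂ,
      centralChar (ψ ∘ QuotientGroup.mk) g = (n : ℂ) * centralChar ψ (g : G ⧸ K) := by
  have hle : Subgroup.centralizer ({g} : Set G) ≤
      (Subgroup.centralizer ({(g : G ⧸ K)} : Set (G ⧸ K))).comap (QuotientGroup.mk' K) := by
    intro c hc
    rw [Subgroup.mem_comap, Subgroup.mem_centralizer_singleton_iff]
    show (c : G ⧸ K) * g = g * c
    rw [← QuotientGroup.mk_mul, Subgroup.mem_centralizer_singleton_iff.1 hc, QuotientGroup.mk_mul]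
  have hdvd := Subgroup.index_dvd_of_le hle
  rw [Subgroup.index_comap_of_surjective _ (QuotientGroup.mk'_surjective K)] at hdvd
  obtain ⟨n, hn⟩ := hdvd
  refine ⟨n, fun ψ => ?_⟩
  simp only [centralChar, Function.comp_apply, QuotientGroup.mk_one, hn]
  push_cast
  ring

theorem sameBlock_comp_mk' (K : Subgroup G) [K.Normal] {ψ φ : G ⧸ K → ℂ}
    (h : SameBlock M ψ φ) : SameBlock M (ψ ∘ QuotientGroup.mk) (φ ∘ QuotientGroup.mk) := by
  intro g
  obtain ⟨n, hn⟩ := centralChar_comp_mk' K g
  rw [hn, hn, ← mul_sub]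
  obtain ⟨a, b, ha, hb, hab⟩ := h (g : G ⧸ K)
  refine ⟨(n : AlgInt) * a, b, M.mul_mem_left _ ha, hb, ?_⟩
  rw [← hab]; push_cast; ring

theorem mem_principalBlock_iff_of_pSolvable [Fact p.Prime] (hM : IsPModular p M)
    (hsol : IsPSolvable p G) (χ : IrrCharacter G) :
    χ ∈ principalBlock M G ↔ ∀ n ∈ pPrimeCore p G, (χ : G → ℂ) n = (χ : G → ℂ) 1 := by
  classical
  have := Fintype.ofFinite G
  have := Fintype.ofFinite (pPrimeCore p G)
  constructor
  · intro h
    rw [principalBlock_eq] at h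
    exact trivialOn_of_sameBlock hM (CfsgLib.Cores.not_dvd_card_pPrimeCore p) h (fun n _ => rfl)
  · intro h
    have : (pPrimeCore p G).Normal := by
      have := CfsgLib.Cores.pPrimeCore_characteristic (G := G) p
      exact inferInstance
    obtain ⟨ψ, hψ, hψχ⟩ := CfsgLib.CharNormal.exists_irr_eq_comp_mk' (pPrimeCore p G) χ.2 h
    have := Fintype.ofFinite (G ⧸ pPrimeCore p G)
    have hs := sameBlock_comp_mk' (M := M) (pPrimeCore p G) (Cfsg.Agent.S0915.result p M hM
      (CfsgLib.Transfer.isPSolvable_quotient hsol _) (CfsgLib.Cores.pPrimeCore_quotient_self p)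
      CfsgLib.Char.irrOne ⟨ψ, hψ⟩)
    rw [hψχ] at hs
    rw [principalBlock_eq]
    exact hs

end CfsgLib.Blocks
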