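import Cfsg.Agent.Lib.Blocks.KleinFour
import Cfsg.Agent.Lib.Blocks.PPart
import Cfsg.Prelude.Def_BlockRank
import Mathlib.LinearAlgebra.Dimension.RankNullity

/-!
# The principal 2-block of a group with a Klein four Sylow subgroup has 2-regular rank three
-/

set_option autoImplicit false

noncomputable section

namespace CfsgLib.Blocks

open Cfsg
open scoped ComplexConjugate

variable {G : Type*} [Group G] [Fintype G] {M : Ideal AlgInt} [M.IsMaximal]

theorem klein_blockRank (hM : IsPModular 2 M) (P : Sylow 2 G) (hP : IsKleinFour (P : Subgroup G))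
    (hone : ∀ s t : G, orderOf s = 2 → orderOf t = 2 → IsConj s t) :
    blockRank 2 (principalBlock M G) = 3 := by
  classical
  have : Fact (Nat.Prime 2) := ⟨Nat.prime_two⟩
  obtain ⟨ζ₂, ζ₃, ζ₄, ε, -, h21, h31, h23, h24, h34, hB, hz, -, -, hd4, hrel⟩ :=
    klein_principal_block hM P hP hone
  set f : Fin 4 → IrrCharacter G := ![CfsgLib.Char.irrOne, ζ₂, ζ₃, ζ₄] with hf
  have hf1 : ((CfsgLib.Char.irrOne : IrrCharacter G) : G → ℂ) = fun _ => 1 := rfl
  have h41 : ζ₄ ≠ CfsgLib.Char.irrOne := fun h => by
    rw [h] at hd4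
    rw [hf1, charDegree_one] at hd4
    norm_num at hd4
  have hinj : Function.Injective f := by
    have e2 : ζ₂ ≠ CfsgLib.Char.irrOne := fun h => h21 (by rw [h, hf1])
    have e3 : ζ₃ ≠ CfsgLib.Char.irrOne := fun h => h31 (by rw [h, hf1])
    intro i j hij
    fin_cases i <;> fin_cases j <;> first
      | rfl
      | (exfalso; simp [hf] at hij; first
          | exact e2 hij | exact e2 hij.symm | exact e3 hij | exact e3 hij.symm | exact h41 hij | exact h41 hij.symm
          | exact h23 hij | exact h23 hij.symm | exact h24 hij | exact h24 hij.symm | exact h34 hij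
          | exact h34 hij.symm)
  have himg : (fun χ : IrrCharacter G => pRegularPart 2 (χ : G → ℂ)) '' principalBlock M G =
      Set.range fun i => pRegularPart 2 (f i : G → ℂ) := by
    refine Eq.trans ?_ (Set.range_comp (fun χ : IrrCharacter G => pRegularPart 2 (χ : G → ℂ)) f).symm
    congr 1
    rw [hB]
    ext χ
    simp only [hf, Matrix.range_cons, Matrix.range_empty, Set.union_empty, Set.mem_union, Set.mem_singleton_iff,
      Set.mem_ofPred_eq, ← hf1, Subtype.coe_inj]
  set Φ := Fintype.linearCombination ℂ (fun i => pRegularPart 2 (f i : G → ℂ)) with hΦ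
  have hrange : LinearMap.range Φ = Submodule.span ℂ (Set.range fun i => pRegularPart 2 (f i : G → ℂ)) :=
    Fintype.range_linearCombination ℂ _
  have hsum := LinearMap.finrank_range_add_finrank_ker Φ
  rw [Module.finrank_fintype_fun_eq_card, Fintype.card_fin] at hsum
  obtain ⟨z', hz'⟩ : ∃ z' : (P : Subgroup G), z' ≠ 1 := by
    have : Nontrivial (P : Subgroup G) := Finite.one_lt_card_iff_nontrivial.mp (by rw [hP.card_four]; norm_num)
    exact exists_ne 1
  have hzne : (z' : G) ≠ 1 := fun h => hz' (Subtype.ext h)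
  have hzsq : orderOf (z' : G) = 2 := orderOf_eq_prime (by
    have := hP
    rw [pow_two]; exact congrArg Subtype.val (IsKleinFour.mul_self z')) hzne
  let ev : LinearMap.ker Φ →ₗ[ℂ] ℂ :=
    { toFun := fun c => ∑ i, (c : Fin 4 → ℂ) i * (f i : G → ℂ) (z' : G)
      map_add' := fun a b => by simp [add_mul, Finset.sum_add_distrib]
      map_smul' := fun a b => by simp [Finset.mul_sum, mul_assoc] }
  have hfB : ∀ i, f i ∈ principalBlock M G := fun i => by
    rw [hB]; fin_cases i <;> simp [hf, hf1]
  have hevinj : Function.Injective ev := by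
    rw [← LinearMap.ker_eq_bot, LinearMap.ker_eq_bot']
    intro c hc
    have hc' : ∀ g : G, ∑ i, (c : Fin 4 → ℂ) i * (f i : G → ℂ) g = 0 := by
      intro g
      by_cases hg : 2 ∣ orderOf g
      · obtain ⟨w, hw⟩ := exists_isPPart (p := 2) g
        obtain ⟨y, hwy, hcomm, hwk, hy⟩ := hw
        have hw1 : w ≠ 1 := fun h => by
          rw [h, one_mul] at hwy
          exact hy (hwy ▸ hg)
        have hw2 : orderOf w = 2 := orderOf_eq_prime (sq_eq_one_of_two_element P hP hwk) hw1
        obtain ⟨v, hv⟩ := isConj_iff.mp (hone w (z' : G) hw2 hzsq)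
        let _ := Fintype.ofFinite (Subgroup.centralizer ({(z' : G)} : Set G))
        have hvy : v * y * v⁻¹ ∈ Subgroup.centralizer ({(z' : G)} : Set G) := by
          rw [Subgroup.mem_centralizer_singleton_iff, ← hv]
          calc v * y * v⁻¹ * (v * w * v⁻¹) = v * (y * w) * v⁻¹ := by group
            _ = v * (w * y) * v⁻¹ := by rw [hcomm.eq]
            _ = v * w * v⁻¹ * (v * y * v⁻¹) := by group
        have hval : ∀ i, (f i : G → ℂ) g = (f i : G → ℂ) (z' : G) := fun i => by
          rw [← CfsgLib.Char.isClassFunction_of_isIrr (f i).2 g v,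
            show v * g * v⁻¹ = (z' : G) * (v * y * v⁻¹) by rw [← hv, ← hwy]; group]
          exact principal_section_const hM ⟨1, by rw [pow_one]; exact hzsq⟩
            (index_pPrimeCore_centralizer P hP z'.2 hzne) (hfB i) (y := ⟨_, hvy⟩)
            (by rw [Subgroup.orderOf_mk, show v * y * v⁻¹ = MulAut.conj v y by simp, MulEquiv.orderOf_eq]; exact hy)
        simp only [hval]
        exact hc
      · have h := congrFun (LinearMap.mem_ker.mp c.2) g
        simp only [hΦ, Fintype.linearCombination_apply, Finset.sum_apply, Pi.smul_apply, smul_eq_mul,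
          Pi.zero_apply, pRegularPart, IsPRegular, hg, not_false_iff, if_true] at h
        exact h
    refine Subtype.ext (funext fun j => ?_)
    have h : classInner (∑ i, (c : Fin 4 → ℂ) i • (f i : G → ℂ)) (f j : G → ℂ) = 0 := by
      rw [show (∑ i, (c : Fin 4 → ℂ) i • (f i : G → ℂ)) = fun _ => (0 : ℂ) from funext fun g => by
        simp only [Finset.sum_apply, Pi.smul_apply, smul_eq_mul]; exact hc' g]
      simp [classInner]
    rw [CfsgLib.Char.classInner_sum_left, Finset.sum_eq_single j] at h
    · rwa [CfsgLib.Char.classInner_smul_left, CfsgLib.Char.classInner_irr_self (f j).2, mul_one] at h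
    · intro i _ hi
      rw [CfsgLib.Char.classInner_smul_left,
        CfsgLib.Char.classInner_irr_ne (f i).2 (f j).2 (fun h => hi (hinj (Subtype.ext h))), mul_zero]
    · simp
  have hker1 : Module.finrank ℂ (LinearMap.ker Φ) ≤ 1 := by
    have := LinearMap.finrank_le_finrank_of_injective hevinj
    rwa [Module.finrank_self] at this
  have hker2 : 1 ≤ Module.finrank ℂ (LinearMap.ker Φ) := by
    refine Submodule.one_le_finrank_iff.mpr fun h => ?_
    have hv : (![1, 1, (ε : ℂ), -1] : Fin 4 → ℂ) ∈ LinearMap.ker Φ := by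
      rw [LinearMap.mem_ker]
      funext g
      simp only [hΦ, Fintype.linearCombination_apply, Finset.sum_apply, Pi.smul_apply, smul_eq_mul, Pi.zero_apply,
        pRegularPart, IsPRegular]
      by_cases hg : 2 ∣ orderOf g
      · simp [hg]
      · have := hrel g (Nat.odd_iff.mpr (Nat.two_dvd_ne_zero.mp hg))
        simp only [hg, not_false_iff, if_true, Fin.sum_univ_four, hf, Matrix.cons_val_zero, Matrix.cons_val_one,
          Matrix.cons_val_two, Matrix.cons_val_three, Matrix.tail_cons, Matrix.head_cons, hf1]
        linear_combination this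
    rw [h, Submodule.mem_bot] at hv
    exact one_ne_zero (α := ℂ) (by simpa using congrFun hv 0)
  rw [blockRank, himg, ← hrange]
  omega

end CfsgLib.Blocks
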