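import Cfsg.Agent.Lib.Blocks.PrincipalSection
import Cfsg.Agent.Lib.Transfer.Frobenius
import Cfsg.Agent.Lib.FGS.Basics
import Mathlib.GroupTheory.SpecificGroups.KleinFour

/-!
# The principal 2-block for a Klein four Sylow subgroup with one class of involutions
-/

set_option autoImplicit false

noncomputable section

namespace CfsgLib.Blocks

open Cfsg
open scoped ComplexConjugate

variable {G : Type*} [Group G] [Fintype G]

/-- A 2-element squares to one when the Sylow 2-subgroups are four-groups. -/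
theorem sq_eq_one_of_two_element (P : Sylow 2 G) (hP : IsKleinFour (P : Subgroup G)) {z : G}
    (hz : ∃ k : ℕ, orderOf z = 2 ^ k) : z ^ 2 = 1 := by
  have : Fact (Nat.Prime 2) := ⟨Nat.prime_two⟩
  obtain ⟨k, hk⟩ := hz
  have hzp : IsPGroup 2 (Subgroup.zpowers z) := IsPGroup.of_card (n := k) (by rw [Nat.card_zpowers, hk])
  obtain ⟨Q, hQ⟩ := hzp.exists_le_sylow
  have h := Monoid.pow_exponent_eq_one (⟨z, hQ (Subgroup.mem_zpowers z)⟩ : (Q : Subgroup G))
  rw [Monoid.exponent_eq_of_mulEquiv (Q.equiv P), hP.exponent_two] at h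
  simpa using congrArg Subtype.val h

/-- The centraliser of an involution of a four-group Sylow subgroup has a normal 2-complement. -/
theorem index_pPrimeCore_centralizer (P : Sylow 2 G) (hP : IsKleinFour (P : Subgroup G)) {z₀ : G}
    (hz₀ : z₀ ∈ (P : Subgroup G)) (hz₁ : z₀ ≠ 1) :
    ∃ k : ℕ, (pPrimeCore 2 (Subgroup.centralizer ({z₀} : Set G))).index = 2 ^ k := by
  classical
  have : Fact (Nat.Prime 2) := ⟨Nat.prime_two⟩
  have := hP
  have hsq : ∀ a : (P : Subgroup G), a * a = 1 := fun a => IsKleinFour.mul_self a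
  have hab : ∀ a b : (P : Subgroup G), a * b = b * a := fun a b =>
    mul_comm_of_exponent_two hP.exponent_two a b
  have hPH : (P : Subgroup G) ≤ Subgroup.centralizer ({z₀} : Set G) := fun w hw =>
    Subgroup.mem_centralizer_singleton_iff.mpr (congrArg Subtype.val (hab ⟨w, hw⟩ ⟨z₀, hz₀⟩))
  set H := Subgroup.centralizer ({z₀} : Set G)
  set PH : Sylow 2 H := P.subtype hPH
  -- odd order elements of the normaliser centralise
  have hodd : ∀ m : H, (Nat.Coprime (orderOf m) 2) →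
      m ∈ Subgroup.normalizer ((PH : Subgroup H) : Set H) → ∀ w ∈ (P : Subgroup G), (m : G) * w = w * m := by
    intro m hm hmN w hw
    have hmP : ∀ v ∈ (P : Subgroup G), (m : G) * v * (m : G)⁻¹ ∈ (P : Subgroup G) := fun v hv => by
      have := (Subgroup.mem_normalizer_iff.mp hmN ⟨v, hPH hv⟩).mp (by simpa [PH, Subgroup.mem_subgroupOf] using hv)
      simpa [PH, Subgroup.mem_subgroupOf] using this
    have hmz : (m : G) * z₀ * (m : G)⁻¹ = z₀ := by
      rw [Subgroup.mem_centralizer_singleton_iff.mp m.2, mul_inv_cancel_right]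
    have h2 : (m : G) ^ 2 * w * ((m : G) ^ 2)⁻¹ = w := by
      by_cases hw1 : w = 1
      · subst hw1; simp
      by_cases hwz : w = z₀
      · rw [hwz]
        calc (m : G) ^ 2 * z₀ * ((m : G) ^ 2)⁻¹ = (m : G) * ((m : G) * z₀ * (m : G)⁻¹) * (m : G)⁻¹ := by
              rw [pow_two]; group
          _ = z₀ := by rw [hmz, hmz]
      set z' : (P : Subgroup G) := ⟨z₀, hz₀⟩
      set w' : (P : Subgroup G) := ⟨w, hw⟩
      set v' : (P : Subgroup G) := ⟨(m : G) * w * (m : G)⁻¹, hmP w hw⟩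
      have hz' : z' ≠ 1 := fun h => hz₁ (congrArg Subtype.val h)
      have hw' : w' ≠ 1 := fun h => hw1 (congrArg Subtype.val h)
      have hne : z' ≠ w' := fun h => hwz (congrArg Subtype.val h).symm
      let _ := Fintype.ofFinite (P : Subgroup G)
      have huniv := IsKleinFour.eq_finset_univ hz' hw' hne
      have hv : v' ∈ ({z' * w', z', w', 1} : Finset (P : Subgroup G)) := by
        rw [huniv]; exact Finset.mem_univ _
      simp only [Finset.mem_insert, Finset.mem_singleton] at hv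
      have e : (m : G) ^ 2 * w * ((m : G) ^ 2)⁻¹ = (m : G) * (v' : G) * (m : G)⁻¹ := by
        simp only [v', pow_two]; group
      rcases hv with h | h | h | h
      · rw [e, h]
        have : ((z' * w' : (P : Subgroup G)) : G) = z₀ * w := rfl
        rw [this, show (m : G) * (z₀ * w) * (m : G)⁻¹ = ((m : G) * z₀ * (m : G)⁻¹) * (v' : G) from by
          simp only [v']; group, hmz, h, this, ← mul_assoc]
        have h2 : z₀ * z₀ = 1 := congrArg Subtype.val (hsq z')
        rw [h2, one_mul]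
      · exfalso
        refine hwz ?_
        have h3 : (m : G) * w * (m : G)⁻¹ = z₀ := congrArg Subtype.val h
        exact mul_left_cancel (mul_right_cancel (h3.trans hmz.symm))
      · rw [e, h]; exact congrArg Subtype.val h
      · exfalso
        refine hw1 ?_
        have h3 : (m : G) * w * (m : G)⁻¹ = 1 := congrArg Subtype.val h
        exact (conj_eq_one_iff (a := (m : G))).mp h3
    have hc : Commute ((m : G) ^ 2) w := mul_inv_eq_iff_eq_mul.mp h2
    obtain ⟨i, hi⟩ := exists_pow_eq_self_of_coprime (x := (m : G)) (n := 2)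
      (by rw [Subgroup.orderOf_coe]; exact hm.symm)
    have := hc.pow_left i
    rwa [hi] at this
  have hnc : HasNormalPComplement 2 H := by
    refine CfsgLib.Transfer.hasNormalPComplement_of_normalizer_le_centralizer PH fun n hn => ?_
    obtain ⟨a, b, ⟨k, hk⟩, hb, hab', -⟩ := CfsgLib.FGS.exists_p_parts 2 n
    have h1 : n ^ a ∈ (PH : Subgroup H) :=
      CfsgLib.FGS.mem_of_mem_normalizer PH ⟨k, hk⟩ (pow_mem hn a)
    refine Subgroup.mem_centralizer_iff.mpr fun w hw => Subtype.ext ?_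
    have hw' : (w : G) ∈ (P : Subgroup G) := hw
    have h1' : ((n ^ a : H) : G) ∈ (P : Subgroup G) := h1
    have c1 : Commute (w : G) ((n ^ a : H) : G) := congrArg Subtype.val (hab ⟨_, hw'⟩ ⟨_, h1'⟩)
    have c2 : Commute (w : G) ((n ^ b : H) : G) := (hodd _ hb (pow_mem hn b) _ hw').symm
    have := (c1.mul_right c2).eq
    rw [← Subgroup.coe_mul, hab'] at this
    exact this
  obtain ⟨N, hN, hcop, k, hk⟩ := CfsgLib.Transfer.hasNormalPComplement_iff.mp hnc
  have hle : N ≤ pPrimeCore 2 H := @CfsgLib.Cores.le_pPrimeCore H _ 2 N hN hcop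
  obtain ⟨j, -, hj⟩ := (Nat.dvd_prime_pow Nat.prime_two).mp (hk ▸ Subgroup.index_dvd_of_le hle)
  exact ⟨j, hj⟩

variable {M : Ideal AlgInt} [M.IsMaximal]

/-- The value at an involution is a rational integer. -/
theorem exists_int_value (χ : IrrCharacter G) {z : G} (hz : orderOf z = 2) :
    ∃ c : ℤ, (χ : G → ℂ) z = (c : ℂ) := by
  obtain ⟨n, hn, -⟩ := exists_multiplicities (CfsgLib.Char.isCharacter_of_isIrr χ.2) z
  refine ⟨(n 0 : ℤ) - n 1, ?_⟩
  have hw : Complex.exp (2 * Real.pi * Complex.I / (orderOf z : ℂ)) = -1 := by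
    rw [hz, show (2 * (Real.pi : ℂ) * Complex.I / ((2 : ℕ) : ℂ)) = Real.pi * Complex.I by push_cast; ring]
    exact Complex.exp_pi_mul_I
  rw [hn, hw, hz]
  simp [Finset.sum_range_succ]
  ring

/-- Brauer's description of the principal 2-block. -/
theorem klein_principal_block (hM : IsPModular 2 M) (P : Sylow 2 G) (hP : IsKleinFour (P : Subgroup G))
    (hone : ∀ s t : G, orderOf s = 2 → orderOf t = 2 → IsConj s t) :
    ∃ ζ₂ ζ₃ ζ₄ : IrrCharacter G, ∃ ε : ℤ, (ε = 1 ∨ ε = -1) ∧ (ζ₂ : G → ℂ) ≠ (fun _ => 1) ∧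
      (ζ₃ : G → ℂ) ≠ (fun _ => 1) ∧ ζ₂ ≠ ζ₃ ∧ ζ₂ ≠ ζ₄ ∧ ζ₃ ≠ ζ₄ ∧
      principalBlock M G = {χ : IrrCharacter G | (χ : G → ℂ) = (fun _ => 1) ∨ χ = ζ₂ ∨ χ = ζ₃ ∨ χ = ζ₄} ∧
      (∀ z : G, orderOf z = 2 →
        (ζ₂ : G → ℂ) z = 1 ∧ (ζ₃ : G → ℂ) z = (ε : ℂ) ∧ (ζ₄ : G → ℂ) z = -1) ∧
      (4 : ℤ) ∣ (charDegree (ζ₂ : G → ℂ) : ℤ) - 1 ∧ (4 : ℤ) ∣ (charDegree (ζ₃ : G → ℂ) : ℤ) - ε ∧
      (4 : ℤ) ∣ (charDegree (ζ₄ : G → ℂ) : ℤ) + 1 ∧
      ∀ y : G, Odd (orderOf y) →
        1 + (ζ₂ : G → ℂ) y + (ε : ℂ) * (ζ₃ : G → ℂ) y - (ζ₄ : G → ℂ) y = 0 := by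
  classical
  have : Fact (Nat.Prime 2) := ⟨Nat.prime_two⟩
  have := hP
  let _ := Fintype.ofFinite (P : Subgroup G)
  have h4 : Nat.card (P : Subgroup G) = 4 := hP.card_four
  have hfac : (Nat.card G).factorization 2 = 2 := by
    have := P.card_eq_multiplicity
    rw [h4] at this
    exact (Nat.pow_right_injective le_rfl (show (2 : ℕ) ^ 2 = _ from by simpa using this)).symm
  obtain ⟨z', hz'⟩ : ∃ z' : (P : Subgroup G), z' ≠ 1 := by
    have : Nontrivial (P : Subgroup G) := Finite.one_lt_card_iff_nontrivial.mp (by omega)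
    exact exists_ne 1
  set z₀ : G := (z' : G)
  have hP2 : ∀ a : (P : Subgroup G), a ≠ 1 → orderOf (a : G) = 2 := fun a ha => by
    refine orderOf_eq_prime ?_ (fun h => ha (Subtype.ext h))
    rw [pow_two]; exact congrArg Subtype.val (IsKleinFour.mul_self a)
  have hz₀ : orderOf z₀ = 2 := hP2 z' hz'
  have hx : ∃ k : ℕ, orderOf z₀ = 2 ^ k := ⟨1, by simpa using hz₀⟩
  have hnc := index_pPrimeCore_centralizer P hP z'.2 (fun h => hz' (Subtype.ext h))
  let _ := Fintype.ofFinite (Subgroup.centralizer ({z₀} : Set G))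
  choose c hc using fun χ : IrrCharacter G => exists_int_value χ hz₀
  set S := Finset.univ.filter (· ∈ principalBlock M G) with hS
  have hB := isPBlock_principalBlock (M := M) (G := G)
  set one : IrrCharacter G := CfsgLib.Char.irrOne
  have hone' : one ∈ principalBlock M G := irrOne_mem_principalBlock
  have hc1 : c one = 1 := by
    have h := hc one
    rw [show (one : G → ℂ) z₀ = 1 from rfl] at h
    exact_mod_cast h.symm
  -- constant on singular elements
  have hsing : ∀ χ ∈ principalBlock M G, ∀ g : G, 2 ∣ orderOf g → (χ : G → ℂ) g = (c χ : ℂ) := by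
    intro χ hχ g hg
    obtain ⟨z, hz⟩ := exists_isPPart (p := 2) g
    obtain ⟨y, rfl, hzy, hzk, hy⟩ := hz
    have hz1 : z ≠ 1 := fun h => hy (by rwa [h, one_mul] at hg)
    have hz2 : orderOf z = 2 := orderOf_eq_prime (sq_eq_one_of_two_element P hP hzk) hz1
    obtain ⟨w, hw⟩ := isConj_iff.mp (hone z z₀ hz2 hz₀)
    have hyC : w * y * w⁻¹ ∈ Subgroup.centralizer ({z₀} : Set G) := by
      rw [Subgroup.mem_centralizer_singleton_iff, ← hw]
      simp only [mul_assoc, inv_mul_cancel_left]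
      rw [← mul_assoc y z, ← hzy.eq, mul_assoc]
    have horder : ¬ 2 ∣ orderOf (⟨_, hyC⟩ : Subgroup.centralizer ({z₀} : Set G)) := by
      rwa [Subgroup.orderOf_mk,
        show orderOf (w * y * w⁻¹) = orderOf y from
          orderOf_injective (MulAut.conj w).toMonoidHom (MulAut.conj w).injective y]
    rw [← hc, ← principal_section_const hM hx hnc hχ horder,
      ← CfsgLib.Char.isClassFunction_of_isIrr χ.2 (z * y) w]
    refine congrArg _ ?_
    change w * (z * y) * w⁻¹ = z₀ * (w * y * w⁻¹)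
    rw [← hw]; group
  have hc0 : ∀ χ ∈ principalBlock M G, c χ ≠ 0 := by
    intro χ hχ h0
    obtain ⟨m, hm⟩ := exists_mul_of_vanishing Nat.prime_two
      (CfsgLib.Char.isGen_of_irr χ.2) fun g hg => by
        rw [hsing χ hχ g hg, h0, Int.cast_zero]
    rw [charDegree_eq (CfsgLib.Char.isCharacter_of_isIrr χ.2), hfac] at hm
    have hd : (4 : ℕ) ∣ charDegree (χ : G → ℂ) := by
      have : ((charDegree (χ : G → ℂ) : ℤ)) = 4 * m := by
        exact_mod_cast (hm.trans (by norm_num) : ((charDegree (χ : G → ℂ) : ℕ) : ℂ) = 4 * (m : ℂ))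
      exact Int.natCast_dvd_natCast.mp ⟨m, this⟩
    have hnd : ¬ 2 ∣ Nat.card G / charDegree (χ : G → ℂ) := by
      intro h2
      have h8 : 2 * 4 ∣ Nat.card G :=
        (Nat.mul_dvd_mul h2 hd).trans (dvd_of_eq
          (Nat.div_mul_cancel (CfsgLib.CharBlocks.charDegree_dvd_card χ.2 |>.elim fun m hm => ⟨m, hm⟩)))
      have := (Nat.prime_two.pow_dvd_iff_le_factorization Nat.card_pos.ne').mp
        (show 2 ^ 3 ∣ Nat.card G from h8)
      omega
    have hsame : one ∈ blockOf M (χ : G → ℂ) := by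
      rw [← isPBlock_eq_blockOf hB hχ]; exact hone'
    rw [blockOf_eq_singleton hM χ hnd, Set.mem_singleton_iff] at hsame
    rw [← hsame, hc1] at h0
    exact one_ne_zero h0
  -- squares sum to four
  have hsum4 : ∑ χ ∈ S, (c χ) ^ 2 = 4 := by
    have hfacH : (Nat.card (Subgroup.centralizer ({z₀} : Set G))).factorization 2 = 2 := by
      refine le_antisymm ?_ ?_
      · have hle := (Nat.factorization_le_iff_dvd (Nat.card_pos (α := Subgroup.centralizer ({z₀} : Set G))).ne'
          (Nat.card_pos (α := G)).ne').mpr (Subgroup.card_subgroup_dvd_card _) 2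
        omega
      · refine (Nat.prime_two.pow_dvd_iff_le_factorization Nat.card_pos.ne').mp ?_
        rw [show (2 : ℕ) ^ 2 = Nat.card (P : Subgroup G) by rw [h4]; norm_num]
        refine Subgroup.card_dvd_of_le fun w hw => Subgroup.mem_centralizer_singleton_iff.mpr ?_
        exact congrArg Subtype.val (mul_comm_of_exponent_two hP.exponent_two ⟨w, hw⟩ z')
    have h := sum_principal_section_complement hM hx hnc
      (y := (1 : Subgroup.centralizer ({z₀} : Set G))) (by simp)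
    rw [hfacH] at h
    simp only [OneMemClass.coe_one, mul_one, hc, map_intCast] at h
    rw [hS, Finset.sum_filter]
    have : ((∑ χ : IrrCharacter G, if χ ∈ principalBlock M G then (c χ) ^ 2 else 0 : ℤ) : ℂ) = 4 := by
      rw [Int.cast_sum, show (4 : ℂ) = ((2 ^ 2 : ℕ) : ℂ) by norm_num, ← h]
      refine Finset.sum_congr rfl fun χ _ => ?_
      split_ifs <;> push_cast <;> ring
    exact_mod_cast this
  have honeS : one ∈ S := by simp [hS, hone']
  have hsq1 : ∀ χ ∈ S, 1 ≤ (c χ) ^ 2 := fun χ hχ => by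
    have hne := hc0 χ (Finset.mem_filter.mp hχ).2
    nlinarith [mul_self_pos.mpr hne]
  have hpm : ∀ χ ∈ S, c χ = 1 ∨ c χ = -1 := by
    intro χ hχ
    by_cases h : χ = one
    · rw [h, hc1]; exact .inl rfl
    have h2 : (c χ) ^ 2 + (c one) ^ 2 ≤ 4 := by
      rw [← hsum4, ← Finset.sum_pair (f := fun χ => (c χ) ^ 2) h]
      refine Finset.sum_le_sum_of_subset_of_nonneg ?_ fun i _ _ => sq_nonneg _
      intro i hi
      rcases Finset.mem_insert.mp hi with rfl | hi
      · exact hχ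
      · rwa [Finset.mem_singleton.mp hi]
    rw [hc1] at h2
    have h3 : c χ ≤ 1 := by nlinarith
    have h4' : -1 ≤ c χ := by nlinarith
    have := hc0 χ (Finset.mem_filter.mp hχ).2
    omega
  have hcardS : S.card = 4 := by
    have h := hsum4
    rw [Finset.sum_congr rfl (fun χ hχ => show (c χ) ^ 2 = 1 by rcases hpm χ hχ with h | h <;> rw [h] <;> norm_num),
      Finset.sum_const, nsmul_eq_mul, mul_one] at h
    exact_mod_cast h
  have horth : ∀ y : G, ¬ 2 ∣ orderOf y → ∑ χ ∈ S, (c χ : ℂ) * (χ : G → ℂ) y = 0 := by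
    intro y hy
    have hz1 : ¬ IsConj (1 : G) z₀ := fun h => by
      rw [isConj_one_right.mp h, orderOf_one] at hz₀
      omega
    rw [← block_orthogonality hM (isPPart_one_iff.mpr hy) (isPPart_self Nat.prime_two hx) hz1 hB,
      hS, Finset.sum_filter]
    refine Finset.sum_congr rfl fun χ _ => ?_
    rw [hc χ, map_intCast]
    split_ifs <;> ring
  -- congruence modulo four
  have hmod : ∀ χ ∈ S, (4 : ℤ) ∣ (charDegree (χ : G → ℂ) : ℤ) - c χ := by
    intro χ hχ
    obtain ⟨m, hm⟩ := CfsgLib.Char.classInner_char_nat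
      (CfsgLib.Char.isCharacter_res (P : Subgroup G) (CfsgLib.Char.isCharacter_of_isIrr χ.2))
      (CfsgLib.Char.isCharacter_of_isIrr (CfsgLib.Char.irrOne (G := (P : Subgroup G))).2)
    rw [CfsgLib.Char.classInner_def, h4] at hm
    simp only [CfsgLib.Char.irrOne_apply, map_one, mul_one] at hm
    have hs2 : ∀ a ∈ Finset.univ.erase (1 : (P : Subgroup G)), (χ : G → ℂ) (a : G) = (c χ : ℂ) :=
      fun a ha => hsing χ (Finset.mem_filter.mp hχ).2 (a : G) (by rw [hP2 a (Finset.mem_erase.mp ha).1])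
    rw [← Finset.add_sum_erase _ _ (Finset.mem_univ (1 : (P : Subgroup G))),
      Finset.sum_congr rfl hs2,
      Finset.sum_const, Finset.card_erase_of_mem (Finset.mem_univ _), Finset.card_univ,
      ← Nat.card_eq_fintype_card, h4, OneMemClass.coe_one,
      charDegree_eq (CfsgLib.Char.isCharacter_of_isIrr χ.2)] at hm
    refine ⟨(m : ℤ) - c χ, ?_⟩
    have h : ((charDegree (χ : G → ℂ) : ℤ) : ℂ) + 3 * (c χ : ℂ) = 4 * ((m : ℤ) : ℂ) := by
      push_cast
      rw [← hm]
      norm_num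
      ring
    have h' : (charDegree (χ : G → ℂ) : ℤ) + 3 * c χ = 4 * (m : ℤ) := by exact_mod_cast h
    linarith
  set T := S.erase one
  have hT : T.card = 3 := by rw [Finset.card_erase_of_mem honeS, hcardS]
  have hTS : ∀ χ ∈ T, χ ∈ S := fun χ h => Finset.mem_of_mem_erase h
  have hdeg : (1 : ℤ) + ∑ χ ∈ T, c χ * (charDegree (χ : G → ℂ) : ℤ) = 0 := by
    have h := horth 1 (by simp)
    rw [← Finset.add_sum_erase _ _ honeS, hc1, show (one : G → ℂ) 1 = 1 from rfl, Int.cast_one, one_mul,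
      Finset.sum_congr rfl (fun χ _ => by rw [charDegree_eq (CfsgLib.Char.isCharacter_of_isIrr χ.2)])] at h
    exact_mod_cast h
  have hdpos : ∀ χ ∈ T, (1 : ℤ) ≤ charDegree (χ : G → ℂ) := fun χ _ => by
    exact_mod_cast Nat.pos_of_ne_zero (charDegree_ne_zero χ)
  obtain ⟨ζ₂, h2T, hc2⟩ : ∃ χ ∈ T, c χ = 1 := by
    by_contra hno
    push Not at hno
    have hneg : ∀ χ ∈ T, c χ * (charDegree (χ : G → ℂ) : ℤ) ≤ -1 := fun χ hχ => by
      rw [(hpm χ (hTS χ hχ)).resolve_left (hno χ hχ)]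
      linarith [hdpos χ hχ]
    have := Finset.sum_le_sum hneg
    rw [Finset.sum_const, hT] at this
    norm_num at this
    linarith
  obtain ⟨ζ₄, h4T, hc4⟩ : ∃ χ ∈ T, c χ = -1 := by
    by_contra hno
    push Not at hno
    have hpos : ∀ χ ∈ T, 0 ≤ c χ * (charDegree (χ : G → ℂ) : ℤ) := fun χ hχ => by
      rw [(hpm χ (hTS χ hχ)).resolve_right (hno χ hχ)]
      linarith [hdpos χ hχ]
    linarith [Finset.sum_nonneg hpos]
  have h24 : ζ₂ ≠ ζ₄ := fun h => by rw [h, hc4] at hc2; norm_num at hc2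
  obtain ⟨ζ₃, hζ₃⟩ := Finset.card_eq_one.mp (show ((T.erase ζ₂).erase ζ₄).card = 1 by
    rw [Finset.card_erase_of_mem (Finset.mem_erase.mpr ⟨h24.symm, h4T⟩), Finset.card_erase_of_mem h2T, hT])
  have h3 : ζ₃ ∈ (T.erase ζ₂).erase ζ₄ := by rw [hζ₃]; exact Finset.mem_singleton_self _
  simp only [Finset.mem_erase] at h3
  obtain ⟨h34, h32, h3T⟩ := h3
  have hne1 : ∀ χ ∈ T, (χ : G → ℂ) ≠ fun _ => 1 := fun χ hχ h =>
    (Finset.mem_erase.mp hχ).1 (Subtype.ext h)
  refine ⟨ζ₂, ζ₃, ζ₄, c ζ₃, hpm _ (hTS _ h3T), hne1 _ h2T, hne1 _ h3T, h32.symm, h24, h34, ?_, ?_,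
    hc2 ▸ hmod _ (hTS _ h2T), hmod _ (hTS _ h3T), ?_, fun y hy => ?_⟩
  · ext χ
    constructor
    · intro hχ
      by_cases h : χ = one
      · exact .inl (by rw [h]; rfl)
      by_cases h' : χ = ζ₂
      · exact .inr (.inl h')
      by_cases h'' : χ = ζ₄
      · exact .inr (.inr (.inr h''))
      refine .inr (.inr (.inl (Finset.mem_singleton.mp (hζ₃ ▸ ?_))))
      exact Finset.mem_erase.mpr ⟨h'', Finset.mem_erase.mpr ⟨h', Finset.mem_erase.mpr
        ⟨h, Finset.mem_filter.mpr ⟨Finset.mem_univ _, hχ⟩⟩⟩⟩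
    · rintro (h | rfl | rfl | rfl)
      · rw [show χ = one from Subtype.ext h]; exact hone'
      all_goals exact (Finset.mem_filter.mp (hTS _ ‹_›)).2
  · intro z hz
    have hval : ∀ χ ∈ T, (χ : G → ℂ) z = (c χ : ℂ) := fun χ hχ =>
      hsing χ (Finset.mem_filter.mp (hTS _ hχ)).2 z (by rw [hz])
    rw [hval _ h2T, hval _ h3T, hval _ h4T, hc2, hc4]
    simp
  · have := hmod _ (hTS _ h4T)
    rwa [hc4, sub_neg_eq_add] at this
  · have h := horth y (fun hd => Nat.not_even_iff_odd.mpr hy (even_iff_two_dvd.mpr hd))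
    rw [← Finset.add_sum_erase _ _ honeS, ← Finset.add_sum_erase _ _ h2T,
      ← Finset.add_sum_erase _ _ (Finset.mem_erase.mpr ⟨h24.symm, h4T⟩), hζ₃, Finset.sum_singleton,
      hc1, hc2, hc4, show (one : G → ℂ) y = 1 from rfl] at h
    push_cast at h
    linear_combination h

end CfsgLib.Blocks
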