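import Cfsg.Agent.Lib.Blocks.FourGroupBound

/-!
# Groups with an elementary abelian two-subgroup whose hyperplanes have small centralisers
-/

set_option autoImplicit false

noncomputable section

namespace CfsgLib.Blocks.FourGroupBound

open scoped Classical

universe u

variable {G : Type u} [Group G] [Finite G]

/-- The elements normalising a finite subgroup are few when its centraliser is small. -/
theorem card_le_of_normalizes (E W : Subgroup G) (h : ∀ w ∈ W, ∀ e ∈ E, w * e * w⁻¹ ∈ E) :
    Nat.card W ≤ Nat.card E ^ Nat.card E * Nat.card (Subgroup.centralizer (E : Set G)) := by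
  have := Fintype.ofFinite G
  obtain ⟨F, hF⟩ : ∃ F : W → (E → E), ∀ (w : W) (e : E), ((F w e : E) : G) = (w : G) * (e : G) * (w : G)⁻¹ :=
    ⟨fun w e => ⟨_, h w w.2 e e.2⟩, fun w e => rfl⟩
  choose g hg using fun n : Set.range F => n.2
  rw [← Nat.card_fun, ← Nat.card_prod]
  refine Nat.card_le_card_of_injective
    (fun w : W => ((F w, ⟨((g ⟨F w, w, rfl⟩ : W) : G)⁻¹ * (w : G), ?_⟩) :
      (E → E) × Subgroup.centralizer (E : Set G))) fun w w' h' => ?_
  · refine Subgroup.mem_centralizer_iff.mpr fun e he => ?_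
    have h1 := congrArg Subtype.val (congrFun (hg ⟨F w, w, rfl⟩) ⟨e, he⟩)
    simp only [hF] at h1
    symm
    rw [← mul_inv_eq_iff_eq_mul]
    calc ((g ⟨F w, w, rfl⟩ : W) : G)⁻¹ * (w : G) * e * (((g ⟨F w, w, rfl⟩ : W) : G)⁻¹ * (w : G))⁻¹
        = ((g ⟨F w, w, rfl⟩ : W) : G)⁻¹ * ((w : G) * e * (w : G)⁻¹) * (g ⟨F w, w, rfl⟩ : W) := by group
      _ = e := by rw [← h1]; group
  · obtain ⟨h1, h2⟩ := Prod.ext_iff.mp h'
    have h3 := congrArg Subtype.val h2
    simp only at h3
    rw [show (⟨F w', w', rfl⟩ : Set.range F) = ⟨F w, w, rfl⟩ from Subtype.ext h1.symm] at h3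
    exact Subtype.ext (mul_left_cancel h3)

/-- The order of a cyclic subgroup generated by an involution. -/
theorem card_zpowers_two {z : G} (h : z * z = 1) (h1 : z ≠ 1) : Nat.card (Subgroup.zpowers z) = 2 := by
  rw [Nat.card_zpowers]
  exact orderOf_eq_prime (by rw [pow_two, h]) h1

/-- **Small centralisers of the hyperplanes bound the group.** -/
theorem elem_bound : ∀ r : ℕ, 1 ≤ r → ∀ a b : ℕ, ∃ N : ℕ, ∀ (G : Type u) [Group G] [Finite G] (E : Subgroup G),
    (∀ x ∈ E, ∀ y ∈ E, x * y = y * x) → (∀ x ∈ E, x * x = 1) → Nat.card E = 2 ^ (r + 1) →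
    (Nat.card G).factorization 2 ≤ a →
    (∀ E' : Subgroup G, E' ≤ E → Nat.card E' = 2 ^ r → Nat.card (Subgroup.centralizer (E' : Set G)) ≤ b) →
    Nat.card G ≤ N := by
  intro r hr
  induction r, hr using Nat.le_induction with
  | base =>
    intro a b
    obtain ⟨N, hN⟩ := four_bound.{u} b a
    refine ⟨N, fun G _ _ E hab hsq hcard ha hC => ?_⟩
    have := Fintype.ofFinite G
    have hcz : ∀ z ∈ E, z ≠ 1 → Nat.card (Subgroup.centralizer ({z} : Set G)) ≤ b := by
      intro z hz hz1
      refine le_trans (le_of_eq ?_) (hC (Subgroup.zpowers z) (Subgroup.zpowers_le.mpr hz)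
        (by rw [card_zpowers_two (hsq z hz) hz1, pow_one]))
      rw [Subgroup.zpowers_eq_closure, Subgroup.centralizer_closure]
    obtain ⟨u, hu, v, hv, hu1, hv1, huv⟩ : ∃ u ∈ E, ∃ v ∈ E, u ≠ 1 ∧ v ≠ 1 ∧ u ≠ v := by
      obtain ⟨u, hu⟩ : ∃ u : E, u ≠ 1 := by
        have : Nontrivial E := Finite.one_lt_card_iff_nontrivial.mp (by rw [hcard]; norm_num)
        exact exists_ne 1
      obtain ⟨v, hv⟩ : ∃ v : E, v ∉ ({1, u} : Finset E) := by
        by_contra! h
        let _ := Fintype.ofFinite E
        have h1 := Finset.card_le_card (show (Finset.univ : Finset E) ⊆ {1, u} from fun z _ => h z)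
        rw [Finset.card_univ, ← Nat.card_eq_fintype_card, hcard] at h1
        have h2 := Finset.card_insert_le (1 : E) {u}
        rw [Finset.card_singleton] at h2
        omega
      simp only [Finset.mem_insert, Finset.mem_singleton, not_or] at hv
      exact ⟨u, u.2, v, v.2, fun h => hu (Subtype.ext h), fun h => hv.1 (Subtype.ext h),
        fun h => hv.2 (Subtype.ext h.symm)⟩
    refine hN G u v (hsq u hu) (hsq v hv) (hab u hu v hv) (hcz u hu hu1) (hcz v hv hv1)
      (hcz _ (mul_mem hu hv) fun h => huv ?_) ha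
    rw [← inv_eq_of_mul_eq_one_right h, inv_eq_of_mul_eq_one_right (hsq u hu)]
  | succ r hr ih =>
    intro a b
    obtain ⟨N₁, hN₁⟩ := ih a ((2 ^ (r + 1)) ^ (2 ^ (r + 1)) * b)
    obtain ⟨N₂, hN₂⟩ := four_bound.{u} (2 * N₁) a
    refine ⟨N₂, fun G _ _ E hab hsq hcard ha hC => ?_⟩
    have := Fintype.ofFinite G
    have hcz : ∀ z ∈ E, z ≠ 1 → Nat.card (Subgroup.centralizer ({z} : Set G)) ≤ 2 * N₁ := by
      intro z hz hz1
      obtain ⟨H, hH⟩ : ∃ H : Subgroup G, H = Subgroup.centralizer ({z} : Set G) := ⟨_, rfl⟩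
      rw [← hH]
      have hEH : E ≤ H := fun e he => hH.ge (Subgroup.mem_centralizer_singleton_iff.mpr (hab e he z hz))
      have hzH : z ∈ H := hEH hz
      obtain ⟨Z, hZ⟩ : ∃ Z : Subgroup H, Z = Subgroup.zpowers ⟨z, hzH⟩ := ⟨_, rfl⟩
      have hZc : ∀ w : H, w * ⟨z, hzH⟩ * w⁻¹ = ⟨z, hzH⟩ := fun w => Subtype.ext (by
        have h := Subgroup.mem_centralizer_singleton_iff.mp (hH.le w.2)
        simp only [Subgroup.coe_mul, Subgroup.coe_inv]
        rw [h, mul_inv_cancel_right])
      have hZn : Z.Normal := by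
        refine ⟨fun n hn g => ?_⟩
        rw [hZ] at hn ⊢
        obtain ⟨i, rfl⟩ := Subgroup.mem_zpowers_iff.mp hn
        rw [← conj_zpow, hZc]
        exact zpow_mem (Subgroup.mem_zpowers _) i
      have hZ2 : Nat.card Z = 2 := by
        rw [hZ]
        exact card_zpowers_two (Subtype.ext (hsq z hz)) fun h => hz1 (congrArg Subtype.val h)
      rw [Subgroup.card_eq_card_quotient_mul_card_subgroup Z, hZ2, mul_comm 2]
      refine Nat.mul_le_mul_right 2 ?_
      -- the image of `E`
      obtain ⟨q, hq⟩ : ∃ q : H →* H ⧸ Z, q = QuotientGroup.mk' Z := ⟨_, rfl⟩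
      have hqs : Function.Surjective q := hq ▸ QuotientGroup.mk'_surjective Z
      have hker : q.ker = Z := hq ▸ QuotientGroup.ker_mk' Z
      have hcardmap : ∀ D : Subgroup H, Z ≤ D → Nat.card (D.map q) * 2 = Nat.card D := by
        intro D hD
        have h := Subgroup.card_eq_card_quotient_mul_card_subgroup (Z.subgroupOf D)
        have e1 : Nat.card (D ⧸ Z.subgroupOf D) = Nat.card (D.map q) := by
          have hk : (q.comp D.subtype).ker = Z.subgroupOf D := by
            rw [← MonoidHom.comap_ker, hker]; rfl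
          have hr' : (q.comp D.subtype).range = D.map q := by
            rw [MonoidHom.range_comp, Subgroup.range_subtype]
          rw [← hr', ← hk]
          exact Nat.card_congr (QuotientGroup.quotientKerEquivRange (q.comp D.subtype)).toEquiv
        rw [h, e1, Nat.card_congr (Subgroup.subgroupOfEquivOfLe hD).toEquiv, hZ2]
      have hZE : Z ≤ E.subgroupOf H := by
        rw [hZ]; exact Subgroup.zpowers_le.mpr (Subgroup.mem_subgroupOf.mpr hz)
      have hE2 : Nat.card ((E.subgroupOf H).map q) = 2 ^ (r + 1) := by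
        have h := hcardmap _ hZE
        rw [Nat.card_congr (Subgroup.subgroupOfEquivOfLe hEH).toEquiv, hcard, pow_succ] at h
        exact Nat.eq_of_mul_eq_mul_right two_pos h
      refine hN₁ (H ⧸ Z) ((E.subgroupOf H).map q) ?_ ?_ hE2 ?_ ?_
      · rintro _ ⟨x, hx, rfl⟩ _ ⟨y, hy, rfl⟩
        rw [← map_mul, ← map_mul, show x * y = y * x from Subtype.ext (hab _ hx _ hy)]
      · rintro _ ⟨x, hx, rfl⟩
        rw [← map_mul, show x * x = 1 from Subtype.ext (hsq _ hx), map_one]
      · refine le_trans ((Nat.factorization_le_iff_dvd Nat.card_pos.ne' Nat.card_pos.ne').mpr ?_ 2) ha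
        exact (Subgroup.card_quotient_dvd_card Z).trans (Subgroup.card_subgroup_dvd_card H)
      · intro E'' hle hc''
        obtain ⟨D, hD⟩ : ∃ D : Subgroup H, D = E''.comap q := ⟨_, rfl⟩
        have hZD : Z ≤ D := by
          exact hker.ge.trans ((MonoidHom.ker_le_comap q E'').trans hD.ge)
        have hDmap : D.map q = E'' := by rw [hD]; exact Subgroup.map_comap_eq_self_of_surjective hqs E''
        have hDcard : Nat.card D = 2 ^ (r + 1) := by
          rw [← hcardmap D hZD, hDmap, hc'', pow_succ]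
        have hDE : D ≤ E.subgroupOf H := by
          intro d hd
          rw [hD, Subgroup.mem_comap] at hd
          obtain ⟨x, hx, hxd⟩ := hle hd
          have h1 : x⁻¹ * d ∈ Z := by
            rw [← hker, MonoidHom.mem_ker, map_mul, map_inv, hxd, inv_mul_cancel]
          have := mul_mem hx (hZE h1)
          rwa [mul_inv_cancel_left] at this
        have hDG : D.map H.subtype ≤ E := by
          rintro _ ⟨d, hd, rfl⟩; exact hDE hd
        have hCD : Nat.card (Subgroup.centralizer ((D.map H.subtype : Subgroup G) : Set G)) ≤ b :=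
          hC _ hDG (by rw [Subgroup.card_map_of_injective H.subtype_injective, hDcard])
        obtain ⟨W, hW⟩ : ∃ W : Subgroup H, W = (Subgroup.centralizer (E'' : Set (H ⧸ Z))).comap q := ⟨_, rfl⟩
        have h1 : Nat.card (Subgroup.centralizer (E'' : Set (H ⧸ Z))) ≤ Nat.card W := by
          refine Nat.card_le_card_of_surjective
            (fun w : W => (⟨q w, hW.le w.2⟩ : Subgroup.centralizer (E'' : Set (H ⧸ Z)))) fun c => ?_
          obtain ⟨w, hw⟩ := hqs c
          exact ⟨⟨w, hW.ge (by rw [Subgroup.mem_comap, hw]; exact c.2)⟩, Subtype.ext hw⟩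
        refine h1.trans ((card_le_of_normalizes D W fun w hw e he => ?_).trans ?_)
        · rw [hD, Subgroup.mem_comap] at he ⊢
          rw [hW, Subgroup.mem_comap] at hw
          rwa [map_mul, map_mul, map_inv, ← Subgroup.mem_centralizer_iff.mp hw _ he, mul_inv_cancel_right]
        · rw [hDcard]
          refine Nat.mul_le_mul_left _ (le_trans ?_ hCD)
          refine Nat.card_le_card_of_injective
            (fun w : Subgroup.centralizer (D : Set H) =>
              (⟨((w : H) : G), ?_⟩ : Subgroup.centralizer ((D.map H.subtype : Subgroup G) : Set G)))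
            fun w w' h => Subtype.ext (Subtype.ext (congrArg
              (fun t : Subgroup.centralizer ((D.map H.subtype : Subgroup G) : Set G) => (t : G)) h))
          refine Subgroup.mem_centralizer_iff.mpr ?_
          rintro _ ⟨d, hd, rfl⟩
          exact congrArg Subtype.val (Subgroup.mem_centralizer_iff.mp w.2 d hd)
    obtain ⟨u, hu, v, hv, hu1, hv1, huv⟩ : ∃ u ∈ E, ∃ v ∈ E, u ≠ 1 ∧ v ≠ 1 ∧ u ≠ v := by
      obtain ⟨u, hu⟩ : ∃ u : E, u ≠ 1 := by
        have : Nontrivial E := Finite.one_lt_card_iff_nontrivial.mp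
          (by rw [hcard]; exact Nat.one_lt_two_pow (by omega))
        exact exists_ne 1
      obtain ⟨v, hv⟩ : ∃ v : E, v ∉ ({1, u} : Finset E) := by
        by_contra! h
        let _ := Fintype.ofFinite E
        have h1 := Finset.card_le_card (show (Finset.univ : Finset E) ⊆ {1, u} from fun z _ => h z)
        rw [Finset.card_univ, ← Nat.card_eq_fintype_card, hcard] at h1
        have h2 := Finset.card_insert_le (1 : E) {u}
        rw [Finset.card_singleton] at h2
        have h3 : 2 ^ 2 ≤ 2 ^ (r + 1 + 1) := Nat.pow_le_pow_right two_pos (by omega)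
        omega
      simp only [Finset.mem_insert, Finset.mem_singleton, not_or] at hv
      exact ⟨u, u.2, v, v.2, fun h => hu (Subtype.ext h), fun h => hv.1 (Subtype.ext h),
        fun h => hv.2 (Subtype.ext h.symm)⟩
    refine hN₂ G u v (hsq u hu) (hsq v hv) (hab u hu v hv) (hcz u hu hu1) (hcz v hv hv1)
      (hcz _ (mul_mem hu hv) fun h => huv ?_) ha
    rw [← inv_eq_of_mul_eq_one_right h, inv_eq_of_mul_eq_one_right (hsq u hu)]

end CfsgLib.Blocks.FourGroupBound
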