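import Cfsg.Agent.Lib.Blocks.Orth
import Cfsg.Agent.Lib.Blocks.Brauer
import Cfsg.Agent.Lib.Blocks.CharMod
import Cfsg.Agent.Lib.Char.Generalized
import Mathlib.LinearAlgebra.Basis.VectorSpace
import Mathlib.Algebra.Module.ZMod
import Mathlib.GroupTheory.Sylow

/-!
# The block idempotent on `p`-regular elements as an integral combination of reduced character values
-/

set_option autoImplicit false

noncomputable section

namespace CfsgLib.Blocks

open Cfsg
open scoped ComplexConjugate

variable {G : Type*} [Group G]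

theorem charDegree_eq {χ : G → ℂ} (hχ : IsCharacter G χ) : χ 1 = (charDegree χ : ℂ) := by
  obtain ⟨n, hn⟩ := CfsgLib.Char.exists_degree hχ
  rw [charDegree, hn]
  simp

theorem charDegree_ne_zero (χ : IrrCharacter G) : charDegree (χ : G → ℂ) ≠ 0 := fun h =>
  CfsgLib.Char.irr_one_ne_zero χ.2 (by
    rw [charDegree_eq (CfsgLib.Char.isCharacter_of_isIrr χ.2), h, Nat.cast_zero])

theorem charDegree_one : charDegree (fun _ : G => (1 : ℂ)) = 1 := by
  simp [charDegree]

variable {M : Ideal AlgInt} [M.IsMaximal] [Fintype G] {p : ℕ}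

omit [M.IsMaximal] in
/-- A generalized character vanishing on `p`-singular elements has degree divisible by the order of
a Sylow `p`-subgroup. -/
theorem exists_mul_of_vanishing (hp : p.Prime) {θ : G → ℂ} (hθ : IsGeneralizedCharacter G θ)
    (hv : ∀ y : G, p ∣ orderOf y → θ y = 0) :
    ∃ c : ℤ, θ 1 = ((p ^ (Nat.card G).factorization p : ℕ) : ℂ) * c := by
  classical
  have : Fact p.Prime := ⟨hp⟩
  let P : Sylow p G := Classical.arbitrary _
  let _ := Fintype.ofFinite (P : Subgroup G)
  obtain ⟨c, hc⟩ := CfsgLib.Char.classInner_gen_int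
    (CfsgLib.Char.isGen_res (P : Subgroup G) hθ) (CfsgLib.Char.isGen_one (G := (P : Subgroup G)))
  refine ⟨c, ?_⟩
  rw [CfsgLib.Char.classInner_one_right, Finset.sum_eq_single (1 : (P : Subgroup G)), Subgroup.coe_one,
    inv_mul_eq_iff_eq_mul₀ CfsgLib.Char.card_ne_zero'] at hc
  · rw [hc, P.card_eq_multiplicity]
  · intro x _ hx
    apply hv
    obtain ⟨k, hk⟩ := P.isPGroup' x
    obtain ⟨j, -, hj⟩ := (Nat.dvd_prime_pow hp).mp (orderOf_dvd_of_pow_eq_one hk)
    rw [Subgroup.orderOf_coe, hj]
    refine dvd_pow_self p ?_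
    rintro rfl
    rw [pow_zero, orderOf_eq_one_iff] at hj
    exact hx hj
  · simp

theorem geom_sum_rootOfUnity {w : ℂ} {m : ℕ} (hw : w ^ m = 1) [Decidable (w = 1)] :
    ∑ i ∈ Finset.range m, w ^ i = if w = 1 then (m : ℂ) else 0 := by
  split_ifs with h
  · simp [h]
  · rw [geom_sum_eq h, hw, sub_self, zero_div]

omit [M.IsMaximal] in
/-- Multiplicities of eigenvalues, as integers. -/
theorem exists_multiplicities {χ : G → ℂ} (hχ : IsCharacter G χ) (x : G) :
    ∃ n : ℕ → ℕ, χ x = ∑ j ∈ Finset.range (orderOf x),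
        (n j : ℂ) * Complex.exp (2 * Real.pi * Complex.I / orderOf x) ^ j ∧
      ∀ j ∈ Finset.range (orderOf x), (orderOf x : ℂ) * n j = ∑ i ∈ Finset.range (orderOf x),
        (Complex.exp (2 * Real.pi * Complex.I / orderOf x) ^ j)⁻¹ ^ i * χ (x ^ i) := by
  classical
  obtain ⟨d, ρ, rfl⟩ := hχ
  obtain ⟨z, hz, hzk⟩ := CfsgLib.Char.exists_roots_char_pow ρ x
  have hm : orderOf x ≠ 0 := (orderOf_pos x).ne'
  have hζ := Complex.isPrimitiveRoot_exp (orderOf x) hm
  set ζ := Complex.exp (2 * Real.pi * Complex.I / orderOf x)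
  refine ⟨fun j => (Finset.univ.filter fun l => z l = ζ ^ j).card, ?_, fun j _ => ?_⟩
  · have h1 := hzk 1
    rw [pow_one] at h1
    simp only [pow_one] at h1
    rw [h1]
    calc ∑ l, z l = ∑ l, ∑ j ∈ Finset.range (orderOf x), (if z l = ζ ^ j then ζ ^ j else 0) := by
          refine Finset.sum_congr rfl (fun l _ => ?_)
          have : NeZero (orderOf x) := ⟨hm⟩
          obtain ⟨j, hj, hje⟩ := hζ.eq_pow_of_pow_eq_one (hz l)
          rw [Finset.sum_eq_single j, if_pos hje.symm, hje]
          · intro i hi hne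
            rw [if_neg]
            intro he
            exact hne (hζ.pow_inj (Finset.mem_range.mp hi) hj (he.symm.trans hje.symm))
          · intro hn; exact absurd (Finset.mem_range.mpr hj) hn
      _ = _ := by
          rw [Finset.sum_comm]
          refine Finset.sum_congr rfl (fun j _ => ?_)
          rw [← Finset.sum_filter, Finset.sum_const, nsmul_eq_mul]
  · simp only [hzk, Finset.mul_sum, ← mul_pow]
    rw [Finset.sum_comm, Finset.sum_congr rfl (fun l _ => geom_sum_rootOfUnity (by
      rw [mul_pow, hz, mul_one, inv_pow, ← pow_mul, mul_comm, pow_mul, hζ.pow_eq_one, one_pow, inv_one]))]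
    rw [← Finset.sum_filter, Finset.sum_const, nsmul_eq_mul, mul_comm]
    have hne : ζ ^ j ≠ 0 := pow_ne_zero _ (hζ.ne_zero hm)
    congr 2
    refine congrArg Finset.card (Finset.filter_congr (fun l _ => ?_))
    rw [inv_mul_eq_one₀ hne, eq_comm]

/-- **The functional.** On `p`-regular elements the reduced block idempotent is a fixed integral
combination of the reduced values of the characters in the block. -/
theorem exists_functional (hM : IsPModular p M) {B : Set (IrrCharacter G)} (hB : IsPBlock M B)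
    [DecidablePred (· ∈ B)] :
    ∃ f : IrrCharacter G → ℤ, ∀ x : G, ¬ p ∣ orderOf x →
      rcoeff (idem hB) x⁻¹ = ∑ η : IrrCharacter G, if η ∈ B then (f η : Res M) * cval M η x else 0 := by
  classical
  have hp := hM.1
  have : Fact p.Prime := ⟨hp⟩
  have : CharP (Res M) p := res_charP M hM
  set a := (Nat.card G).factorization p
  let K : AddSubgroup (IrrCharacter G → ℤ) :=
    { carrier := {z | (∀ η, η ∉ B → z η = 0) ∧
        ∀ y : G, p ∣ orderOf y → ∑ η : IrrCharacter G, (z η : ℂ) * (η : G → ℂ) y = 0}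
      zero_mem' := ⟨fun η _ => rfl, fun y _ => by simp⟩
      add_mem' := fun {u v} hu hv => ⟨fun η hη => by simp [hu.1 η hη, hv.1 η hη], fun y hy => by
        simp only [Pi.add_apply, Int.cast_add, add_mul, Finset.sum_add_distrib, hu.2 y hy, hv.2 y hy,
          add_zero]⟩
      neg_mem' := fun {u} hu => ⟨fun η hη => by simp [hu.1 η hη], fun y hy => by
        simp only [Pi.neg_apply, Int.cast_neg, neg_mul, Finset.sum_neg_distrib, hu.2 y hy, neg_zero]⟩ }
  have hdeg : ∀ z ∈ K, ∃ c : ℤ, ∑ η : IrrCharacter G, z η * (charDegree (η : G → ℂ) : ℤ) =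
      ((p ^ a : ℕ) : ℤ) * c := by
    intro z hz
    obtain ⟨c, hc⟩ := exists_mul_of_vanishing hp
      (θ := ∑ η : IrrCharacter G, (z η : ℂ) • (η : G → ℂ))
      (CfsgLib.Char.isGen_sum _ (fun η _ =>
        CfsgLib.Char.isGen_intCast_smul (CfsgLib.Char.isGen_of_irr η.2) _))
      (fun y hy => by simpa [Finset.sum_apply] using hz.2 y hy)
    refine ⟨c, ?_⟩
    simp only [Finset.sum_apply, Pi.smul_apply, smul_eq_mul,
      fun η : IrrCharacter G => charDegree_eq (CfsgLib.Char.isCharacter_of_isIrr η.2)] at hc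
    exact_mod_cast hc
  have hpa : ((p ^ a : ℕ) : ℤ) ≠ 0 := by exact_mod_cast pow_ne_zero _ hp.ne_zero
  choose cf hcf using fun z : K => hdeg z.1 z.2
  let cfHom : K →+ ℤ := AddMonoidHom.mk' cf (fun u v => by
    refine mul_left_cancel₀ hpa ?_
    rw [← hcf, mul_add, ← hcf, ← hcf, ← Finset.sum_add_distrib]
    exact Finset.sum_congr rfl (fun η _ => by
      rw [AddSubgroup.coe_add, Pi.add_apply, add_mul]))
  let π : K →+ (IrrCharacter G → ZMod p) :=
    ((Int.castAddHom (ZMod p)).compLeft (IrrCharacter G)).comp K.subtype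
  let lam : K →+ ZMod p := (Int.castAddHom (ZMod p)).comp cfHom
  have hker : ∀ z, π z = 0 → lam z = 0 := by
    intro z hz
    have hdiv : ∀ η, (p : ℤ) ∣ z.1 η := fun η =>
      (ZMod.intCast_zmod_eq_zero_iff_dvd _ _).mp (congrFun hz η)
    choose w hw using hdiv
    have hwK : w ∈ K := by
      refine ⟨fun η hη => ?_, fun y hy => ?_⟩
      · have h := z.2.1 η hη
        rw [hw η, mul_eq_zero] at h
        exact h.resolve_left (by exact_mod_cast hp.ne_zero)
      · have h := z.2.2 y hy
        simp only [hw, Int.cast_mul, Int.cast_natCast, mul_assoc, ← Finset.mul_sum, mul_eq_zero] at h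
        exact h.resolve_left (by exact_mod_cast hp.ne_zero)
    show ((cf z : ℤ) : ZMod p) = 0
    rw [ZMod.intCast_zmod_eq_zero_iff_dvd]
    refine ⟨cf ⟨w, hwK⟩, mul_left_cancel₀ hpa ?_⟩
    rw [← hcf, mul_left_comm, ← hcf, Finset.mul_sum]
    exact Finset.sum_congr rfl (fun η _ => by rw [hw η]; ring)
  let sub : Submodule (ZMod p) (IrrCharacter G → ZMod p) := AddSubgroup.toZModSubmodule p π.range
  have hmem : ∀ z, π z ∈ sub := fun z => ⟨z, rfl⟩
  choose pre hpre using fun v : sub => AddMonoidHom.mem_range.mp v.2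
  let lsub : sub →+ ZMod p := AddMonoidHom.mk' (fun v => lam (pre v)) (fun u v => by
    rw [← map_add, ← sub_eq_zero, ← map_sub]
    refine hker _ ?_
    rw [map_sub, map_add, hpre, hpre, hpre, Submodule.coe_add, sub_self])
  obtain ⟨F, hF⟩ := LinearMap.exists_extend (AddMonoidHom.toZModLinearMap p lsub)
  obtain ⟨u, hu⟩ : ∃ u : ℤ, ((u : ℤ) : ZMod p) * ((Nat.card G / p ^ a : ℕ) : ZMod p) = 1 := by
    have hne : ((Nat.card G / p ^ a : ℕ) : ZMod p) ≠ 0 := by
      rw [Ne, ZMod.natCast_eq_zero_iff]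
      exact Nat.not_dvd_ordCompl hp Nat.card_pos.ne'
    exact ⟨((Nat.card G / p ^ a : ℕ) : ZMod p)⁻¹.cast, by rw [ZMod.intCast_zmod_cast]; exact inv_mul_cancel₀ hne⟩
  refine ⟨fun η => u * ((F (Pi.single η 1)).cast : ℤ), fun x hx => ?_⟩
  choose n hnx hn using fun η : IrrCharacter G =>
    exists_multiplicities (CfsgLib.Char.isCharacter_of_isIrr η.2) x
  set ζ := Complex.exp (2 * Real.pi * Complex.I / orderOf x) with hζdef
  let z : ℕ → IrrCharacter G → ℤ := fun j η => if η ∈ B then (n η j : ℤ) else 0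
  have hzK : ∀ j ∈ Finset.range (orderOf x), z j ∈ K := by
    intro j hj
    refine ⟨fun η hη => if_neg hη, fun y hy => ?_⟩
    have hy' : p ∣ orderOf y⁻¹ := by rwa [orderOf_inv]
    have h0 : (orderOf x : ℂ) * ∑ η : IrrCharacter G, (z j η : ℂ) * (η : G → ℂ) y = 0 := by
      rw [Finset.mul_sum, show (0 : ℂ) = ∑ i ∈ Finset.range (orderOf x), (ζ ^ j)⁻¹ ^ i * 0 by simp]
      calc ∑ η : IrrCharacter G, (orderOf x : ℂ) * ((z j η : ℂ) * (η : G → ℂ) y)
          = ∑ η : IrrCharacter G, ∑ i ∈ Finset.range (orderOf x), (ζ ^ j)⁻¹ ^ i *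
              (if η ∈ B then (η : G → ℂ) (x ^ i) * conj ((η : G → ℂ) y⁻¹) else 0) := by
            refine Finset.sum_congr rfl (fun η _ => ?_)
            simp only [z]
            split_ifs
            · rw [Int.cast_natCast, ← mul_assoc, hn η j hj, Finset.sum_mul,
                CfsgLib.Char.char_inv (CfsgLib.Char.isCharacter_of_isIrr η.2), Complex.conj_conj]
              exact Finset.sum_congr rfl (fun i _ => by ring)
            · simp
        _ = _ := by
            rw [Finset.sum_comm]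
            refine Finset.sum_congr rfl (fun i _ => ?_)
            rw [← Finset.mul_sum, weak_orthogonality hM hB (fun hd => hx (hd.trans (orderOf_pow_dvd i))) hy']
    exact (mul_eq_zero.mp h0).resolve_left (by exact_mod_cast (orderOf_pos x).ne')
  have hlam : ∀ zz : K, lam zz = ∑ η : IrrCharacter G, (zz.1 η : ZMod p) * F (Pi.single η 1) := by
    intro zz
    have h1 : F (π zz) = lsub ⟨π zz, hmem zz⟩ := LinearMap.congr_fun hF ⟨π zz, hmem zz⟩
    have h2 : lsub ⟨π zz, hmem zz⟩ = lam zz := by
      show lam (pre _) = lam zz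
      rw [← sub_eq_zero, ← map_sub]
      exact hker _ (by rw [map_sub, hpre, sub_self])
    rw [← h2, ← h1]
    conv_lhs => rw [pi_eq_sum_univ' (π zz)]
    rw [map_sum]
    refine Finset.sum_congr rfl (fun η _ => ?_)
    rw [map_smul, smul_eq_mul]
    rfl
  have hζi : ζ ∈ locRing M := algInt_le_locRing M
    ((Complex.isPrimitiveRoot_exp (orderOf x) (orderOf_pos x).ne').isIntegral (orderOf_pos x))
  let ζR : locRing M := ⟨ζ, hζi⟩
  -- the identity in the local ring
  have hmain : ((Nat.card G / p ^ a : ℕ) : locRing M) *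
      ⟨blockCoeff B x⁻¹, blockCoeff_mem_locRing hB _⟩ =
      ∑ j ∈ (Finset.range (orderOf x)).attach, (cf ⟨z j.1, hzK j.1 j.2⟩ : locRing M) * ζR ^ (j.1) := by
    apply Subtype.ext
    push_cast
    have hG : ((p ^ a : ℕ) : ℂ) * ((Nat.card G / p ^ a : ℕ) : ℂ) = (Nat.card G : ℂ) := by
      exact_mod_cast Nat.ordProj_mul_ordCompl_eq_self (Nat.card G) p
    have hpaC : ((p ^ a : ℕ) : ℂ) ≠ 0 := by exact_mod_cast pow_ne_zero _ hp.ne_zero
    refine mul_left_cancel₀ hpaC ?_
    rw [← mul_assoc, hG, blockCoeff_eq, ← mul_assoc, mul_inv_cancel₀ CfsgLib.Char.card_ne_zero', one_mul,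
      Finset.mul_sum]
    have hj : ∀ j : {j // j ∈ Finset.range (orderOf x)}, ((p ^ a : ℕ) : ℂ) *
        ((cf ⟨z j.1, hzK j.1 j.2⟩ : ℂ) * ζ ^ (j.1)) =
        ∑ η : IrrCharacter G, (if η ∈ B then (η : G → ℂ) 1 * ((n η j.1 : ℂ) * ζ ^ (j.1)) else 0) := by
      intro j
      have h := congrArg (fun v : ℤ => (v : ℂ)) (hcf ⟨z j.1, hzK j.1 j.2⟩)
      push_cast at h
      rw [← mul_assoc, Nat.cast_pow, ← h, Finset.sum_mul]
      refine Finset.sum_congr rfl (fun η _ => ?_)
      simp only [z]
      rw [charDegree_eq (CfsgLib.Char.isCharacter_of_isIrr η.2)]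
      split_ifs <;> push_cast <;> ring
    rw [Finset.sum_congr rfl (fun j _ => hj j), Finset.sum_attach (Finset.range (orderOf x)) (fun j =>
      ∑ η : IrrCharacter G, (if η ∈ B then (η : G → ℂ) 1 * ((n η j : ℂ) * ζ ^ j) else 0)), Finset.sum_comm]
    refine Finset.sum_congr rfl (fun η _ => ?_)
    split_ifs
    · rw [CfsgLib.Char.char_inv (CfsgLib.Char.isCharacter_of_isIrr η.2), Complex.conj_conj, hnx η,
        Finset.mul_sum]
    · simp
  have hres := congrArg (res M) hmain
  rw [map_mul, map_natCast, map_sum] at hres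
  have hu' : (u : Res M) * ((Nat.card G / p ^ a : ℕ) : Res M) = 1 := by
    have := congrArg (ZMod.castHom (dvd_refl p) (Res M)) hu
    rwa [map_mul, map_intCast, map_natCast, map_one] at this
  have hstep : ∀ j : {j // j ∈ Finset.range (orderOf x)}, res M ((cf ⟨z j.1, hzK j.1 j.2⟩ : locRing M) *
      ζR ^ (j.1)) = ∑ η : IrrCharacter G, (if η ∈ B then
        ((((F (Pi.single η 1)).cast : ℤ)) : Res M) * ((n η j.1 : Res M) * res M ζR ^ (j.1)) else 0) := by
    intro j
    have h := congrArg (ZMod.castHom (dvd_refl p) (Res M)) (hlam ⟨z j.1, hzK j.1 j.2⟩)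
    change (ZMod.castHom (dvd_refl p) (Res M)) ((cf ⟨z j.1, hzK j.1 j.2⟩ : ℤ) : ZMod p) = _ at h
    rw [map_intCast, map_sum] at h
    rw [map_mul, map_intCast, map_pow, h, Finset.sum_mul]
    refine Finset.sum_congr rfl (fun η _ => ?_)
    have hc : (ZMod.castHom (dvd_refl p) (Res M)) (F (Pi.single η 1)) =
        ((((F (Pi.single η 1)).cast : ℤ)) : Res M) := by
      conv_lhs => rw [← ZMod.intCast_zmod_cast (F (Pi.single η 1))]
      rw [map_intCast]
    rw [map_mul, map_intCast, hc]
    simp only [z]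
    split_ifs <;> push_cast <;> ring
  rw [Finset.sum_congr rfl (fun j _ => hstep j), Finset.sum_attach (Finset.range (orderOf x)) (fun j =>
    ∑ η : IrrCharacter G, (if η ∈ B then
      ((((F (Pi.single η 1)).cast : ℤ)) : Res M) * ((n η j : Res M) * res M ζR ^ j) else 0)),
    Finset.sum_comm] at hres
  calc rcoeff (idem hB) x⁻¹
      = (u : Res M) * (((Nat.card G / p ^ a : ℕ) : Res M) *
          res M ⟨blockCoeff B x⁻¹, blockCoeff_mem_locRing hB _⟩) := by
        rw [← mul_assoc, hu', one_mul]; rfl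
    _ = _ := by
        rw [hres, Finset.mul_sum]
        refine Finset.sum_congr rfl (fun η _ => ?_)
        split_ifs
        · have hval : cval M η x = ∑ j ∈ Finset.range (orderOf x), (n η j : Res M) * res M ζR ^ j := by
            have : cvalR M (CfsgLib.Char.isCharacter_of_isIrr η.2) x =
                ∑ j ∈ Finset.range (orderOf x), (n η j : locRing M) * ζR ^ j := by
              apply Subtype.ext
              rw [coe_cvalR, hnx η]
              push_cast
              rfl
            rw [cval, this, map_sum]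
            exact Finset.sum_congr rfl (fun j _ => by rw [map_mul, map_natCast, map_pow])
          rw [hval, ← Finset.mul_sum, Int.cast_mul]
          ring
        · simp

end CfsgLib.Blocks
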