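import Cfsg.Agent.Lib.Blocks.SymAlgFour
import Cfsg.Agent.Lib.Blocks.SmallBlock
import Cfsg.Agent.Lib.Blocks.CyclicCorner
import Cfsg.Agent.Lib.Blocks.BlockDim
import Cfsg.Agent.Lib.BlockArith.KleinDefect
import Cfsg.Agent.Lib.BlockArith.SmallRank
import Cfsg.Agent.Lib.BlockArith.BrauerFeit

/-!
# Blocks with one Brauer character and at most four characters

* `exists_simple`: the reduced block modulo its radical is one matrix algebra, of the Brauer degree;
* `card_eq_pow_of_rank_one`: such a block has as many characters as its defect group has elements.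
-/

set_option autoImplicit false
set_option maxHeartbeats 1600000
set_option synthInstance.maxHeartbeats 200000

noncomputable section

namespace CfsgLib.Blocks.SmallLocal

open Cfsg CfsgLib.Modular CfsgLib.Blocks.SmallBlock CfsgLib.NilBlock

attribute [local instance] resField

variable {M : Ideal AlgInt} [M.IsMaximal] {G : Type*} [Group G] [Fintype G] {p : ℕ} [hp : Fact p.Prime]

/-- **The degrees.** Every member has the degree of the Brauer character. -/
theorem dnum_eq_one (hM : IsPModular p M) {B : Set (IrrCharacter G)} (hB : IsPBlock M B)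
    {φ : G → ℂ} (hφs : ibrOf hM B = {φ}) (hk : Nat.card B ≤ 4) :
    ∀ χ ∈ B, dnum hM χ φ = 1 := by
  classical
  have := res_isAlgClosed M
  set E := red (idem hB) with hE
  have hid : IsIdempotentElem E := by rw [IsIdempotentElem, hE, ← map_mul, idem_mul_self]
  have hEc : ∀ a, a * E = E * a := Subsemiring.mem_center_iff.mp (red_mem_center _)
  letI := cornerAlgebra (k := Res M) hid
  have hsmul : ∀ (c : Res M) (x : hid.Corner), (c • x : hid.Corner).1 = c • x.1 := fun c x => by
    rw [Algebra.smul_def]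
    show (c • E) * x.1 = _
    rw [smul_mul_assoc, ((Subsemigroup.mem_corner_iff hid).mp x.2).1]
  let ι : hid.Corner →ₗ[Res M] KG M G :=
    { toFun := fun x => x.1, map_add' := fun _ _ => rfl, map_smul' := hsmul }
  have hι : Function.Injective ι := Subtype.val_injective
  have : FiniteDimensional (Res M) hid.Corner := Module.Finite.of_injective ι hι
  have hmem : ∀ x : hid.Corner, E * x.1 = x.1 ∧ x.1 * E = x.1 :=
    fun x => (Subsemigroup.mem_corner_iff hid).mp x.2
  have hmk : ∀ a, E * a = a → ∃ x : hid.Corner, x.1 = a := fun a ha =>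
    ⟨⟨a, (Subsemigroup.mem_corner_iff hid).mpr ⟨ha, by rw [hEc, ha]⟩⟩, rfl⟩
  have hcen : ∀ x : hid.Corner, (∀ y, y * x = x * y) → x.1 ∈ Subsemiring.center (KG M G) := fun x hx => by
    refine Subsemiring.mem_center_iff.mpr fun g => ?_
    obtain ⟨y, hy⟩ := hmk (E * g) (by rw [← mul_assoc, hid.eq])
    have h : E * g * x.1 = x.1 * (E * g) := hy ▸ congrArg Subtype.val (hx y)
    calc g * x.1 = g * (E * x.1) := by rw [(hmem x).1]
      _ = E * g * x.1 := by rw [← mul_assoc, hEc]
      _ = x.1 * g := by rw [h, ← mul_assoc, (hmem x).2]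
  -- the projection to the corner
  let proj : KG M G →ₐ[Res M] hid.Corner := AlgHom.ofLinearMap
    { toFun := fun a => ⟨E * a, (Subsemigroup.mem_corner_iff hid).mpr
        ⟨by rw [← mul_assoc, hid.eq], by rw [hEc, ← mul_assoc, hid.eq]⟩⟩
      map_add' := fun a b => Subtype.ext (mul_add E a b)
      map_smul' := fun c a => Subtype.ext (by simp only [RingHom.id_apply]; refine (mul_smul_comm c E a).trans ?_; exact (hsmul c ⟨E * a, (Subsemigroup.mem_corner_iff hid).mpr ⟨by rw [← mul_assoc, hid.eq], by rw [hEc, ← mul_assoc, hid.eq]⟩⟩).symm) }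
    (Subtype.ext (mul_one E))
    (fun a b => Subtype.ext (show E * (a * b) = (E * a) * (E * b) by
      rw [mul_assoc E a (E * b), ← mul_assoc a E b, hEc a, mul_assoc E a b, ← mul_assoc E E, hid.eq]))
  have hproj : Function.Surjective proj := fun x => ⟨x.1, Subtype.ext (hmem x).1⟩
  have hprojE : proj E = 1 := Subtype.ext hid.eq
  -- the semisimple quotient
  have : IsArtinianRing hid.Corner := IsArtinianRing.of_finite (Res M) hid.Corner
  have : Module.Finite (Res M) (hid.Corner ⧸ Ring.jacobson hid.Corner) :=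
    Module.Finite.of_surjective (Ideal.Quotient.mkₐ (Res M) (Ring.jacobson hid.Corner)).toLinearMap
      Ideal.Quotient.mk_surjective
  obtain ⟨r, d, hd, ⟨Ψ⟩⟩ :=
    IsSemisimpleRing.exists_algEquiv_pi_matrix_of_isAlgClosed (Res M) (hid.Corner ⧸ Ring.jacobson hid.Corner)
  set π : hid.Corner →ₐ[Res M] (Π i, Matrix (Fin (d i)) (Fin (d i)) (Res M)) :=
    Ψ.toAlgHom.comp (Ideal.Quotient.mkₐ (Res M) (Ring.jacobson hid.Corner)) with hπ
  have hsurj : Function.Surjective π := Ψ.surjective.comp Ideal.Quotient.mk_surjective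
  have hker : ∀ x, π x = 0 ↔ x ∈ Ring.jacobson hid.Corner := fun x => by
    rw [hπ, AlgHom.comp_apply, AlgEquiv.coe_toAlgHom, map_eq_zero_iff _ Ψ.injective,
      Ideal.Quotient.mkₐ_eq_mk, Ideal.Quotient.eq_zero_iff_mem]
  let L : (i : Fin r) → KG M G →ₐ[Res M] Module.End (Res M) (Fin (d i) → Res M) := fun i =>
    (Matrix.toLinAlgEquiv' (R := Res M) (n := Fin (d i))).toAlgHom.comp
      ((Pi.evalAlgHom (Res M) (fun i => Matrix (Fin (d i)) (Fin (d i)) (Res M)) i).comp (π.comp proj))
  have hLs : ∀ i, Function.Surjective (L i) := fun i f => by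
    obtain ⟨m, hm⟩ := (Matrix.toLinAlgEquiv' (R := Res M) (n := Fin (d i))).surjective f
    obtain ⟨x, hx⟩ := hsurj (Pi.single i m)
    obtain ⟨a, rfl⟩ := hproj x
    exact ⟨a, by simp [L, hx, hm]⟩
  let σ : (i : Fin r) → Representation (Res M) G (Fin (d i) → Res M) := fun i =>
    (L i).toMonoidHom.comp (MonoidAlgebra.of (Res M) G)
  have hσ : ∀ i a, (σ i).asAlgebraHom a = L i a := fun i a => by
    induction a using MonoidAlgebra.induction_on with
    | of g => rw [MonoidAlgebra.of_apply, Representation.asAlgebraHom_single_one]; rfl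
    | add a b ha hb => rw [map_add, map_add, ha, hb]
    | smul c a ha => rw [map_smul, map_smul, ha]
  have hact : ∀ i, Acts (σ i) E 1 := fun i v => by
    rw [hσ]
    simp [L, hprojE]
  have hirr : ∀ i, (σ i).IsIrreducible := fun i => by
    have : NeZero (d i) := hd i
    by_contra hn
    obtain ⟨W, hb, ht, hW⟩ := exists_invariant_of_not_irreducible (σ i) hn
    have hall : ∀ (f : Module.End (Res M) (Fin (d i) → Res M)) (w), w ∈ W → f w ∈ W := fun f w hw => by
      obtain ⟨a, rfl⟩ := hLs i f
      rw [← hσ]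
      induction a using MonoidAlgebra.induction_on with
      | of g => rw [MonoidAlgebra.of_apply, Representation.asAlgebraHom_single_one]; exact hW g hw
      | add a b ha hb => rw [map_add]; exact W.add_mem ha hb
      | smul c a ha => rw [map_smul]; exact W.smul_mem c ha
    obtain ⟨w, hw, hw0⟩ := Submodule.exists_mem_ne_zero_of_ne_bot hb
    obtain ⟨j, hj⟩ := Function.ne_iff.mp hw0
    refine ht (eq_top_iff.mpr fun v _ => ?_)
    have h := hall ((LinearMap.proj j : (Fin (d i) → Res M) →ₗ[Res M] Res M).smulRight ((w j)⁻¹ • v)) w hw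
    rwa [LinearMap.smulRight_apply, LinearMap.proj_apply, smul_inv_smul₀ hj] at h
  have hbr : ∀ i, brauerFun p M (σ i) = φ := fun i => by
    have h := brauerFun_mem_ibrOf hM hB (hirr i) (hact i)
    rwa [hφs, Finset.mem_singleton] at h
  have hsub : ∀ i j : Fin r, i = j := fun i j => by
    by_contra hij
    have : NeZero (d i) := hd i
    obtain ⟨x, hx⟩ := hsurj (Pi.single i (Matrix.single 0 0 1))
    obtain ⟨a, rfl⟩ := hproj x
    have h := trace_eq_of_brauerFun_eq hM ((hbr i).trans (hbr j).symm) a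
    rw [hσ, hσ] at h
    simp [L, hx, Pi.single_eq_of_ne (Ne.symm hij), Matrix.trace_toLin'_eq] at h
    rw [show Matrix.toLinAlgEquiv' (Matrix.single (0 : Fin (d i)) 0 (1 : Res M)) = Matrix.toLin' (Matrix.single (0 : Fin (d i)) 0 (1 : Res M)) from rfl,
      Matrix.trace_toLin'_eq, Matrix.trace_single_eq_same] at h
    exact one_ne_zero h
  have hk0 : Nonempty B := by
    obtain ⟨χ, hχ⟩ := IsPBlock.nonempty hB
    exact ⟨⟨χ, hχ⟩⟩
  -- degrees
  have hone : ¬ p ∣ orderOf (1 : G) := by rw [orderOf_one]; exact hp.out.not_dvd_one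
  obtain ⟨f, hf0, hf⟩ := ibr_one_pos hM (φ := φ) (ibrOf_subset hM B (by rw [hφs]; exact Finset.mem_singleton_self φ))
  have hdeg : ∀ χ ∈ B, charDegree (χ : G → ℂ) = dnum hM χ φ * f := fun χ hχ => by
    have h := congrFun (regPart_eq_block hM hχ) 1
    rw [hφs, Finset.sum_singleton, CfsgLib.BlockArith.pRegularPart_apply, if_neg hone, Pi.smul_apply,
      smul_eq_mul, hf, charDegree_eq (CfsgLib.Char.isCharacter_of_isIrr χ.2)] at h
    exact_mod_cast h
  -- the bound on the dimension
  let Z : Submodule (Res M) hid.Corner :=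
    { carrier := {x | ∀ y, y * x = x * y}
      add_mem' := fun ha hb y => by rw [mul_add, add_mul, ha y, hb y]
      zero_mem' := fun y => by rw [mul_zero, zero_mul]
      smul_mem' := fun c x hx y => by rw [mul_smul_comm, smul_mul_assoc, hx y] }
  let Z' : Submodule (Res M) (KG M G) := Z.map ι
  have hZ' : ∀ z ∈ Z', z ∈ Subsemiring.center (KG M G) ∧ z * E = z := by
    rintro _ ⟨z, hz, rfl⟩
    exact ⟨hcen z hz, (hmem z).2⟩
  have hZk : Module.finrank (Res M) Z ≤ Nat.card B := by
    rw [(Submodule.equivMapOfInjective ι hι Z).finrank_eq]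
    show Module.finrank (Res M) Z' ≤ _
    have b := Module.finBasis (Res M) Z'
    have := card_central_le hM hB (fun i => (b i : KG M G)) (fun i => (hZ' _ (b i).2).1)
      (fun i => (hZ' _ (b i).2).2) (b.linearIndependent.map' Z'.subtype (Submodule.ker_subtype _))
    rwa [Nat.card_eq_fintype_card, Fintype.card_fin] at this
  let τ : hid.Corner →ₗ[Res M] Res M := ((LinearMap.proj (1 : G)).comp (coeffEquiv (Res M) G).toLinearMap).comp ι
  have hrange : Module.finrank (Res M) hid.Corner =
      ∑ χ : IrrCharacter G, (if χ ∈ B then charDegree (χ : G → ℂ) ^ 2 else 0) := by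
    rw [← finrank_range_idem hM hB, ← LinearMap.finrank_range_of_inj hι,
      show LinearMap.range ι = LinearMap.range (LinearMap.mulLeft (Res M) (red (idem hB))) from
        le_antisymm (fun v ⟨x, hx⟩ => ⟨x.1, (hmem x).1.trans hx⟩) (fun v ⟨w, hw⟩ => hmk v (by
          rw [← hw]
          simp only [LinearMap.mulLeft_apply]
          rw [← hE, ← mul_assoc, hid.eq]))]
  -- exactly one component
  have hr : 0 < r := by
    by_contra h
    obtain ⟨χ, hχ⟩ := hk0
    obtain ⟨N, hN⟩ := (IsSemiprimaryRing.isNilpotent : IsNilpotent (Ring.jacobson hid.Corner))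
    have h1 : (1 : hid.Corner) ∈ Ring.jacobson hid.Corner := (hker 1).mp (funext fun i => absurd i.2 (by omega))
    have h2 := Ideal.pow_mem_pow h1 N
    rw [hN, one_pow] at h2
    have hzero : Module.finrank (Res M) hid.Corner = 0 := by
      have : Subsingleton hid.Corner := subsingleton_of_zero_eq_one (by simpa using h2.symm)
      exact Module.finrank_zero_of_subsingleton
    rw [hrange, Finset.sum_eq_zero_iff] at hzero
    have h3 := hzero χ (Finset.mem_univ _)
    rw [if_pos hχ] at h3
    exact (pow_ne_zero 2 (CfsgLib.CharBlocks.charDegree_pos χ.2).ne') h3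
  let i₀ : Fin r := ⟨0, hr⟩
  have : NeZero (d i₀) := hd i₀
  have hdf : d i₀ = f := by
    have h := congrFun (hbr i₀) 1
    rw [brauerFun_one _ hM, Module.finrank_fin_fun, hf] at h
    exact_mod_cast h
  have hbound := SymAlgFour.finrank_le_sq_mul τ (fun x y => coeff_one_comm _ _) (fun b hb => ?_)
    ((Pi.evalAlgHom (Res M) (fun i => Matrix (Fin (d i)) (Fin (d i)) (Res M)) i₀).comp π)
    (fun m => by obtain ⟨x, hx⟩ := hsurj (Pi.single i₀ m); exact ⟨x, by simp [hx]⟩)
    (fun x => by
      rw [← hker]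
      refine ⟨fun h => funext fun i => ?_, fun h => ?_⟩
      · rw [hsub i i₀]; exact h
      · simp [h])
    Z (fun c hc => hc) (hZk.trans hk)
  swap
  · refine Subtype.ext (MonoidAlgebra.coeff_injective (Finsupp.ext fun g => ?_))
    obtain ⟨y, hy⟩ := hmk (E * MonoidAlgebra.single g⁻¹ 1) (by rw [← mul_assoc, hid.eq])
    have h : (b.1 * y.1).coeff 1 = 0 := hb y
    rw [hy, ← mul_assoc, (hmem b).2, coeff_mul_single_inv] at h
    exact h
  rw [hrange, hdf] at hbound
  have hbound2 := hbound.trans (Nat.mul_le_mul_left _ hZk)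
  -- the squares
  set T := Finset.univ.filter (fun χ : IrrCharacter G => χ ∈ B) with hT
  have hcard : Nat.card B = T.card := by rw [hT, ← Fintype.card_subtype, ← Nat.card_eq_fintype_card]
  rw [← Finset.sum_filter, ← hT, hcard,
    Finset.sum_congr rfl fun (χ : IrrCharacter G) hχ => show charDegree (χ : G → ℂ) ^ 2 = f ^ 2 * dnum hM χ φ ^ 2 by
      rw [hdeg χ (Finset.mem_filter.mp hχ).2]; ring, ← Finset.mul_sum] at hbound2
  have hsq := Nat.le_of_mul_le_mul_left hbound2 (pow_pos hf0 2)
  have hge : ∀ χ ∈ T, 1 ≤ dnum hM χ φ ^ 2 := fun χ hχ => Nat.one_le_pow _ _ (Nat.pos_of_ne_zero fun h => by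
    have := hdeg χ (Finset.mem_filter.mp hχ).2
    rw [h, zero_mul] at this
    exact (CfsgLib.CharBlocks.charDegree_pos χ.2).ne' this)
  intro χ hχ
  have h1 := (Finset.sum_eq_sum_iff_of_le hge).mp (le_antisymm (Finset.sum_le_sum hge)
    (hsq.trans (by rw [Finset.card_eq_sum_ones]))) χ (Finset.mem_filter.mpr ⟨Finset.mem_univ _, hχ⟩)
  exact (Nat.pow_eq_one.mp h1.symm).resolve_right two_ne_zero

/-- **The count.** -/
theorem card_eq_pow_of_rank_one (hM : IsPModular p M) {B : Set (IrrCharacter G)} (hB : IsPBlock M B)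
    (hd : 0 < blockDefect p B) (hl : blockRank p B = 1) (hk : Nat.card B ≤ 4) :
    Nat.card B = p ^ blockDefect p B := by
  classical
  obtain ⟨φ, hφs⟩ := Finset.card_eq_one.mp ((blockRank_eq_card hM hB).symm.trans hl)
  have h1 := dnum_eq_one hM hB hφs hk
  have hone : ¬ p ∣ orderOf (1 : G) := by rw [orderOf_one]; exact hp.out.not_dvd_one
  obtain ⟨f, hf0, hf⟩ := ibr_one_pos hM (φ := φ) (ibrOf_subset hM B (by rw [hφs]; exact Finset.mem_singleton_self φ))
  have hdeg : ∀ χ ∈ B, charDegree (χ : G → ℂ) = f := fun χ hχ => by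
    have h := congrFun (regPart_eq_block hM hχ) 1
    rw [hφs, Finset.sum_singleton, CfsgLib.BlockArith.pRegularPart_apply, if_neg hone, Pi.smul_apply,
      smul_eq_mul, hf, h1 χ hχ, charDegree_eq (CfsgLib.Char.isCharacter_of_isIrr χ.2)] at h
    push_cast at h
    rw [one_mul] at h
    exact_mod_cast h
  obtain ⟨hval, -⟩ := exists_sum_sq hM hB
  have hsum : ∑ᶠ χ ∈ B, charDegree (χ : G → ℂ) ^ 2 = Nat.card B * f ^ 2 := by
    rw [finsum_mem_eq_finite_toFinset_sum _ (Set.toFinite B),
      Finset.sum_congr rfl fun χ hχ => by rw [hdeg χ ((Set.Finite.mem_toFinset _).mp hχ)],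
      Finset.sum_const, smul_eq_mul, Nat.card_coe_set_eq, Set.ncard_eq_toFinset_card B]
  obtain ⟨χ₀, hχ₀, hh₀⟩ := exists_height_zero (p := p) hM hB
  have hh := degree_height (p := p) hM hB hχ₀
  rw [hdeg χ₀ hχ₀, hh₀] at hh
  have hk0 : 0 < Nat.card B := Nat.card_pos_iff.mpr ⟨⟨⟨χ₀, hχ₀⟩⟩, inferInstance⟩
  rw [hsum, Nat.factorization_mul hk0.ne' (pow_ne_zero _ hf0.ne'), Finsupp.add_apply, Nat.factorization_pow,
    Finsupp.smul_apply, smul_eq_mul] at hval
  have hda : blockDefect p B ≤ (Nat.card G).factorization p := Nat.sub_le _ _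
  have hkp : (Nat.card B).factorization p = blockDefect p B := by omega
  have hdvd : p ^ blockDefect p B ∣ Nat.card B := hkp ▸ Nat.ordProj_dvd _ p
  have hle := Nat.le_of_dvd hk0 hdvd
  have hp2 := hp.out.two_le
  have hd2 : blockDefect p B ≤ 2 := by
    by_contra h
    have : p ^ 3 ≤ p ^ blockDefect p B := Nat.pow_le_pow_right hp.out.pos (by omega)
    have : 8 ≤ p ^ 3 := Nat.pow_le_pow_left hp2 3
    omega
  have hk1 : 1 < Nat.card B := hl ▸ BlockArith.blockRank_lt_card hM hB hd
  obtain ⟨c, hc⟩ := hdvd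
  rcases (show blockDefect p B = 1 ∨ blockDefect p B = 2 by omega) with h2 | h2
  · by_cases hp2' : p = 2
    · subst hp2'
      have h3 := (BlockArith.brauer_feit hM 1 G B hB h2).1 (by norm_num)
      rw [h2] at hc hle ⊢
      omega
    · rw [h2, pow_one] at hc hle ⊢
      have : 3 ≤ p := by omega
      rcases Nat.lt_or_ge c 2 with h | h
      · interval_cases c <;> omega
      · nlinarith
  · rw [h2] at hc hle ⊢
    have h4 : 4 ≤ p ^ 2 := Nat.pow_le_pow_left hp2 2
    rcases Nat.eq_zero_or_pos c with rfl | hcpos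
    · omega
    · have : c = 1 := by nlinarith
      rw [hc, this, mul_one]

end CfsgLib.Blocks.SmallLocal
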