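import Cfsg.Prelude.Def_Transfer
import Cfsg.Agent.Lib.Modular.GaloisFix
import Cfsg.Agent.Lib.Blocks.PrincipalSection
import Cfsg.Agent.Lib.Blocks.BlockDim
import Cfsg.Agent.Lib.Blocks.Orth
import Cfsg.Agent.Lib.Blocks.Functional
import Cfsg.Agent.Lib.CharBlocks.Degree
import Cfsg.Agent.Lib.PGroup.Basic
import Mathlib.GroupTheory.Frattini

/-!
# Principal-block characters over a sign character of a Sylow 2-subgroup

* `exists_fixed_over_sign`: for `lam : P → {±1}` a member of the principal 2-block of odd degree, fixed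
  by a Galois automorphism of 2-power period trivial on odd roots of unity, contains `lam` an odd
  number of times.
* `exists_sign_hom`: a sign character separates each element outside the Frattini subgroup.
-/

set_option autoImplicit false

noncomputable section

namespace CfsgLib.Blocks.FixedOverSign

open Cfsg CfsgLib.Blocks CfsgLib.Char
open scoped ComplexConjugate Classical

universe u

theorem exists_sign_hom {C : Type u} [Group C] [Finite C] (h2 : IsPGroup 2 C) {x : C}
    (hx : x ∉ frattini C) : ∃ lam : C →* ℂˣ, (∀ y, lam y = 1 ∨ lam y = -1) ∧ lam x = -1 := by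
  haveI : Fact (Nat.Prime 2) := ⟨Nat.prime_two⟩
  obtain ⟨M, hM, hxM⟩ : ∃ M : Subgroup C, IsCoatom M ∧ x ∉ M := by
    simp only [frattini, Order.radical, Subgroup.mem_iInf, not_forall] at hx
    obtain ⟨M, hM, hxM⟩ := hx
    exact ⟨M, hM, hxM⟩
  have hidx : M.index = 2 := CfsgLib.PGroup.index_of_isCoatom h2 hM
  refine ⟨MonoidHom.mk' (fun y => if y ∈ M then 1 else -1) fun a b => ?_, fun y => ?_, ?_⟩
  · have h := Subgroup.mul_mem_iff_of_index_two hidx (a := a) (b := b)
    by_cases ha : a ∈ M <;> by_cases hb : b ∈ M <;> simp [h, ha, hb]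
  · by_cases hy : y ∈ M <;> simp [hy]
  · simp [hxM]

variable {G : Type u} [Group G] [Fintype G] {M : Ideal AlgInt} [M.IsMaximal]

theorem exists_fixed_over_sign (hM : IsPModular 2 M) (σ : ℂ ≃+* ℂ)
    (hblock : ∀ χ ∈ principalBlock M G, CfsgLib.CharNormal.galIrr σ χ ∈ principalBlock M G)
    (n : ℕ) (hper : ∀ χ : IrrCharacter G, (CfsgLib.CharNormal.galIrr σ)^[2 ^ n] χ = χ)
    (P : Sylow 2 G) [Fintype (P : Subgroup G)] (lam : ↥(P : Subgroup G) →* ℂˣ)
    (hlam : ∀ u, σ (lam u : ℂ) = lam u) :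
    ∃ χ ∈ principalBlock M G, CfsgLib.CharNormal.galIrr σ χ = χ ∧ Odd (charDegree (χ : G → ℂ)) ∧
      classInner (fun u => (lam u : ℂ)) (fun u : (P : Subgroup G) => (χ : G → ℂ) u) ≠ 0 := by
  haveI : Fact (Nat.Prime 2) := ⟨Nat.prime_two⟩
  set B := principalBlock M G with hBdef
  have hB : IsPBlock M B := isPBlock_principalBlock
  set l : ↥(P : Subgroup G) → ℂ := fun u => (lam u : ℂ) with hl
  have hlc : IsCharacter (P : Subgroup G) l := isCharacter_of_isIrr (isIrrCharacter_units_hom lam)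
  choose m hm using fun χ : IrrCharacter G =>
    classInner_char_nat hlc (isCharacter_res (P : Subgroup G) (isCharacter_of_isIrr χ.2))
  set d : IrrCharacter G → ℕ := fun χ => charDegree (χ : G → ℂ) with hd
  have hdσ : ∀ χ, d (CfsgLib.CharNormal.galIrr σ χ) = d χ := fun χ => by
    refine CfsgLib.CharBlocks.charDegree_eq ?_
    rw [CfsgLib.CharNormal.galIrr_apply, ← CfsgLib.CharBlocks.coe_charDegree_irr, map_natCast]
  have hmσ : ∀ χ, m (CfsgLib.CharNormal.galIrr σ χ) = m χ := fun χ => by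
    have h := CfsgLib.CharNormal.classInner_ringEquiv σ l
      (isCharacter_res (P : Subgroup G) (isCharacter_of_isIrr χ.2))
    have e : σ ∘ (fun u : ↥(P : Subgroup G) => (χ : G → ℂ) u) =
        fun u : ↥(P : Subgroup G) => (CfsgLib.CharNormal.galIrr σ χ : G → ℂ) u :=
      funext fun u => (CfsgLib.CharNormal.galIrr_apply σ χ u).symm
    rw [show σ ∘ l = l from funext hlam, e, hm χ, map_natCast, hm (CfsgLib.CharNormal.galIrr σ χ)] at h
    exact Nat.cast_injective h
  set S := ∑ χ : IrrCharacter G, if χ ∈ B then d χ * m χ else 0 with hS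
  set D := ∑ᶠ χ ∈ B, charDegree (χ : G → ℂ) ^ 2 with hD
  have hDC : (D : ℂ) = ∑ χ : IrrCharacter G, if χ ∈ B then (χ : G → ℂ) 1 * conj ((χ : G → ℂ) 1) else 0 := by
    rw [hD, finsum_mem_eq_finite_toFinset_sum _ (Set.toFinite _),
      ← Finset.sum_filter, Nat.cast_sum]
    refine Finset.sum_congr (by ext; simp) fun χ _ => ?_
    rw [← CfsgLib.CharBlocks.coe_charDegree_irr, map_natCast]
    push_cast
    ring
  -- `|P| · S = dim B`
  have hPS : Nat.card (P : Subgroup G) * S = D := by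
    have h : ((Nat.card (P : Subgroup G) * S : ℕ) : ℂ) =
        ∑ u : (P : Subgroup G), l u * ∑ χ : IrrCharacter G,
          (if χ ∈ B then (χ : G → ℂ) 1 * conj ((χ : G → ℂ) u) else 0) := by
      simp only [hS, Nat.cast_mul, Nat.cast_sum, Finset.mul_sum]
      conv_rhs => rw [Finset.sum_comm]
      refine Finset.sum_congr rfl fun χ _ => ?_
      split_ifs with h
      · have h1 := hm χ
        rw [classInner_def] at h1
        push_cast
        rw [show (d χ : ℂ) = (χ : G → ℂ) 1 from CfsgLib.CharBlocks.coe_charDegree_irr χ, ← h1,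
          mul_left_comm ((χ : G → ℂ) 1), ← mul_assoc (Nat.card _ : ℂ),
          mul_inv_cancel₀ (Nat.cast_ne_zero.mpr Nat.card_pos.ne'), one_mul, Finset.mul_sum]
        exact Finset.sum_congr rfl fun u _ => by ring
      · simp
    rw [Finset.sum_eq_single (1 : (P : Subgroup G))] at h
    · rw [show l 1 = 1 by simp [hl], one_mul, OneMemClass.coe_one, ← hDC] at h
      exact_mod_cast h
    · intro u _ hu
      obtain ⟨j, hj⟩ := IsPGroup.iff_orderOf.mp P.2 u
      have hdv : 2 ∣ orderOf (u : G) := by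
        rw [Subgroup.orderOf_coe, hj]
        rcases j with _ | j
        · exact absurd (orderOf_eq_one_iff.mp (by simpa using hj)) hu
        · exact dvd_pow_self 2 j.succ_ne_zero
      rw [weak_orthogonality hM hB (x := 1) (by simp) hdv, mul_zero]
    · simp
  have hSodd : Odd S := by
    have hs := exists_sum_sq hM hB
    have hdef : blockDefect 2 B = (Nat.card G).factorization 2 := by
      rw [blockDefect, Nat.sInf_eq_zero.mpr (Or.inl ?_), Nat.sub_zero]
      refine ⟨irrOne, irrOne_mem_principalBlock, ?_⟩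
      show (charDegree ((irrOne : IrrCharacter G) : G → ℂ)).factorization 2 = 0
      rw [show charDegree ((irrOne : IrrCharacter G) : G → ℂ) = 1 from
        CfsgLib.CharBlocks.charDegree_eq (by simp [irrOne]), Nat.factorization_one, Finsupp.zero_apply]
    rw [← hD, ← hPS, hdef] at hs
    have hS0 : S ≠ 0 := fun h => hs.2 (by rw [h, mul_zero])
    rw [Nat.factorization_mul Nat.card_pos.ne' hS0, Finsupp.add_apply, P.card_eq_multiplicity,
      Nat.prime_two.factorization_pow, Finsupp.single_eq_same] at hs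
    refine Nat.not_even_iff_odd.mp fun he => ?_
    have := Nat.prime_two.factorization_pos_of_dvd hS0 (even_iff_two_dvd.mp he)
    omega
  -- the odd terms are permuted
  let T := {χ : IrrCharacter G // χ ∈ B ∧ Odd (d χ * m χ)}
  let _ := Fintype.ofFinite T
  have hT : Odd (Fintype.card T) := by
    rw [← ZMod.natCast_eq_one_iff_odd, Fintype.card_subtype, Finset.card_filter]
    rw [← ZMod.natCast_eq_one_iff_odd, hS] at hSodd
    push_cast at hSodd ⊢
    refine Eq.trans (Finset.sum_congr rfl fun χ _ => ?_) hSodd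
    by_cases hχ : χ ∈ B
    · by_cases ho : Odd (d χ * m χ)
      · rw [if_pos ⟨hχ, ho⟩, if_pos hχ, ← Nat.cast_mul, (ZMod.natCast_eq_one_iff_odd).mpr ho]
      · rw [if_neg (fun h => ho h.2), if_pos hχ, ← Nat.cast_mul,
          (ZMod.natCast_eq_zero_iff_even).mpr (Nat.not_odd_iff_even.mp ho)]
    · rw [if_neg hχ, if_neg (fun h => hχ h.1)]
  let f : Function.End T := fun χ => ⟨CfsgLib.CharNormal.galIrr σ χ.1,
    hblock _ χ.2.1, by rw [hdσ, hmσ]; exact χ.2.2⟩
  have hiter : ∀ (r : ℕ) (χ : T), ((f^[r]) χ).1 = (CfsgLib.CharNormal.galIrr σ)^[r] χ.1 := by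
    intro r
    induction r with
    | zero => intro χ; rfl
    | succ r ih =>
      intro χ
      rw [Function.iterate_succ_apply', Function.iterate_succ_apply', ← ih]
  have hf : f ^ 2 ^ n = 1 := by
    funext χ
    show (f^[2 ^ n]) χ = χ
    exact Subtype.ext ((hiter _ χ).trans (hper _))
  have hfix : Fintype.card (Function.fixedPoints f) ≠ 0 := fun h0 => by
    have h := Equiv.Perm.card_fixedPoints_modEq hf
    rw [h0, Nat.ModEq, Nat.odd_iff.mp hT] at h
    omega
  obtain ⟨⟨χ, hχ⟩⟩ := Fintype.card_pos_iff.mp (Nat.pos_of_ne_zero hfix)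
  obtain ⟨hdo, hmo⟩ := Nat.odd_mul.mp χ.2.2
  refine ⟨χ.1, χ.2.1, congrArg Subtype.val hχ, hdo, ?_⟩
  rw [hm χ.1]
  exact Nat.cast_ne_zero.mpr hmo.pos.ne'

omit [M.IsMaximal] in
/-- The Galois automorphism belonging to a power map `g ↦ g ^ k` that is the identity on elements of
odd order and an odd power on `2`-elements. -/
theorem exists_galois (hM : IsPModular 2 M) (r k : ℕ) (hr : Odd r)
    (hk₁ : ∀ g : G, (∃ j : ℕ, orderOf g = 2 ^ j) → g ^ k = g ^ r)
    (hk₂ : ∀ g : G, Odd (orderOf g) → g ^ k = g) :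
    ∃ σ : ℂ ≃+* ℂ, (∀ (χ : IrrCharacter G) (g : G),
        (CfsgLib.CharNormal.galIrr σ χ : G → ℂ) g = (χ : G → ℂ) (g ^ k)) ∧
      (∀ χ ∈ principalBlock M G, CfsgLib.CharNormal.galIrr σ χ ∈ principalBlock M G) ∧
      ∀ χ : IrrCharacter G, (CfsgLib.CharNormal.galIrr σ)^[2 ^ Nat.card G] χ = χ := by
  haveI : Fact (Nat.Prime 2) := ⟨Nat.prime_two⟩
  haveI := hM.2.1
  have hk : k.Coprime (Nat.card G) := by
    refine Nat.coprime_of_dvd fun q hq hqk hqG => ?_
    haveI := Fact.mk hq
    obtain ⟨x, hx⟩ := exists_prime_orderOf_dvd_card' q hqG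
    have hx1 : x ^ k = 1 := orderOf_dvd_iff_pow_eq_one.mp (hx ▸ hqk)
    rcases hq.eq_two_or_odd' with rfl | hodd
    · rw [hk₁ x ⟨1, by simpa using hx⟩, ← orderOf_dvd_iff_pow_eq_one, hx] at hx1
      exact Nat.not_even_iff_odd.mpr hr (even_iff_two_dvd.mpr hx1)
    · rw [hk₂ x (hx ▸ hodd), ← orderOf_eq_one_iff, hx] at hx1
      exact hq.ne_one hx1
  obtain ⟨σ, hσ⟩ := CfsgLib.CharNormal.exists_ringEquiv_root_pow (n := Nat.card G) Nat.card_pos.ne' hk
  have happ : ∀ (χ : IrrCharacter G) (g : G),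
      (CfsgLib.CharNormal.galIrr σ χ : G → ℂ) g = (χ : G → ℂ) (g ^ k) := fun χ g => by
    rw [CfsgLib.CharNormal.galIrr_apply, CfsgLib.CharNormal.ringEquiv_char_apply hσ
      (isCharacter_of_isIrr χ.2) (orderOf_dvd_natCard g)]
  refine ⟨σ, happ, fun χ hχ => CfsgLib.Modular.galIrr_mem_block hM hσ
    (fun g hg => hk₂ g (Nat.odd_iff.mpr (Nat.two_dvd_ne_zero.mp hg))) isPBlock_principalBlock hχ, ?_⟩
  set N := 2 ^ Nat.card G with hN
  have hperiod : ∀ g : G, g ^ (k ^ N) = g := by
    intro g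
    obtain ⟨j, m, hm, hg⟩ := Nat.exists_eq_pow_mul_and_not_dvd (orderOf_pos g).ne' 2 (by norm_num)
    have hy : orderOf (g ^ 2 ^ j) = m := by
      rw [orderOf_pow_of_dvd (by positivity) (hg ▸ dvd_mul_right _ _), hg,
        Nat.mul_div_cancel_left _ (by positivity)]
    have h2 : k ≡ 1 [MOD m] := by
      have h := hk₂ (g ^ 2 ^ j) (by rw [hy]; exact Nat.odd_iff.mpr (Nat.two_dvd_ne_zero.mp hm))
      conv_rhs at h => rw [← pow_one (g ^ 2 ^ j)]
      rw [pow_eq_pow_iff_modEq, hy] at h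
      exact h
    have hjn : j ≤ Nat.card G := (Nat.lt_two_pow_self).le.trans (Nat.le_of_dvd Nat.card_pos
      ((dvd_mul_right _ _).trans (hg ▸ orderOf_dvd_natCard g)))
    have h1 : k ^ N ≡ 1 [MOD 2 ^ j] := by
      rcases Nat.eq_zero_or_pos j with rfl | hj
      · exact Nat.modEq_one
      obtain ⟨c, hc⟩ : Nat.totient (2 ^ j) ∣ N := by
        rw [Nat.totient_prime_pow Nat.prime_two hj, hN]
        simpa using pow_dvd_pow 2 (by omega : j - 1 ≤ Nat.card G)
      have hk2 : k.Coprime 2 := hk.coprime_dvd_right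
        (((dvd_pow_self 2 hj.ne').trans (dvd_mul_right _ _)).trans (hg ▸ orderOf_dvd_natCard g))
      rw [hc, pow_mul]
      simpa using (Nat.ModEq.pow_totient (hk2.pow_right j)).pow c
    have hmod : k ^ N ≡ 1 [MOD 2 ^ j * m] :=
      (Nat.modEq_and_modEq_iff_modEq_mul
        ((Nat.prime_two.coprime_iff_not_dvd.mpr hm).pow_left j)).mp ⟨h1, by simpa using h2.pow N⟩
    conv_rhs => rw [← pow_one g]
    rw [pow_eq_pow_iff_modEq, hg]
    exact hmod
  have hiter : ∀ (i : ℕ) (χ : IrrCharacter G) (g : G),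
      (((CfsgLib.CharNormal.galIrr σ)^[i] χ : IrrCharacter G) : G → ℂ) g = (χ : G → ℂ) (g ^ k ^ i) := by
    intro i
    induction i with
    | zero => intro χ g; rw [pow_zero, pow_one]; rfl
    | succ i ih => intro χ g; rw [Function.iterate_succ_apply', happ, ih, ← pow_mul, ← pow_succ']
  exact fun χ => Subtype.ext (funext fun g => by rw [hiter, hperiod])

end CfsgLib.Blocks.FixedOverSign
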