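import Mathlib

/-!
# Groups with a four-group whose involutions have bounded centralisers

* `four_bound`: the order is bounded by the centralisers and the two-part of the order;
* `elem_bound`: the same from the centralisers of the hyperplanes of an elementary abelian two-subgroup.
-/

set_option autoImplicit false

noncomputable section

namespace CfsgLib.Blocks.FourGroupBound

open scoped Classical

universe u

variable {G : Type u} [Group G] [Finite G]

/-- Involutions have bounded centralisers in a quotient. -/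
theorem card_centralizer_mk_le (N : Subgroup G) [N.Normal] (z : G) :
    Nat.card (Subgroup.centralizer ({(z : G ⧸ N)} : Set (G ⧸ N))) ≤
      Nat.card (Subgroup.centralizer ({z} : Set G)) := by
  obtain ⟨W, hW⟩ : ∃ W : Subgroup G,
      W = (Subgroup.centralizer ({(z : G ⧸ N)} : Set (G ⧸ N))).comap (QuotientGroup.mk' N) := ⟨_, rfl⟩
  have hmem : ∀ w, w ∈ W ↔ z⁻¹ * (w * z * w⁻¹) ∈ N := by
    intro w
    rw [hW, Subgroup.mem_comap, Subgroup.mem_centralizer_singleton_iff, QuotientGroup.mk'_apply,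
      ← QuotientGroup.eq, ← QuotientGroup.mk_mul, ← QuotientGroup.mk_mul]
    constructor
    · intro h
      rw [QuotientGroup.mk_mul N (w * z) w⁻¹, h, ← QuotientGroup.mk_mul, mul_inv_cancel_right]
    · intro h
      calc ((w * z : G) : G ⧸ N) = ((w * z * w⁻¹ : G) : G ⧸ N) * (w : G ⧸ N) := by
            rw [← QuotientGroup.mk_mul, inv_mul_cancel_right]
        _ = _ := by rw [← h, ← QuotientGroup.mk_mul]
  have hcard : Nat.card W ≤ Nat.card N * Nat.card (Subgroup.centralizer ({z} : Set G)) := by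
    have := Fintype.ofFinite G
    obtain ⟨F, hF⟩ : ∃ F : W → N, ∀ w : W, ((F w : N) : G) = z⁻¹ * ((w : G) * z * (w : G)⁻¹) :=
      ⟨fun w => ⟨_, (hmem w).mp w.2⟩, fun w => rfl⟩
    choose g hg using fun n : Set.range F => n.2
    rw [← Nat.card_prod]
    refine Nat.card_le_card_of_injective
      (fun w : W => ((F w, ⟨((g ⟨F w, w, rfl⟩ : W) : G)⁻¹ * (w : G), ?_⟩) :
        N × Subgroup.centralizer ({z} : Set G))) fun w w' h => ?_
    · have h := congrArg (fun n : N => z * (n : G)) (hg ⟨F w, w, rfl⟩)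
      simp only [hF, mul_inv_cancel_left] at h
      refine Subgroup.mem_centralizer_singleton_iff.mpr ?_
      rw [← mul_inv_eq_iff_eq_mul]
      calc ((g ⟨F w, w, rfl⟩ : W) : G)⁻¹ * (w : G) * z * (((g ⟨F w, w, rfl⟩ : W) : G)⁻¹ * (w : G))⁻¹
          = ((g ⟨F w, w, rfl⟩ : W) : G)⁻¹ * ((w : G) * z * (w : G)⁻¹) * (g ⟨F w, w, rfl⟩ : W) := by group
        _ = z := by rw [← h]; group
    · obtain ⟨h1, h2⟩ := Prod.ext_iff.mp h
      have h3 := congrArg Subtype.val h2
      simp only at h3
      rw [show (⟨F w', w', rfl⟩ : Set.range F) = ⟨F w, w, rfl⟩ from Subtype.ext h1.symm] at h3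
      exact Subtype.ext (mul_left_cancel h3)
  have h1 := Subgroup.index_comap_of_surjective (Subgroup.centralizer ({(z : G ⧸ N)} : Set (G ⧸ N)))
    (QuotientGroup.mk'_surjective N)
  rw [← hW] at h1
  have h2 := Subgroup.card_mul_index W
  have h3 := Subgroup.card_mul_index (Subgroup.centralizer ({(z : G ⧸ N)} : Set (G ⧸ N)))
  have h4 : Nat.card (G ⧸ N) * Nat.card N = Nat.card G := (Subgroup.card_eq_card_quotient_mul_card_subgroup N).symm
  rw [← h4, ← h3, h1, mul_right_comm] at h2
  have h5 : Nat.card W = Nat.card (Subgroup.centralizer ({(z : G ⧸ N)} : Set (G ⧸ N))) * Nat.card N :=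
    Nat.eq_of_mul_eq_mul_right (Nat.pos_of_ne_zero Subgroup.index_ne_zero_of_finite) h2
  rw [h5, mul_comm] at hcard
  exact Nat.le_of_mul_le_mul_left hcard Nat.card_pos

/-- For a normal subgroup of odd order the centraliser of an involution maps onto the centraliser. -/
theorem centralizer_mk_eq (N : Subgroup G) [N.Normal] (hN : Odd (Nat.card N)) {z : G} (hz : z * z = 1) :
    Subgroup.centralizer ({(z : G ⧸ N)} : Set (G ⧸ N)) =
      (Subgroup.centralizer ({z} : Set G)).map (QuotientGroup.mk' N) := by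
  refine le_antisymm (fun q hq => ?_) ?_
  · obtain ⟨w, rfl⟩ := QuotientGroup.mk_surjective q
    rw [Subgroup.mem_centralizer_singleton_iff] at hq
    have hzinv : z⁻¹ = z := inv_eq_of_mul_eq_one_right hz
    obtain ⟨m, hmd⟩ : ∃ m, m = z * (w * z * w⁻¹) := ⟨_, rfl⟩
    have hmN : m ∈ N := by
      rw [← QuotientGroup.eq_one_iff, hmd, QuotientGroup.mk_mul, QuotientGroup.mk_mul, QuotientGroup.mk_mul,
        QuotientGroup.mk_inv, hq, mul_inv_cancel_right, ← QuotientGroup.mk_mul, hz]
      rfl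
    have hzm : z * m * z = m⁻¹ := by
      rw [hmd, mul_inv_rev, mul_inv_rev, mul_inv_rev, inv_inv, hzinv]
      calc z * (z * (w * z * w⁻¹)) * z = z * z * (w * z * w⁻¹) * z := by group
        _ = _ := by rw [hz]; group
    have hodd : Odd (orderOf m) := hN.of_dvd_nat (by
      rw [show orderOf m = orderOf (⟨m, hmN⟩ : N) from (Subgroup.orderOf_mk ..).symm]
      exact orderOf_dvd_natCard _)
    obtain ⟨i, hi⟩ := hodd
    obtain ⟨h, hhd⟩ : ∃ h, h = m ^ (i + 1) := ⟨_, rfl⟩
    have hh2 : h * h = m := by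
      rw [hhd, ← pow_add, show i + 1 + (i + 1) = orderOf m + 1 by omega, pow_succ, pow_orderOf_eq_one, one_mul]
    have hzh : z * h * z = h⁻¹ := by
      rw [hhd, show z * m ^ (i + 1) * z = MulAut.conj z (m ^ (i + 1)) by
          rw [MulAut.conj_apply, hzinv], map_pow, MulAut.conj_apply, hzinv, hzm, inv_pow]
    refine ⟨h * w, Subgroup.mem_centralizer_singleton_iff.mpr ?_, ?_⟩
    · have h1 : w * z * w⁻¹ = z * m := by rw [hmd, ← mul_assoc, hz, one_mul]
      rw [← mul_inv_eq_iff_eq_mul]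
      calc h * w * z * (h * w)⁻¹ = h * (w * z * w⁻¹) * h⁻¹ := by group
        _ = h * (z * (h * h)) * h⁻¹ := by rw [h1, hh2]
        _ = z * (z⁻¹ * h * z) * h := by group
        _ = z := by rw [hzinv, hzh]; group
    · rw [QuotientGroup.mk'_apply, QuotientGroup.mk_mul, (QuotientGroup.eq_one_iff h).mpr (hhd ▸ pow_mem hmN _),
        one_mul]
  · rintro _ ⟨w, hw, rfl⟩
    rw [Subgroup.mem_centralizer_singleton_iff, QuotientGroup.mk'_apply, ← QuotientGroup.mk_mul,
      ← QuotientGroup.mk_mul]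
    exact congrArg _ (Subgroup.mem_centralizer_singleton_iff.mp hw)

/-- A nontrivial fixed point in an odd normal subgroup lowers the centraliser in the quotient. -/
theorem card_centralizer_mk_lt (N : Subgroup G) [N.Normal] (hN : Odd (Nat.card N)) {z : G} (hz : z * z = 1)
    {n : G} (hn : n ∈ N) (hn1 : n ≠ 1) (hnz : Commute n z) :
    Nat.card (Subgroup.centralizer ({(z : G ⧸ N)} : Set (G ⧸ N))) <
      Nat.card (Subgroup.centralizer ({z} : Set G)) := by
  have := Fintype.ofFinite G
  rw [centralizer_mk_eq N hN hz]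
  let φ : Subgroup.centralizer ({z} : Set G) →
      ((Subgroup.centralizer ({z} : Set G)).map (QuotientGroup.mk' N)) :=
    fun c => ⟨QuotientGroup.mk' N c, Subgroup.mem_map_of_mem _ c.2⟩
  rw [Nat.card_eq_fintype_card, Nat.card_eq_fintype_card]
  refine Fintype.card_lt_of_surjective_not_injective φ (fun q => ?_) fun hinj => hn1 ?_
  · obtain ⟨c, hc, hq⟩ := q.2
    exact ⟨⟨c, hc⟩, Subtype.ext hq⟩
  · have h := @hinj ⟨n, Subgroup.mem_centralizer_singleton_iff.mpr hnz.eq⟩ 1
      (Subtype.ext (by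
        show QuotientGroup.mk' N n = QuotientGroup.mk' N (1 : G)
        rw [map_one, QuotientGroup.mk'_apply]
        exact (QuotientGroup.eq_one_iff n).mpr hn))
    exact congrArg Subtype.val h

/-- An involution not in the centre produces a nontrivial element with a small class. -/
theorem exists_small_class {z : G} (hz : z * z = 1) (hnc : z ∉ Subgroup.center G) :
    ∃ x : G, x ≠ 1 ∧ (Subgroup.centralizer ({x} : Set G)).index ≤
      2 * Nat.card (Subgroup.centralizer ({z} : Set G)) ^ 2 := by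
  have := Fintype.ofFinite G
  obtain ⟨S, hSd⟩ : ∃ S : Finset G, S = Finset.univ.image fun g : G => g * z * g⁻¹ := ⟨_, rfl⟩
  have hSinv : ∀ s ∈ S, s * s = 1 := fun s hs => by
    rw [hSd] at hs
    obtain ⟨g, -, rfl⟩ := Finset.mem_image.mp hs
    calc g * z * g⁻¹ * (g * z * g⁻¹) = g * (z * z) * g⁻¹ := by group
      _ = 1 := by rw [hz]; group
  have hCpos : 0 < Nat.card (Subgroup.centralizer ({z} : Set G)) := Nat.card_pos
  have hScard : Nat.card G ≤ Nat.card (Subgroup.centralizer ({z} : Set G)) * S.card := by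
    rw [Nat.card_eq_fintype_card, ← Finset.card_univ]
    refine Finset.card_le_mul_card_image_of_maps_to (f := fun g : G => g * z * g⁻¹)
      (fun g hg => hSd ▸ Finset.mem_image_of_mem _ hg) _ fun s hs => ?_
    rw [hSd] at hs
    obtain ⟨g₀, -, rfl⟩ := Finset.mem_image.mp hs
    rw [Nat.card_eq_fintype_card, ← Finset.card_univ]
    refine Finset.card_le_card_of_injOn (fun g => if h : g₀⁻¹ * g ∈ Subgroup.centralizer ({z} : Set G) then
      (⟨_, h⟩ : Subgroup.centralizer ({z} : Set G)) else 1) (fun _ _ => Finset.mem_univ _) fun g hg g' hg' h => ?_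
    have key : ∀ k, k ∈ Finset.univ.filter (fun g : G => g * z * g⁻¹ = g₀ * z * g₀⁻¹) →
        g₀⁻¹ * k ∈ Subgroup.centralizer ({z} : Set G) := fun k hk => by
      rw [Subgroup.mem_centralizer_singleton_iff, ← mul_inv_eq_iff_eq_mul]
      calc g₀⁻¹ * k * z * (g₀⁻¹ * k)⁻¹ = g₀⁻¹ * (k * z * k⁻¹) * g₀ := by group
        _ = z := by rw [(Finset.mem_filter.mp hk).2]; group
    simp only [dif_pos (key g hg), dif_pos (key g' hg')] at h
    exact mul_left_cancel (congrArg Subtype.val h)
  have h2 : 2 ≤ S.card := by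
    obtain ⟨g, hg⟩ : ∃ g, g * z * g⁻¹ ≠ z := by
      by_contra! h
      exact hnc (Subgroup.mem_center_iff.mpr fun g => mul_inv_eq_iff_eq_mul.mp (h g))
    refine Finset.one_lt_card.mpr ⟨z, ?_, g * z * g⁻¹, ?_, hg.symm⟩
    · rw [hSd]; exact Finset.mem_image.mpr ⟨1, Finset.mem_univ _, by simp⟩
    · rw [hSd]; exact Finset.mem_image.mpr ⟨g, Finset.mem_univ _, rfl⟩
  obtain ⟨D, hDd⟩ : ∃ D : Finset (G × G), D = (S ×ˢ S).filter fun q => q.1 ≠ q.2 := ⟨_, rfl⟩
  have hD : D.card + S.card = S.card * S.card := by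
    rw [hDd, ← Finset.card_product S S,
      ← Finset.card_filter_add_card_filter_not (s := S ×ˢ S) (fun q => q.1 ≠ q.2)]
    congr 1
    refine Finset.card_bij (fun s _ => (s, s)) (fun s hs => ?_) (fun a _ b _ h => (Prod.ext_iff.mp h).1)
      (fun q hq => ?_)
    · exact Finset.mem_filter.mpr ⟨Finset.mem_product.mpr ⟨hs, hs⟩, by simp⟩
    · obtain ⟨h1, h2⟩ := Finset.mem_filter.mp hq
      push Not at h2
      exact ⟨q.1, (Finset.mem_product.mp h1).1, Prod.ext rfl h2⟩
  have hDpos : 0 < D.card := by nlinarith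
  obtain ⟨R, hRd⟩ : ∃ R : Finset G, R = D.image fun q => q.1 * q.2 := ⟨_, rfl⟩
  have hR : R.Nonempty := hRd ▸ (Finset.card_pos.mp hDpos).image _
  obtain ⟨x, hxR, hmax⟩ := Finset.exists_max_image R
    (fun x => (D.filter fun q => q.1 * q.2 = x).card) hR
  refine ⟨x, ?_, ?_⟩
  · rw [hRd] at hxR
    obtain ⟨q, hq, rfl⟩ := Finset.mem_image.mp hxR
    rw [hDd] at hq
    obtain ⟨hq1, hq2⟩ := Finset.mem_filter.mp hq
    intro h
    refine hq2 ?_
    rw [← mul_one q.1, ← hSinv q.2 (Finset.mem_product.mp hq1).2, ← mul_assoc, h, one_mul]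
  have hfib : (D.filter fun q => q.1 * q.2 = x).card ≤ Nat.card (Subgroup.centralizer ({x} : Set G)) := by
    rcases (D.filter fun q => q.1 * q.2 = x).eq_empty_or_nonempty with h | ⟨q₀, hq₀⟩
    · rw [h]; simp
    have hinv : ∀ q ∈ D.filter (fun q => q.1 * q.2 = x),
        q.1 * q.1 = 1 ∧ q.1 * x * q.1 = x⁻¹ ∧ q.2 = q.1 * x := by
      intro q hq
      obtain ⟨hq1, rfl⟩ := Finset.mem_filter.mp hq
      rw [hDd] at hq1
      obtain ⟨m1, m2⟩ := Finset.mem_product.mp (Finset.mem_filter.mp hq1).1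
      refine ⟨hSinv _ m1, ?_, ?_⟩
      · rw [mul_inv_rev, inv_eq_of_mul_eq_one_right (hSinv _ m1), inv_eq_of_mul_eq_one_right (hSinv _ m2),
          ← mul_assoc, hSinv _ m1, one_mul]
      · rw [← mul_assoc, hSinv _ m1, one_mul]
    obtain ⟨e1, e2, -⟩ := hinv q₀ hq₀
    rw [Nat.card_eq_fintype_card, ← Finset.card_univ]
    refine Finset.card_le_card_of_injOn (fun q => if h : q₀.1 * q.1 ∈ Subgroup.centralizer ({x} : Set G) then
      (⟨_, h⟩ : Subgroup.centralizer ({x} : Set G)) else 1) (fun _ _ => Finset.mem_univ _) fun q hq q' hq' h => ?_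
    have key : ∀ q ∈ D.filter (fun q => q.1 * q.2 = x),
        q₀.1 * q.1 ∈ Subgroup.centralizer ({x} : Set G) := fun q hq => by
      obtain ⟨d1, d2, -⟩ := hinv q hq
      rw [Subgroup.mem_centralizer_singleton_iff, ← mul_inv_eq_iff_eq_mul, mul_inv_rev,
        inv_eq_of_mul_eq_one_right d1, inv_eq_of_mul_eq_one_right e1]
      calc q₀.1 * q.1 * x * (q.1 * q₀.1) = q₀.1 * (q.1 * x * q.1) * q₀.1 := by group
        _ = (q₀.1⁻¹ * x * q₀.1⁻¹)⁻¹ := by rw [d2]; group
        _ = x := by rw [inv_eq_of_mul_eq_one_right e1, e2, inv_inv]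
    simp only [dif_pos (key q hq), dif_pos (key q' hq')] at h
    have h1 : q.1 = q'.1 := mul_left_cancel (congrArg Subtype.val h)
    exact Prod.ext h1 (by rw [(hinv q hq).2.2, (hinv q' hq').2.2, h1])
  have hsum : D.card ≤ Nat.card (Subgroup.centralizer ({x} : Set G)) * Nat.card G := by
    refine le_trans (Finset.card_le_mul_card_image_of_maps_to (f := fun q : G × G => q.1 * q.2)
      (fun q hq => hRd ▸ Finset.mem_image_of_mem _ hq) (Nat.card (Subgroup.centralizer ({x} : Set G)))
      fun y hy => (hmax y hy).trans hfib) ?_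
    rw [Nat.card_eq_fintype_card (α := G), ← Finset.card_univ]
    exact Nat.mul_le_mul_left _ (Finset.card_le_univ _)
  have hxc := Subgroup.card_mul_index (Subgroup.centralizer ({x} : Set G))
  have hxpos : 0 < Nat.card (Subgroup.centralizer ({x} : Set G)) := Nat.card_pos
  have hGpos : 0 < Nat.card G := Nat.card_pos
  set c := Nat.card (Subgroup.centralizer ({z} : Set G))
  set cx := Nat.card (Subgroup.centralizer ({x} : Set G))
  set g := Nat.card G
  set t := S.card
  set i := (Subgroup.centralizer ({x} : Set G)).index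
  have h3 : t * t ≤ 2 * D.card := by nlinarith
  have h4 : g * g ≤ c * c * (2 * (cx * g)) := by
    calc g * g ≤ c * t * (c * t) := Nat.mul_le_mul hScard hScard
      _ = c * c * (t * t) := by ring
      _ ≤ c * c * (2 * (cx * g)) := Nat.mul_le_mul_left _ (h3.trans (Nat.mul_le_mul_left _ hsum))
  have h5 : cx * g * i ≤ cx * g * (2 * c ^ 2) := by
    calc cx * g * i = g * g := by rw [← hxc]; ring
      _ ≤ c * c * (2 * (cx * g)) := h4
      _ = cx * g * (2 * c ^ 2) := by ring
  exact Nat.le_of_mul_le_mul_left h5 (Nat.mul_pos hxpos hGpos)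

/-- An abelian normal subgroup is small. -/
theorem card_abelian_normal_le {b a : ℕ} {N : Subgroup G} [N.Normal] (hN : ∀ x ∈ N, ∀ y ∈ N, x * y = y * x)
    {u v : G} (hu : u * u = 1) (hv : v * v = 1) (huv : u * v = v * u)
    (hcu : Nat.card (Subgroup.centralizer ({u} : Set G)) ≤ b)
    (hcv : Nat.card (Subgroup.centralizer ({v} : Set G)) ≤ b)
    (hcw : Nat.card (Subgroup.centralizer ({u * v} : Set G)) ≤ b)
    (ha : (Nat.card G).factorization 2 ≤ a) : Nat.card N ≤ b ^ 4 * 2 ^ a := by
  have := Fintype.ofFinite G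
  letI : CommGroup N := { (inferInstance : Group N) with mul_comm := fun x y => Subtype.ext (hN _ x.2 _ y.2) }
  have hw : u * v * (u * v) = 1 := by
    calc u * v * (u * v) = u * (v * u) * v := by group
      _ = u * u * (v * v) := by rw [← huv]; group
      _ = 1 := by rw [hu, hv, one_mul]
  -- conjugation maps
  obtain ⟨cj, hcj⟩ : ∃ cj : G → N → N, ∀ g (n : N), ((cj g n : N) : G) = g * (n : G) * g⁻¹ :=
    ⟨fun g n => ⟨_, ‹N.Normal›.conj_mem n n.2 g⟩, fun g n => rfl⟩
  have hcjm : ∀ g (m n : N), cj g (m * n) = cj g m * cj g n := fun g m n => Subtype.ext (by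
    simp only [hcj, Subgroup.coe_mul]; group)
  have hcjc : ∀ g h (n : N), cj g (cj h n) = cj (g * h) n := fun g h n => Subtype.ext (by
    simp only [hcj]; group)
  have hcj1 : ∀ n : N, cj 1 n = n := fun n => Subtype.ext (by simp [hcj])
  obtain ⟨ν, hν⟩ : ∃ ν : N → N, ν = fun n => n * cj u n * cj v n * cj (u * v) n := ⟨_, rfl⟩
  have hmul : ∀ m n : N, ν (m * n) = ν m * ν n := fun m n => by
    simp only [hν, hcjm]; ac_rfl
  have hinu : ∀ n : N, cj u (n * cj u n) = n * cj u n := fun n => by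
    rw [hcjm, hcjc, hu, hcj1]; exact mul_comm _ _
  have hinv : ∀ n : N, cj v (n * cj v n) = n * cj v n := fun n => by
    rw [hcjm, hcjc, hv, hcj1]; exact mul_comm _ _
  have hinw : ∀ n : N, cj (u * v) (n * cj (u * v) n) = n * cj (u * v) n := fun n => by
    rw [hcjm, hcjc, hw, hcj1]; exact mul_comm _ _
  have hinν : ∀ n : N, cj u (ν n) = ν n := fun n => by
    simp only [hν, hcjm, hcjc, hu, hcj1]
    rw [← mul_assoc u u v, hu, one_mul]
    ac_rfl
  have hfix : ∀ g (n : N), cj g n = n → (n : G) ∈ Subgroup.centralizer ({g} : Set G) := fun g n h =>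
    Subgroup.mem_centralizer_singleton_iff.mpr (by
      have h1 := congrArg Subtype.val h
      rw [hcj] at h1
      exact (mul_inv_eq_iff_eq_mul.mp h1).symm)
  obtain ⟨Φ, hΦ⟩ : ∃ Φ : N → Subgroup.centralizer ({u} : Set G) × Subgroup.centralizer ({v} : Set G) ×
      Subgroup.centralizer ({u * v} : Set G) × Subgroup.centralizer ({u} : Set G),
      Φ = fun n => (⟨_, hfix u _ (hinu n)⟩, ⟨_, hfix v _ (hinv n)⟩, ⟨_, hfix (u * v) _ (hinw n)⟩,
        ⟨_, hfix u _ (hinν n)⟩) := ⟨_, rfl⟩
  have hdet : ∀ m n : N, Φ m = Φ n → (m * n⁻¹) ^ 2 = 1 := by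
    intro m n h
    simp only [hΦ, Prod.mk.injEq, Subtype.mk.injEq, SetLike.coe_eq_coe] at h
    obtain ⟨h1, h2, h3, h4⟩ := h
    have e : ∀ k : N, (k * cj u k) * (k * cj v k) * (k * cj (u * v) k) = k ^ 2 * ν k := fun k => by
      simp only [hν, pow_two]; ac_rfl
    have h5 : m ^ 2 * ν m = n ^ 2 * ν n := by rw [← e, ← e, h1, h2, h3]
    rw [h4] at h5
    rw [mul_pow, mul_right_cancel h5, inv_pow, mul_inv_cancel]
  obtain ⟨T, hT⟩ : ∃ T : Subgroup N, T = (powMonoidHom 2 : N →* N).ker := ⟨_, rfl⟩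
  have hT2 : Nat.card T ≤ 2 ^ a := by
    have := Fact.mk Nat.prime_two
    have hp : IsPGroup 2 T := fun t => ⟨1, Subtype.ext (by
      have h : (t : N) ∈ (powMonoidHom 2 : N →* N).ker := hT.le t.2
      simpa using h)⟩
    obtain ⟨j, hj⟩ := hp.exists_card_eq
    rw [hj]
    refine Nat.pow_le_pow_right two_pos (le_trans ?_ ha)
    refine (Nat.Prime.pow_dvd_iff_le_factorization Nat.prime_two Nat.card_pos.ne').mp ?_
    rw [← hj]
    exact (Subgroup.card_subgroup_dvd_card T).trans (Subgroup.card_subgroup_dvd_card N)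
  have hb4 : Nat.card (Subgroup.centralizer ({u} : Set G) × Subgroup.centralizer ({v} : Set G) ×
      Subgroup.centralizer ({u * v} : Set G) × Subgroup.centralizer ({u} : Set G)) ≤ b ^ 4 := by
    rw [Nat.card_prod, Nat.card_prod, Nat.card_prod, show b ^ 4 = b * (b * (b * b)) by ring]
    gcongr
  have key : Nat.card N ≤ Nat.card T * Nat.card (Subgroup.centralizer ({u} : Set G) ×
      Subgroup.centralizer ({v} : Set G) × Subgroup.centralizer ({u * v} : Set G) ×
      Subgroup.centralizer ({u} : Set G)) := by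
    rw [Nat.card_eq_fintype_card, ← Finset.card_univ]
    refine (Finset.card_le_mul_card_image_of_maps_to (f := Φ) (t := Finset.univ.image Φ)
      (fun n hn => Finset.mem_image_of_mem _ hn) (Nat.card T) fun q hq => ?_).trans ?_
    · obtain ⟨n₀, -, rfl⟩ := Finset.mem_image.mp hq
      rw [Nat.card_eq_fintype_card, ← Finset.card_univ]
      refine Finset.card_le_card_of_injOn
        (fun n => if h : n * n₀⁻¹ ∈ T then (⟨_, h⟩ : T) else 1) (fun _ _ => Finset.mem_univ _)
        fun n hn n' hn' h => ?_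
      have k : ∀ n, n ∈ Finset.univ.filter (fun a => Φ a = Φ n₀) → n * n₀⁻¹ ∈ T := fun n hn => by
        rw [hT]; exact hdet n n₀ (Finset.mem_filter.mp hn).2
      simp only [dif_pos (k n hn), dif_pos (k n' hn')] at h
      exact mul_right_cancel (congrArg Subtype.val h)
    · refine Nat.mul_le_mul_left _ ((Finset.card_le_univ _).trans (le_of_eq ?_))
      exact Nat.card_eq_fintype_card.symm
  calc Nat.card N ≤ _ := key
    _ ≤ 2 ^ a * b ^ 4 := Nat.mul_le_mul hT2 hb4
    _ = _ := mul_comm _ _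

/-- Two commuting involutions and their product cannot all invert. -/
theorem exists_fixed {N : Subgroup G} [N.Normal] (hN : Odd (Nat.card N)) (hne : N ≠ ⊥) {u v : G}
    (hu : u * u = 1) (hv : v * v = 1) (huv : u * v = v * u) :
    ∃ n ∈ N, n ≠ 1 ∧ (Commute n u ∨ Commute n v ∨ Commute n (u * v)) := by
  by_contra! hcon
  have hinv : ∀ z : G, z * z = 1 → (∀ n ∈ N, n ≠ 1 → ¬ Commute n z) → ∀ n ∈ N, z * n * z = n⁻¹ := by
    intro z hz hfree
    have hzi : z⁻¹ = z := inv_eq_of_mul_eq_one_right hz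
    obtain ⟨F, hF⟩ : ∃ F : N → N, ∀ n : N, ((F n : N) : G) = (n : G)⁻¹ * (z * (n : G) * z) :=
      ⟨fun n => ⟨_, mul_mem (inv_mem n.2) (by have := ‹N.Normal›.conj_mem n n.2 z; rwa [hzi] at this)⟩, fun n => rfl⟩
    have hinj : Function.Injective F := fun m n h => by
      have h1 := congrArg Subtype.val h
      rw [hF, hF] at h1
      refine Subtype.ext (mul_inv_eq_one.mp ?_)
      by_contra hne'
      refine hfree _ (mul_mem m.2 (inv_mem n.2)) hne' (show _ * z = z * _ from ?_)
      have h2 : z * (m : G) * z = (m : G) * ((n : G)⁻¹ * (z * (n : G) * z)) := by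
        rw [← h1, mul_inv_cancel_left]
      calc (m : G) * (n : G)⁻¹ * z = (m : G) * ((n : G)⁻¹ * (z * (n : G) * z)) * (z⁻¹ * (n : G)⁻¹) := by group
        _ = z * (m : G) * z * (z⁻¹ * (n : G)⁻¹) := by rw [h2]
        _ = z * ((m : G) * (n : G)⁻¹) := by group
    intro n hn
    obtain ⟨m, hm⟩ := Finite.injective_iff_surjective.mp hinj ⟨n, hn⟩
    have hnm : n = (m : G)⁻¹ * (z * (m : G) * z) := by rw [← hF, hm]
    rw [hnm, mul_inv_rev, inv_inv, mul_inv_rev, mul_inv_rev, hzi]
    calc z * ((m : G)⁻¹ * (z * (m : G) * z)) * z = z * (m : G)⁻¹ * z * (m : G) * (z * z) := by group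
      _ = _ := by rw [hz]; group
  obtain ⟨n, hn, hn1⟩ := (Subgroup.ne_bot_iff_exists_ne_one.mp hne : ∃ n : N, n ≠ 1) |> fun ⟨n, h⟩ =>
    (⟨(n : G), n.2, fun h' => h (Subtype.ext h')⟩ : ∃ n ∈ N, n ≠ (1 : G))
  have iu := hinv u hu fun m hm h1 => (hcon m hm h1).1
  have iv := hinv v hv fun m hm h1 => (hcon m hm h1).2.1
  have iw := hinv (u * v) (by
    calc u * v * (u * v) = u * (v * u) * v := by group
      _ = u * u * (v * v) := by rw [← huv]; group
      _ = 1 := by rw [hu, hv, one_mul]) (fun m hm h1 => (hcon m hm h1).2.2) n hn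
  have h3 : u * v * n * (u * v) = n := by
    calc u * v * n * (u * v) = u * (v * n * (u * v)) := by group
      _ = u * (v * n * (v * u)) := by rw [huv]
      _ = u * (v * n * v) * u := by group
      _ = u * n⁻¹ * u := by rw [iv n hn]
      _ = n := by rw [iu n⁻¹ (inv_mem hn), inv_inv]
  rw [h3] at iw
  have h2 : orderOf n ∣ 2 := orderOf_dvd_of_pow_eq_one (by rw [pow_two]; nth_rw 2 [iw]; exact mul_inv_cancel n)
  have h4 : orderOf (⟨n, hn⟩ : N) ∣ Nat.card N := orderOf_dvd_natCard _
  rw [Subgroup.orderOf_mk] at h4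
  rcases (Nat.dvd_prime Nat.prime_two).mp h2 with h | h
  · exact hn1 (orderOf_eq_one_iff.mp h)
  · rw [h] at h4
    exact Nat.not_even_iff_odd.mpr hN (even_iff_two_dvd.mpr h4)

/-- **A four-group with small centralisers bounds the group.** -/
theorem four_bound (b a : ℕ) : ∃ N : ℕ, ∀ (G : Type u) [Group G] [Finite G] (u v : G), u * u = 1 → v * v = 1 →
    u * v = v * u → Nat.card (Subgroup.centralizer ({u} : Set G)) ≤ b →
    Nat.card (Subgroup.centralizer ({v} : Set G)) ≤ b →
    Nat.card (Subgroup.centralizer ({u * v} : Set G)) ≤ b →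
    (Nat.card G).factorization 2 ≤ a → Nat.card G ≤ N := by
  obtain ⟨L, hLd⟩ : ∃ L : ℕ, L = b ^ 4 * 2 ^ a + (2 * b ^ 2).factorial + b + 1 := ⟨_, rfl⟩
  refine ⟨L ^ (a * (b ^ 3 + 1) + b ^ 3 + 1), fun G _ _ u v hu hv huv hcu hcv hcw ha => ?_⟩
  suffices main : ∀ m : ℕ, ∀ (G : Type u) [Group G] [Finite G] (u v : G), u * u = 1 → v * v = 1 → u * v = v * u →
      Nat.card (Subgroup.centralizer ({u} : Set G)) ≤ b → Nat.card (Subgroup.centralizer ({v} : Set G)) ≤ b →
      Nat.card (Subgroup.centralizer ({u * v} : Set G)) ≤ b → (Nat.card G).factorization 2 ≤ a →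
      (Nat.card G).factorization 2 * (b ^ 3 + 1) + Nat.card (Subgroup.centralizer ({u} : Set G)) *
        Nat.card (Subgroup.centralizer ({v} : Set G)) * Nat.card (Subgroup.centralizer ({u * v} : Set G)) ≤ m →
      Nat.card G ≤ L ^ (m + 1) by
    refine main _ G u v hu hv huv hcu hcv hcw ha (add_le_add (Nat.mul_le_mul_right _ ha) ?_)
    rw [show b ^ 3 = b * b * b by ring]
    gcongr
  intro m
  induction m using Nat.strong_induction_on with
  | _ m ih =>
  intro G _ _ u v hu hv huv hcu hcv hcw ha hm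
  have := Fintype.ofFinite G
  by_cases huc : u ∈ Subgroup.center G
  · have htop : Subgroup.centralizer ({u} : Set G) = ⊤ := eq_top_iff.mpr fun g _ =>
      Subgroup.mem_centralizer_singleton_iff.mpr (Subgroup.mem_center_iff.mp huc g)
    rw [htop, Subgroup.card_top] at hcu
    exact hcu.trans ((show b ≤ L by rw [hLd]; omega).trans (Nat.le_self_pow (by omega) L))
  -- a nontrivial normal subgroup of bounded order
  obtain ⟨N, hNn, hNne, hNcard⟩ : ∃ N : Subgroup G, N.Normal ∧ N ≠ ⊥ ∧ Nat.card N ≤ L := by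
    obtain ⟨x, hx1, hx⟩ := exists_small_class hu huc
    obtain ⟨K, hK⟩ : ∃ K : Subgroup G, K = Subgroup.normalClosure {x} := ⟨_, rfl⟩
    have hKn : K.Normal := hK ▸ Subgroup.normalClosure_normal
    obtain ⟨C, hC⟩ : ∃ C : Subgroup G, C = Subgroup.centralizer (K : Set G) := ⟨_, rfl⟩
    have hCn : C.Normal := by rw [hC]; infer_instance
    by_cases hne : K ⊓ C = ⊥
    · refine ⟨K, hKn, fun h => hx1 ?_, ?_⟩
      · have : x ∈ K := hK ▸ Subgroup.subset_normalClosure rfl
        rwa [h, Subgroup.mem_bot] at this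
      let ρ : K →* Equiv.Perm (G ⧸ Subgroup.centralizer ({x} : Set G)) :=
        (MulAction.toPermHom G _).comp K.subtype
      have hinj : Function.Injective ρ := (injective_iff_map_eq_one ρ).mpr fun k hk => by
        have hkC : (k : G) ∈ C := by
          have h0 : Subgroup.normalClosure {x} ≤ Subgroup.centralizer ({(k : G)} : Set G) := by
            refine (Subgroup.closure_le _).mpr fun y hy => ?_
            obtain ⟨g, hg⟩ := isConj_iff.mp (Group.mem_conjugatesOfSet_iff.mp hy |> fun ⟨a, ha, hc⟩ =>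
              (Set.mem_singleton_iff.mp ha ▸ hc))
            have h1 := DFunLike.congr_fun hk ((g : G) : G ⧸ Subgroup.centralizer ({x} : Set G))
            change (k : G) • ((g : G) : G ⧸ Subgroup.centralizer ({x} : Set G)) = ((g : G) : G ⧸ _) at h1
            rw [MulAction.Quotient.smul_coe, smul_eq_mul, QuotientGroup.eq] at h1
            have h2 := Subgroup.mem_centralizer_singleton_iff.mp h1
            refine Subgroup.mem_centralizer_singleton_iff.mpr ?_
            rw [← hg]
            calc g * x * g⁻¹ * (k : G)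
                = (k : G) * g * (((k : G) * g)⁻¹ * g * x) * (((k : G) * g)⁻¹ * g)⁻¹ * g⁻¹ := by group
              _ = (k : G) * (g * x * g⁻¹) := by rw [h2]; group
          rw [hC]
          exact Subgroup.mem_centralizer_iff.mpr fun y hy => Subgroup.mem_centralizer_singleton_iff.mp (h0 (hK.le hy))
        have : (k : G) ∈ K ⊓ C := ⟨k.2, hkC⟩
        rw [hne, Subgroup.mem_bot] at this
        exact Subtype.ext this
      have h1 := Nat.card_le_card_of_injective ρ hinj
      rw [Nat.card_perm, ← Subgroup.index] at h1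
      have hle : (2 * b ^ 2).factorial ≤ L := by rw [hLd]; omega
      refine h1.trans ((Nat.factorial_le (hx.trans ?_)).trans hle)
      gcongr
    · have hA : ∀ y ∈ K ⊓ C, ∀ z ∈ K ⊓ C, y * z = z * y := fun y hy z hz => by
        have h := hz.2
        rw [hC] at h
        exact Subgroup.mem_centralizer_iff.mp h y hy.1
      refine ⟨K ⊓ C, inferInstance, hne, ?_⟩
      exact (card_abelian_normal_le hA hu hv huv hcu hcv hcw ha).trans (by rw [hLd]; omega)
  have hlt : ∃ m', m' < m ∧ Nat.card (G ⧸ N) ≤ L ^ (m' + 1) := by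
    have hcard : Nat.card G = Nat.card (G ⧸ N) * Nat.card N := Subgroup.card_eq_card_quotient_mul_card_subgroup N
    have hfac : (Nat.card G).factorization 2 = (Nat.card (G ⧸ N)).factorization 2 + (Nat.card N).factorization 2 := by
      rw [hcard, Nat.factorization_mul Nat.card_pos.ne' Nat.card_pos.ne']; rfl
    have hqu : (u : G ⧸ N) * u = 1 := by rw [← QuotientGroup.mk_mul, hu]; rfl
    have hqv : (v : G ⧸ N) * v = 1 := by rw [← QuotientGroup.mk_mul, hv]; rfl
    have hquv : (u : G ⧸ N) * v = v * u := by rw [← QuotientGroup.mk_mul, huv, QuotientGroup.mk_mul]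
    have hqw : ((u * v : G) : G ⧸ N) = (u : G ⧸ N) * v := QuotientGroup.mk_mul _ _ _
    have lu := card_centralizer_mk_le N u
    have lv := card_centralizer_mk_le N v
    have lw := card_centralizer_mk_le N (u * v)
    rw [hqw] at lw
    refine ⟨(Nat.card (G ⧸ N)).factorization 2 * (b ^ 3 + 1) +
      Nat.card (Subgroup.centralizer ({(u : G ⧸ N)} : Set (G ⧸ N))) *
      Nat.card (Subgroup.centralizer ({(v : G ⧸ N)} : Set (G ⧸ N))) *
      Nat.card (Subgroup.centralizer ({(u : G ⧸ N) * v} : Set (G ⧸ N))), ?_⟩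
    refine and_iff_left_of_imp (fun hlt => ih _ hlt (G ⧸ N) (u : G ⧸ N) v hqu hqv hquv (lu.trans hcu)
      (lv.trans hcv) (lw.trans hcw) (by omega) le_rfl) |>.mpr (lt_of_lt_of_le ?_ hm)
    rcases Nat.even_or_odd (Nat.card N) with he | ho
    · have h2 : 0 < (Nat.card N).factorization 2 :=
        Nat.prime_two.factorization_pos_of_dvd Nat.card_pos.ne' (even_iff_two_dvd.mp he)
      have h3 : Nat.card (Subgroup.centralizer ({(u : G ⧸ N)} : Set (G ⧸ N))) *
          Nat.card (Subgroup.centralizer ({(v : G ⧸ N)} : Set (G ⧸ N))) *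
          Nat.card (Subgroup.centralizer ({(u : G ⧸ N) * v} : Set (G ⧸ N))) ≤ b ^ 3 := by
        rw [show b ^ 3 = b * b * b by ring]
        exact Nat.mul_le_mul (Nat.mul_le_mul (lu.trans hcu) (lv.trans hcv)) (lw.trans hcw)
      have h4 : ((Nat.card (G ⧸ N)).factorization 2 + 1) * (b ^ 3 + 1) ≤
          (Nat.card G).factorization 2 * (b ^ 3 + 1) := Nat.mul_le_mul_right _ (by omega)
      rw [add_mul, one_mul] at h4
      omega
    · have hfac0 : (Nat.card (G ⧸ N)).factorization 2 ≤ (Nat.card G).factorization 2 := by omega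
      refine add_lt_add_of_le_of_lt (Nat.mul_le_mul_right _ hfac0) ?_
      have pu : 0 < Nat.card (Subgroup.centralizer ({(u : G ⧸ N)} : Set (G ⧸ N))) := Nat.card_pos
      have pv : 0 < Nat.card (Subgroup.centralizer ({(v : G ⧸ N)} : Set (G ⧸ N))) := Nat.card_pos
      have pw : 0 < Nat.card (Subgroup.centralizer ({(u : G ⧸ N) * v} : Set (G ⧸ N))) := Nat.card_pos
      have hw : u * v * (u * v) = 1 := by
        calc u * v * (u * v) = u * (v * u) * v := by group
          _ = u * u * (v * v) := by rw [← huv]; group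
          _ = 1 := by rw [hu, hv, one_mul]
      obtain ⟨n, hn, hn1, h | h | h⟩ := exists_fixed ho hNne hu hv huv
      · exact Nat.mul_lt_mul_of_lt_of_le (Nat.mul_lt_mul_of_lt_of_le (card_centralizer_mk_lt N ho hu hn hn1 h) lv Nat.card_pos)
          lw Nat.card_pos
      · exact Nat.mul_lt_mul_of_lt_of_le (Nat.mul_lt_mul_of_le_of_lt lu (card_centralizer_mk_lt N ho hv hn hn1 h) Nat.card_pos)
          lw Nat.card_pos
      · have h' := card_centralizer_mk_lt N ho hw hn hn1 h
        rw [hqw] at h'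
        exact Nat.mul_lt_mul_of_le_of_lt (Nat.mul_le_mul lu lv) h' (Nat.mul_pos Nat.card_pos Nat.card_pos)
  obtain ⟨m', hm', hq⟩ := hlt
  rw [Subgroup.card_eq_card_quotient_mul_card_subgroup N]
  calc Nat.card (G ⧸ N) * Nat.card N ≤ L ^ (m' + 1) * L := Nat.mul_le_mul hq hNcard
    _ ≤ L ^ (m + 1) := by
      rw [← pow_succ]
      exact Nat.pow_le_pow_right (by omega) (by omega)

end CfsgLib.Blocks.FourGroupBound
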