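import Cfsg.Agent.Lib.Blocks.Kulshammer
import Cfsg.Agent.Lib.Blocks.FirstMain
import Mathlib.GroupTheory.Nilpotent

/-!
# Green's theorem: defect groups are Sylow intersections
-/

set_option autoImplicit false

noncomputable section

namespace CfsgLib.Blocks

open Cfsg

variable {M : Ideal AlgInt} [M.IsMaximal] {G : Type*} [Group G] [Fintype G] {p : ℕ} [hp : Fact p.Prime]

/-- The sum of the coefficients at the translates of `y` by the `q`-torsion, to the `q`-th power. -/
theorem torsionSum_pow (hM : IsPModular p M) (a : Zint M G) (y : G) (N : ℕ) [DecidableEq G] :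
    (∑ u : G, if u ^ (p ^ N) = 1 then rcoeff a (u * y) else 0) ^ (p ^ N) =
      (red a ^ (p ^ N)).coeff (y ^ (p ^ N)) := by
  classical
  have : CharP (Res M) p := res_charP M hM
  have h := coeff_one_pow_charP (p := p) (red a * MonoidAlgebra.single y⁻¹ (1 : Res M)) N
  have hc : Commute (red a) (MonoidAlgebra.single y⁻¹ (1 : Res M)) :=
    ((Subsemiring.mem_center_iff.mp (red_mem_center a)) _).symm
  rw [hc.mul_pow, MonoidAlgebra.single_pow, one_pow] at h
  rw [sum_pow_char_pow]
  have hcoef : ∀ (b : MonoidAlgebra (Res M) G) (v x : G),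
      (b * MonoidAlgebra.single v (1 : Res M)).coeff x = b.coeff (x * v⁻¹) := fun b v x => by
    simp
  rw [hcoef, inv_pow, inv_inv, one_mul] at h
  rw [h]
  refine Finset.sum_congr rfl fun u _ => ?_
  split_ifs
  · rw [hcoef, inv_inv, coeff_red]
  · exact zero_pow (pow_ne_zero _ hp.out.ne_zero)

omit [M.IsMaximal] in
/-- The fixed cosets of an element of `p`-power order, modulo `p`. -/
theorem card_fixedCosets (P : Sylow p G) {u : G} {N : ℕ} (hu : u ^ (p ^ N) = 1) :
    Nat.card {c : G ⧸ (P : Subgroup G) // u • c = c} ≡ (P : Subgroup G).index [MOD p] := by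
  have hU : IsPGroup p (Subgroup.zpowers u) := by
    rintro ⟨g, j, rfl⟩
    exact ⟨N, Subtype.ext (by
      change (u ^ j) ^ (p ^ N) = 1
      rw [← zpow_natCast, ← zpow_mul, mul_comm, zpow_mul, zpow_natCast, hu, one_zpow])⟩
  have h := hU.card_modEq_card_fixedPoints (G ⧸ (P : Subgroup G))
  refine Nat.ModEq.trans ?_ h.symm
  rw [Nat.card_congr (Equiv.subtypeEquivRight (q := fun c => c ∈ MulAction.fixedPoints (Subgroup.zpowers u) (G ⧸ (P : Subgroup G))) fun c => ?_)]
  · rw [MulAction.mem_fixedPoints]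
    refine ⟨fun hc => ?_, fun hc => hc ⟨u, Subgroup.mem_zpowers u⟩⟩
    rintro ⟨g, hg⟩
    exact (Subgroup.zpowers_le.mpr (show u ∈ MulAction.stabilizer G c from hc)) hg

/-- A coset sum of coefficients is the index times the torsion sum. -/
theorem cosetSum_eq (hM : IsPModular p M) (a : Zint M G) (y : G) (P : Sylow p G) {N : ℕ}
    (hN : (Nat.card G).factorization p ≤ N) [DecidableEq G] [Fintype (P : Subgroup G)]
    [Fintype (G ⧸ (P : Subgroup G))] :
    ∑ c : G ⧸ (P : Subgroup G), ∑ π : (P : Subgroup G), rcoeff a ((π : G) * (c.out⁻¹ * y * c.out)) =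
      ((P : Subgroup G).index : Res M) * ∑ u : G, if u ^ (p ^ N) = 1 then rcoeff a (u * y) else 0 := by
  classical
  have : CharP (Res M) p := res_charP M hM
  have h1 : ∀ c : G ⧸ (P : Subgroup G),
      ∑ π : (P : Subgroup G), rcoeff a ((π : G) * (c.out⁻¹ * y * c.out)) =
        ∑ u : G, if u • c = c then rcoeff a (u * y) else 0 := by
    intro c
    obtain ⟨g, hg⟩ : ∃ g : G, g = c.out := ⟨_, rfl⟩
    have hgc : (QuotientGroup.mk g : G ⧸ (P : Subgroup G)) = c := by rw [hg]; exact Quotient.out_eq c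
    rw [← hg, ← Finset.sum_filter]
    refine Finset.sum_bij (fun π _ => g * (π : G) * g⁻¹) (fun π _ => ?_) (fun π _ π' _ h => ?_)
      (fun u hu => ?_) (fun π _ => ?_)
    · refine Finset.mem_filter.mpr ⟨Finset.mem_univ _, ?_⟩
      rw [← hgc, MulAction.Quotient.smul_mk, QuotientGroup.eq]
      have : (g * (π : G) * g⁻¹ * g)⁻¹ * g = (π : G)⁻¹ := by group
      rw [smul_eq_mul, this]
      exact Subgroup.inv_mem _ π.2
    · exact Subtype.ext (by simpa using h)
    · have hu' := (Finset.mem_filter.mp hu).2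
      rw [← hgc, MulAction.Quotient.smul_mk, QuotientGroup.eq, smul_eq_mul] at hu'
      refine ⟨⟨g⁻¹ * u * g, ?_⟩, Finset.mem_univ _, by group⟩
      have := Subgroup.inv_mem _ hu'
      rwa [mul_inv_rev, inv_inv, ← mul_assoc] at this
    · refine rcoeff_eq_of_isConj a (isConj_iff.mpr ⟨g, ?_⟩)
      group
  rw [Finset.sum_congr rfl fun c _ => h1 c, Finset.sum_comm, Finset.mul_sum]
  refine Finset.sum_congr rfl fun u _ => ?_
  rw [← Finset.sum_filter, Finset.sum_const, nsmul_eq_mul, mul_ite, mul_zero]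
  split_ifs with hu
  · congr 1
    rw [CharP.natCast_eq_natCast (Res M) p]
    refine Eq.subst (motive := fun n => n ≡ _ [MOD p]) ?_ (card_fixedCosets P hu)
    rw [Nat.card_eq_fintype_card, Fintype.card_subtype]
  · rw [Finset.filter_false_of_mem fun c _ hc => hu ?_, Finset.card_empty, Nat.cast_zero, zero_mul]
    obtain ⟨g, rfl⟩ := QuotientGroup.mk_surjective c
    rw [MulAction.Quotient.smul_mk, QuotientGroup.eq, smul_eq_mul] at hc
    have h2 := congrArg (fun v : (P : Subgroup G) => (v : G)) (pow_card_eq_one' (x := (⟨_, hc⟩ : (P : Subgroup G))))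
    simp only [Subgroup.coe_pow, Subgroup.coe_one, P.card_eq_multiplicity] at h2
    rw [show (u * g)⁻¹ * g = g⁻¹ * u⁻¹ * g⁻¹⁻¹ by group, conj_pow, conj_eq_one_iff, inv_pow, inv_eq_one] at h2
    rw [← Nat.sub_add_cancel hN, pow_add, mul_comm, pow_mul, h2, one_pow]

/-- The block idempotent times a defect class sum has a nonvanishing coset sum. -/
theorem cosetSum_ne_zero (hM : IsPModular p M) {B : Set (IrrCharacter G)} (hB : IsPBlock M B)
    {y : G} (hy : IsDefectClass M B y) (P : Sylow p G) [Fintype (P : Subgroup G)]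
    [Fintype (G ⧸ (P : Subgroup G))] :
    ∑ c : G ⧸ (P : Subgroup G), ∑ π : (P : Subgroup G),
      rcoeff (idem hB * zclass M y) ((π : G) * (c.out⁻¹ * y * c.out)) ≠ 0 := by
  classical
  have : CharP (Res M) p := res_charP M hM
  obtain ⟨χ, hχ⟩ := IsPBlock.nonempty hB
  obtain ⟨he, hω⟩ := (isDefectClass_iff hB hχ y).mp hy
  have hreg : ¬ p ∣ orderOf y := fun h => by
    refine he ?_
    refine (rcoeff_eq_zero_iff _ _).mpr ?_
    change MemLocalIdeal M (blockCoeff B y)
    rw [blockCoeff_eq_zero hM hB h]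
    exact (res_eq_zero_iff M 0).mp (map_zero _)
  set N := (Nat.card G).factorization p + Fintype.card (IrrCharacter G)
  obtain ⟨w, hw⟩ := res_surjective M (bomega χ (zclass M y))
  set f := idem hB * zclass M y
  have hnil : ∀ η : IrrCharacter G, bomega η (f - scal M w * idem hB) = 0 := fun η => by
    rw [map_sub, map_mul, map_mul, bomega_idem, bomega_scal, hw]
    split_ifs with hη
    · rw [bomega_eq_of_mem hB hη hχ]; ring
    · ring
  have hq : Fintype.card (IrrCharacter G) ≤ p ^ N :=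
    (Nat.le_add_left _ _).trans (Nat.lt_pow_self hp.out.one_lt).le
  have hL : (∑ u : G, if u ^ (p ^ N) = 1 then rcoeff f (u * y) else 0) =
      res M w * ∑ u : G, if u ^ (p ^ N) = 1 then rcoeff (idem hB) (u * y) else 0 := by
    have h0 := torsionSum_pow hM (f - scal M w * idem hB) y N
    rw [red_pow_eq_zero hnil hq, MonoidAlgebra.coeff_zero, Finsupp.coe_zero, Pi.zero_apply] at h0
    rw [Finset.mul_sum, ← sub_eq_zero, ← Finset.sum_sub_distrib]
    refine Eq.trans (Finset.sum_congr rfl fun u _ => ?_) (eq_zero_of_pow_eq_zero h0)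
    split_ifs
    · rw [rcoeff_sub, rcoeff_scal_mul]
    · rw [mul_zero, sub_zero]
  rw [cosetSum_eq hM _ y P (Nat.le_add_right _ _), hL]
  refine mul_ne_zero (fun h => ?_) (mul_ne_zero (hw ▸ hω) fun h => ?_)
  · exact P.not_dvd_index ((CharP.cast_eq_zero_iff (Res M) p _).mp h)
  · have h0 := torsionSum_pow hM (idem hB) y N
    rw [h, zero_pow (pow_ne_zero _ hp.out.ne_zero), ← map_pow,
      IsIdempotentElem.pow_eq (idem_mul_self hB) (pow_ne_zero _ hp.out.ne_zero), coeff_red,
      rcoeff_idem_pow hM hB hreg] at h0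
    exact he (eq_zero_of_pow_eq_zero h0.symm)

/-- Every block has a defect element whose defect group is a Sylow intersection, up to conjugacy. -/
theorem exists_sylow_inter (hM : IsPModular p M) {B : Set (IrrCharacter G)} (hB : IsPBlock M B)
    {D : Subgroup G} (hD : IsDefectGroup p M B D) (P : Sylow p G) :
    ∃ v g : G, ¬ p ∣ orderOf v ∧ IsClassDefect p v (cj g D) ∧
      (P : Subgroup G) ⊓ cj v⁻¹ (P : Subgroup G) = cj g D := by
  classical
  have : CharP (Res M) p := res_charP M hM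
  obtain ⟨y, hy, hyD⟩ := isDefectGroup_iff.mp hD
  obtain ⟨χ, hχ⟩ := IsPBlock.nonempty hB
  have he := ((isDefectClass_iff hB hχ y).mp hy).1
  have hreg : ¬ p ∣ orderOf y := fun h => by
    refine he ?_
    refine (rcoeff_eq_zero_iff _ _).mpr ?_
    change MemLocalIdeal M (blockCoeff B y)
    rw [blockCoeff_eq_zero hM hB h]
    exact (res_eq_zero_iff M 0).mp (map_zero _)
  let _ := Fintype.ofFinite (P : Subgroup G)
  let _ := Fintype.ofFinite (G ⧸ (P : Subgroup G))
  set f := idem hB * zclass M y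
  set F : G → Res M := fun g => ∑ π : (P : Subgroup G), rcoeff f ((π : G) * (g⁻¹ * y * g))
  have hFP : ∀ g : G, ∀ π₀ : (P : Subgroup G), F (g * π₀) = F g := by
    intro g π₀
    refine Fintype.sum_equiv (MulAut.conj π₀).toEquiv _ _ fun π =>
      rcoeff_eq_of_isConj f (isConj_iff.mpr ⟨(π₀ : G), ?_⟩)
    simp only [MulEquiv.toEquiv_eq_coe, EquivLike.coe_coe, MulAut.conj_apply, Subgroup.coe_mul,
      InvMemClass.coe_inv]
    group
  have hFmk : ∀ g : G, F (QuotientGroup.mk g : G ⧸ (P : Subgroup G)).out = F g := by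
    intro g
    obtain ⟨h, hh⟩ := QuotientGroup.mk_out_eq_mul (P : Subgroup G) g
    rw [hh, hFP]
  have hinv : ∀ (d : D) (c : G ⧸ (P : Subgroup G)), F (d • c).out = F c.out := by
    intro d c
    obtain ⟨g, rfl⟩ := QuotientGroup.mk_surjective c
    rw [show d • (QuotientGroup.mk g : G ⧸ (P : Subgroup G)) = QuotientGroup.mk ((d : G) * g) from rfl,
      hFmk, hFmk]
    have hd : (d : G)⁻¹ * y * d = y := by
      rw [mul_assoc, ← Subgroup.mem_centralizer_iff.mp hyD.mem_centralizer d d.2, inv_mul_cancel_left]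
    simp only [F]
    rw [show ((d : G) * g)⁻¹ * y * ((d : G) * g) = g⁻¹ * ((d : G)⁻¹ * y * d) * g by group, hd]
  have hne : ∑ c : G ⧸ (P : Subgroup G), F c.out ≠ 0 := cosetSum_ne_zero hM hB hy P
  rw [sum_eq_sum_fixedPoints hyD.isPGroup _ hinv] at hne
  obtain ⟨c, hc, hFc⟩ := Finset.exists_ne_zero_of_sum_ne_zero hne
  obtain ⟨g, hg⟩ : ∃ g : G, g = c.out := ⟨_, rfl⟩
  rw [← hg] at hFc
  obtain ⟨v, hv⟩ : ∃ v : G, v = g⁻¹ * y * g := ⟨_, rfl⟩
  set D' := cj g⁻¹ D with hD'
  have hvD : IsClassDefect p v D' := by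
    have h := hyD.conj g⁻¹
    rwa [inv_inv, ← hv] at h
  have hD'P : D' ≤ P := by
    intro t ht
    rw [hD', mem_cj, inv_inv] at ht
    have h := (Finset.mem_filter.mp hc).2 ⟨g * t * g⁻¹, ht⟩
    have hgc : (QuotientGroup.mk g : G ⧸ (P : Subgroup G)) = c := by rw [hg]; exact Quotient.out_eq c
    rw [← hgc] at h
    have h' : (QuotientGroup.mk (g * t * g⁻¹ * g) : G ⧸ (P : Subgroup G)) = QuotientGroup.mk g := h
    rw [QuotientGroup.eq] at h'
    have h'' := Subgroup.inv_mem _ h'
    simpa [mul_assoc] using h''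
  set Q := (P : Subgroup G) ⊓ cj v⁻¹ (P : Subgroup G)
  have hQp : IsPGroup p Q := P.isPGroup'.to_le inf_le_left
  have hD'Q : D' ≤ Q := fun t ht => ⟨hD'P ht, mem_cj.mpr (by
    rw [inv_inv, ← Subgroup.mem_centralizer_iff.mp hvD.mem_centralizer t ht, mul_inv_cancel_right]
    exact hD'P ht)⟩
  let _ : MulAction Q (P : Subgroup G) :=
    { smul := fun x π => ⟨(x : G) * π * (v * (x : G)⁻¹ * v⁻¹), Subgroup.mul_mem _
        (Subgroup.mul_mem _ x.2.1 π.2) (by
          have := Subgroup.inv_mem _ (mem_cj.mp x.2.2)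
          simpa [mul_assoc] using this)⟩
      one_smul := fun π => Subtype.ext (by
        change ((1 : Q) : G) * π * (v * ((1 : Q) : G)⁻¹ * v⁻¹) = π
        simp)
      mul_smul := fun a b π => Subtype.ext (by
        change ((a * b : Q) : G) * π * (v * ((a * b : Q) : G)⁻¹ * v⁻¹) =
          (a : G) * ((b : G) * π * (v * (b : G)⁻¹ * v⁻¹)) * (v * (a : G)⁻¹ * v⁻¹)
        push_cast; group) }
  have hQf : ∀ (x : Q) (π : (P : Subgroup G)),
      rcoeff f (((x • π : (P : Subgroup G)) : G) * v) = rcoeff f ((π : G) * v) := by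
    intro x π
    change rcoeff f ((x : G) * π * (v * (x : G)⁻¹ * v⁻¹) * v) = _
    refine (rcoeff_eq_of_isConj f (isConj_iff.mpr ⟨(x : G), ?_⟩)).symm
    group
  simp only [F, ← hv] at hFc
  rw [sum_eq_sum_fixedPoints hQp _ hQf] at hFc
  obtain ⟨π, hπ, hfπ⟩ := Finset.exists_ne_zero_of_sum_ne_zero hFc
  have hπC : (π : G) * v ∈ Subgroup.centralizer (Q : Set G) := Subgroup.mem_centralizer_iff.mpr fun x hx => by
    have h := congrArg Subtype.val ((Finset.mem_filter.mp hπ).2 ⟨x, hx⟩)
    change x * π * (v * x⁻¹ * v⁻¹) = π at h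
    calc x * (π * v) = x * π * (v * x⁻¹ * v⁻¹) * v * x := by group
      _ = π * v * x := by rw [h]
  rw [rcoeff_mul_centralizer hM hQp _ _ hπC] at hfπ
  obtain ⟨h, -, hh⟩ := Finset.exists_ne_zero_of_sum_ne_zero hfπ
  obtain ⟨hhC, hh'⟩ : h ∈ Subgroup.centralizer (Q : Set G) ∧
      rcoeff (idem hB) h * rcoeff (zclass M y) (h⁻¹ * (π * v)) ≠ 0 := by
    split_ifs at hh with hC
    · exact ⟨hC, hh⟩
    · exact absurd rfl hh
  obtain ⟨x, hx⟩ := cj_le_defect_of_rcoeff_ne_zero hM hB hD hQp hhC (left_ne_zero_of_mul hh')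
  refine ⟨v, g⁻¹, ?_, hvD, (Subgroup.eq_of_le_of_card_ge hD'Q ?_).symm⟩
  · rwa [hv, show g⁻¹ * y * g = MulAut.conj g⁻¹ y by simp, MulEquiv.orderOf_eq]
  · rw [hD', card_cj]
    exact card_le_of_cj_le hx

/-- **Green.** A defect group is the intersection of any Sylow subgroup containing it with a conjugate. -/
theorem green_sylow_inter (hM : IsPModular p M) {B : Set (IrrCharacter G)} (hB : IsPBlock M B)
    {D : Subgroup G} (hD : IsDefectGroup p M B D) (P : Sylow p G) (hDP : D ≤ P) :
    ∃ x : G, ¬ p ∣ orderOf x ∧ IsClassDefect p x D ∧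
      (P : Subgroup G) ⊓ cj x (P : Subgroup G) = D := by
  classical
  have hDp : IsPGroup p D := IsDefectGroup.isPGroup hD
  obtain ⟨Nn, hNn⟩ : ∃ Nn : Subgroup G, Nn = Subgroup.normalizer (D : Set G) := ⟨_, rfl⟩
  let _ := Fintype.ofFinite ↥(Subgroup.normalizer (D : Set G))
  have hDn : (D.subgroupOf (Subgroup.normalizer (D : Set G))).Normal :=
    (Subgroup.normal_subgroupOf_iff_le_normalizer Subgroup.le_normalizer).mpr le_rfl
  obtain ⟨b, ⟨hb, hbD, -⟩, -⟩ := existsUnique_inducing_with_defect hM hDp hB hD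
  obtain ⟨S, hS⟩ := (P.isPGroup'.comap_subtype (K := Subgroup.normalizer (D : Set G))).exists_le_sylow
  obtain ⟨v, g, hv, hvD, hvS⟩ := exists_sylow_inter hM hb hbD S
  have hcj : cj g (D.subgroupOf (Subgroup.normalizer (D : Set G))) =
      D.subgroupOf (Subgroup.normalizer (D : Set G)) := Subgroup.ext fun t => by
    rw [mem_cj]
    refine ⟨fun h => ?_, fun h => ?_⟩
    · simpa [mul_assoc] using hDn.conj_mem _ h g
    · simpa [mul_assoc] using hDn.conj_mem _ h g⁻¹
  rw [hcj] at hvD hvS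
  have hCD : (v : G) ∈ Subgroup.centralizer (D : Set G) := Subgroup.mem_centralizer_iff.mpr fun t ht => by
    have := Subgroup.mem_centralizer_iff.mp hvD.mem_centralizer ⟨t, Subgroup.le_normalizer ht⟩
      (Subgroup.mem_subgroupOf.mpr ht)
    exact congrArg Subtype.val this
  have hclass : IsClassDefect p (v : G) D := isClassDefect_lift v hvD
  refine ⟨(v : G)⁻¹, by rwa [orderOf_inv, Subgroup.orderOf_coe], ?_, ?_⟩
  · refine isClassDefect_of_card ?_ ?_
    · exact le_centralizer_singleton_iff.mpr (Subgroup.inv_mem _ hCD)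
    · rw [hclass.card, show Subgroup.centralizer ({(v : G)⁻¹} : Set G) = Subgroup.centralizer ({(v : G)} : Set G) from
        Subgroup.ext fun t => by
          rw [Subgroup.mem_centralizer_singleton_iff, Subgroup.mem_centralizer_singleton_iff]
          exact Commute.inv_right_iff]
  · set R := (P : Subgroup G) ⊓ cj (v : G)⁻¹ (P : Subgroup G)
    have hDR : D ≤ R := fun t ht => ⟨hDP ht, mem_cj.mpr (by
      rw [inv_inv, ← Subgroup.mem_centralizer_iff.mp hCD t ht, mul_inv_cancel_right]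
      exact hDP ht)⟩
    by_contra hne
    have hRp : IsPGroup p R := P.isPGroup'.to_le inf_le_left
    have : Finite R := inferInstance
    have := hRp.isNilpotent
    have hlt : D.subgroupOf R < ⊤ := lt_top_iff_ne_top.mpr fun h =>
      hne (le_antisymm (Subgroup.subgroupOf_eq_top.mp h) hDR)
    obtain ⟨t, htN, htD⟩ := SetLike.exists_of_lt (Group.normalizerCondition_of_isNilpotent _ hlt)
    refine htD (Subgroup.mem_subgroupOf.mpr ?_)
    have htN' : (t : G) ∈ Subgroup.normalizer (D : Set G) := by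
      rw [Subgroup.mem_normalizer_iff] at htN ⊢
      intro d
      constructor
      · intro hd
        exact (htN ⟨d, hDR hd⟩).mp hd
      · intro hd
        have := Subgroup.mul_mem _ (Subgroup.mul_mem _ (Subgroup.inv_mem _ t.2) (hDR hd)) t.2
        have hd' : d ∈ R := by simpa [mul_assoc] using this
        exact (htN ⟨d, hd'⟩).mpr hd
    have h1 : (⟨(t : G), htN'⟩ : ↥(Subgroup.normalizer (D : Set G))) ∈
        (S : Subgroup ↥(Subgroup.normalizer (D : Set G))) ⊓ cj v⁻¹ (S : Subgroup ↥(Subgroup.normalizer (D : Set G))) :=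
      ⟨hS t.2.1, mem_cj.mpr (hS (Subgroup.mem_comap.mpr (mem_cj.mp t.2.2)))⟩
    rw [hvS] at h1
    exact Subgroup.mem_subgroupOf.mp h1

end CfsgLib.Blocks
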