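import Cfsg.Agent.Lib.Blocks.AlgInt
import Cfsg.Agent.Lib.Char.Integral
import Cfsg.Agent.Lib.Char.Regular
import Mathlib.Algebra.MonoidAlgebra.MapDomain

/-!
# The complex group algebra, linear extension of characters and central characters
-/

set_option autoImplicit false

noncomputable section

namespace CfsgLib.Blocks

open Cfsg
open scoped ComplexConjugate

variable {G : Type*} [Group G]

/-- The complex group algebra. -/
abbrev CA (G : Type*) : Type _ := MonoidAlgebra ℂ G

section finite

variable [Fintype G]

/-- The element of a group algebra with given coefficients. -/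
def ofFun {R : Type*} [Semiring R] (f : G → R) : MonoidAlgebra R G :=
  MonoidAlgebra.ofCoeff (Finsupp.equivFunOnFinite.symm f)

omit [Group G] in
@[simp] theorem coeff_ofFun {R : Type*} [Semiring R] (f : G → R) (g : G) :
    (ofFun f).coeff g = f g := rfl

theorem coeff_mul_eq_sum {R : Type*} [Semiring R] (a b : MonoidAlgebra R G) (g : G) :
    (a * b).coeff g = ∑ h : G, a.coeff h * b.coeff (h⁻¹ * g) := by
  classical
  rw [MonoidAlgebra.coeff_mul, Finsupp.sum_fintype _ _ (fun m => by simp)]
  refine Finset.sum_congr rfl (fun h _ => ?_)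
  rw [Finsupp.sum_fintype _ _ (fun m => by simp)]
  simp only [← eq_inv_mul_iff_mul_eq]
  simp

theorem coeff_mul_single_inv {R : Type*} [Semiring R] (a : MonoidAlgebra R G) (g : G) :
    (a * MonoidAlgebra.single g⁻¹ (1 : R)).coeff 1 = a.coeff g := by
  classical
  rw [coeff_mul_eq_sum, Finset.sum_eq_single g]
  · simp
  · intro h _ hne
    simp [Ne.symm hne]
  · simp

/-- An element of the group algebra is central iff its coefficients form a class function. -/
theorem mem_center_iff {R : Type*} [CommSemiring R] (a : MonoidAlgebra R G) :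
    a ∈ Subsemiring.center (MonoidAlgebra R G) ↔
      ∀ g h : G, a.coeff (h * g * h⁻¹) = a.coeff g := by
  classical
  rw [Subsemiring.mem_center_iff]
  constructor
  · intro ha g h
    have := congrArg (fun x => x.coeff (h * g)) (ha (MonoidAlgebra.single h 1))
    simp only [coeff_mul_eq_sum] at this
    rw [Finset.sum_eq_single h (fun b _ hb => by simp [Ne.symm hb]) (by simp),
      Finset.sum_eq_single (h * g * h⁻¹)
        (fun b _ hb => by
          have : (b⁻¹ * (h * g)) ≠ h := fun he => hb (by
            calc b = (h * g) * (b⁻¹ * (h * g))⁻¹ := by group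
              _ = h * g * h⁻¹ := by rw [he])
          simp [this.symm])
        (by simp)] at this
    simpa [mul_assoc] using this.symm
  · intro ha x
    apply MonoidAlgebra.coeff_injective
    ext g
    rw [coeff_mul_eq_sum, coeff_mul_eq_sum]
    refine Fintype.sum_equiv ((Equiv.inv G).trans (Equiv.mulLeft g)) _ _ (fun h => ?_)
    simp only [Equiv.trans_apply, Equiv.inv_apply, Equiv.coe_mulLeft]
    rw [mul_comm (x.coeff h)]
    congr 1
    · have := ha (h⁻¹ * g) h
      simpa [mul_assoc] using this.symm
    · congr 1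
      group

/-- The linear extension of a function on the group to the group algebra. -/
def charLin (χ : G → ℂ) : CA G →ₗ[ℂ] ℂ where
  toFun a := ∑ g : G, a.coeff g * χ g
  map_add' a b := by
    rw [← Finset.sum_add_distrib]
    exact Finset.sum_congr rfl (fun g _ => by rw [MonoidAlgebra.coeff_add, Finsupp.add_apply, add_mul])
  map_smul' c a := by
    rw [RingHom.id_apply, smul_eq_mul, Finset.mul_sum]
    exact Finset.sum_congr rfl (fun g _ => by
      rw [MonoidAlgebra.coeff_smul_apply, smul_eq_mul, mul_assoc])

omit [Group G] in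
theorem charLin_apply (χ : G → ℂ) (a : CA G) : charLin χ a = ∑ g : G, a.coeff g * χ g := rfl

omit [Group G] in
theorem charLin_single (χ : G → ℂ) (g : G) (c : ℂ) :
    charLin χ (MonoidAlgebra.single g c) = c * χ g := by
  classical
  rw [charLin_apply, Finset.sum_eq_single g (fun b _ hb => by simp [Ne.symm hb])
    (by simp)]
  simp

theorem charLin_one (χ : G → ℂ) : charLin χ (1 : CA G) = χ 1 := by
  rw [MonoidAlgebra.one_def, charLin_single, one_mul]

theorem charLin_eq_trace {V : Type*} [AddCommGroup V] [Module ℂ V] (ρ : Representation ℂ G V)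
    (a : CA G) : charLin ρ.character a = LinearMap.trace ℂ V (ρ.asAlgebraHom a) := by
  rw [Representation.asAlgebraHom_def, MonoidAlgebra.lift_apply,
    Finsupp.sum_fintype _ _ (fun i => by simp), map_sum, charLin_apply]
  exact Finset.sum_congr rfl (fun g _ => by rw [map_smul, smul_eq_mul]; rfl)

/-- The central character attached to `χ`, on the group algebra. -/
def omega (χ : G → ℂ) (a : CA G) : ℂ := charLin χ a / χ 1

theorem charLin_mul_of_central {χ : G → ℂ} (hχ : IsIrrCharacter G χ) {a : CA G}
    (ha : a ∈ Subsemiring.center (CA G)) (b : CA G) :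
    charLin χ (a * b) = omega χ a * charLin χ b := by
  obtain ⟨n, ρ, hρ, rfl⟩ := hχ
  have := hρ
  obtain ⟨c, hc⟩ := CfsgLib.Char.exists_eq_smul_id ρ (ρ.asAlgebraHom a) (fun g => by
    have := Subsemiring.mem_center_iff.mp ha (MonoidAlgebra.single g 1)
    have h2 := congrArg ρ.asAlgebraHom this
    rw [map_mul, map_mul, Representation.asAlgebraHom_single_one] at h2
    exact h2.symm)
  have hn : (Module.finrank ℂ (Fin n → ℂ) : ℂ) ≠ 0 := by
    exact_mod_cast (CfsgLib.Char.finrank_pos_of_irreducible ρ).ne'
  have hω : omega ρ.character a = c := by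
    rw [omega, charLin_eq_trace, hc, map_smul, LinearMap.trace_id, smul_eq_mul, Representation.char_one,
      mul_div_assoc, div_self hn, mul_one]
  rw [hω, charLin_eq_trace, map_mul, hc, charLin_eq_trace, Module.End.mul_eq_comp, LinearMap.smul_comp,
    LinearMap.id_comp, map_smul, smul_eq_mul]

theorem omega_mul {χ : G → ℂ} (hχ : IsIrrCharacter G χ) {a : CA G}
    (ha : a ∈ Subsemiring.center (CA G)) (b : CA G) :
    omega χ (a * b) = omega χ a * omega χ b := by
  rw [omega, charLin_mul_of_central hχ ha, omega, omega, mul_div_assoc]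

theorem omega_one {χ : G → ℂ} (hχ : IsIrrCharacter G χ) : omega χ (1 : CA G) = 1 := by
  rw [omega, charLin_one, div_self (CfsgLib.Char.irr_one_ne_zero hχ)]

theorem sum_degree_charLin (b : CA G) :
    ∑ χ : IrrCharacter G, (χ : G → ℂ) 1 * charLin (χ : G → ℂ) b = (Nat.card G : ℂ) * b.coeff 1 := by
  classical
  simp only [charLin_apply, Finset.mul_sum]
  rw [Finset.sum_comm, Finset.sum_eq_single (1 : G)]
  · rw [← CfsgLib.Char.sum_degree_sq, Finset.sum_mul]
    exact Finset.sum_congr rfl (fun χ _ => by ring)
  · intro g _ hg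
    have h := CfsgLib.Char.sum_degree_mul_apply g
    rw [if_neg hg] at h
    calc ∑ χ : IrrCharacter G, (χ : G → ℂ) 1 * (b.coeff g * (χ : G → ℂ) g)
        = b.coeff g * ∑ χ : IrrCharacter G, (χ : G → ℂ) 1 * (χ : G → ℂ) g := by
          rw [Finset.mul_sum]; exact Finset.sum_congr rfl (fun χ _ => by ring)
      _ = 0 := by rw [h, mul_zero]
  · simp

/-- The coefficients of a central element in terms of its central characters. -/
theorem coeff_eq_sum_omega {a : CA G} (ha : a ∈ Subsemiring.center (CA G)) (g : G) :
    a.coeff g = (Nat.card G : ℂ)⁻¹ *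
      ∑ χ : IrrCharacter G, omega (χ : G → ℂ) a * ((χ : G → ℂ) 1 * conj ((χ : G → ℂ) g)) := by
  rw [eq_inv_mul_iff_mul_eq₀ CfsgLib.Char.card_ne_zero', ← coeff_mul_single_inv a g, ← sum_degree_charLin]
  refine Finset.sum_congr rfl (fun χ _ => ?_)
  rw [charLin_mul_of_central χ.2 ha, charLin_single, one_mul,
    CfsgLib.Char.char_inv (CfsgLib.Char.isCharacter_of_isIrr χ.2)]
  ring

theorem eq_of_omega_eq {a b : CA G} (ha : a ∈ Subsemiring.center (CA G))
    (hb : b ∈ Subsemiring.center (CA G))
    (h : ∀ χ : IrrCharacter G, omega (χ : G → ℂ) a = omega (χ : G → ℂ) b) : a = b := by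
  apply MonoidAlgebra.coeff_injective
  ext g
  rw [coeff_eq_sum_omega ha, coeff_eq_sum_omega hb]
  simp only [h]

/-- The class sum of `g`. -/
def classSum (g : G) : CA G :=
  haveI := Classical.propDecidable
  ofFun fun x => if IsConj g x then 1 else 0

theorem classSum_coeff (g x : G) [Decidable (IsConj g x)] :
    (classSum g).coeff x = if IsConj g x then 1 else 0 := by
  rw [classSum, coeff_ofFun]
  congr

theorem classSum_mem_center (g : G) : classSum g ∈ Subsemiring.center (CA G) := by
  classical
  rw [mem_center_iff]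
  intro x h
  rw [classSum_coeff, classSum_coeff]
  have : IsConj x (h * x * h⁻¹) := isConj_iff.mpr ⟨h, rfl⟩
  by_cases hc : IsConj g x
  · rw [if_pos hc, if_pos (hc.trans this)]
  · rw [if_neg hc, if_neg (fun hc' => hc (hc'.trans this.symm))]

theorem omega_classSum {χ : G → ℂ} (hχ : IsClassFunction G χ) (g : G) :
    omega χ (classSum g) = centralChar χ g := by
  classical
  rw [omega, centralChar, ← CfsgLib.Char.card_isConj_eq_index g, charLin_apply]
  congr 1
  simp only [classSum_coeff, ite_mul, one_mul, zero_mul]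
  rw [← Finset.sum_filter, Finset.sum_congr rfl (fun x hx => by
    rw [← (CfsgLib.Char.isClassFunction_iff.mp hχ) g x (Finset.mem_filter.mp hx).2]),
    Finset.sum_const, nsmul_eq_mul, Nat.card_eq_fintype_card, Fintype.card_subtype]

theorem isIntegral_centralChar {χ : G → ℂ} (hχ : IsIrrCharacter G χ) (g : G) :
    IsIntegral ℤ (centralChar χ g) :=
  CfsgLib.Char.isIntegral_index_mul_div hχ g

/-- The sum of all conjugates of `b`, evaluated by an irreducible character. -/
theorem sum_char_mul_conj {χ : G → ℂ} (hχ : IsIrrCharacter G χ) (a b : G) :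
    ∑ g : G, χ (a * (g * b * g⁻¹)) = (Nat.card G : ℂ) * χ a * χ b / χ 1 := by
  classical
  set z : CA G := ∑ g : G, MonoidAlgebra.single (g * b * g⁻¹) (1 : ℂ) with hz
  have hzc : z ∈ Subsemiring.center (CA G) := by
    rw [mem_center_iff]
    intro x h
    simp only [hz, MonoidAlgebra.coeff_sum, Finsupp.finsetSum_apply, MonoidAlgebra.coeff_single,
      Finsupp.single_apply]
    refine Fintype.sum_equiv (Equiv.mulLeft h⁻¹) _ _ (fun g => ?_)
    congr 1
    simp only [Equiv.coe_mulLeft, mul_inv_rev, inv_inv]
    refine propext ⟨fun e => ?_, fun e => ?_⟩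
    · calc h⁻¹ * g * b * (g⁻¹ * h) = h⁻¹ * (g * b * g⁻¹) * h := by group
        _ = x := by rw [e]; group
    · calc g * b * g⁻¹ = h * (h⁻¹ * g * b * (g⁻¹ * h)) * h⁻¹ := by group
        _ = h * x * h⁻¹ := by rw [e]
  have h1 := charLin_mul_of_central hχ hzc (MonoidAlgebra.single a 1)
  have hcomm := CfsgLib.Char.char_mul_comm' (CfsgLib.Char.isCharacter_of_isIrr hχ)
  rw [hz, Finset.sum_mul, map_sum, omega, map_sum, charLin_single, one_mul] at h1
  simp only [MonoidAlgebra.single_mul_single, charLin_single, one_mul, mul_one,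
    CfsgLib.Char.isClassFunction_of_isIrr hχ b] at h1
  rw [Finset.sum_congr rfl (fun g _ => hcomm a (g * b * g⁻¹)), h1, Finset.sum_const, Finset.card_univ,
    Nat.card_eq_fintype_card, nsmul_eq_mul]
  ring

end finite

end CfsgLib.Blocks
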