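import Mathlib.Algebra.Order.BigOperators.Ring.Finset
import Mathlib.Algebra.BigOperators.Ring.Finset
import Mathlib.Data.Fintype.BigOperators
import Mathlib.Data.Finset.Powerset
import Mathlib.Tactic.Linarith
import Mathlib.Tactic.IntervalCases

/-!
# Integer vectors of norm four with mutual inner product three

`sunflower`: a family of integer vectors with entry `-1` at `o`, norm `4`, inner product `3`
between inequivalent members, and enough classes, has two common further entries.
-/

set_option autoImplicit false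

namespace CfsgLib.Blocks.HomocyclicRows

open Finset

variable {α ι : Type*} [Fintype α] [DecidableEq α] {o : α} {r : ι → α → ℤ} {R : ι → ι → Prop}

/-- The support away from `o`. -/
def supp (o : α) (r : ι → α → ℤ) (i : ι) : Finset α :=
  univ.filter fun a => a ≠ o ∧ r i a ≠ 0

theorem mem_supp {i : ι} {a : α} : a ∈ supp o r i ↔ a ≠ o ∧ r i a ≠ 0 := by simp [supp]

variable (h0 : ∀ i, r i o = -1) (hnorm : ∀ i, ∑ a, r i a * r i a = 4)

include h0 hnorm in
theorem sum_supp (i : ι) : ∑ a ∈ univ.erase o, r i a * r i a = 3 := by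
  have h := hnorm i
  rw [← add_sum_erase _ _ (mem_univ o), h0 i] at h
  linarith

include h0 hnorm in
theorem sq_entry {i : ι} {a : α} (ha : a ∈ supp o r i) : r i a = 1 ∨ r i a = -1 := by
  obtain ⟨hao, hne⟩ := mem_supp.1 ha
  have hle := single_le_sum (f := fun a => r i a * r i a) (fun b _ => mul_self_nonneg _)
    (mem_erase.2 ⟨hao, mem_univ a⟩)
  rw [sum_supp h0 hnorm i] at hle
  have h1 : r i a ≤ 1 := by nlinarith
  have h2 : -1 ≤ r i a := by nlinarith
  omega

include h0 hnorm in
theorem card_supp (i : ι) : (supp o r i).card = 3 := by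
  have h : ∑ a ∈ univ.erase o, r i a * r i a = ∑ a ∈ supp o r i, (1 : ℤ) := by
    rw [supp, sum_filter, ← add_sum_erase _ _ (mem_univ o), if_neg (fun h => h.1 rfl), zero_add]
    refine sum_congr rfl fun a ha => ?_
    have hao := (mem_erase.1 ha).1
    by_cases h1 : r i a = 0
    · simp [h1]
    · rw [if_pos ⟨hao, h1⟩]
      rcases sq_entry h0 hnorm (mem_supp.2 ⟨hao, h1⟩) with e | e <;> rw [e] <;> norm_num
  rw [sum_supp h0 hnorm i] at h
  simp only [sum_const, nsmul_eq_mul, mul_one] at h
  exact_mod_cast h.symm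

include h0 hnorm in
/-- Inequivalent vectors share exactly two entries, with the same signs. -/
theorem inter_supp {i j : ι} (hij : ∑ a, r i a * r j a = 3) :
    (supp o r i ∩ supp o r j).card = 2 ∧ ∀ a ∈ supp o r i ∩ supp o r j, r i a = r j a := by
  have h : ∑ a ∈ supp o r i ∩ supp o r j, r i a * r j a = 2 := by
    have h' := hij
    rw [← add_sum_erase _ _ (mem_univ o), h0 i, h0 j] at h'
    have e : ∑ a ∈ univ.erase o, r i a * r j a = ∑ a ∈ supp o r i ∩ supp o r j, r i a * r j a := by
      refine (sum_subset (fun a ha => mem_erase.2 ⟨(mem_supp.1 (mem_inter.1 ha).1).1, mem_univ a⟩)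
        fun a ha hn => ?_).symm
      have hao := (mem_erase.1 ha).1
      by_contra hne
      exact hn (mem_inter.2 ⟨mem_supp.2 ⟨hao, left_ne_zero_of_mul hne⟩,
        mem_supp.2 ⟨hao, right_ne_zero_of_mul hne⟩⟩)
    linarith
  set s := supp o r i ∩ supp o r j
  have hval : ∀ a ∈ s, r i a * r j a = 1 ∨ r i a * r j a = -1 := fun a ha => by
    rcases sq_entry h0 hnorm (mem_inter.1 ha).1 with e | e <;>
      rcases sq_entry h0 hnorm (mem_inter.1 ha).2 with e' | e' <;> rw [e, e'] <;> norm_num
  have hle : s.card ≤ 3 := (card_le_card inter_subset_left).trans (card_supp h0 hnorm i).le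
  have hge : (2 : ℤ) ≤ s.card := by
    rw [← h]
    calc ∑ a ∈ s, r i a * r j a ≤ ∑ a ∈ s, (1 : ℤ) :=
          sum_le_sum fun a ha => by rcases hval a ha with e | e <;> omega
      _ = s.card := by simp
  have heven : ∃ k : ℤ, ∑ a ∈ s, r i a * r j a = s.card - 2 * k := by
    refine ⟨((s.filter fun a => r i a * r j a = -1).card : ℤ), ?_⟩
    rw [← sum_filter_add_sum_filter_not s (fun a => r i a * r j a = -1),
      sum_congr rfl (fun a ha => (mem_filter.1 ha).2),
      sum_congr rfl (fun a ha => ((hval a (mem_filter.1 ha).1).resolve_right (mem_filter.1 ha).2)),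
      ← card_filter_add_card_filter_not (s := s) (fun a => r i a * r j a = -1)]
    push_cast
    simp only [sum_const, nsmul_eq_mul]
    ring
  obtain ⟨k, hk⟩ := heven
  have hc : s.card = 2 := by omega
  refine ⟨hc, fun a ha => ?_⟩
  have h1 : r i a * r j a = 1 := by
    rcases hval a ha with e | e
    · exact e
    exfalso
    rw [← add_sum_erase _ _ ha, e] at h
    have hb : ∑ b ∈ s.erase a, r i b * r j b ≤ ∑ b ∈ s.erase a, (1 : ℤ) :=
      sum_le_sum fun b hb => by rcases hval b (mem_of_mem_erase hb) with e' | e' <;> omega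
    simp only [sum_const, nsmul_eq_mul, mul_one, card_erase_of_mem ha, hc] at hb
    omega
  rcases sq_entry h0 hnorm (mem_inter.1 ha).1 with e | e <;>
    rcases sq_entry h0 hnorm (mem_inter.1 ha).2 with e' | e' <;> rw [e, e'] at h1 ⊢ <;> omega

variable (hRr : ∀ i, R i i) (hRs : ∀ i j, R i j → R j i) (heq : ∀ i j, R i j → r i = r j)
  (hne : ∀ i j, ¬ R i j → ∑ a, r i a * r j a = 3)
  (hfour : ∀ a b c d : ι, ∃ e, ¬ R e a ∧ ¬ R e b ∧ ¬ R e c ∧ ¬ R e d)

omit [Fintype α] in
theorem supp_third {s t : Finset α} (hs : s.card = 3) (ht : (s ∩ t).card = 2) (ht3 : t.card = 3) :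
    ∃ c d, c ∈ s ∧ c ∉ t ∧ d ∈ t ∧ d ∉ s ∧ s ∪ t = insert c (insert d (s ∩ t)) := by
  obtain ⟨c, hc⟩ : ∃ c, s \ t = {c} := card_eq_one.1 (by
    rw [card_sdiff, inter_comm, ht, hs])
  obtain ⟨d, hd⟩ : ∃ d, t \ s = {d} := card_eq_one.1 (by
    rw [card_sdiff, ht, ht3])
  have hc' := hc.ge (mem_singleton_self c)
  have hd' := hd.ge (mem_singleton_self d)
  rw [mem_sdiff] at hc' hd'
  refine ⟨c, d, hc'.1, hc'.2, hd'.1, hd'.2, ?_⟩
  ext x
  have h1 : x ∈ s \ t ↔ x = c := by rw [hc, mem_singleton]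
  have h2 : x ∈ t \ s ↔ x = d := by rw [hd, mem_singleton]
  rw [mem_sdiff] at h1 h2
  simp only [mem_union, mem_insert, mem_inter]
  tauto

include h0 hnorm hRr hRs heq hne hfour in
/-- **Sunflower**: two common entries, and the third entry determines the class. -/
theorem sunflower [Nonempty ι] : ∃ (a b : α) (sa sb : ℤ) (X : ι → α) (δ : ι → ℤ),
    a ≠ o ∧ b ≠ o ∧ a ≠ b ∧ (sa = 1 ∨ sa = -1) ∧ (sb = 1 ∨ sb = -1) ∧
    ∀ i, (δ i = 1 ∨ δ i = -1) ∧ r i a = sa ∧ r i b = sb ∧ X i ≠ o ∧ X i ≠ a ∧ X i ≠ b ∧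
      r i (X i) = δ i ∧ (∀ c, c ≠ o → c ≠ a → c ≠ b → c ≠ X i → r i c = 0) ∧
      ∀ j, X i = X j → R i j := by
  set T := supp o r with hT
  have key : ∀ i j, ¬ R i j → (T i ∩ T j).card = 2 := fun i j h => (inter_supp h0 hnorm (hne i j h)).1
  have hcard : ∀ i, (T i).card = 3 := card_supp h0 hnorm
  obtain ⟨i₁⟩ := ‹Nonempty ι›
  obtain ⟨i₂, h21, -⟩ := hfour i₁ i₁ i₁ i₁
  have h12 : ¬ R i₁ i₂ := fun h => h21 (hRs _ _ h)
  obtain ⟨a, b, hab, hT12⟩ := card_eq_two.1 (key i₁ i₂ h12)
  have haT : a ∈ T i₁ ∩ T i₂ := by rw [hT12]; simp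
  have hbT : b ∈ T i₁ ∩ T i₂ := by rw [hT12]; simp
  -- every support contains both common entries
  have main : ∀ k, a ∈ T k ∧ b ∈ T k := by
    intro k
    by_cases hk1 : R k i₁
    · rw [hT, show supp o r k = supp o r i₁ by unfold supp; rw [heq k i₁ hk1]]
      exact ⟨(mem_inter.1 haT).1, (mem_inter.1 hbT).1⟩
    by_cases hk2 : R k i₂
    · rw [hT, show supp o r k = supp o r i₂ by unfold supp; rw [heq k i₂ hk2]]
      exact ⟨(mem_inter.1 haT).2, (mem_inter.1 hbT).2⟩
    by_contra hcon
    obtain ⟨c, d, hc1, hc2, hd2, hd1, hU⟩ := supp_third (hcard i₁) (key i₁ i₂ h12) (hcard i₂)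
    set U := T i₁ ∪ T i₂ with hUdef
    have hU4 : U.card = 4 := by
      have h1 := card_union_add_card_inter (T i₁) (T i₂)
      rw [← hUdef, key i₁ i₂ h12, hcard, hcard] at h1
      omega
    -- a support meeting both and missing a common entry lies in `U`
    have inU : ∀ l, ¬ R l i₁ → ¬ R l i₂ → ¬ (a ∈ T l ∧ b ∈ T l) → T l ⊆ U := by
      intro l h1 h2 hmiss
      have hsub : T l ∩ (T i₁ ∩ T i₂) ⊂ T i₁ ∩ T i₂ := by
        refine Finset.ssubset_iff_subset_ne.2 ⟨inter_subset_right, fun e => hmiss ?_⟩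
        exact ⟨(mem_inter.1 (e.ge haT)).1, (mem_inter.1 (e.ge hbT)).1⟩
      have h3 := card_lt_card hsub
      rw [key i₁ i₂ h12] at h3
      have h4 : (T l ∩ U).card + (T l ∩ (T i₁ ∩ T i₂)).card = (T l ∩ T i₁).card + (T l ∩ T i₂).card := by
        rw [hUdef, inter_union_distrib_left, ← card_union_add_card_inter (T l ∩ T i₁) (T l ∩ T i₂),
          ← inter_inter_distrib_left]
      rw [key l i₁ h1, key l i₂ h2] at h4
      have h5 : (T l ∩ U).card = (T l).card := by
        have := card_le_card (inter_subset_left : T l ∩ U ⊆ T l)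
        rw [hcard] at this ⊢
        omega
      exact inter_eq_left.1 (eq_of_subset_of_card_le inter_subset_left h5.ge)
    have hkU := inU k hk1 hk2 hcon
    have allU : ∀ l, ¬ R l i₁ → ¬ R l i₂ → ¬ R l k → T l ⊆ U := by
      intro l h1 h2 h3
      by_cases hl : a ∈ T l ∧ b ∈ T l
      · intro x hx
        by_contra hxU
        have hsub : T l ∩ T k ⊂ T i₁ ∩ T i₂ := by
          have hTl : T l = {a, b, x} := by
            refine (eq_of_subset_of_card_le ?_ ?_).symm
            · intro y hy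
              simp only [mem_insert, mem_singleton] at hy
              rcases hy with rfl | rfl | rfl
              exacts [hl.1, hl.2, hx]
            · rw [hcard]
              refine le_of_eq (card_eq_three.2 ⟨a, b, x, hab, ?_, ?_, rfl⟩).symm
              · rintro rfl; exact hxU (mem_union_left _ (mem_inter.1 haT).1)
              · rintro rfl; exact hxU (mem_union_left _ (mem_inter.1 hbT).1)
          refine Finset.ssubset_iff_subset_ne.2 ⟨fun y hy => ?_, fun e => hcon ?_⟩
          · rw [hT12]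
            rw [hTl, mem_inter] at hy
            simp only [mem_insert, mem_singleton] at hy ⊢
            rcases hy.1 with h | h | h
            · exact Or.inl h
            · exact Or.inr h
            · exact absurd (hkU hy.2) (h ▸ hxU)
          · exact ⟨(mem_inter.1 (e.ge haT)).2, (mem_inter.1 (e.ge hbT)).2⟩
        have h6 := card_lt_card hsub
        rw [key l k h3, key i₁ i₂ h12] at h6
        exact lt_irrefl _ h6
      · exact inU l h1 h2 hl
    obtain ⟨l, hl1, hl2, hlk, -⟩ := hfour i₁ i₂ k k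
    obtain ⟨n, hn1, hn2, hnk, hnl⟩ := hfour i₁ i₂ k l
    have hlU := allU l hl1 hl2 hlk
    have hnU := allU n hn1 hn2 hnk
    have hdist : ∀ i j, ¬ R i j → T i ≠ T j := fun i j h e => by
      have := key i j h
      rw [e, inter_self, hcard] at this
      omega
    have hfive : ({T i₁, T i₂, T k, T l, T n} : Finset (Finset α)).card = 5 := by
      have d1 := hdist _ _ h12
      have d2 := hdist _ _ hk1
      have d3 := hdist _ _ hk2
      have d4 := hdist _ _ hl1
      have d5 := hdist _ _ hl2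
      have d6 := hdist _ _ hlk
      have d7 := hdist _ _ hn1
      have d8 := hdist _ _ hn2
      have d9 := hdist _ _ hnk
      have d10 := hdist _ _ hnl
      rw [card_insert_of_notMem (by simp [d1, Ne.symm d2, Ne.symm d4, Ne.symm d7]),
        card_insert_of_notMem (by simp [Ne.symm d3, Ne.symm d5, Ne.symm d8]),
        card_insert_of_notMem (by simp [Ne.symm d6, Ne.symm d9]),
        card_insert_of_notMem (by simp [Ne.symm d10]), card_singleton]
    have hsub : ({T i₁, T i₂, T k, T l, T n} : Finset (Finset α)) ⊆ powersetCard 3 U := by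
      intro s hs
      simp only [mem_insert, mem_singleton] at hs
      rw [mem_powersetCard]
      rcases hs with rfl | rfl | rfl | rfl | rfl
      exacts [⟨subset_union_left, hcard _⟩, ⟨subset_union_right, hcard _⟩, ⟨hkU, hcard _⟩,
        ⟨hlU, hcard _⟩, ⟨hnU, hcard _⟩]
    have h7 := card_le_card hsub
    rw [hfive, card_powersetCard, hU4] at h7
    exact absurd h7 (by decide)
  -- the third entry
  have third : ∀ i, ∃ x, T i = {a, b, x} ∧ x ≠ a ∧ x ≠ b := by
    intro i
    obtain ⟨x, hx⟩ : ∃ x, ((T i).erase a).erase b = {x} := card_eq_one.1 (by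
      rw [card_erase_of_mem (mem_erase.2 ⟨hab.symm, (main i).2⟩), card_erase_of_mem (main i).1, hcard])
    have hx' := hx.ge (mem_singleton_self x)
    simp only [mem_erase] at hx'
    refine ⟨x, ?_, hx'.2.1, hx'.1⟩
    rw [← hx, insert_erase (mem_erase.2 ⟨hab.symm, (main i).2⟩), insert_erase (main i).1]
  choose X hX hXa hXb using third
  have hsign : ∀ i, r i a = r i₁ a ∧ r i b = r i₁ b := by
    intro i
    by_cases h : R i i₁
    · rw [heq i i₁ h]; exact ⟨rfl, rfl⟩
    · have := (inter_supp h0 hnorm (hne i i₁ h)).2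
      exact ⟨this a (mem_inter.2 ⟨(main i).1, (main i₁).1⟩),
        this b (mem_inter.2 ⟨(main i).2, (main i₁).2⟩)⟩
  have hXT : ∀ i, X i ∈ T i := fun i => by rw [hX i]; simp
  refine ⟨a, b, r i₁ a, r i₁ b, X, fun i => r i (X i), (mem_supp.1 (main i₁).1).1,
    (mem_supp.1 (main i₁).2).1, hab, sq_entry h0 hnorm (main i₁).1, sq_entry h0 hnorm (main i₁).2,
    fun i => ⟨sq_entry h0 hnorm (hXT i), (hsign i).1, (hsign i).2, (mem_supp.1 (hXT i)).1, hXa i,
      hXb i, rfl, ?_, ?_⟩⟩
  · intro c hco hca hcb hcX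
    by_contra hc
    have : c ∈ T i := mem_supp.2 ⟨hco, hc⟩
    rw [hX i] at this
    simp [hca, hcb, hcX] at this
  · intro j hj
    by_contra h
    have h8 := key i j h
    rw [hX i, hX j, hj, inter_self, card_eq_three.2 ⟨a, b, X j, hab, (hXa j).symm, (hXb j).symm, rfl⟩]
      at h8
    omega

end CfsgLib.Blocks.HomocyclicRows
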