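import Cfsg.Agent.Lib.Transfer.Frobenius
import Mathlib.GroupTheory.SpecificGroups.Cyclic
import Mathlib.GroupTheory.SpecificGroups.Quaternion
import Mathlib.Data.ZMod.Basic
import Mathlib.RingTheory.Coprime.Lemmas

/-!
# Homocyclic and quaternion Sylow 2-subgroups

* `mem_centralizer_of_fix_involutions`: an element of odd order fixing the involutions of an
  abelian 2-subgroup centralizes it;
* `invols`, `involsHom`: the action of a normalizer on the involutions;
* `relIndex_eq`, `centralizer_singleton_inf_normalizer`: rank two homocyclic Sylow 2-subgroups;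
* `mem_centralizer_of_isCyclic`, `exists_conj_eq_of_quaternion`.
-/

set_option autoImplicit false

namespace CfsgLib.Blocks.TwoLocal

open Subgroup

variable {G : Type*} [Group G]

theorem mem_centralizer_of_fix_involutions {Q : Subgroup G} (hQ : IsPGroup 2 Q)
    (hab : ∀ a ∈ Q, ∀ b ∈ Q, a * b = b * a) {g : G} (hg : g ∈ normalizer (Q : Set G))
    (hodd : Odd (orderOf g)) (hfix : ∀ t ∈ Q, t ^ 2 = 1 → g * t * g⁻¹ = t) :
    g ∈ centralizer (Q : Set G) := by
  have key : ∀ k : ℕ, ∀ x ∈ Q, x ^ 2 ^ k = 1 → g * x * g⁻¹ = x := by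
    intro k
    induction k with
    | zero => intro x hx h; simp_all
    | succ k ih =>
      intro x hx h
      have hy : g * x * g⁻¹ ∈ Q := (mem_normalizer_iff.mp hg x).mp hx
      have h2 : g * x ^ 2 * g⁻¹ = x ^ 2 :=
        ih _ (Q.pow_mem hx 2) (by rw [← pow_mul, ← pow_succ', h])
      set t := x⁻¹ * (g * x * g⁻¹) with ht
      have htQ : t ∈ Q := Q.mul_mem (Q.inv_mem hx) hy
      have ht2 : t ^ 2 = 1 := by
        rw [ht, Commute.mul_pow (hab _ (Q.inv_mem hx) _ hy), conj_pow, h2, inv_pow, inv_mul_cancel]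
      have htfix : g * t * g⁻¹ = t := hfix t htQ ht2
      have hiter : ∀ i : ℕ, g ^ i * x * (g ^ i)⁻¹ = x * t ^ i := by
        intro i
        induction i with
        | zero => simp
        | succ i ihi =>
          calc g ^ (i + 1) * x * (g ^ (i + 1))⁻¹ = g * (g ^ i * x * (g ^ i)⁻¹) * g⁻¹ := by
                rw [pow_succ']; group
            _ = g * x * g⁻¹ * (g * t * g⁻¹) ^ i := by rw [ihi, conj_pow]; group
            _ = x * t ^ (i + 1) := by rw [htfix, pow_succ', ← mul_assoc x, ht]; group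
      have hn := hiter (orderOf g)
      rw [pow_orderOf_eq_one, inv_one, mul_one, one_mul, left_eq_mul] at hn
      obtain ⟨c, hc⟩ := hodd
      rw [hc, pow_succ, pow_mul, ht2, one_pow, one_mul] at hn
      rw [ht, inv_mul_eq_one] at hn
      exact hn.symm
  rw [mem_centralizer_iff]
  intro x hx
  obtain ⟨k, hk⟩ := hQ ⟨x, hx⟩
  have := key k x hx (congrArg Subtype.val hk)
  exact (mul_inv_eq_iff_eq_mul.mp this).symm

/-- An element of odd order normalizing a cyclic 2-subgroup centralizes it. -/
theorem mem_centralizer_of_isCyclic [Finite G] {Q : Subgroup G} (hQ : IsPGroup 2 Q) [IsCyclic Q]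
    {g : G} (hg : g ∈ normalizer (Q : Set G)) (hodd : Odd (orderOf g)) :
    g ∈ centralizer (Q : Set G) := by
  classical
  let _ := IsCyclic.commGroup (α := Q)
  have := Fintype.ofFinite Q
  refine mem_centralizer_of_fix_involutions hQ
    (fun a ha b hb => congrArg Subtype.val (mul_comm (⟨a, ha⟩ : Q) ⟨b, hb⟩)) hg hodd (fun t ht h2 => ?_)
  have hu : g * t * g⁻¹ ∈ Q := (mem_normalizer_iff.mp hg t).mp ht
  have hle := IsCyclic.card_pow_eq_one_le (α := Q) (n := 2) two_pos
  by_contra hne
  by_cases ht1 : t = 1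
  · exact hne (by simp [ht1])
  have : 3 ≤ (Finset.univ.filter (fun a : Q => a ^ 2 = 1)).card := by
    refine le_trans (b := ({1, ⟨t, ht⟩, ⟨g * t * g⁻¹, hu⟩} : Finset Q).card) ?_ (Finset.card_le_card ?_)
    · rw [Finset.card_eq_three.mpr ⟨_, _, _, ?_, ?_, ?_, rfl⟩]
      · exact fun h => ht1 (congrArg Subtype.val h).symm
      · intro h
        exact ht1 (conj_eq_one_iff.mp (congrArg Subtype.val h).symm)
      · exact fun h => hne (congrArg Subtype.val h).symm
    · intro a ha
      simp only [Finset.mem_insert, Finset.mem_singleton] at ha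
      simp only [Finset.mem_filter, Finset.mem_univ, true_and]
      rcases ha with rfl | rfl | rfl
      · exact one_pow 2
      · exact Subtype.ext h2
      · exact Subtype.ext (by simp [conj_pow, h2])
  omega

/-- The involutions of a subgroup. -/
abbrev invols (Q : Subgroup G) : Type _ := {t : G // t ∈ Q ∧ t ^ 2 = 1 ∧ t ≠ 1}

/-- The action of the normalizer on the involutions. -/
def involsHom (Q : Subgroup G) : normalizer (Q : Set G) →* Equiv.Perm (invols Q) where
  toFun g :=
    { toFun := fun t => ⟨(g : G) * t * (g : G)⁻¹, (mem_normalizer_iff.mp g.2 _).mp t.2.1,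
        by rw [conj_pow, t.2.2.1]; group, fun h => t.2.2.2 (conj_eq_one_iff.mp h)⟩
      invFun := fun t => ⟨(g : G)⁻¹ * t * (g : G), by
          have := (mem_normalizer_iff.mp (Subgroup.inv_mem _ g.2) t).mp t.2.1
          rwa [inv_inv] at this,
        by
          have e : (g : G)⁻¹ * t * (g : G) = (g : G)⁻¹ * t * ((g : G)⁻¹)⁻¹ := by rw [inv_inv]
          rw [e, conj_pow, t.2.2.1]; group,
        fun h => t.2.2.2 (by
          rwa [show (g : G)⁻¹ * t * (g : G) = (g : G)⁻¹ * t * ((g : G)⁻¹)⁻¹ by rw [inv_inv],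
            conj_eq_one_iff] at h)⟩
      left_inv := fun t => Subtype.ext (by simp [mul_assoc])
      right_inv := fun t => Subtype.ext (by simp [mul_assoc]) }
  map_one' := Equiv.ext fun t => Subtype.ext (by simp)
  map_mul' g h := Equiv.ext fun t => Subtype.ext (by simp [mul_assoc])

theorem involsHom_apply (Q : Subgroup G) (g : normalizer (Q : Set G)) (t : invols Q) :
    ((involsHom Q g t : invols Q) : G) = (g : G) * t * (g : G)⁻¹ := rfl

theorem two_nsmul_eq_zero_card {m : ℕ} (hm : 1 ≤ m) :
    Nat.card {a : ZMod (2 ^ m) // 2 • a = 0} = 2 := by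
  have : NeZero (2 ^ m) := ⟨pow_ne_zero _ two_ne_zero⟩
  have hh : ∀ a : ZMod (2 ^ m), 2 • a = 0 ↔ a = 0 ∨ a = ((2 ^ (m - 1) : ℕ) : ZMod (2 ^ m)) := by
    intro a
    obtain ⟨n, hn, rfl⟩ : ∃ n : ℕ, n < 2 ^ m ∧ a = (n : ZMod (2 ^ m)) :=
      ⟨a.val, a.val_lt, (ZMod.natCast_zmod_val a).symm⟩
    have e : 2 ^ m = 2 * 2 ^ (m - 1) := by rw [← pow_succ', Nat.sub_add_cancel hm]
    have hlt : 2 ^ (m - 1) < 2 ^ m := Nat.pow_lt_pow_right one_lt_two (by omega)
    rw [nsmul_eq_mul, ← Nat.cast_mul, ZMod.natCast_eq_zero_iff, ZMod.natCast_eq_zero_iff,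
      ZMod.natCast_eq_natCast_iff', Nat.mod_eq_of_lt hn, Nat.mod_eq_of_lt hlt]
    constructor
    · intro h
      rw [e, Nat.mul_dvd_mul_iff_left two_pos] at h
      obtain ⟨c, hc⟩ := h
      have hc2 : c < 2 := by
        by_contra hcc
        rw [e, hc] at hn
        have := Nat.mul_le_mul_left (2 ^ (m - 1)) (not_lt.mp hcc)
        omega
      interval_cases c
      · left; rw [hc, mul_zero]; exact dvd_zero _
      · right; rw [hc, mul_one]
    · rintro (h | h)
      · exact h.mul_left 2
      · rw [h, e]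
  have h0 : (0 : ZMod (2 ^ m)) ≠ ((2 ^ (m - 1) : ℕ) : ZMod (2 ^ m)) := by
    intro h
    have := (ZMod.natCast_eq_zero_iff _ _).mp h.symm
    rw [Nat.pow_dvd_pow_iff_le_right one_lt_two] at this
    omega
  rw [Nat.card_eq_fintype_card, Fintype.card_subtype,
    show Finset.univ.filter (fun a : ZMod (2 ^ m) => 2 • a = 0) =
      {0, ((2 ^ (m - 1) : ℕ) : ZMod (2 ^ m))} from Finset.ext fun a => by simp only [Finset.mem_filter, Finset.mem_univ, true_and, Finset.mem_insert, Finset.mem_singleton, hh a],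
    Finset.card_pair h0]

theorem card_invols {Q : Subgroup G} {m : ℕ} (hm : 1 ≤ m)
    (e : Q ≃* Multiplicative (ZMod (2 ^ m) × ZMod (2 ^ m))) : Nat.card (invols Q) = 3 := by
  classical
  let T : Type := {a : ZMod (2 ^ m) // 2 • a = 0}
  have hT : Nat.card T = 2 := two_nsmul_eq_zero_card hm
  let S : Type := {x : T × T // x ≠ (⟨0, nsmul_zero 2⟩, ⟨0, nsmul_zero 2⟩)}
  have : NeZero (2 ^ m) := ⟨pow_ne_zero _ two_ne_zero⟩
  have hS : Nat.card S = 3 := by
    rw [Nat.card_eq_fintype_card, Fintype.card_subtype_compl, Fintype.card_subtype_eq,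
      Fintype.card_prod, ← Nat.card_eq_fintype_card, hT]
  rw [← hS]
  refine Nat.card_congr
    { toFun := fun t => ⟨(⟨(Multiplicative.toAdd (e ⟨t, t.2.1⟩)).1, ?_⟩,
        ⟨(Multiplicative.toAdd (e ⟨t, t.2.1⟩)).2, ?_⟩), ?_⟩
      invFun := fun x => ⟨e.symm (Multiplicative.ofAdd (x.1.1.1, x.1.2.1)), SetLike.coe_mem _, ?_, ?_⟩
      left_inv := fun t => Subtype.ext (by
        change ((e.symm (e ⟨t, t.2.1⟩) : Q) : G) = t
        rw [e.symm_apply_apply])
      right_inv := fun x => by
        apply Subtype.ext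
        apply Prod.ext <;> apply Subtype.ext <;>
          simp [Subtype.coe_eta] }
  · have h := congrArg Multiplicative.toAdd (congrArg e
      (Subtype.ext t.2.2.1 : (⟨t, t.2.1⟩ : Q) ^ 2 = 1))
    rw [map_pow, map_one, toAdd_pow, toAdd_one] at h
    exact congrArg Prod.fst h
  · have h := congrArg Multiplicative.toAdd (congrArg e
      (Subtype.ext t.2.2.1 : (⟨t, t.2.1⟩ : Q) ^ 2 = 1))
    rw [map_pow, map_one, toAdd_pow, toAdd_one] at h
    exact congrArg Prod.snd h
  · intro h
    refine t.2.2.2 ?_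
    have h1 := congrArg (fun y : T × T => y.1.1) h
    have h2 := congrArg (fun y : T × T => y.2.1) h
    have h3 : e ⟨t, t.2.1⟩ = 1 := Multiplicative.toAdd.injective (Prod.ext h1 h2)
    exact congrArg Subtype.val (e.map_eq_one_iff.mp h3)
  · rw [← SubmonoidClass.coe_pow, ← map_pow, ← ofAdd_nsmul,
      show (2 • ((x.1.1.1, x.1.2.1) : ZMod (2 ^ m) × ZMod (2 ^ m))) = 0 from Prod.ext x.1.1.2 x.1.2.2,
      ofAdd_zero, map_one, OneMemClass.coe_one]
  · intro h
    have h3 := congrArg e (Subtype.ext h :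
      e.symm (Multiplicative.ofAdd ((x.1.1.1, x.1.2.1) : ZMod (2 ^ m) × ZMod (2 ^ m))) = 1)
    rw [e.apply_symm_apply, map_one, ofAdd_eq_one, Prod.ext_iff] at h3
    exact x.2 (Prod.ext (Subtype.ext h3.1) (Subtype.ext h3.2))

variable [Finite G] (P : Sylow 2 G) {m : ℕ}

theorem ker_involsHom (hab : ∀ a ∈ (P : Subgroup G), ∀ b ∈ (P : Subgroup G), a * b = b * a) :
    (involsHom (P : Subgroup G)).ker =
      (centralizer (P : Set G)).subgroupOf (normalizer (P : Set G)) := by
  set N := normalizer ((P : Subgroup G) : Set G) with hNdef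
  ext ⟨g, hg⟩
  rw [MonoidHom.mem_ker, mem_subgroupOf]
  constructor
  · intro h
    have hfix : ∀ t ∈ (P : Subgroup G), t ^ 2 = 1 → g * t * g⁻¹ = t := by
      intro t ht h2
      by_cases h1 : t = 1
      · simp [h1]
      · exact congrArg Subtype.val (Equiv.congr_fun h ⟨t, ht, h2, h1⟩)
    obtain ⟨k, n, hn, hord⟩ := Nat.exists_eq_two_pow_mul_odd (orderOf_pos g).ne'
    have hco : Nat.Coprime (2 ^ k) n := (Nat.coprime_two_left.mpr hn).pow_left k
    have hz : ∃ u v : ℤ, u * (2 ^ k : ℕ) + v * n = 1 := by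
      obtain ⟨u, v, huv⟩ := Nat.isCoprime_iff_coprime.mpr hco
      exact ⟨u, v, huv⟩
    obtain ⟨u, v, huv⟩ := hz
    have h2part : g ^ n ∈ centralizer (P : Set G) := by
      have hp : IsPGroup 2 (zpowers (g ^ n)) := by
        refine IsPGroup.of_card (n := k) ?_
        rw [Nat.card_zpowers, orderOf_pow, hord, Nat.gcd_mul_left_left, Nat.mul_div_cancel]
        exact hn.pos
      have hle : zpowers (g ^ n) ≤ normalizer ((P : Subgroup G) : Set G) :=
        zpowers_le.mpr (pow_mem hg n)
      obtain ⟨Q, hQ⟩ := (hp.comap_subtype (K := N)).exists_le_sylow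
      have : Subsingleton (Sylow 2 N) := by
        have : ((P.subtype le_normalizer : Sylow 2 N) : Subgroup N).Normal := by
          rw [Sylow.coe_subtype]
          exact Subgroup.normal_in_normalizer
        exact Sylow.unique_of_normal _ this |>.instSubsingleton
      have hmem : (⟨g ^ n, pow_mem hg n⟩ : N) ∈ (Q : Subgroup N) :=
        hQ (show g ^ n ∈ zpowers (g ^ n) from mem_zpowers _)
      rw [Subsingleton.elim Q (P.subtype le_normalizer), Sylow.coe_subtype, mem_subgroupOf] at hmem
      rw [mem_centralizer_iff]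
      exact fun x hx => hab x hx _ hmem
    have hodd : g ^ (2 ^ k) ∈ centralizer (P : Set G) := by
      refine mem_centralizer_of_fix_involutions P.2 hab (pow_mem hg _) ?_ (fun t ht h2 => ?_)
      · rw [orderOf_pow, hord, Nat.gcd_mul_right_left, Nat.mul_div_cancel_left _ (by positivity)]
        exact hn
      · have hc : Commute g t := mul_inv_eq_iff_eq_mul.mp (hfix t ht h2)
        rw [(hc.pow_left _).eq, mul_inv_cancel_right]
    have : g = (g ^ (2 ^ k)) ^ u * (g ^ n) ^ v := by
      rw [← zpow_natCast g (2 ^ k), ← zpow_natCast g n, ← zpow_mul, ← zpow_mul, ← zpow_add,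
        mul_comm _ u, mul_comm _ v, huv, zpow_one]
    change g ∈ centralizer (P : Set G)
    rw [this]
    exact mul_mem (zpow_mem hodd u) (zpow_mem h2part v)
  · intro h
    refine Equiv.ext fun t => Subtype.ext ?_
    rw [involsHom_apply, Equiv.Perm.one_apply]
    rw [mul_inv_eq_iff_eq_mul]
    exact (mem_centralizer_iff.mp h _ t.2.1).symm

theorem card_range_involsHom (hm : 1 ≤ m)
    (e : (P : Subgroup G) ≃* Multiplicative (ZMod (2 ^ m) × ZMod (2 ^ m))) :
    (centralizer (P : Set G)).relIndex (normalizer (P : Set G)) =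
        Nat.card (involsHom (P : Subgroup G)).range ∧
      (Nat.card (involsHom (P : Subgroup G)).range = 1 ∨
        Nat.card (involsHom (P : Subgroup G)).range = 3) := by
  classical
  have hab : ∀ a ∈ (P : Subgroup G), ∀ b ∈ (P : Subgroup G), a * b = b * a := fun a ha b hb =>
    congrArg Subtype.val (e.injective (by rw [map_mul, map_mul, mul_comm]) :
      (⟨a, ha⟩ : (P : Subgroup G)) * ⟨b, hb⟩ = ⟨b, hb⟩ * ⟨a, ha⟩)
  have h1 : (centralizer (P : Set G)).relIndex (normalizer (P : Set G)) =
      Nat.card (involsHom (P : Subgroup G)).range := by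
    rw [relIndex, ← ker_involsHom P hab, Subgroup.index_ker]
  refine ⟨h1, ?_⟩
  have hfin : Finite (invols (P : Subgroup G)) := inferInstance
  have hdvd : Nat.card (involsHom (P : Subgroup G)).range ∣ 6 := by
    have := Subgroup.card_subgroup_dvd_card (involsHom (P : Subgroup G)).range
    have hP6 : Nat.card (Equiv.Perm (invols (P : Subgroup G))) = 6 := by
      have := Fintype.ofFinite (invols (P : Subgroup G))
      rw [Nat.card_eq_fintype_card, Fintype.card_perm, ← Nat.card_eq_fintype_card, card_invols hm e]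
      rfl
    rwa [hP6] at this
  have hodd : ¬ 2 ∣ Nat.card (involsHom (P : Subgroup G)).range := by
    rw [← h1]
    intro h
    refine P.not_dvd_index (h.trans ?_)
    have hPC : (P : Subgroup G) ≤ centralizer (P : Set G) := fun x hx =>
      mem_centralizer_iff.mpr fun y hy => hab y hy x hx
    have hPN : (P : Subgroup G) ≤ normalizer ((P : Subgroup G) : Set G) := le_normalizer
    exact (relIndex_dvd_of_le_left _ hPC).trans (relIndex_dvd_index_of_le hPN)
  have hle := Nat.le_of_dvd (by norm_num) hdvd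
  set c := Nat.card (involsHom (P : Subgroup G)).range
  interval_cases c <;> simp_all

theorem centralizer_singleton_inf_normalizer (hm : 1 ≤ m)
    (e : (P : Subgroup G) ≃* Multiplicative (ZMod (2 ^ m) × ZMod (2 ^ m)))
    {z : G} (hz : z ∈ (P : Subgroup G)) (hz1 : z ≠ 1) :
    centralizer ({z} : Set G) ⊓ normalizer (P : Set G) = centralizer (P : Set G) := by
  classical
  refine le_antisymm ?_ (le_inf (centralizer_le (Set.singleton_subset_iff.mpr hz))
    (centralizer_le_normalizer _))
  rintro n ⟨hn1, hn2⟩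
  have hab : ∀ a ∈ (P : Subgroup G), ∀ b ∈ (P : Subgroup G), a * b = b * a := fun a ha b hb =>
    congrArg Subtype.val (e.injective (by rw [map_mul, map_mul, mul_comm]) :
      (⟨a, ha⟩ : (P : Subgroup G)) * ⟨b, hb⟩ = ⟨b, hb⟩ * ⟨a, ha⟩)
  have hcz : Commute n z := mem_centralizer_singleton_iff.mp hn1
  obtain ⟨k, hk⟩ := IsPGroup.iff_orderOf.mp P.2 ⟨z, hz⟩
  rw [Subgroup.orderOf_mk] at hk
  have hk0 : k ≠ 0 := fun h => hz1 (orderOf_eq_one_iff.mp (by rw [hk, h, pow_zero]))
  have hw : orderOf (z ^ 2 ^ (k - 1)) = 2 := by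
    rw [orderOf_pow, hk, Nat.gcd_eq_right (Nat.pow_dvd_pow 2 (Nat.sub_le k 1)),
      Nat.pow_div (Nat.sub_le k 1) two_pos, show k - (k - 1) = 1 by omega, pow_one]
  let w : invols (P : Subgroup G) := ⟨z ^ 2 ^ (k - 1), pow_mem hz _,
    orderOf_dvd_iff_pow_eq_one.mp hw.dvd, fun h => by rw [h, orderOf_one] at hw; omega⟩
  set σ := involsHom (P : Subgroup G) ⟨n, hn2⟩ with hσ
  have hσw : σ w = w := by
    apply Subtype.ext
    change n * z ^ 2 ^ (k - 1) * n⁻¹ = z ^ 2 ^ (k - 1)
    rw [(hcz.pow_right _).eq, mul_inv_cancel_right]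
  have hσ3 : σ ^ 3 = 1 := by
    have h3 : Nat.card (involsHom (P : Subgroup G)).range ∣ 3 := by
      rcases (card_range_involsHom P hm e).2 with h | h <;> rw [h]
      exact one_dvd 3
    obtain ⟨c, hc⟩ := h3
    have := pow_card_eq_one' (x := (⟨σ, ⟨_, rfl⟩⟩ : (involsHom (P : Subgroup G)).range))
    rw [hc, pow_mul]
    rw [show σ ^ Nat.card (involsHom (P : Subgroup G)).range = 1 from congrArg Subtype.val this,
      one_pow]
  have hσ1 : σ = 1 := by
    have := Fintype.ofFinite (invols (P : Subgroup G))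
    have hcard : Fintype.card (invols (P : Subgroup G)) = 3 := by
      rw [← Nat.card_eq_fintype_card, card_invols hm e]
    let E : Equiv.Perm (invols (P : Subgroup G)) ≃* Equiv.Perm (Fin 3) :=
      (Fintype.equivFinOfCardEq hcard).permCongrHom
    have key : ∀ τ : Equiv.Perm (Fin 3), ∀ i : Fin 3, τ i = i → τ ^ 3 = 1 → τ = 1 := by decide
    refine E.injective (((key (E σ) (Fintype.equivFinOfCardEq hcard w) ?_ ?_)).trans (map_one E).symm)
    · change (Fintype.equivFinOfCardEq hcard) (σ ((Fintype.equivFinOfCardEq hcard).symm _)) = _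
      rw [Equiv.symm_apply_apply, hσw]
    · rw [← map_pow, hσ3, map_one]
  have hker : (⟨n, hn2⟩ : normalizer ((P : Subgroup G) : Set G)) ∈
      (involsHom (P : Subgroup G)).ker := hσ1
  rw [ker_involsHom P hab, mem_subgroupOf] at hker
  exact hker

/-- A classifier of the elements of order four of the quaternion group of order eight. -/
def q8Index : QuaternionGroup 2 → Fin 3
  | .a _ => 0
  | .xa i => if i.val % 2 = 0 then 1 else 2

theorem q8Index_spec : ∀ x y : QuaternionGroup 2,
    x ^ 2 ≠ 1 → y ^ 2 ≠ 1 → q8Index x = q8Index y → x = y ∨ x = y⁻¹ := by decide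

theorem q8_sq_eq_one : ∀ x : QuaternionGroup 2, x ^ 4 = 1 ∧ (x ^ 2 = 1 → x = 1 ∨ x = .a 2) := by
  decide

theorem exists_gen_of_card_four (A : Subgroup (QuaternionGroup 2)) (hA : Nat.card A = 4) :
    ∃ x, x ^ 2 ≠ 1 ∧ A = zpowers x := by
  classical
  obtain ⟨x, hxA, hx⟩ : ∃ x ∈ A, x ^ 2 ≠ 1 := by
    by_contra h
    push Not at h
    have : Nat.card A ≤ 2 := by
      rw [Nat.card_eq_fintype_card, Fintype.card_subtype]
      refine le_trans (Finset.card_le_card (t := {1, QuaternionGroup.a 2}) fun x hx => ?_)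
        Finset.card_le_two
      rw [Finset.mem_insert, Finset.mem_singleton]
      exact (q8_sq_eq_one x).2 (h x (Finset.mem_filter.mp hx).2)
    omega
  refine ⟨x, hx, (Subgroup.eq_of_le_of_card_ge (zpowers_le.mpr hxA) ?_).symm⟩
  rw [hA, Nat.card_zpowers]
  have : Fact (Nat.Prime 2) := ⟨Nat.prime_two⟩
  rw [orderOf_eq_prime_pow (p := 2) (n := 1) (by simpa using hx) (q8_sq_eq_one x).1]
  norm_num

theorem card_subgroups_four :
    Nat.card {A : Subgroup (QuaternionGroup 2) // Nat.card A = 4} ≤ 3 := by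
  classical
  choose x hx hA using fun A : {A : Subgroup (QuaternionGroup 2) // Nat.card A = 4} =>
    exists_gen_of_card_four A.1 A.2
  have hinj : Function.Injective (fun A => q8Index (x A)) := fun A B h => Subtype.ext (by
    rw [hA A, hA B]
    rcases q8Index_spec _ _ (hx A) (hx B) h with h' | h'
    · rw [h']
    · rw [h', zpowers_inv])
  simpa using Nat.card_le_card_of_injective _ hinj

theorem isCyclic_of_ne_top {H : Subgroup (QuaternionGroup 2)} (h : H ≠ ⊤) : IsCyclic H := by
  classical
  have h8 : Nat.card (QuaternionGroup 2) = 8 := by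
    rw [Nat.card_eq_fintype_card, QuaternionGroup.card]
  have hd : Nat.card H ∣ 8 := h8 ▸ Subgroup.card_subgroup_dvd_card H
  have hle : Nat.card H ≤ 8 := Nat.le_of_dvd (by norm_num) hd
  have hne : Nat.card H ≠ 8 := fun hc => h (Subgroup.eq_top_of_card_eq _ (hc.trans h8.symm))
  by_cases h4 : Nat.card H = 4
  · obtain ⟨x, -, hx⟩ := exists_gen_of_card_four H h4
    subst hx
    infer_instance
  have h2 : Nat.card H = 1 ∨ Nat.card H = 2 := by
    generalize Nat.card H = c at *
    interval_cases c <;> omega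
  rcases h2 with hc | hc
  · have := (Nat.card_eq_one_iff_unique.mp hc).1
    exact isCyclic_of_subsingleton
  · have : Fact (Nat.Prime 2) := ⟨Nat.prime_two⟩
    exact isCyclic_of_prime_card hc

theorem exists_conj_eq_of_quaternion (S : Sylow 2 G) (e : (S : Subgroup G) ≃* QuaternionGroup 2)
    (hnc : ¬ Cfsg.HasNormalPComplement 2 G) {A B : Subgroup G} (hA : A ≤ S) (hB : B ≤ S)
    (hA4 : Nat.card A = 4) (hB4 : Nat.card B = 4) :
    ∃ n ∈ normalizer ((S : Subgroup G) : Set G), B = A.map (MulAut.conj n).toMonoidHom := by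
  classical
  have hcyc : ∀ R : Subgroup G, R ≤ S → R ≠ (S : Subgroup G) → IsCyclic R := by
    intro R hR hne
    have : IsCyclic ((R.subgroupOf (S : Subgroup G)).map e.toMonoidHom) := by
      refine isCyclic_of_ne_top fun h => hne (le_antisymm hR ?_)
      refine subgroupOf_eq_top.mp ?_
      apply Subgroup.map_injective (f := e.toMonoidHom) e.injective
      rw [h, Subgroup.map_top_of_surjective e.toMonoidHom e.surjective]
    have h1 : IsCyclic (R.subgroupOf (S : Subgroup G)) :=
      (MulEquiv.isCyclic ((R.subgroupOf (S : Subgroup G)).equivMapOfInjective _ e.injective)).mpr this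
    exact (MulEquiv.isCyclic (subgroupOfEquivOfLe hR)).mp h1
  obtain ⟨g, hgN, hgodd, hgC⟩ : ∃ g ∈ normalizer ((S : Subgroup G) : Set G),
      Odd (orderOf g) ∧ g ∉ centralizer ((S : Subgroup G) : Set G) := by
    by_contra hall
    push Not at hall
    refine hnc (CfsgLib.Transfer.hasNormalPComplement_of_frobeniusCond ?_)
    intro Q hQ g hg hco
    obtain ⟨T, hT⟩ := hQ.exists_le_sylow
    obtain ⟨x, hx⟩ := MulAction.exists_smul_eq G T S
    set Q' := Q.map (MulAut.conj x).toMonoidHom with hQ'
    have hQ'S : Q' ≤ S := by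
      rw [← hx, Sylow.coe_subgroup_smul]
      exact Subgroup.map_mono hT
    set g' := x * g * x⁻¹ with hg'
    have hg'ord : Odd (orderOf g') := by
      rw [hg', show x * g * x⁻¹ = (MulAut.conj x).toMonoidHom g from rfl,
        orderOf_injective (MulAut.conj x).toMonoidHom (MulAut.conj x).injective]
      exact Nat.coprime_two_right.mp hco
    have hg'N : g' ∈ normalizer (Q' : Set G) := by
      rw [mem_normalizer_iff]
      intro y
      simp only [hQ', Subgroup.mem_map_equiv, MulAut.conj_symm_apply]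
      rw [mem_normalizer_iff.mp hg (x⁻¹ * y * x), hg']
      group
    have hmem : g' ∈ centralizer (Q' : Set G) := by
      by_cases hQS : Q' = (S : Subgroup G)
      · rw [hQS] at hg'N ⊢
        exact hall g' hg'N hg'ord
      · have := hcyc Q' hQ'S hQS
        exact mem_centralizer_of_isCyclic (hQ.map _) hg'N hg'ord
    rw [mem_centralizer_iff] at hmem ⊢
    intro q hq
    have h2 := hmem (x * q * x⁻¹) ⟨q, hq, rfl⟩
    rw [hg'] at h2
    have h3 : x * (q * g) * x⁻¹ = x * (g * q) * x⁻¹ := by
      calc x * (q * g) * x⁻¹ = x * q * x⁻¹ * (x * g * x⁻¹) := by group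
        _ = x * g * x⁻¹ * (x * q * x⁻¹) := h2
        _ = _ := by group
    exact mul_left_cancel (mul_right_cancel h3)
  let F : G → Subgroup G → Subgroup G := fun n C => C.map (MulAut.conj n).toMonoidHom
  have hFmul : ∀ a b C, F (a * b) C = F a (F b C) := fun a b C => by
    simp only [F, Subgroup.map_map]
    congr 1
    ext y
    simp [mul_assoc]
  have hFone : ∀ C, F 1 C = C := fun C => by
    ext y
    simp [F, Subgroup.mem_map]
  have hFle : ∀ n ∈ normalizer ((S : Subgroup G) : Set G), ∀ C ≤ (S : Subgroup G),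
      F n C ≤ (S : Subgroup G) := by
    rintro n hn C hC y ⟨c, hc, rfl⟩
    exact (mem_normalizer_iff.mp hn c).mp (hC hc)
  have hFcard : ∀ n C, Nat.card (F n C) = Nat.card C := fun n C =>
    (Nat.card_congr (C.equivMapOfInjective _ (MulAut.conj n).injective).toEquiv).symm
  let T := {C : Subgroup G // C ≤ (S : Subgroup G) ∧ Nat.card C = 4}
  have hT : Nat.card T ≤ 3 := by
    refine le_trans (Nat.card_le_card_of_injective
      (fun C : T => (⟨(C.1.subgroupOf (S : Subgroup G)).map e.toMonoidHom, ?_⟩ :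
        {A : Subgroup (QuaternionGroup 2) // Nat.card A = 4})) ?_) card_subgroups_four
    · rw [← Nat.card_congr ((C.1.subgroupOf (S : Subgroup G)).equivMapOfInjective _ e.injective).toEquiv,
        Nat.card_congr (subgroupOfEquivOfLe C.2.1).toEquiv, C.2.2]
    · intro C D h
      have h1 := Subgroup.map_injective e.injective (congrArg Subtype.val h)
      apply Subtype.ext
      rw [← inf_eq_left.mpr C.2.1, ← inf_eq_left.mpr D.2.1, ← subgroupOf_map_subtype, h1,
        subgroupOf_map_subtype]
  obtain ⟨c, hc⟩ := hgodd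
  have hsq : ∀ C, F g (F g C) = C → F g C = C := by
    intro C h
    have h2 : ∀ i : ℕ, F (g ^ (2 * i)) C = C := by
      intro i
      induction i with
      | zero => simp [hFone]
      | succ i ih => rw [mul_add, pow_add, hFmul, mul_one, pow_two, hFmul g g, h, ih]
    have := h2 (c + 1)
    rwa [show 2 * (c + 1) = orderOf g + 1 by omega, pow_succ, pow_orderOf_eq_one, one_mul] at this
  -- `g` moves every subgroup of order four
  have hmove : ∀ C : T, F g C.1 ≠ C.1 := by
    intro C₀ h0
    have hall' : ∀ C : T, F g C.1 = C.1 := by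
      intro C
      by_contra hC
      let C₁ : T := ⟨F g C.1, hFle g hgN _ C.2.1, (hFcard g _).trans C.2.2⟩
      let C₂ : T := ⟨F g C₁.1, hFle g hgN _ C₁.2.1, (hFcard g _).trans C₁.2.2⟩
      have hinj : Function.Injective (F g) := fun a b h =>
        Subgroup.map_injective (MulAut.conj g).injective h
      have h01 : C₀ ≠ C := fun h => hC (h ▸ h0)
      have h02 : C₀ ≠ C₁ := fun h => h01 (Subtype.ext (hinj (h0.trans (congrArg Subtype.val h))))
      have h03 : C₀ ≠ C₂ := fun h => h02 (Subtype.ext (hinj (h0.trans (congrArg Subtype.val h))))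
      have h12 : C ≠ C₁ := fun h => hC (congrArg Subtype.val h).symm
      have h13 : C ≠ C₂ := fun h => hC (hsq _ (congrArg Subtype.val h).symm)
      have h23 : C₁ ≠ C₂ := fun h => h12 (Subtype.ext (hinj (congrArg Subtype.val h)))
      have : Fintype T := Fintype.ofFinite T
      have h4 : 4 ≤ Nat.card T := by
        rw [Nat.card_eq_fintype_card]
        refine le_trans ?_ (Finset.card_le_univ {C₀, C, C₁, C₂})
        rw [Finset.card_insert_of_notMem (by simp [h01, h02, h03]),
          Finset.card_insert_of_notMem (by simp [h12, h13]), Finset.card_pair h23]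
      omega
    refine hgC (mem_centralizer_iff.mpr fun s hs => ?_)
    have hS8 : ∀ x : (S : Subgroup G), x ^ 2 ≠ 1 → Nat.card (zpowers x) = 4 := by
      intro x hx
      rw [Nat.card_zpowers, ← orderOf_injective e.toMonoidHom e.injective x]
      have : Fact (Nat.Prime 2) := ⟨Nat.prime_two⟩
      refine (orderOf_eq_prime_pow (p := 2) (n := 1) ?_ (q8_sq_eq_one _).1).trans (by norm_num)
      rw [pow_one]
      change ¬ (e x) ^ 2 = 1
      rw [← map_pow, e.map_eq_one_iff]
      exact hx
    have hfix : ∀ x : (S : Subgroup G), x ^ 2 ≠ 1 → (x : G) * g = g * x := by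
      intro x hx
      let C : T := ⟨zpowers (x : G), zpowers_le.mpr x.2, by
        rw [Nat.card_zpowers, Subgroup.orderOf_coe, ← Nat.card_zpowers, hS8 x hx]⟩
      have hN : g ∈ normalizer (zpowers (x : G) : Set G) := by
        rw [mem_normalizer_iff]
        intro y
        constructor
        · intro hy
          exact (hall' C).le ⟨y, hy, rfl⟩
        · intro hy
          obtain ⟨z, hz, hzy⟩ := (hall' C).symm.le hy
          have : z = y := (MulAut.conj g).injective hzy
          exact this ▸ hz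
      exact mem_centralizer_iff.mp (mem_centralizer_of_isCyclic
        (S.2.to_le (zpowers_le.mpr x.2)) hN ⟨c, hc⟩) _ (mem_zpowers _)
    by_cases h2 : (⟨s, hs⟩ : (S : Subgroup G)) ^ 2 = 1
    · have : ∃ x : (S : Subgroup G), x ^ 2 ≠ 1 := by
        refine ⟨e.symm (.a 1), fun h => ?_⟩
        rw [← map_pow, e.symm.map_eq_one_iff] at h
        exact absurd h (by decide)
      obtain ⟨x, hx⟩ := this
      have hsx : (x * ⟨s, hs⟩) ^ 2 ≠ 1 := by
        have key : ∀ a b : QuaternionGroup 2, a ^ 2 ≠ 1 → b ^ 2 = 1 → (a * b) ^ 2 ≠ 1 := by decide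
        intro h
        refine key (e x) (e ⟨s, hs⟩) ?_ (by rw [← map_pow, h2, map_one])
          (by rw [← map_mul, ← map_pow, h, map_one])
        rw [← map_pow, Ne, e.map_eq_one_iff]
        exact hx
      have h1 := hfix x hx
      have h3 : (x : G) * s * g = g * ((x : G) * s) := hfix _ hsx
      apply mul_left_cancel (a := (x : G))
      calc (x : G) * (s * g) = (x : G) * s * g := (mul_assoc _ _ _).symm
        _ = g * x * s := by rw [h3, mul_assoc]
        _ = (x : G) * g * s := by rw [h1]
        _ = (x : G) * (g * s) := mul_assoc _ _ _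
    · exact hfix ⟨s, hs⟩ h2
  let A₀ : T := ⟨A, hA, hA4⟩
  let A₁ : T := ⟨F g A, hFle g hgN _ hA, (hFcard g _).trans hA4⟩
  let A₂ : T := ⟨F g A₁.1, hFle g hgN _ A₁.2.1, (hFcard g _).trans A₁.2.2⟩
  let B₀ : T := ⟨B, hB, hB4⟩
  have h01 : A₀ ≠ A₁ := fun h => hmove A₀ (congrArg Subtype.val h).symm
  have h02 : A₀ ≠ A₂ := fun h => hmove A₀ (hsq _ (congrArg Subtype.val h).symm)
  have h12 : A₁ ≠ A₂ := fun h => hmove A₁ (congrArg Subtype.val h).symm
  have : Fintype T := Fintype.ofFinite T
  have hB' : B₀ = A₀ ∨ B₀ = A₁ ∨ B₀ = A₂ := by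
    by_contra h
    push Not at h
    have h4 : 4 ≤ Nat.card T := by
      rw [Nat.card_eq_fintype_card]
      refine le_trans ?_ (Finset.card_le_univ {B₀, A₀, A₁, A₂})
      rw [Finset.card_insert_of_notMem (by simp [h.1, h.2.1, h.2.2]),
        Finset.card_insert_of_notMem (by simp [h01, h02]), Finset.card_pair h12]
    omega
  rcases hB' with h | h | h
  · exact ⟨1, one_mem _, (congrArg Subtype.val h).trans (hFone A).symm⟩
  · exact ⟨g, hgN, congrArg Subtype.val h⟩
  · exact ⟨g * g, mul_mem hgN hgN, (congrArg Subtype.val h).trans (hFmul g g A).symm⟩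

end CfsgLib.Blocks.TwoLocal
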