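import Cfsg.Agent.Lib.Blocks.HomocyclicRows
import Cfsg.Agent.Lib.Blocks.PrincipalSection
import Cfsg.Agent.Lib.Blocks.KleinOrder
import Cfsg.Agent.Lib.Blocks.TwoLocal
import Mathlib.GroupTheory.FiniteAbelian.Duality
import Mathlib.Analysis.Complex.Polynomial.Basic
import Mathlib.RingTheory.RootsOfUnity.AlgebraicallyClosed

/-!
# The principal 2-block for a homocyclic Sylow 2-subgroup with three fused involutions

`Loc`: the local data, the Sylow subgroup given by an injective `f : Q →* G`, the fusion by a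
fixed-point-free automorphism `φ` of order three.
`exists_linear`: then the group has a linear character trivial on the Sylow subgroup.
-/

set_option autoImplicit false

noncomputable section

namespace CfsgLib.Blocks.HomocyclicTwo

open Cfsg CfsgLib.Blocks CfsgLib.Char
open scoped ComplexConjugate Classical

/-- The local data. -/
structure Loc {G Q : Type*} [Group G] [CommGroup Q] (f : Q →* G) (φ : MulAut Q) : Prop where
  inj : Function.Injective f
  sixteen : 16 ∣ Nat.card Q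
  pow2 : ∀ q : Q, ∃ k : ℕ, orderOf q = 2 ^ k
  fixfree : ∀ q : Q, φ q = q → q = 1
  cube : ∀ q : Q, φ (φ (φ q)) = q
  fusion : ∀ q r : Q, q ≠ 1 → (IsConj (f q) (f r) ↔ ∃ j : Fin 3, (φ ^ (j : ℕ)) q = r)
  complement : ∀ q : Q, q ≠ 1 →
    ∃ k : ℕ, (pPrimeCore 2 (Subgroup.centralizer ({f q} : Set G))).index = 2 ^ k
  twoPart : ∀ q : Q, q ≠ 1 →
    2 ^ (Nat.card (Subgroup.centralizer ({f q} : Set G))).factorization 2 = Nat.card Q
  four : ∃ q : Q, q ^ 2 ≠ 1

variable {G Q : Type*} [Group G] [Fintype G] [CommGroup Q] [Fintype Q] {f : Q →* G} {φ : MulAut Q}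
  {M : Ideal AlgInt} [M.IsMaximal]

omit [Fintype G] [Fintype Q] in
theorem Loc.f_ne_one (h : Loc f φ) {q : Q} (hq : q ≠ 1) : f q ≠ 1 := fun e =>
  hq (h.inj (by rw [e, map_one]))

omit [Fintype G] [Fintype Q] in
theorem Loc.f_pow (h : Loc f φ) (q : Q) : ∃ k : ℕ, orderOf (f q) = 2 ^ k := by
  obtain ⟨k, hk⟩ := h.pow2 q
  exact ⟨k, by rw [orderOf_injective f h.inj, hk]⟩

omit [Fintype G] [Fintype Q] in
theorem Loc.apply_ne (h : Loc f φ) {q : Q} (hq : q ≠ 1) {j : Fin 3} (hj : j ≠ 0) :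
    (φ ^ (j : ℕ)) q ≠ q := by
  intro e
  match j with
  | ⟨0, _⟩ => exact hj rfl
  | ⟨1, _⟩ => exact hq (h.fixfree q (by simpa using e))
  | ⟨2, _⟩ =>
    apply hq
    refine h.fixfree q ?_
    have e' : φ (φ q) = q := by simpa [pow_two] using e
    calc φ q = φ (φ (φ q)) := by rw [e']
      _ = q := h.cube q

/-- The multiplicity difference `m(λ) - m(1)` of `χ` on the Sylow subgroup. -/
def vC (f : Q →* G) (χ : G → ℂ) (l : Q →* ℂˣ) : ℂ :=
  (Fintype.card Q : ℂ)⁻¹ * ∑ q : Q, χ (f q) * (conj (l q : ℂ) - 1)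

omit [Fintype G] in
theorem vC_eq_int [Finite G] {χ : G → ℂ} (hχ : IsCharacter G χ) (f : Q →* G) (l : Q →* ℂˣ) :
    ∃ n : ℤ, vC f χ l = n := by
  obtain ⟨a, ha⟩ := classInner_char_nat (isCharacter_comp hχ f) (isCharacter_of_isIrr
    (isIrrCharacter_units_hom l))
  obtain ⟨b, hb⟩ := classInner_char_nat (isCharacter_comp hχ f) (isCharacter_of_isIrr
    (isIrrCharacter_one (G := Q)))
  refine ⟨(a : ℤ) - b, ?_⟩
  push_cast
  rw [← ha, ← hb, classInner_def, classInner_def, vC, Nat.card_eq_fintype_card, ← mul_sub,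
    ← Finset.sum_sub_distrib]
  refine congrArg _ (Finset.sum_congr rfl fun q _ => ?_)
  simp only [map_one, Function.comp_apply]
  ring

omit [Fintype G] in
theorem sum_hom_eq (l : Q →* ℂˣ) [Decidable (l = 1)] :
    ∑ q : Q, (l q : ℂ) = if l = 1 then (Fintype.card Q : ℂ) else 0 := by
  split_ifs with h
  · simp [h]
  · refine sum_hom_units_eq_zero ((Units.coeHom ℂ).comp l) fun e => h ?_
    ext q
    exact congrArg (fun F : Q →* ℂ => F q) e

theorem hom_card : Nat.card (Q →* ℂˣ) = Nat.card Q := by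
  have : NeZero (Monoid.exponent Q : ℂ) := ⟨by exact_mod_cast Monoid.exponent_ne_zero_of_finite⟩
  exact CommGroup.card_monoidHom_of_hasEnoughRootsOfUnity Q ℂ

theorem exists_hom_ne {q : Q} (hq : q ≠ 1) : ∃ l : Q →* ℂˣ, l q ≠ 1 := by
  have : NeZero (Monoid.exponent Q : ℂ) := ⟨by exact_mod_cast Monoid.exponent_ne_zero_of_finite⟩
  exact CommGroup.exists_apply_ne_one_of_hasEnoughRootsOfUnity Q ℂ hq

theorem sum_over_hom [Fintype (Q →* ℂˣ)] (q : Q) [Decidable (q = 1)] :
    ∑ l : Q →* ℂˣ, (l q : ℂ) = if q = 1 then (Fintype.card Q : ℂ) else 0 := by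
  split_ifs with h
  · subst h
    simp only [map_one, Units.val_one, Finset.sum_const, Finset.card_univ, nsmul_eq_mul, mul_one]
    rw [← Nat.card_eq_fintype_card, hom_card, Nat.card_eq_fintype_card]
  · obtain ⟨k, hk⟩ := exists_hom_ne h
    have h1 : (k q : ℂ) * ∑ l : Q →* ℂˣ, (l q : ℂ) = ∑ l : Q →* ℂˣ, (l q : ℂ) := by
      rw [Finset.mul_sum]
      exact Fintype.sum_equiv (Equiv.mulLeft k) _ _ fun l => by simp
    have h2 : ((k q : ℂ) - 1) * ∑ l : Q →* ℂˣ, (l q : ℂ) = 0 := by rw [sub_mul, one_mul, h1, sub_self]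
    rcases mul_eq_zero.1 h2 with h3 | h3
    · exact absurd (Units.val_eq_one.1 (sub_eq_zero.1 h3)) hk
    · exact h3

omit [Fintype Q] in
theorem conj_hom [Finite Q] (l : Q →* ℂˣ) (q : Q) : conj (l q : ℂ) = ((l⁻¹ : Q →* ℂˣ) q : ℂ) := by
  rw [← char_inv (isCharacter_of_isIrr (isIrrCharacter_units_hom l)) q]
  simp

omit [Fintype G] in
/-- Inversion. -/
theorem inversion [Fintype (Q →* ℂˣ)] (χ : G → ℂ) (q : Q) [Decidable (q = 1)] :
    ∑ l : Q →* ℂˣ, vC f χ l * (l q : ℂ) =
      χ (f q) - if q = 1 then ∑ r : Q, χ (f r) else 0 := by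
  classical
  have hc : (Fintype.card Q : ℂ) ≠ 0 := Nat.cast_ne_zero.2 Fintype.card_ne_zero
  have h1 : ∀ (l : Q →* ℂˣ) (r : Q), χ (f r) * (conj (l r : ℂ) - 1) * (l q : ℂ) =
      χ (f r) * (l (r⁻¹ * q) : ℂ) - χ (f r) * (l q : ℂ) := fun l r => by
    rw [conj_hom, MonoidHom.inv_apply, ← map_inv, map_mul, Units.val_mul]
    ring
  simp only [vC, mul_assoc, Finset.sum_mul]
  simp only [← mul_assoc (χ _), h1, Finset.sum_sub_distrib, ← Finset.mul_sum, ← Finset.sum_mul]
  rw [Finset.sum_comm, sum_over_hom q]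
  simp only [← Finset.mul_sum, sum_over_hom, inv_mul_eq_one, mul_ite, mul_zero, Finset.sum_ite_eq',
    Finset.mem_univ, if_true]
  split_ifs <;> field_simp <;> ring

omit [Fintype Q] in
/-- The Gram matrix of the columns on the Sylow subgroup. -/
theorem Loc.gram (h : Loc f φ) (hM : IsPModular 2 M) [DecidablePred (· ∈ principalBlock M G)]
    {q r : Q} (hq : q ≠ 1) (hr : r ≠ 1) :
    ∑ χ : IrrCharacter G, (if χ ∈ principalBlock M G then
        (χ : G → ℂ) (f q) * conj ((χ : G → ℂ) (f r)) else 0) =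
      if ∃ j : Fin 3, (φ ^ (j : ℕ)) q = r then (Nat.card Q : ℂ) else 0 := by
  classical
  have : Fact (Nat.Prime 2) := ⟨Nat.prime_two⟩
  let _ := Fintype.ofFinite (Subgroup.centralizer ({f q} : Set G))
  split_ifs with hj
  · have h1 := sum_principal_section_complement hM (h.f_pow q) (h.complement q hq)
      (y := (1 : Subgroup.centralizer ({f q} : Set G))) (by simp)
    rw [OneMemClass.coe_one, mul_one, h.twoPart q hq] at h1
    rw [← h1]
    refine Finset.sum_congr rfl fun χ _ => ?_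
    rw [(isClassFunction_iff.mp (isClassFunction_of_isIrr χ.2)) _ _ ((h.fusion q r hq).2 hj)]
  · exact block_orthogonality hM (isPPart_self Nat.prime_two (h.f_pow q))
      (isPPart_self Nat.prime_two (h.f_pow r)) (fun e => hj ((h.fusion q r hq).1 e))
      isPBlock_principalBlock

/-- The action on linear characters. -/
def act (φ : MulAut Q) (j : ℕ) (l : Q →* ℂˣ) : Q →* ℂˣ := l.comp (φ ^ j).toMonoidHom

omit [Fintype Q] in
theorem act_apply (j : ℕ) (l : Q →* ℂˣ) (q : Q) : act φ j l q = l ((φ ^ j) q) := rfl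

omit [Fintype Q] in
theorem act_act (i j : ℕ) (l : Q →* ℂˣ) : act φ i (act φ j l) = act φ (j + i) l := by
  ext q
  simp [act_apply, pow_add]

omit [Fintype G] [Fintype Q] in
theorem Loc.act_mod (h : Loc f φ) (i : ℕ) (l : Q →* ℂˣ) : act φ i l = act φ (i % 3) l := by
  have h3 : φ ^ 3 = 1 := by
    ext q
    simpa [pow_succ] using h.cube q
  simp only [act, pow_eq_pow_mod i h3]

/-- Equivalence of nontrivial linear characters. -/
def Rel (φ : MulAut Q) (l l' : {l : Q →* ℂˣ // l ≠ 1}) : Prop :=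
  ∃ j : Fin 3, act φ j (l : Q →* ℂˣ) = l'

omit [Fintype G] in
theorem Loc.act_ne (h : Loc f φ) {l : Q →* ℂˣ} (hl : l ≠ 1) : act φ 1 l ≠ l := by
  intro e
  apply hl
  let d : Q → Q := fun q => q⁻¹ * φ q
  have hd : Function.Injective d := by
    intro a b hab
    have h1 : φ (a * b⁻¹) = a * b⁻¹ := by
      have hab' : a⁻¹ * φ a = b⁻¹ * φ b := hab
      rw [map_mul, map_inv, show φ a = a * (b⁻¹ * φ b) by rw [← hab', mul_inv_cancel_left],
        mul_assoc, mul_assoc, mul_inv_cancel, mul_one]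
    exact mul_inv_eq_one.1 (h.fixfree _ h1)
  ext x
  obtain ⟨q, rfl⟩ := (Finite.injective_iff_surjective.1 hd) x
  have h2 : l (φ q) = l q := by
    have := DFunLike.congr_fun e q
    simpa [act_apply] using this
  simp only [d, map_mul, map_inv, h2, inv_mul_cancel, MonoidHom.one_apply]

omit [Fintype G] in
theorem Loc.rel_unique (h : Loc f φ) {l l' : {l : Q →* ℂˣ // l ≠ 1}} {i j : Fin 3}
    (hi : act φ i (l : Q →* ℂˣ) = l') (hj : act φ j (l : Q →* ℂˣ) = l') : i = j := by
  by_contra hne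
  have hne' : (i : ℕ) ≠ j := fun e => hne (Fin.ext e)
  -- a nontrivial power fixes `l`
  obtain ⟨d, hd0, hd3, hd⟩ : ∃ d : ℕ, d ≠ 0 ∧ d < 3 ∧ act φ d (l : Q →* ℂˣ) = l := by
    refine ⟨((j : ℕ) + (3 - i)) % 3, by omega, Nat.mod_lt _ (by norm_num), ?_⟩
    have h1 := congrArg (act φ (3 - (i : ℕ))) (hi.trans hj.symm)
    rw [act_act, act_act, show (i : ℕ) + (3 - i) = 3 by omega] at h1
    rw [← h.act_mod, ← h1, h.act_mod]
    ext q
    simp [act_apply]
  apply h.act_ne l.2
  interval_cases d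
  · exact absurd rfl hd0
  · exact hd
  · have h1 := congrArg (act φ 2) hd
    rw [act_act, h.act_mod, show (2 + 2) % 3 = 1 from rfl] at h1
    rw [h1, hd]

omit [Fintype G] [Fintype Q] in
theorem Loc.rel_symm (h : Loc f φ) {l l' : {l : Q →* ℂˣ // l ≠ 1}} (hl : Rel φ l l') :
    Rel φ l' l := by
  obtain ⟨j, hj⟩ := hl
  refine ⟨⟨(3 - (j : ℕ)) % 3, Nat.mod_lt _ (by norm_num)⟩, ?_⟩
  show act φ ((3 - (j : ℕ)) % 3) (l' : Q →* ℂˣ) = l
  rw [← h.act_mod, ← hj, act_act, show (j : ℕ) + (3 - j) = 3 by omega, h.act_mod]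
  ext q
  simp [act_apply]

/-- The inner product of two multiplicity vectors. -/
theorem Loc.inner_v (h : Loc f φ) (hM : IsPModular 2 M) [DecidablePred (· ∈ principalBlock M G)]
    (l l' : {l : Q →* ℂˣ // l ≠ 1}) [Decidable (Rel φ l l')] :
    ∑ χ : IrrCharacter G, (if χ ∈ principalBlock M G then
        vC f (χ : G → ℂ) l * conj (vC f (χ : G → ℂ) l') else 0) =
      3 + if Rel φ l l' then 1 else 0 := by
  classical
  have hc : (Fintype.card Q : ℂ) ≠ 0 := Nat.cast_ne_zero.2 Fintype.card_ne_zero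
  let a : Q → ℂ := fun q => conj ((l : Q →* ℂˣ) q : ℂ) - 1
  let b : Q → ℂ := fun q => ((l' : Q →* ℂˣ) q : ℂ) - 1
  have hG : ∀ q r : Q, (∑ χ : IrrCharacter G, (if χ ∈ principalBlock M G then
        (χ : G → ℂ) (f q) * conj ((χ : G → ℂ) (f r)) else 0)) * (a q * b r) =
      ∑ j : Fin 3, if (φ ^ (j : ℕ)) q = r then (Fintype.card Q : ℂ) * (a q * b r) else 0 := by
    intro q r
    by_cases hq : q = 1
    · subst hq; simp [a]
    by_cases hr : r = 1
    · subst hr; simp [b]
    rw [h.gram hM hq hr, Nat.card_eq_fintype_card]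
    split_ifs with hj
    · obtain ⟨j, hj⟩ := hj
      rw [Finset.sum_eq_single j (fun i _ hi => if_neg fun e => ?_) (by simp), if_pos hj]
      -- two powers agreeing at `q`
      have hne : (i : ℕ) ≠ j := fun e' => hi (Fin.ext e')
      have h3 : φ ^ 3 = 1 := by
        ext x
        simpa [pow_succ] using h.cube x
      have h4 := congrArg (φ ^ (3 - (i : ℕ))) (e.trans hj.symm)
      rw [← MulAut.mul_apply, ← MulAut.mul_apply, ← pow_add, ← pow_add,
        show 3 - (i : ℕ) + i = 3 by omega, h3, MulAut.one_apply, pow_eq_pow_mod _ h3] at h4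
      exact h.apply_ne hq (j := ⟨(3 - (i : ℕ) + j) % 3, Nat.mod_lt _ (by norm_num)⟩)
        (fun e' => by
          have := congrArg Fin.val e'
          simp at this
          omega) h4.symm
    · simp only [not_exists] at hj
      simp [hj]
  have step : ∑ χ : IrrCharacter G, (if χ ∈ principalBlock M G then
        vC f (χ : G → ℂ) l * conj (vC f (χ : G → ℂ) l') else 0) =
      (Fintype.card Q : ℂ)⁻¹ * ((Fintype.card Q : ℂ)⁻¹ * ∑ q : Q, ∑ r : Q,
        (∑ χ : IrrCharacter G, (if χ ∈ principalBlock M G then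
          (χ : G → ℂ) (f q) * conj ((χ : G → ℂ) (f r)) else 0)) * (a q * b r)) := by
    simp only [Finset.sum_mul, Finset.mul_sum]
    rw [Finset.sum_congr rfl fun q _ => Finset.sum_comm, Finset.sum_comm]
    refine Finset.sum_congr rfl fun χ _ => ?_
    split_ifs
    · simp only [vC, map_mul, map_inv₀, map_natCast, map_sum, map_sub, map_one, Complex.conj_conj,
        Finset.mul_sum, Finset.sum_mul, a, b]
      rw [Finset.sum_comm]
      exact Finset.sum_congr rfl fun q _ => Finset.sum_congr rfl fun r _ => by ring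
    · simp
  rw [step]
  simp only [hG]
  rw [Finset.sum_congr rfl fun q _ => Finset.sum_comm, Finset.sum_comm]
  simp only [Finset.sum_ite_eq, Finset.mem_univ, if_true, ← Finset.mul_sum]
  rw [← mul_assoc (_⁻¹ : ℂ) (Fintype.card Q : ℂ), inv_mul_cancel₀ hc, one_mul]
  have hterm : ∀ j : Fin 3, ∑ q : Q, a q * b ((φ ^ (j : ℕ)) q) = (Fintype.card Q : ℂ) *
      ((if act φ j (l' : Q →* ℂˣ) = l then 1 else 0) + 1) := by
    intro j
    have e : ∀ q : Q, a q * b ((φ ^ (j : ℕ)) q) =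
        ((((l : Q →* ℂˣ))⁻¹ * act φ j (l' : Q →* ℂˣ)) q : ℂ) - (((l : Q →* ℂˣ))⁻¹ q : ℂ)
          - ((act φ j (l' : Q →* ℂˣ)) q : ℂ) + 1 := fun q => by
      simp only [a, b, conj_hom, MonoidHom.mul_apply, Units.val_mul, act_apply]
      ring
    simp only [e, Finset.sum_add_distrib, Finset.sum_sub_distrib, sum_hom_eq, inv_mul_eq_one,
      inv_eq_one, if_neg l.2, Finset.sum_const, Finset.card_univ, nsmul_eq_mul, mul_one]
    have hact : act φ j (l' : Q →* ℂˣ) ≠ 1 := fun e1 => l'.2 (by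
      ext q
      obtain ⟨x, rfl⟩ := (φ ^ (j : ℕ)).surjective q
      exact congrArg (fun F : Q →* ℂˣ => ((F x : ℂˣ) : ℂ)) e1)
    have hl1 : ¬ ((l : Q →* ℂˣ))⁻¹ = 1 := fun e1 => l.2 (MonoidHom.ext fun q => by
      have h1 := DFunLike.congr_fun e1 q
      simpa using h1)
    have hiff : (l : Q →* ℂˣ)⁻¹ * act φ j (l' : Q →* ℂˣ) = 1 ↔ act φ j (l' : Q →* ℂˣ) = l := by
      constructor <;> intro e1 <;> refine MonoidHom.ext fun q => ?_ <;>
        have h1 := DFunLike.congr_fun e1 q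
      · simp only [MonoidHom.mul_apply, MonoidHom.inv_apply, MonoidHom.one_apply, inv_mul_eq_one] at h1
        exact h1.symm
      · simp only [MonoidHom.mul_apply, MonoidHom.inv_apply, MonoidHom.one_apply, inv_mul_eq_one]
        exact h1.symm
    simp only [hiff, hl1, hact, if_false, sub_zero]
    split_ifs <;> ring
  simp only [hterm, ← Finset.mul_sum]
  rw [← mul_assoc, inv_mul_cancel₀ hc, one_mul, Finset.sum_add_distrib]
  simp only [Finset.sum_const, Finset.card_univ, Fintype.card_fin, nsmul_eq_mul, mul_one]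
  rw [add_comm]
  congr 1
  split_ifs with hR
  · obtain ⟨j, hj⟩ := h.rel_symm hR
    rw [Finset.sum_eq_single j (fun i _ hi => if_neg fun e => hi (h.rel_unique e hj)) (by simp),
      if_pos hj]
  · refine Finset.sum_eq_zero fun i _ => if_neg fun e => hR (h.rel_symm ⟨i, e⟩)

theorem Loc.rel_four (h : Loc f φ) (a b c d : {l : Q →* ℂˣ // l ≠ 1}) :
    ∃ e, ¬ Rel φ e a ∧ ¬ Rel φ e b ∧ ¬ Rel φ e c ∧ ¬ Rel φ e d := by
  have : Finite (Q →* ℂˣ) := Nat.finite_of_card_ne_zero (by rw [hom_card]; exact Nat.card_pos.ne')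
  have := Fintype.ofFinite (Q →* ℂˣ)
  by_contra hcon
  push Not at hcon
  let cls : {l : Q →* ℂˣ // l ≠ 1} → Finset (Q →* ℂˣ) := fun x =>
    Finset.univ.image fun j : Fin 3 => act φ j (x : Q →* ℂˣ)
  have hsub : (Finset.univ.erase (1 : Q →* ℂˣ)) ⊆ cls a ∪ cls b ∪ cls c ∪ cls d := by
    intro l hl
    have hl1 := (Finset.mem_erase.1 hl).1
    have hmem : ∀ x, Rel φ ⟨l, hl1⟩ x → l ∈ cls x := fun x hx => by
      obtain ⟨j, hj⟩ := h.rel_symm hx
      exact Finset.mem_image.2 ⟨j, Finset.mem_univ _, hj⟩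
    simp only [Finset.mem_union]
    by_contra hn
    push Not at hn
    exact hn.2 (hmem d (hcon ⟨l, hl1⟩ (fun hx => hn.1.1.1 (hmem a hx))
      (fun hx => hn.1.1.2 (hmem b hx)) (fun hx => hn.1.2 (hmem c hx))))
  have hc3 : ∀ x, (cls x).card ≤ 3 := fun x => Finset.card_image_le.trans (by simp)
  have h12 := (Finset.card_le_card hsub).trans ((Finset.card_union_le _ _).trans
    (Nat.add_le_add ((Finset.card_union_le _ _).trans (Nat.add_le_add (Finset.card_union_le _ _) le_rfl))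
      le_rfl))
  rw [Finset.card_erase_of_mem (Finset.mem_univ _), Finset.card_univ, ← Nat.card_eq_fintype_card,
    hom_card] at h12
  have := hc3 a
  have := hc3 b
  have := hc3 c
  have := hc3 d
  have := Nat.le_of_dvd Nat.card_pos h.sixteen
  omega

omit [Fintype Q] in
/-- No element inverts an element of order at least four of the Sylow subgroup. -/
theorem Loc.not_inverted (h : Loc f φ) {q : Q} (hq : q ^ 2 ≠ 1) (a : G) :
    a * f q * a⁻¹ ≠ (f q)⁻¹ := by
  intro e
  have hq1 : q ≠ 1 := fun e1 => hq (by rw [e1, one_pow])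
  obtain ⟨j, hj⟩ := (h.fusion q q⁻¹ hq1).1 (isConj_iff.2 ⟨a, by rw [e, map_inv]⟩)
  refine hq ?_
  have hinv : q = q⁻¹ := by
    match j with
    | ⟨0, _⟩ => simpa using hj
    | ⟨1, _⟩ =>
      have h1 : φ q = q⁻¹ := by simpa using hj
      conv_lhs => rw [← h.cube q, h1, map_inv, map_inv, h1, map_inv, inv_inv, h1]
    | ⟨2, _⟩ =>
      have h1 : φ (φ q) = q⁻¹ := by simpa [pow_two] using hj
      have h2 : φ (q⁻¹) = q := by rw [← h1]; exact h.cube q
      have h3 : φ q = q⁻¹ := by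
        have := congrArg (fun z : Q => z⁻¹) h2
        simpa [map_inv] using this
      have h4 : φ q⁻¹ = q⁻¹ := by rw [← h3]; exact h1.trans h3.symm
      exact h2.symm.trans h4
  rw [pow_two]
  nth_rw 2 [hinv]
  exact mul_inv_cancel q

/-- The structure sum of the principal block vanishes at an element of order at least four. -/
theorem Loc.structure_zero (h : Loc f φ) (hM : IsPModular 2 M) {t : G} (ht : t * t = 1)
    {q : Q} (hq : q ^ 2 ≠ 1) :
    ∑ χ : IrrCharacter G, (if χ ∈ principalBlock M G then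
      (χ : G → ℂ) t * (χ : G → ℂ) t * (χ : G → ℂ) (f q) / (χ : G → ℂ) 1 else 0) = 0 := by
  have : Fact (Nat.Prime 2) := ⟨Nat.prime_two⟩
  let _ := Fintype.ofFinite (Subgroup.centralizer ({f q} : Set G))
  set C := Subgroup.centralizer ({f q} : Set G) with hC
  set F : IrrCharacter G → ℂ := fun χ => (χ : G → ℂ) t * (χ : G → ℂ) t / (χ : G → ℂ) 1 with hF
  have hzero : ∀ c : C, ¬ 2 ∣ orderOf c → ∑ χ : IrrCharacter G, F χ * (χ : G → ℂ) (f q * (c : G)) = 0 := by
    intro c hc
    have hp := card_pairs t t (f q * (c : G))⁻¹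
    rw [inv_inv, Finset.card_eq_zero.2 ?_] at hp
    · have h0 := (mul_eq_zero.1 (hp.symm.trans Nat.cast_zero)).resolve_left (CfsgLib.Char.card_ne_zero' (G := G))
      rw [← h0]
      exact Finset.sum_congr rfl fun χ _ => by simp only [hF]; ring
    · rw [Finset.filter_eq_empty_iff]
      rintro ⟨g, w⟩ - e
      set a := g * t * g⁻¹
      set b := w * t * w⁻¹
      have e' : a * b = (f q * (c : G))⁻¹ := e
      have ha : a * a = 1 := by
        show g * t * g⁻¹ * (g * t * g⁻¹) = 1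
        rw [show g * t * g⁻¹ * (g * t * g⁻¹) = g * (t * t) * g⁻¹ by group, ht]
        group
      have hb : b * b = 1 := by
        show w * t * w⁻¹ * (w * t * w⁻¹) = 1
        rw [show w * t * w⁻¹ * (w * t * w⁻¹) = w * (t * t) * w⁻¹ by group, ht]
        group
      have hz : a * (f q * (c : G)) * a⁻¹ = (f q * (c : G))⁻¹ := by
        rw [← inv_inv (f q * (c : G)), ← e', mul_inv_rev, show (b⁻¹ * a⁻¹)⁻¹ = a * b by group,
          inv_eq_of_mul_eq_one_right ha, inv_eq_of_mul_eq_one_right hb]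
        simp only [mul_assoc, ha, mul_one]
      have hcG : ¬ 2 ∣ orderOf (c : G) := by rwa [Subgroup.orderOf_coe]
      have hcomm := commute_of_mem_centralizer c
      have h1 : IsPPart 2 (f q * (c : G)) (f q) := isPPart_mul hcomm (h.f_pow q) hcG
      obtain ⟨k, hk⟩ := h.f_pow q
      have h2 : IsPPart 2 (f q * (c : G))⁻¹ (f q)⁻¹ := by
        rw [mul_inv_rev, ← (hcomm.inv_inv).eq]
        exact isPPart_mul hcomm.inv_inv ⟨k, by rw [orderOf_inv]; exact hk⟩ (by rwa [orderOf_inv])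
      exact h.not_inverted hq a (isPPart_unique (hz ▸ isPPart_conj h1 a) h2)
  have key : blockPart (principalBlock M C)
      (∑ χ : IrrCharacter G, F χ • fun c : C => (χ : G → ℂ) (f q * (c : G))) 1 = 0 := by
    rw [blockPart_congr_regular hM isPBlock_principalBlock (f' := 0) (by simp) fun c hc => by
      simpa using hzero c hc]
    simp [blockPart_apply, classInner_zero_left]
  have lin : blockPart (principalBlock M C)
      (∑ χ : IrrCharacter G, F χ • fun c : C => (χ : G → ℂ) (f q * (c : G))) 1 =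
      ∑ χ : IrrCharacter G, F χ * blockPart (principalBlock M C)
        (fun c : C => (χ : G → ℂ) (f q * (c : G))) 1 := by
    simp only [blockPart_apply, classInner_sum_left, classInner_smul_left, Finset.sum_mul,
      Finset.mul_sum]
    rw [Finset.sum_comm]
    refine Finset.sum_congr rfl fun ψ _ => ?_
    split_ifs
    · exact Finset.sum_congr rfl fun χ _ => by ring
    · simp
  rw [lin] at key
  refine Eq.trans (Finset.sum_congr rfl fun χ _ => ?_) key
  rw [principal_section hM (h.f_pow q) χ (y := (1 : C)) (by simp), OneMemClass.coe_one, mul_one]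
  simp only [hF]
  split_ifs <;> ring

omit [M.IsMaximal] in
theorem arith {A B F : ℤ} (hA : A % 16 = 1) (hB : B % 16 = 1) (hF : F = 1 + A + B)
    (heq : (A * B + A + B) * F = 9 * (A * B)) : A = 1 ∨ B = 1 := by
  by_contra hcon
  push Not at hcon
  have hA' : 15 ≤ A ∨ A ≤ -15 := by omega
  have hB' : 15 ≤ B ∨ B ≤ -15 := by omega
  have hF3 : F % 16 = 3 := by omega
  have habs : |(A * B + A + B) * F| = 9 * |A * B| := by
    rw [heq, abs_mul, abs_of_pos (by norm_num : (0 : ℤ) < 9)]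
  rw [abs_mul] at habs
  have hlow : 13 * |A * B| ≤ 15 * |A * B + A + B| := by
    have h1 : 15 ≤ |A| := by rcases hA' with h | h <;> rw [le_abs] <;> omega
    have h2 : 15 ≤ |B| := by rcases hB' with h | h <;> rw [le_abs] <;> omega
    have h3 : |A * B| ≤ |A * B + A + B| + |A| + |B| := by
      calc |A * B| = |(A * B + A + B) - (A + B)| := by ring_nf
        _ ≤ |A * B + A + B| + |A + B| := abs_sub _ _
        _ ≤ _ := by linarith [abs_add_le A B]
    rw [abs_mul] at h3 ⊢
    nlinarith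
  have hpos : 0 < |A * B| := abs_pos.2 (mul_ne_zero (by omega) (by omega))
  have hFle : |F| ≤ 10 := by
    by_contra hgt
    push Not at hgt
    have : |A * B + A + B| * 11 ≤ |A * B + A + B| * |F| :=
      mul_le_mul_of_nonneg_left (by omega) (abs_nonneg _)
    nlinarith
  have hF' : F = 3 := by
    rw [abs_le] at hFle
    omega
  have hAB : A + B = 2 := by omega
  rw [hF'] at heq
  have : A * B = 1 := by nlinarith
  rcases Int.eq_one_or_neg_one_of_mul_eq_one this with h | h <;> omega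

theorem triple_sq {a b : ℂ} (ha : a * a = 1) (hb : b * b = 1) :
    (a + b + a * b) * (a + b + a * b) = 1 + 8 * (if a = 1 ∧ b = 1 then 1 else 0) := by
  rcases mul_self_eq_one_iff.1 ha with rfl | rfl <;> rcases mul_self_eq_one_iff.1 hb with rfl | rfl <;>
    norm_num

/-- **The principal 2-block yields a linear character.** -/
theorem Loc.exists_linear (h : Loc f φ) (hM : IsPModular 2 M) :
    ∃ χ : IrrCharacter G, χ ≠ irrOne ∧ (χ : G → ℂ) 1 = 1 ∧ ∀ q : Q, (χ : G → ℂ) (f q) = 1 := by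
  have : Fact (Nat.Prime 2) := ⟨Nat.prime_two⟩
  have : Finite (Q →* ℂˣ) := Nat.finite_of_card_ne_zero (by rw [hom_card]; exact Nat.card_pos.ne')
  have := Fintype.ofFinite (Q →* ℂˣ)
  set S := {χ : IrrCharacter G // χ ∈ principalBlock M G} with hS
  choose n hn using fun (χ : IrrCharacter G) (l : Q →* ℂˣ) =>
    vC_eq_int (isCharacter_of_isIrr χ.2) f l
  let Λ := {l : Q →* ℂˣ // l ≠ 1}
  let o : S := ⟨irrOne, irrOne_mem_principalBlock⟩
  let r : Λ → S → ℤ := fun l χ => n χ.1 l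
  have hc : (Fintype.card Q : ℂ) ≠ 0 := Nat.cast_ne_zero.2 Fintype.card_ne_zero
  have h0 : ∀ l : Λ, r l o = -1 := by
    intro l
    have h1 := hn irrOne l
    simp only [vC, irrOne_apply, one_mul, Finset.sum_sub_distrib, ← map_sum, sum_hom_eq, if_neg l.2,
      map_zero, Finset.sum_const, Finset.card_univ, nsmul_eq_mul, mul_one, zero_sub] at h1
    rw [mul_neg, inv_mul_cancel₀ hc] at h1
    exact_mod_cast h1.symm
  have hgram : ∀ l l' : Λ, ((∑ χ : S, r l χ * r l' χ : ℤ) : ℂ) = 3 + if Rel φ l l' then 1 else 0 := by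
    intro l l'
    rw [← h.inner_v hM l l', ← Finset.sum_filter, Int.cast_sum,
      Finset.sum_subtype (p := fun χ => χ ∈ principalBlock M G)
        (Finset.univ.filter (· ∈ principalBlock M G)) (fun x => by simp)]
    refine Finset.sum_congr rfl fun χ _ => ?_
    rw [hn, hn, map_intCast, Int.cast_mul]
  have hnorm : ∀ l : Λ, ∑ χ : S, r l χ * r l χ = 4 := fun l => by
    have h1 := hgram l l
    rw [if_pos ⟨0, by ext q; simp [act_apply]⟩] at h1
    norm_num at h1
    exact_mod_cast h1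
  have hne : ∀ l l' : Λ, ¬ Rel φ l l' → ∑ χ : S, r l χ * r l' χ = 3 := fun l l' hR => by
    have h1 := hgram l l'
    rw [if_neg hR, add_zero] at h1
    exact_mod_cast h1
  have heq : ∀ l l' : Λ, Rel φ l l' → r l = r l' := by
    intro l l' hR
    have h1 := hgram l l'
    rw [if_pos hR] at h1
    norm_num at h1
    have h2 : ∑ χ : S, r l χ * r l' χ = 4 := by exact_mod_cast h1
    have h3 : ∑ χ : S, (r l χ - r l' χ) * (r l χ - r l' χ) = 0 := by
      simp only [sub_mul, mul_sub, Finset.sum_sub_distrib, hnorm]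
      rw [Finset.sum_congr rfl fun χ _ => mul_comm (r l' χ) (r l χ), h2]
      norm_num
    funext χ
    exact sub_eq_zero.1 (mul_self_eq_zero.1
      ((Finset.sum_eq_zero_iff_of_nonneg fun χ _ => mul_self_nonneg _).1 h3 χ (Finset.mem_univ χ)))
  obtain ⟨q₄, hq₄⟩ := h.four
  have hq₄1 : q₄ ≠ 1 := fun e => hq₄ (by rw [e, one_pow])
  have : Nonempty Λ := by
    obtain ⟨l, hl⟩ := exists_hom_ne hq₄1
    exact ⟨⟨l, fun e => hl (by rw [e]; rfl)⟩⟩
  obtain ⟨a, b, sa, sb, X, δ, hao, hbo, hab, hsa, hsb, hX⟩ :=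
    HomocyclicRows.sunflower (o := o) (r := r) (R := Rel φ) h0 hnorm
      (fun l => ⟨0, by ext q; simp [act_apply]⟩) (fun l l' => h.rel_symm) heq hne h.rel_four
  -- values on the Sylow subgroup
  have hval : ∀ (χ : S) (q : Q), q ≠ 1 →
      (χ.1 : G → ℂ) (f q) = ∑ l : Λ, (r l χ : ℂ) * ((l : Q →* ℂˣ) q : ℂ) := by
    intro χ q hq
    have h1 := inversion (f := f) (χ.1 : G → ℂ) q
    rw [if_neg hq, sub_zero] at h1
    rw [← h1, ← Fintype.sum_subtype_add_sum_subtype (fun l : Q →* ℂˣ => l ≠ 1)]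
    rw [Finset.sum_eq_zero (s := (Finset.univ : Finset {l : Q →* ℂˣ // ¬ l ≠ 1})) fun l _ => by
      rw [not_not.1 l.2]; simp [vC], add_zero]
    exact Finset.sum_congr rfl fun l _ => by rw [hn]
  have hsumΛ : ∀ q : Q, q ≠ 1 → ∑ l : Λ, ((l : Q →* ℂˣ) q : ℂ) = -1 := by
    intro q hq
    have h1 := sum_over_hom q
    rw [if_neg hq, ← Finset.add_sum_erase _ _ (Finset.mem_univ (1 : Q →* ℂˣ))] at h1
    rw [← Finset.sum_subtype (Finset.univ.erase (1 : Q →* ℂˣ)) (fun x => by simp)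
      (fun l : Q →* ℂˣ => (l q : ℂ))]
    simp only [MonoidHom.one_apply, Units.val_one] at h1
    linear_combination h1
  have hconst : ∀ (c : S) (s : ℤ), (∀ l : Λ, r l c = s) → ∀ q : Q, q ≠ 1 →
      (c.1 : G → ℂ) (f q) = -(s : ℂ) := by
    intro c s hs q hq
    rw [hval c q hq, Finset.sum_congr rfl fun l _ => by rw [hs l], ← Finset.mul_sum, hsumΛ q hq]
    ring
  have ha : ∀ q : Q, q ≠ 1 → (a.1 : G → ℂ) (f q) = -(sa : ℂ) := hconst a sa fun l => (hX l).2.1
  have hb : ∀ q : Q, q ≠ 1 → (b.1 : G → ℂ) (f q) = -(sb : ℂ) := hconst b sb fun l => (hX l).2.2.1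
  -- degrees
  choose d hd0 hd using fun χ : S => exists_degree_pos χ.1.2
  set A : ℤ := -sa * d a with hAdef
  set B : ℤ := -sb * d b with hBdef
  have hdeg : ∀ l : Λ, δ l * d (X l) = 1 + A + B := by
    intro l
    have h1 : ∑ χ : IrrCharacter G, (if χ ∈ principalBlock M G then
        (χ : G → ℂ) 1 * vC f (χ : G → ℂ) l else 0) = 0 := by
      have h2 : ∀ q : Q, (∑ χ : IrrCharacter G, (if χ ∈ principalBlock M G then
          (χ : G → ℂ) 1 * (χ : G → ℂ) (f q) else 0)) * (conj ((l : Q →* ℂˣ) q : ℂ) - 1) = 0 := by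
        intro q
        by_cases hq : q = 1
        · simp [hq]
        refine mul_eq_zero_of_left ?_ _
        have h3 := weak_orthogonality hM (isPBlock_principalBlock (M := M) (G := G))
          (x := 1) (y := (f q)⁻¹) (by simp) (by
            rw [orderOf_inv]
            obtain ⟨k, hk⟩ := h.f_pow q
            rw [hk]
            refine dvd_pow_self 2 fun e => h.f_ne_one hq ?_
            rw [e, pow_zero] at hk
            exact orderOf_eq_one_iff.1 hk)
        refine Eq.trans (Finset.sum_congr rfl fun χ _ => ?_) h3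
        rw [char_inv (isCharacter_of_isIrr χ.2), Complex.conj_conj]
      calc _ = (Fintype.card Q : ℂ)⁻¹ * ∑ q : Q, (∑ χ : IrrCharacter G, (if χ ∈ principalBlock M G then
            (χ : G → ℂ) 1 * (χ : G → ℂ) (f q) else 0)) * (conj ((l : Q →* ℂˣ) q : ℂ) - 1) := by
            simp only [Finset.mul_sum, Finset.sum_mul]
            rw [Finset.sum_comm]
            refine Finset.sum_congr rfl fun χ _ => ?_
            split_ifs
            · rw [vC, Finset.mul_sum, Finset.mul_sum]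
              exact Finset.sum_congr rfl fun q _ => by ring
            · simp
        _ = 0 := by rw [Finset.sum_eq_zero fun q _ => h2 q, mul_zero]
    rw [← Finset.sum_filter, Finset.sum_subtype (p := fun χ => χ ∈ principalBlock M G)
      (Finset.univ.filter (· ∈ principalBlock M G)) (fun x => by simp)] at h1
    have h4 : ∑ χ : S, (d χ : ℤ) * r l χ = 0 := by
      have h5 : ((∑ χ : S, (d χ : ℤ) * r l χ : ℤ) : ℂ) = 0 := by
        rw [Int.cast_sum, ← h1]
        exact Finset.sum_congr rfl fun χ _ => by rw [hd, hn]; push_cast; rfl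
      exact_mod_cast h5
    obtain ⟨-, hla, hlb, hXo, hXa, hXb, hXl, hz, -⟩ := hX l
    rw [← Finset.sum_subset (Finset.subset_univ ({o, a, b, X l} : Finset S)) (fun c _ hc => by
      simp only [Finset.mem_insert, Finset.mem_singleton, not_or] at hc
      rw [hz c hc.1 hc.2.1 hc.2.2.1 hc.2.2.2, mul_zero]),
      Finset.sum_insert (by simp [hao.symm, hbo.symm, hXo.symm]),
      Finset.sum_insert (by simp [hab, hXa.symm]), Finset.sum_insert (by simp [hXb.symm]),
      Finset.sum_singleton, h0, hla, hlb, hXl] at h4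
    have hdo : d o = 1 := by
      have h6 := hd o
      rw [show (o.1 : G → ℂ) 1 = 1 from rfl] at h6
      exact_mod_cast h6.symm
    rw [hdo] at h4
    simp only [hAdef, hBdef]
    push_cast at h4
    linarith
  -- congruences
  have hcongr : ∀ (c : S) (s : ℤ), (s = 1 ∨ s = -1) → (∀ l : Λ, r l c = s) →
      (-s * d c) % 16 = 1 := by
    intro c s hs hs'
    obtain ⟨m, hm⟩ := classInner_char_nat (isCharacter_comp (isCharacter_of_isIrr c.1.2) f)
      (isCharacter_of_isIrr (isIrrCharacter_one (G := Q)))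
    have hm' : ∑ q : Q, (c.1 : G → ℂ) (f q) = (Fintype.card Q : ℂ) * m := by
      rw [← hm, classInner_def, Nat.card_eq_fintype_card, ← mul_assoc, mul_inv_cancel₀ hc, one_mul]
      simp
    rw [← Finset.add_sum_erase _ _ (Finset.mem_univ (1 : Q)),
      Finset.sum_congr rfl (fun q hq => hconst c s hs' q (Finset.mem_erase.1 hq).1), map_one, hd,
      Finset.sum_const, nsmul_eq_mul, Finset.card_erase_of_mem (Finset.mem_univ _),
      Finset.card_univ, Nat.cast_sub (Fintype.card_pos : 1 ≤ Fintype.card Q)] at hm'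
    have hm'' : (d c : ℤ) + ((Fintype.card Q : ℤ) - 1) * -s = (Fintype.card Q : ℤ) * m := by
      exact_mod_cast hm'
    obtain ⟨k, hk⟩ : (16 : ℤ) ∣ (Fintype.card Q : ℤ) := by
      rw [← Nat.card_eq_fintype_card]
      exact_mod_cast h.sixteen
    rw [hk, sub_mul, mul_assoc, mul_assoc] at hm''
    rcases hs with rfl | rfl
    · rw [show -(1 : ℤ) * d c = -(d c : ℤ) by ring]; omega
    · rw [show -(-1 : ℤ) * d c = (d c : ℤ) by ring]; omega
  have hA : A % 16 = 1 := hcongr a sa hsa fun l => (hX l).2.1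
  have hB : B % 16 = 1 := hcongr b sb hsb fun l => (hX l).2.2.1
  set F : ℤ := 1 + A + B with hF
  have hAB : A ≠ 0 ∧ B ≠ 0 ∧ F ≠ 0 := by omega
  -- the involutions
  obtain ⟨q₂, hq₂, hq₂'⟩ : ∃ q₂ : Q, q₂ ≠ 1 ∧ q₂ * q₂ = 1 := by
    obtain ⟨k, hk⟩ := h.pow2 q₄
    have hk1 : k ≠ 0 := fun e => hq₄1 (orderOf_eq_one_iff.1 (by rw [hk, e, pow_zero]))
    refine ⟨q₄ ^ 2 ^ (k - 1), fun e => ?_, ?_⟩
    · have := orderOf_dvd_of_pow_eq_one e
      rw [hk, Nat.pow_dvd_pow_iff_le_right one_lt_two] at this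
      omega
    · rw [← pow_add, ← two_mul, ← pow_succ', Nat.sub_add_cancel (by omega), ← hk, pow_orderOf_eq_one]
  have hφ2 : φ q₂ * φ q₂ = 1 := by rw [← map_mul, hq₂', map_one]
  have hthird : φ (φ q₂) = q₂ * φ q₂ := by
    have h1 : q₂ * φ q₂ * φ (φ q₂) = 1 := by
      refine h.fixfree _ ?_
      rw [map_mul, map_mul, h.cube, mul_comm, ← mul_assoc]
    calc φ (φ q₂) = (q₂ * φ q₂)⁻¹ := eq_inv_of_mul_eq_one_right h1
      _ = q₂ * φ q₂ := by
        rw [mul_inv, inv_eq_of_mul_eq_one_right hq₂', inv_eq_of_mul_eq_one_right hφ2]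
  -- structure sum
  have hstr := h.structure_zero hM (t := f q₂) (by rw [← map_mul, hq₂', map_one]) hq₄
  rw [← Finset.sum_filter, Finset.sum_subtype (p := fun χ => χ ∈ principalBlock M G)
    (Finset.univ.filter (· ∈ principalBlock M G)) (fun x => by simp)] at hstr
  let W : S → ℂ := fun χ => (χ.1 : G → ℂ) (f q₂) * (χ.1 : G → ℂ) (f q₂) * (χ.1 : G → ℂ) (f q₄) /
    (χ.1 : G → ℂ) 1
  change ∑ χ : S, W χ = 0 at hstr
  let T : Finset S := (Finset.univ : Finset S) \ {o, a, b}
  rw [← Finset.sum_sdiff (Finset.subset_univ ({o, a, b} : Finset S)),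
    Finset.sum_insert (by simp [hao.symm, hbo.symm]), Finset.sum_insert (by simp [hab]),
    Finset.sum_singleton] at hstr
  let tt : (Q →* ℂˣ) → ℂ := fun l => (l q₂ : ℂ) + (l (φ q₂) : ℂ) + (l (φ (φ q₂)) : ℂ)
  -- the exceptional part
  have hT : ∑ χ ∈ T, W χ =
      (F : ℂ)⁻¹ * ∑ l : Λ, tt l * tt l * ((l : Q →* ℂˣ) q₄ : ℂ) := by
    have h1 : ∀ χ ∈ T, W χ = ∑ l : Λ, (χ.1 : G → ℂ) (f q₂) * (χ.1 : G → ℂ) (f q₂) *
        ((r l χ : ℂ) * ((l : Q →* ℂˣ) q₄ : ℂ)) / (χ.1 : G → ℂ) 1 := fun χ _ => by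
      simp only [W]
      rw [hval χ q₄ hq₄1, Finset.mul_sum, Finset.sum_div]
    rw [Finset.sum_congr rfl h1, Finset.sum_comm, Finset.mul_sum]
    refine Finset.sum_congr rfl fun l _ => ?_
    obtain ⟨hδ, hla, hlb, hXo, hXa, hXb, hXl, hz, hsame⟩ := hX l
    rw [Finset.sum_eq_single (X l) (fun c hc hcX => by
        simp only [T, Finset.mem_sdiff, Finset.mem_insert, Finset.mem_singleton, not_or] at hc
        rw [hz c hc.2.1 hc.2.2.1 hc.2.2.2 hcX]; simp)
      (fun hn' => absurd (by simp [T, hXo, hXa, hXb]) hn')]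
    have hv : (((X l)).1 : G → ℂ) (f q₂) = (δ l : ℂ) * tt l := by
      rw [hval (X l) q₂ hq₂]
      have hcoef : ∀ l' : Λ, (r l' (X l) : ℂ) = if Rel φ l l' then (δ l : ℂ) else 0 := by
        intro l'
        by_cases hR : Rel φ l l'
        · rw [if_pos hR, ← congrFun (heq l l' hR) (X l), hXl]
        · rw [if_neg hR]
          obtain ⟨-, -, -, -, -, -, -, hz', -⟩ := hX l'
          rw [hz' (X l) hXo hXa hXb fun e => hR (hsame l' e), Int.cast_zero]
      simp only [hcoef, ite_mul, zero_mul]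
      rw [← Finset.sum_filter]
      have hne1 : ∀ j : Fin 3, act φ j (l : Q →* ℂˣ) ≠ 1 := fun j e1 => l.2 (MonoidHom.ext fun x => by
        obtain ⟨y, rfl⟩ := (φ ^ (j : ℕ)).surjective x
        exact DFunLike.congr_fun e1 y)
      rw [show (Finset.univ.filter fun l' : Λ => Rel φ l l') =
          Finset.univ.image (fun j : Fin 3 => (⟨act φ j (l : Q →* ℂˣ), hne1 j⟩ : Λ)) by
        ext l'
        exact ⟨fun hm => by
            obtain ⟨-, j, hj⟩ := Finset.mem_filter.1 hm
            exact Finset.mem_image.2 ⟨j, Finset.mem_univ _, Subtype.ext hj⟩,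
          fun hm => by
            obtain ⟨j, -, hj⟩ := Finset.mem_image.1 hm
            exact Finset.mem_filter.2 ⟨Finset.mem_univ _, j, congrArg Subtype.val hj⟩⟩,
        Finset.sum_image (fun i _ j _ e => h.rel_unique (l := l) (l' := ⟨_, hne1 j⟩)
          (congrArg Subtype.val e) rfl), Fin.sum_univ_three]
      simp only [tt, act_apply, Fin.val_zero, Fin.val_one, Fin.val_two, pow_zero, pow_one, pow_two,
        MulAut.one_apply, MulAut.mul_apply]
      ring
    have hdX : (((X l)).1 : G → ℂ) 1 = (δ l : ℂ) * (F : ℂ) := by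
      rw [hd, ← Int.cast_mul]
      have h5 : δ l * F = (d (X l) : ℤ) := by
        rw [← hdeg l]
        rcases hδ with e | e <;> rw [e] <;> ring
      rw [h5]; norm_cast
    rw [hv, hXl, hdX]
    have hδne : (δ l : ℂ) ≠ 0 := by rcases hδ with e | e <;> rw [e] <;> norm_num
    have hδsq : (δ l : ℂ) * δ l = 1 := by rcases hδ with e | e <;> rw [e] <;> norm_num
    have hFne : (F : ℂ) ≠ 0 := by exact_mod_cast hAB.2.2
    rw [show (δ l : ℂ) * tt l * ((δ l : ℂ) * tt l) * ((δ l : ℂ) * ((l : Q →* ℂˣ) q₄ : ℂ)) =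
        tt l * tt l * ((l : Q →* ℂˣ) q₄ : ℂ) * (δ l : ℂ) by
      linear_combination (tt l) ^ 2 * ((l : Q →* ℂˣ) q₄ : ℂ) * (δ l : ℂ) * hδsq]
    field_simp
  have hS9 : ∑ l : Λ, tt l * tt l * ((l : Q →* ℂˣ) q₄ : ℂ) = -9 := by
    have hsq : ∀ l : Q →* ℂˣ, tt l * tt l =
        1 + 8 * (if l q₂ = 1 ∧ l (φ q₂) = 1 then 1 else 0) := by
      intro l
      have e1 : (l q₂ : ℂ) * (l q₂ : ℂ) = 1 := by rw [← Units.val_mul, ← map_mul, hq₂', map_one, Units.val_one]
      have e2 : (l (φ q₂) : ℂ) * (l (φ q₂) : ℂ) = 1 := by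
        rw [← Units.val_mul, ← map_mul, hφ2, map_one, Units.val_one]
      simp only [tt, hthird, map_mul, Units.val_mul]
      rw [triple_sq e1 e2]
      simp only [Units.val_eq_one]
    simp only [hsq, add_mul, one_mul, Finset.sum_add_distrib, hsumΛ q₄ hq₄1]
    rw [Finset.sum_congr rfl fun l _ => mul_assoc (8 : ℂ) _ _, ← Finset.mul_sum,
      ← Finset.sum_subtype (Finset.univ.erase (1 : Q →* ℂˣ)) (fun x => by simp)
        (fun l : Q →* ℂˣ => (if l q₂ = 1 ∧ l (φ q₂) = 1 then (1 : ℂ) else 0) * (l q₄ : ℂ))]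
    have hall : ∑ l : Q →* ℂˣ, (if l q₂ = 1 ∧ l (φ q₂) = 1 then (1 : ℂ) else 0) * (l q₄ : ℂ) = 0 := by
      obtain ⟨k, hk1, hk4⟩ : ∃ k : Q →* ℂˣ,
          (∀ y ∈ Subgroup.closure ({q₂, φ q₂} : Set Q), k y = 1) ∧ k q₄ ≠ 1 := by
        have : NeZero (Monoid.exponent Q : ℂ) := ⟨by exact_mod_cast Monoid.exponent_ne_zero_of_finite⟩
        have hnot : q₄ ∉ Subgroup.closure ({q₂, φ q₂} : Set Q) := fun hmem => hq₄ (by
          have hle : Subgroup.closure ({q₂, φ q₂} : Set Q) ≤ (powMonoidHom 2 : Q →* Q).ker := by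
            rw [Subgroup.closure_le]
            rintro x (rfl | rfl) <;> simp [pow_two, hq₂', hφ2]
          exact hle hmem)
        have h1 := mt (CommGroup.forall_monoidHom_apply_eq_one_iff (M := ℂ) _ q₄).1 hnot
        push Not at h1
        exact h1
      have ht : k q₂ = 1 ∧ k (φ q₂) = 1 :=
        ⟨hk1 _ (Subgroup.subset_closure (by simp)), hk1 _ (Subgroup.subset_closure (by simp))⟩
      have h1 : (k q₄ : ℂ) * ∑ l : Q →* ℂˣ,
          (if l q₂ = 1 ∧ l (φ q₂) = 1 then (1 : ℂ) else 0) * (l q₄ : ℂ) =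
          ∑ l : Q →* ℂˣ, (if l q₂ = 1 ∧ l (φ q₂) = 1 then (1 : ℂ) else 0) * (l q₄ : ℂ) := by
        rw [Finset.mul_sum]
        refine Fintype.sum_equiv (Equiv.mulLeft k) _ _ fun l => ?_
        simp only [Equiv.coe_mulLeft, MonoidHom.mul_apply, ht.1, ht.2, one_mul, Units.val_mul]
        ring
      by_contra hne0
      exact hk4 (Units.val_eq_one.1 (mul_left_eq_self₀.1 h1 |>.resolve_right hne0))
    rw [← Finset.add_sum_erase _ _ (Finset.mem_univ (1 : Q →* ℂˣ))] at hall
    simp only [MonoidHom.one_apply, and_self, if_true, Units.val_one, mul_one] at hall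
    linear_combination (8 : ℂ) * hall
  have hrel : (A * B + A + B) * F = 9 * (A * B) := by
    have hWo : W o = 1 := by simp [W, o, irrOne_apply]
    have hWc : ∀ (c : S) (s : ℤ), (s = 1 ∨ s = -1) → (∀ l : Λ, r l c = s) →
        W c = (((-s * d c : ℤ)) : ℂ)⁻¹ := by
      intro c s hs hs'
      simp only [W, hconst c s hs' q₂ hq₂, hconst c s hs' q₄ hq₄1, hd]
      have : (d c : ℂ) ≠ 0 := Nat.cast_ne_zero.2 (hd0 c).ne'
      rcases hs with rfl | rfl <;> push_cast <;> field_simp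
    rw [hT, hS9, hWo, hWc a sa hsa (fun l => (hX l).2.1),
      hWc b sb hsb (fun l => (hX l).2.2.1), ← hAdef, ← hBdef] at hstr
    have hA0 : (A : ℂ) ≠ 0 := by exact_mod_cast hAB.1
    have hB0 : (B : ℂ) ≠ 0 := by exact_mod_cast hAB.2.1
    have hF0 : (F : ℂ) ≠ 0 := by exact_mod_cast hAB.2.2
    field_simp at hstr
    have h7 : (((A * B + A + B) * F : ℤ) : ℂ) = ((9 * (A * B) : ℤ) : ℂ) := by
      push_cast
      linear_combination hstr
    exact_mod_cast h7
  have hfinal : ∀ (c : S) (s : ℤ), (s = 1 ∨ s = -1) → c ≠ o → (∀ l : Λ, r l c = s) →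
      -s * d c = 1 → ∃ χ : IrrCharacter G, χ ≠ irrOne ∧ (χ : G → ℂ) 1 = 1 ∧
        ∀ q : Q, (χ : G → ℂ) (f q) = 1 := by
    intro c s hs hco hs' h1
    have hs1 : s = -1 ∧ d c = 1 := by
      have := hd0 c
      rcases hs with rfl | rfl <;> omega
    refine ⟨c.1, fun e => hco (Subtype.ext e), by rw [hd, hs1.2, Nat.cast_one], fun q => ?_⟩
    by_cases hq : q = 1
    · rw [hq, map_one, hd, hs1.2, Nat.cast_one]
    · rw [hconst c s hs' q hq, hs1.1]; norm_num
  rcases arith hA hB hF hrel with h1 | h1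
  · exact hfinal a sa hsa hao (fun l => (hX l).2.1) h1
  · exact hfinal b sb hsb hbo (fun l => (hX l).2.2.1) h1

end CfsgLib.Blocks.HomocyclicTwo
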