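import Cfsg.Agent.Lib.Blocks.HomocyclicTwo
import Cfsg.Agent.Lib.Invol.ZStarBasic
import Mathlib.GroupTheory.Transfer

/-!
# A homocyclic Sylow 2-subgroup of rank two is normal modulo the odd core
-/

set_option autoImplicit false

noncomputable section

universe u

namespace CfsgLib.Blocks.HomocyclicTwo

open Cfsg CfsgLib.Blocks CfsgLib.Char

variable {G : Type u} [Group G] [Finite G] (P : Sylow 2 G) {m : ℕ}
  (e : (P : Subgroup G) ≃* Multiplicative (ZMod (2 ^ m) × ZMod (2 ^ m)))

include e in
theorem sylow_comm : ∀ a ∈ (P : Subgroup G), ∀ b ∈ (P : Subgroup G), a * b = b * a := fun a ha b hb =>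
  congrArg Subtype.val (e.injective (by rw [map_mul, map_mul, mul_comm]) :
    (⟨a, ha⟩ : (P : Subgroup G)) * ⟨b, hb⟩ = ⟨b, hb⟩ * ⟨a, ha⟩)

include e in
/-- The centraliser of a nontrivial element of `P` has a normal 2-complement. -/
theorem centralizer_complement (hm : 1 ≤ m) {z : G} (hz : z ∈ (P : Subgroup G)) (hz1 : z ≠ 1) :
    (∃ k : ℕ, (pPrimeCore 2 (Subgroup.centralizer ({z} : Set G))).index = 2 ^ k) ∧
      2 ^ (Nat.card (Subgroup.centralizer ({z} : Set G))).factorization 2 =
        Nat.card (P : Subgroup G) := by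
  set C := Subgroup.centralizer ({z} : Set G) with hC
  have hab := sylow_comm P e
  have hPC : (P : Subgroup G) ≤ C := fun x hx =>
    Subgroup.mem_centralizer_singleton_iff.2 (hab x hx z hz)
  let Q : Sylow 2 C := P.subtype hPC
  have hQ : (Q : Subgroup C) = (P : Subgroup G).subgroupOf C := Sylow.coe_subtype P hPC
  constructor
  · have hle : Subgroup.normalizer ((Q : Subgroup C) : Set C) ≤
        Subgroup.centralizer ((Q : Subgroup C) : Set C) := by
      intro n hn
      have hnN : (n : G) ∈ Subgroup.normalizer ((P : Subgroup G) : Set G) := by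
        rw [Subgroup.mem_normalizer_iff]
        intro x
        rw [hQ] at hn
        constructor
        · intro hx
          have := (Subgroup.mem_normalizer_iff.1 hn ⟨x, hPC hx⟩).1 (Subgroup.mem_subgroupOf.2 hx)
          simpa [Subgroup.mem_subgroupOf] using this
        · intro hx
          have hxC : x ∈ C := by
            have h1 := C.mul_mem (C.mul_mem (C.inv_mem n.2) (hPC hx)) n.2
            simpa [mul_assoc] using h1
          have := (Subgroup.mem_normalizer_iff.1 hn ⟨x, hxC⟩).2
            (Subgroup.mem_subgroupOf.2 (by simpa using hx))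
          simpa [Subgroup.mem_subgroupOf] using this
      have hcen : (n : G) ∈ Subgroup.centralizer ((P : Subgroup G) : Set G) :=
        (TwoLocal.centralizer_singleton_inf_normalizer P hm e hz hz1).le
          (Subgroup.mem_inf.2 ⟨n.2, hnN⟩)
      rw [Subgroup.mem_centralizer_iff]
      intro x hx
      rw [hQ] at hx
      exact Subtype.ext (Subgroup.mem_centralizer_iff.1 hcen (x : G) (Subgroup.mem_subgroupOf.1 hx))
    have hcompl := MonoidHom.ker_transferSylow_isComplement' Q hle
    set N := (MonoidHom.transferSylow Q hle).ker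
    have hidx : N.index = Nat.card (Q : Subgroup C) := hcompl.symm.index_eq_card
    obtain ⟨k, hk⟩ := Q.2.exists_card_eq
    have hNle : N ≤ pPrimeCore 2 C := by
      refine CfsgLib.Cores.le_pPrimeCore ?_
      exact (Nat.prime_two.coprime_iff_not_dvd.2 (MonoidHom.not_dvd_card_ker_transferSylow Q hle)).symm
    have hdvd := Subgroup.index_dvd_of_le hNle
    rw [hidx, hk] at hdvd
    obtain ⟨j, -, hj⟩ := (Nat.dvd_prime_pow Nat.prime_two).1 hdvd
    exact ⟨j, hj⟩
  · rw [← Q.card_eq_multiplicity, hQ, Nat.card_congr (Subgroup.subgroupOfEquivOfLe hPC).toEquiv]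

/-- Conjugation by a normalising element. -/
def conjAut {g : G} (hg : g ∈ Subgroup.normalizer ((P : Subgroup G) : Set G)) :
    MulAut (P : Subgroup G) where
  toFun x := ⟨g * x * g⁻¹, (Subgroup.mem_normalizer_iff.1 hg x).1 x.2⟩
  invFun x := ⟨g⁻¹ * x * g, by
    have := (Subgroup.mem_normalizer_iff.1 (inv_mem hg) x).1 x.2
    simpa using this⟩
  left_inv x := Subtype.ext (by simp [mul_assoc])
  right_inv x := Subtype.ext (by simp [mul_assoc])
  map_mul' x y := Subtype.ext (by simp [mul_assoc])

include e in
/-- When the involutions are fused there is a proper normal subgroup containing `P`. -/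
theorem exists_normal (hm : 2 ≤ m)
    (h3 : (Subgroup.centralizer (P : Set G)).relIndex (Subgroup.normalizer (P : Set G)) = 3) :
    ∃ K : Subgroup G, K.Normal ∧ (P : Subgroup G) ≤ K ∧ K ≠ ⊤ := by
  classical
  have := Fintype.ofFinite G
  have : NeZero (2 ^ m) := ⟨pow_ne_zero _ two_ne_zero⟩
  have : Fact (Nat.Prime 3) := ⟨Nat.prime_three⟩
  set N := Subgroup.normalizer ((P : Subgroup G) : Set G)
  set C := Subgroup.centralizer ((P : Subgroup G) : Set G)
  have hCn : (C.subgroupOf N).Normal := by
    have h : ((Subgroup.centralizer (P : Set G)).subgroupOf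
        (Subgroup.normalizer (P : Set G))).Normal := by
      rw [← TwoLocal.ker_involsHom P (sylow_comm P e)]
      infer_instance
    exact h
  have hidx : (C.subgroupOf N).index = 3 := h3
  obtain ⟨g, hg⟩ : ∃ g : N, g ∉ C.subgroupOf N := by
    by_contra hall
    push Not at hall
    rw [Subgroup.index_eq_one.2 (eq_top_iff.2 fun x _ => hall x)] at hidx
    omega
  have hgC : (g : G) ∉ C := fun h => hg (Subgroup.mem_subgroupOf.2 h)
  have hcub : (g : G) ^ 3 ∈ C := by
    have := Subgroup.pow_index_mem (C.subgroupOf N) g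
    rw [hidx] at this
    simpa [Subgroup.mem_subgroupOf] using this
  let f : Multiplicative (ZMod (2 ^ m) × ZMod (2 ^ m)) →* G :=
    (P : Subgroup G).subtype.comp e.symm.toMonoidHom
  let φ : MulAut (Multiplicative (ZMod (2 ^ m) × ZMod (2 ^ m))) :=
    (e.symm.trans (conjAut P g.2)).trans e
  have hfi : Function.Injective f := (P : Subgroup G).subtype_injective.comp e.symm.injective
  have hfφ : ∀ q, f (φ q) = g * f q * (g : G)⁻¹ := fun q => by simp [f, φ, conjAut]
  have hfpow : ∀ (j : ℕ) q, f ((φ ^ j) q) = (g : G) ^ j * f q * ((g : G) ^ j)⁻¹ := by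
    intro j
    induction j with
    | zero => intro q; simp
    | succ j ih =>
      intro q
      rw [pow_succ', MulAut.mul_apply, hfφ, ih, pow_succ']
      group
  have hfP : ∀ q, f q ∈ (P : Subgroup G) := fun q => (e.symm q).2
  have hab : IsMulCommutative (P : Subgroup G) :=
    ⟨⟨fun a b => Subtype.ext (sylow_comm P e a a.2 b b.2)⟩⟩
  have hloc : Loc f φ := by
    refine ⟨hfi, ?_, ?_, ?_, ?_, ?_, ?_, ?_, ?_⟩
    · rw [Nat.card_eq_fintype_card, Fintype.card_multiplicative, Fintype.card_prod, ZMod.card,
        ← pow_add, show (16 : ℕ) = 2 ^ 4 from rfl]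
      exact pow_dvd_pow 2 (by omega)
    · intro q
      obtain ⟨k, hk⟩ := IsPGroup.iff_orderOf.1 P.2 (e.symm q)
      exact ⟨k, by rwa [MulEquiv.orderOf_eq] at hk⟩
    · intro q hq
      by_contra hne
      apply hgC
      refine (TwoLocal.centralizer_singleton_inf_normalizer P (by omega) e (hfP q)
        (fun h => hne (hfi (h.trans (map_one f).symm)))).le ?_
      refine Subgroup.mem_inf.2 ⟨Subgroup.mem_centralizer_singleton_iff.2 ?_, g.2⟩
      exact mul_inv_eq_iff_eq_mul.1 ((hfφ q).symm.trans (congrArg f hq))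
    · intro q
      refine hfi ?_
      rw [show φ (φ (φ q)) = (φ ^ 3) q by simp [pow_succ], hfpow]
      rw [← Subgroup.mem_centralizer_iff.1 hcub (f q) (hfP q), mul_inv_cancel_right]
    · intro q r hq
      constructor
      · intro hconj
        obtain ⟨c, hc⟩ := isConj_iff.1 hconj
        obtain ⟨n, hn, he⟩ := P.conj_eq_normalizer_conj_of_mem (f q) c⁻¹ (hfP q)
          (by rw [inv_inv, hc]; exact hfP r)
        rw [inv_inv, hc] at he
        let πq : N ⧸ C.subgroupOf N := (g : N ⧸ C.subgroupOf N)
        have hne : πq ≠ 1 := fun h => hg ((QuotientGroup.eq_one_iff g).1 h)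
        have htop : Subgroup.zpowers πq = ⊤ :=
          zpowers_eq_top_of_prime_card (p := 3) (by rw [← Subgroup.index]; exact hidx) hne
        have hmem : ((⟨n⁻¹, inv_mem hn⟩ : N) : N ⧸ C.subgroupOf N) ∈ Subgroup.zpowers πq := by
          rw [htop]; exact Subgroup.mem_top _
        rw [← mem_powers_iff_mem_zpowers] at hmem
        obtain ⟨k, hk⟩ := hmem
        refine ⟨⟨k % 3, Nat.mod_lt _ (by norm_num)⟩, hfi ?_⟩
        have h1 : ((g : G) ^ (k % 3))⁻¹ * n⁻¹ ∈ C := by
          have h2 : ((g ^ (k % 3))⁻¹ * ⟨n⁻¹, inv_mem hn⟩ : N) ∈ C.subgroupOf N := by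
            rw [← QuotientGroup.eq, QuotientGroup.mk_pow]
            show πq ^ (k % 3) = _
            rw [← show πq ^ k = _ from hk]
            refine (pow_eq_pow_mod k ?_).symm
            rw [← QuotientGroup.mk_pow, QuotientGroup.eq_one_iff]
            have := Subgroup.pow_index_mem (C.subgroupOf N) g
            rwa [hidx] at this
          simpa [Subgroup.mem_subgroupOf] using h2
        show f ((φ ^ (k % 3)) q) = f r
        rw [hfpow, he]
        set c' := ((g : G) ^ (k % 3))⁻¹ * n⁻¹
        have h3' : n⁻¹ = (g : G) ^ (k % 3) * c' := (mul_inv_cancel_left _ _).symm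
        have h4 : n = c'⁻¹ * ((g : G) ^ (k % 3))⁻¹ := by rw [← mul_inv_rev, ← h3', inv_inv]
        conv_rhs => rw [h3', h4, show (g : G) ^ (k % 3) * c' * f q * (c'⁻¹ * ((g : G) ^ (k % 3))⁻¹) =
          (g : G) ^ (k % 3) * (c' * f q * c'⁻¹) * ((g : G) ^ (k % 3))⁻¹ by group]
        rw [← Subgroup.mem_centralizer_iff.1 h1 (f q) (hfP q), mul_inv_cancel_right]
      · rintro ⟨j, hj⟩
        exact isConj_iff.2 ⟨(g : G) ^ (j : ℕ), by rw [← hfpow, hj]⟩
    · intro q hq
      exact (centralizer_complement P e (by omega) (hfP q)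
        (fun h => hq (hfi (h.trans (map_one f).symm)))).1
    · intro q hq
      rw [(centralizer_complement P e (by omega) (hfP q)
        (fun h => hq (hfi (h.trans (map_one f).symm)))).2]
      exact Nat.card_congr e.toEquiv
    · refine ⟨Multiplicative.ofAdd (1, 0), fun h => ?_⟩
      have h1 : ((2 : ℕ) : ZMod (2 ^ m)) = 0 := by
        have := congrArg (fun x => (Multiplicative.toAdd x).1) h
        simpa [← ofAdd_nsmul] using this
      rw [ZMod.natCast_eq_zero_iff] at h1
      have h2 := Nat.le_of_dvd two_pos h1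
      have := Nat.pow_le_pow_right two_pos hm
      omega
  obtain ⟨M, hM⟩ := CfsgLib.Invol.exists_isPModular 2 Nat.prime_two
  have : M.IsMaximal := hM.2.1
  obtain ⟨χ, hne, hdeg, hval⟩ := hloc.exists_linear hM
  let L := linearHom (isCharacter_of_isIrr χ.2) hdeg
  refine ⟨L.ker, inferInstance, fun x hx => ?_, fun htop => hne (Subtype.ext (funext fun x => ?_))⟩
  · have := hval (e ⟨x, hx⟩)
    simp only [f, MonoidHom.comp_apply, MulEquiv.coe_toMonoidHom, MulEquiv.symm_apply_apply] at this
    exact Units.ext ((linearHom_apply _ hdeg x).trans this)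
  · have hx : L x = 1 := htop.ge (Subgroup.mem_top x)
    have := congrArg (fun u : ℂˣ => (u : ℂ)) hx
    simpa [L, linearHom_apply, irrOne_apply] using this

/-- The Sylow subgroup is normal. -/
theorem normal_of_oddCore : ∀ (n : ℕ) (G : Type u) [Group G] [Finite G] (P : Sylow 2 G) (m : ℕ),
    Nat.card G = n → 2 ≤ m →
    ((P : Subgroup G) ≃* Multiplicative (ZMod (2 ^ m) × ZMod (2 ^ m))) →
    (∀ N : Subgroup G, N.Normal → Odd (Nat.card N) → N = ⊥) → (P : Subgroup G).Normal := by
  intro n
  induction n using Nat.strong_induction_on with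
  | _ n ih =>
    intro G _ _ P m hn hm e hO
    obtain ⟨h1, h2⟩ := TwoLocal.card_range_involsHom P (by omega : 1 ≤ m) e
    rcases h2 with h2 | h2
    · rw [← h1, Subgroup.relIndex_eq_one] at h2
      have hcompl := MonoidHom.ker_transferSylow_isComplement' P h2
      set K := (MonoidHom.transferSylow P h2).ker
      have hKb : K = ⊥ := hO K inferInstance
        (Nat.odd_iff.2 (Nat.two_dvd_ne_zero.1 (MonoidHom.not_dvd_card_ker_transferSylow P h2)))
      rw [hKb, Subgroup.isComplement'_bot_left] at hcompl
      rw [hcompl]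
      infer_instance
    · obtain ⟨K, hK, hPK, hKt⟩ := exists_normal P e hm (h1.trans h2)
      have hlt : Nat.card K < n := by
        rw [← hn]
        exact lt_of_le_of_ne (Subgroup.card_le_card_group K)
          fun h => hKt (Subgroup.eq_top_of_card_eq K h)
      let PK : Sylow 2 K := P.subtype hPK
      have hPKeq : (PK : Subgroup K) = (P : Subgroup G).subgroupOf K := Sylow.coe_subtype P hPK
      have hn' := ih _ hlt K PK m rfl hm
        ((MulEquiv.subgroupCongr hPKeq).trans ((Subgroup.subgroupOfEquivOfLe hPK).trans e))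
        fun N hN hodd => by
          have hle : N ≤ pPrimeCore 2 K := CfsgLib.Cores.le_pPrimeCore (Nat.coprime_two_right.2 hodd)
          have := CfsgLib.Cores.pPrimeCore_characteristic (G := K) 2
          have hb := hO ((pPrimeCore 2 K).map K.subtype) inferInstance (by
            rw [Subgroup.card_map_of_injective K.subtype_injective]
            exact Nat.odd_iff.2 (Nat.two_dvd_ne_zero.1 (CfsgLib.Cores.not_dvd_card_pPrimeCore 2)))
          rw [Subgroup.map_eq_bot_iff_of_injective _ K.subtype_injective] at hb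
          exact le_bot_iff.1 (hb ▸ hle)
      have : (PK : Subgroup K).Characteristic := Sylow.characteristic_of_normal PK hn'
      have h3 : ((PK : Subgroup K).map K.subtype).Normal := inferInstance
      rwa [hPKeq, Subgroup.subgroupOf_map_subtype, inf_of_le_left hPK] at h3

end CfsgLib.Blocks.HomocyclicTwo
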