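import Cfsg.Agent.Lib.Blocks.KleinOrder
import Cfsg.Agent.Lib.Char.FrobeniusSchur

/-!
# The degree relation and the order formula for a Klein four Sylow subgroup
-/

set_option autoImplicit false

noncomputable section

namespace CfsgLib.Blocks

open Cfsg
open scoped ComplexConjugate

variable {G : Type*} [Group G] [Fintype G] {M : Ideal AlgInt} [M.IsMaximal]

open scoped Classical in
/-- Sums over a principal block with four named members. -/
theorem sum_principal_four (χ₁ χ₂ χ₃ : IrrCharacter G)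
    (hB : principalBlock M G =
      {χ : IrrCharacter G | (χ : G → ℂ) = (fun _ => 1) ∨ χ = χ₁ ∨ χ = χ₂ ∨ χ = χ₃})
    (hdist : (χ₁ : G → ℂ) ≠ (fun _ => 1) ∧ (χ₂ : G → ℂ) ≠ (fun _ => 1) ∧ (χ₃ : G → ℂ) ≠ (fun _ => 1) ∧
      χ₁ ≠ χ₂ ∧ χ₁ ≠ χ₃ ∧ χ₂ ≠ χ₃) (f : IrrCharacter G → ℂ) :
    ∑ χ : IrrCharacter G, (if χ ∈ principalBlock M G then f χ else 0) =
      f CfsgLib.Char.irrOne + f χ₁ + f χ₂ + f χ₃ := by
  obtain ⟨h1, h2, h3, h12, h13, h23⟩ := hdist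
  have hne : ∀ χ : IrrCharacter G, (χ : G → ℂ) ≠ (fun _ => 1) → CfsgLib.Char.irrOne ≠ χ :=
    fun χ h e => h (by rw [← e]; rfl)
  rw [← Finset.sum_filter,
    show Finset.univ.filter (· ∈ principalBlock M G) = {CfsgLib.Char.irrOne, χ₁, χ₂, χ₃} from by
      ext χ
      simp only [Finset.mem_filter, Finset.mem_univ, true_and, Finset.mem_insert, Finset.mem_singleton, hB,
        Set.mem_setOf_eq]
      exact or_congr_left ⟨fun h => Subtype.ext h, fun h => by rw [h]; rfl⟩,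
    Finset.sum_insert (by simp [hne _ h1, hne _ h2, hne _ h3]), Finset.sum_insert (by simp [h12, h13]),
    Finset.sum_insert (by simp [h23]), Finset.sum_singleton]
  ring

/-- The degree relation and the order formula. -/
theorem klein_order_facts (hM : IsPModular 2 M) (g₀ : ℕ) (hg₀ : Odd g₀) (hG : Nat.card G = 4 * g₀)
    (hnc : ¬ ∃ N : Subgroup G, N.Normal ∧ Nat.card N = g₀) (P : Sylow 2 G) {J : G}
    (hJ : J ∈ (P : Subgroup G)) (hJ2 : orderOf J = 2) (χ₁ χ₂ χ₃ : IrrCharacter G) (ε₁ ε₂ ε₃ : ℤ)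
    (hB : principalBlock M G =
      {χ : IrrCharacter G | (χ : G → ℂ) = (fun _ => 1) ∨ χ = χ₁ ∨ χ = χ₂ ∨ χ = χ₃})
    (hdist : (χ₁ : G → ℂ) ≠ (fun _ => 1) ∧ (χ₂ : G → ℂ) ≠ (fun _ => 1) ∧ (χ₃ : G → ℂ) ≠ (fun _ => 1) ∧
      χ₁ ≠ χ₂ ∧ χ₁ ≠ χ₃ ∧ χ₂ ≠ χ₃)
    (hε : (ε₁ = 1 ∨ ε₁ = -1) ∧ (ε₂ = 1 ∨ ε₂ = -1) ∧ (ε₃ = 1 ∨ ε₃ = -1))
    (hval : (χ₁ : G → ℂ) J = ε₁ ∧ (χ₂ : G → ℂ) J = ε₂ ∧ (χ₃ : G → ℂ) J = ε₃) :
    (1 + ε₁ * (charDegree (χ₁ : G → ℂ) : ℤ) + ε₂ * (charDegree (χ₂ : G → ℂ) : ℤ) +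
      ε₃ * (charDegree (χ₃ : G → ℂ) : ℤ) = 0) ∧
    (Nat.card G : ℚ) * (Nat.card (Subgroup.centralizer ((P : Subgroup G) : Set G)) : ℚ) ^ 2 *
      (1 + (ε₁ : ℚ) / (charDegree (χ₁ : G → ℂ) : ℚ) + (ε₂ : ℚ) / (charDegree (χ₂ : G → ℂ) : ℚ) +
        (ε₃ : ℚ) / (charDegree (χ₃ : G → ℂ) : ℚ)) =
      8 * (Nat.card (Subgroup.centralizer ({J} : Set G)) : ℚ) ^ 3 := by
  classical
  have : Fact (Nat.Prime 2) := ⟨Nat.prime_two⟩
  obtain ⟨hK, hone⟩ := klein_of_no_complement g₀ hg₀ hG hnc P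
  have hd : ∀ χ : IrrCharacter G, (χ : G → ℂ) 1 = ((charDegree (χ : G → ℂ) : ℕ) : ℂ) :=
    fun χ => charDegree_eq (CfsgLib.Char.isCharacter_of_isIrr χ.2)
  obtain ⟨v1, v2, v3⟩ := hval
  obtain ⟨e1, e2, e3⟩ := hε
  constructor
  · have hz1 : ¬ IsConj (1 : G) J := fun h => by
      rw [isConj_one_right.mp h, orderOf_one] at hJ2
      omega
    have h := block_orthogonality hM (isPPart_one_iff.mpr (show ¬ 2 ∣ orderOf (1 : G) by simp))
      (isPPart_self Nat.prime_two ⟨1, by simpa using hJ2⟩) hz1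
      (isPBlock_principalBlock (M := M) (G := G))
    rw [sum_principal_four χ₁ χ₂ χ₃ hB hdist] at h
    simp only [v1, v2, v3, CfsgLib.Char.irrOne_apply, map_one, mul_one, map_intCast, hd χ₁, hd χ₂, hd χ₃] at h
    have h' : (((1 : ℤ) + ε₁ * (charDegree (χ₁ : G → ℂ) : ℤ) + ε₂ * (charDegree (χ₂ : G → ℂ) : ℤ) +
      ε₃ * (charDegree (χ₃ : G → ℂ) : ℤ) : ℤ) : ℂ) = 0 := by
      push_cast
      linear_combination h
    exact_mod_cast h'
  · have h := klein_structure_value hM P hK hone hJ hJ2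
    rw [sum_principal_four χ₁ χ₂ χ₃ hB hdist] at h
    simp only [v1, v2, v3, CfsgLib.Char.irrOne_apply, mul_one, div_one, hd χ₁, hd χ₂, hd χ₃] at h
    have key : ∀ (ε : ℤ) (x : ℂ), (ε = 1 ∨ ε = -1) → (ε : ℂ) * (ε : ℂ) / x * (ε : ℂ) = (ε : ℂ) / x := by
      rintro ε x (rfl | rfl) <;> push_cast <;> ring
    rw [key _ _ e1, key _ _ e2, key _ _ e3] at h
    apply_fun (algebraMap ℚ ℂ) using (algebraMap ℚ ℂ).injective
    simp only [map_mul, map_add, map_pow, map_div₀, map_natCast, map_intCast, map_one, map_ofNat]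
    exact h

/-- A block member with value `±1` at an involution has odd degree. -/
theorem odd_degree_of_value (χ : IrrCharacter G) {J : G} (hJ2 : orderOf J = 2) {ε : ℤ}
    (hε : ε = 1 ∨ ε = -1) (hv : (χ : G → ℂ) J = ε) : Odd (charDegree (χ : G → ℂ)) := by
  obtain ⟨n, -, hn⟩ := exists_multiplicities (CfsgLib.Char.isCharacter_of_isIrr χ.2) J
  have h := hn 0 (by rw [hJ2]; simp)
  rw [hJ2] at h
  simp only [Finset.sum_range_succ, Finset.sum_range_zero, pow_zero, inv_one, one_pow, one_mul, zero_add,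
    pow_one, hv, charDegree_eq (CfsgLib.Char.isCharacter_of_isIrr χ.2)] at h
  have h' : (2 : ℤ) * n 0 = (charDegree (χ : G → ℂ) : ℤ) + ε := by
    apply Int.cast_injective (α := ℂ)
    push_cast
    exact_mod_cast h
  rw [Nat.odd_iff]
  omega

/-- With sign product `-1` two of the characters are complex conjugate. -/
theorem degrees_of_sign_product (hM : IsPModular 2 M) (P : Sylow 2 G) (hK : IsKleinFour (P : Subgroup G))
    {J : G} (hJ : J ∈ (P : Subgroup G)) (hJ2 : orderOf J = 2) (χ₁ χ₂ χ₃ : IrrCharacter G) (ε₁ ε₂ ε₃ : ℤ)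
    (hB : principalBlock M G =
      {χ : IrrCharacter G | (χ : G → ℂ) = (fun _ => 1) ∨ χ = χ₁ ∨ χ = χ₂ ∨ χ = χ₃})
    (hdist : (χ₁ : G → ℂ) ≠ (fun _ => 1) ∧ (χ₂ : G → ℂ) ≠ (fun _ => 1) ∧ (χ₃ : G → ℂ) ≠ (fun _ => 1) ∧
      χ₁ ≠ χ₂ ∧ χ₁ ≠ χ₃ ∧ χ₂ ≠ χ₃)
    (hε : (ε₁ = 1 ∨ ε₁ = -1) ∧ (ε₂ = 1 ∨ ε₂ = -1) ∧ (ε₃ = 1 ∨ ε₃ = -1))
    (hval : (χ₁ : G → ℂ) J = ε₁ ∧ (χ₂ : G → ℂ) J = ε₂ ∧ (χ₃ : G → ℂ) J = ε₃)
    (hprod : ε₁ * ε₂ * ε₃ = -1) (hε₃ : ε₃ = -1)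
    (hrel : 1 + ε₁ * (charDegree (χ₁ : G → ℂ) : ℤ) + ε₂ * (charDegree (χ₂ : G → ℂ) : ℤ) +
      ε₃ * (charDegree (χ₃ : G → ℂ) : ℤ) = 0) :
    ε₁ = 1 ∧ ε₂ = 1 ∧ charDegree (χ₁ : G → ℂ) = charDegree (χ₂ : G → ℂ) := by
  classical
  have : Fact (Nat.Prime 2) := ⟨Nat.prime_two⟩
  have hd : ∀ χ : IrrCharacter G, (χ : G → ℂ) 1 = ((charDegree (χ : G → ℂ) : ℕ) : ℂ) :=
    fun χ => charDegree_eq (CfsgLib.Char.isCharacter_of_isIrr χ.2)
  have hpos : ∀ χ : IrrCharacter G, 1 ≤ (charDegree (χ : G → ℂ) : ℤ) := fun χ => by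
    exact_mod_cast Nat.pos_of_ne_zero (charDegree_ne_zero χ)
  obtain ⟨e1, e2, -⟩ := hε
  obtain ⟨v1, v2, v3⟩ := hval
  have h12 : ε₁ = 1 ∧ ε₂ = 1 := by
    subst hε₃
    rcases e1 with rfl | rfl <;> rcases e2 with rfl | rfl
    · exact ⟨rfl, rfl⟩
    · norm_num at hprod
    · norm_num at hprod
    · have := hpos χ₁; have := hpos χ₂; have := hpos χ₃; omega
  obtain ⟨rfl, rfl⟩ := h12
  subst hε₃
  refine ⟨rfl, rfl, ?_⟩
  -- square roots in the section of `J`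
  have hJ1 : J ≠ 1 := fun h => by rw [h, orderOf_one] at hJ2; omega
  have hx : ∃ k : ℕ, orderOf J = 2 ^ k := ⟨1, by simpa using hJ2⟩
  let _ := Fintype.ofFinite (Subgroup.centralizer ({J} : Set G))
  have hzero : ∑ χ : IrrCharacter G, (if χ ∈ principalBlock M G then
      CfsgLib.CharBlocks.fsInd (χ : G → ℂ) * (χ : G → ℂ) J else 0) = 0 := by
    have h := sum_block_section hM hx (fun χ : IrrCharacter G => CfsgLib.CharBlocks.fsInd (χ : G → ℂ))
      (y := (1 : Subgroup.centralizer ({J} : Set G))) (by simp)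
    simp only [OneMemClass.coe_one, mul_one] at h
    rw [h, blockPart_principal_one hM (index_pPrimeCore_centralizer P hK hJ hJ1),
      Finset.sum_eq_zero, mul_zero]
    intro c _
    split_ifs with hc
    · rfl
    rw [CfsgLib.CharBlocks.sum_fsInd_mul, Nat.cast_eq_zero, Finset.card_eq_zero, Finset.filter_eq_empty_iff]
    intro s _ hs
    obtain ⟨z, hz⟩ := exists_isPPart (p := 2) s
    obtain ⟨y, hsy, hzy, hzk, hy⟩ := hz
    have h1 : IsPPart 2 (J * (c : G)) J :=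
      isPPart_mul (commute_of_mem_centralizer c) hx (by rwa [Subgroup.orderOf_coe])
    have h2 : IsPPart 2 (J * (c : G)) (z * z) := by
      refine ⟨y * y, ?_, (hzy.mul_left hzy).mul_right (hzy.mul_left hzy), ?_, ?_⟩
      · rw [← hs, ← hsy]
        exact (hzy.symm.mul_mul_mul_comm z y).symm
      · obtain ⟨k, hk⟩ := hzk
        obtain ⟨i, -, hi⟩ := (Nat.dvd_prime_pow Nat.prime_two).mp (hk ▸ orderOf_pow_dvd (x := z) 2)
        exact ⟨i, by rw [← pow_two]; exact hi⟩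
      · intro h; exact hy (h.trans (by rw [← pow_two]; exact orderOf_pow_dvd 2))
    have h3 := isPPart_unique h1 h2
    rw [← pow_two, sq_eq_one_of_two_element P hK hzk] at h3
    exact hJ1 h3
  rw [sum_principal_four χ₁ χ₂ χ₃ hB hdist] at hzero
  simp only [v1, v2, v3, CfsgLib.CharBlocks.fsInd_irrOne, CfsgLib.Char.irrOne_apply, Int.cast_one,
    Int.cast_neg, mul_one, mul_neg] at hzero
  have hν : ∀ (χ : IrrCharacter G) (ε : ℤ), (ε = 1 ∨ ε = -1) → (χ : G → ℂ) J = ε →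
      (∀ g, conj ((χ : G → ℂ) g) = (χ : G → ℂ) g) → CfsgLib.CharBlocks.fsInd (χ : G → ℂ) = 1 := by
    rintro ⟨_, ⟨n, ρ, hirr, rfl⟩⟩ ε hε hv hreal
    rcases CfsgLib.Char.fsIndicator_of_real ρ hreal with h | ⟨-, hev⟩
    · exact h
    · exfalso
      have hodd := odd_degree_of_value ⟨_, ⟨n, ρ, hirr, rfl⟩⟩ hJ2 hε hv
      have hn : charDegree (ρ.character : G → ℂ) = n := by
        have h1 := charDegree_eq (CfsgLib.Char.isCharacter_of_isIrr (χ := ρ.character) ⟨n, ρ, hirr, rfl⟩)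
        rw [Representation.char_one, Module.finrank_fin_fun] at h1
        exact_mod_cast h1.symm
      change Odd (charDegree (ρ.character : G → ℂ)) at hodd
      rw [hn] at hodd
      exact Nat.not_even_iff_odd.mpr hodd hev
  have hswap : ∀ (χ : IrrCharacter G) (ε : ℤ), χ ∈ principalBlock M G → (χ : G → ℂ) J = ε →
      (CfsgLib.Char.irrConj χ ∈ principalBlock M G ∧ (CfsgLib.Char.irrConj χ : G → ℂ) J = ε) :=
    fun χ ε hm hv => ⟨irrConj_mem_principalBlock hm, by rw [CfsgLib.Char.irrConj_apply, hv, map_intCast]⟩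
  have hdeg : ∀ χ : IrrCharacter G,
      charDegree (CfsgLib.Char.irrConj χ : G → ℂ) = charDegree (χ : G → ℂ) := fun χ => by
    have h := hd (CfsgLib.Char.irrConj χ)
    rw [CfsgLib.Char.irrConj_apply, hd χ, map_natCast] at h
    exact_mod_cast h.symm
  have hmem : ∀ χ : IrrCharacter G, (χ : G → ℂ) J = (1 : ℤ) → χ ∈ principalBlock M G →
      χ = CfsgLib.Char.irrOne ∨ χ = χ₁ ∨ χ = χ₂ := by
    intro χ hv hm
    rw [hB] at hm
    rcases hm with h | h | h | h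
    · exact .inl (Subtype.ext h)
    · exact .inr (.inl h)
    · exact .inr (.inr h)
    · rw [h, v3] at hv
      norm_num at hv
  have h3real : CfsgLib.Char.irrConj χ₃ = χ₃ := by
    obtain ⟨hm, hv⟩ := hswap χ₃ _ (by rw [hB]; exact .inr (.inr (.inr rfl))) v3
    rw [hB] at hm
    rcases hm with h | h | h | h
    · rw [h] at hv; norm_num at hv
    · rw [h, v1] at hv; norm_num at hv
    · rw [h, v2] at hv; norm_num at hv
    · exact h
  have hcase : CfsgLib.Char.irrConj χ₁ = χ₂ ∨ (CfsgLib.Char.irrConj χ₁ = χ₁ ∧ CfsgLib.Char.irrConj χ₂ = χ₂) := by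
    obtain ⟨hm, hv⟩ := hswap χ₁ _ (by rw [hB]; exact .inr (.inl rfl)) v1
    obtain ⟨hm', hv'⟩ := hswap χ₂ _ (by rw [hB]; exact .inr (.inr (.inl rfl))) v2
    have hne : ∀ χ : IrrCharacter G, (χ : G → ℂ) ≠ (fun _ => 1) →
        CfsgLib.Char.irrConj χ ≠ CfsgLib.Char.irrOne := fun χ h e => by
      apply h
      have e' := congrArg CfsgLib.Char.irrConj e
      rw [CfsgLib.Char.irrConj_irrConj] at e'
      rw [e']
      funext g
      rw [CfsgLib.Char.irrConj_apply, CfsgLib.Char.irrOne_apply, map_one]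
    rcases hmem _ hv hm with h | h | h
    · exact absurd h (hne _ hdist.1)
    · rcases hmem _ hv' hm' with h' | h' | h'
      · exact absurd h' (hne _ hdist.2.1)
      · exact absurd (by rw [← CfsgLib.Char.irrConj_irrConj χ₂, h', h]) hdist.2.2.2.1.symm
      · exact .inr ⟨h, h'⟩
    · exact .inl h
  rcases hcase with h | ⟨h1, h2⟩
  · rw [← h, hdeg]
  · exfalso
    have hr : ∀ χ : IrrCharacter G, CfsgLib.Char.irrConj χ = χ → ∀ g, conj ((χ : G → ℂ) g) = (χ : G → ℂ) g :=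
      fun χ e g => by rw [← CfsgLib.Char.irrConj_apply, e]
    rw [hν χ₁ 1 (.inl rfl) v1 (hr _ h1), hν χ₂ 1 (.inl rfl) v2 (hr _ h2),
      hν χ₃ (-1) (.inr rfl) v3 (hr _ h3real)] at hzero
    norm_num at hzero

end CfsgLib.Blocks
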