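import Cfsg.Agent.Lib.Blocks.SectionIsometry
import Cfsg.Agent.Lib.BlockArith.KleinDefect
import Cfsg.Agent.Lib.NilBlock.Main

/-!
# The sections of a block with Klein four defect group

* `exists_signs`: on a major subsection of an involution the parts are `±` one function;
* `exists_klein_sec`: the data for `isPerfect_of_sections`;
* `exists_match_orth`: matching two families of three orthogonal sign vectors.
-/

set_option autoImplicit false
set_option maxHeartbeats 1000000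
set_option linter.unusedSectionVars false

noncomputable section

namespace CfsgLib.Blocks.Sections

open Cfsg CfsgLib.Blocks CfsgLib.Blocks.Cyclic CfsgLib.BlockArith CfsgLib.Char CfsgLib.BrauerPairs CfsgLib.NilBlock
open scoped ComplexConjugate Classical

universe u v

variable {G : Type u} [Group G] [Fintype G] {M : Ideal AlgInt} [M.IsMaximal]

/-- The contributions at an involution are rational integers. -/
theorem ctr_int_involution {x : G} {H : Subgroup G} (hH : H = Subgroup.centralizer ({x} : Set G))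
    {b : Set (IrrCharacter H)} (hM : IsPModular 2 M) (hb : IsPBlock M b) (hx : x ^ 2 = 1)
    (χ ψ : IrrCharacter G) : ∃ m : ℤ, ctr 2 x H b χ ψ = m := by
  have := Fact.mk Nat.prime_two
  subst hH
  let _ := Fintype.ofFinite (Subgroup.centralizer ({x} : Set G))
  rw [ctr_eq_contrib]
  exact contrib_int hM hb hx χ ψ

/-- With one modular character in defect two the parts on the section of an involution are signs times one. -/
theorem exists_signs (hM : IsPModular 2 M) {x : G} {H : Subgroup G}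
    (hH : H = Subgroup.centralizer ({x} : Set G)) (hx : orderOf x = 2) {B : Set (IrrCharacter G)}
    {b : Set (IrrCharacter H)} (hind : IsInducedBlock M H b B) (hb : IsPBlock M b) (hdb : blockDefect 2 b = 2)
    (hdB : blockDefect 2 B = 2) (hl : blockRank 2 b = 1) (hk : Nat.card B = 4) {χ₀ : IrrCharacter G}
    (hχ₀ : χ₀ ∈ B) (h0 : blockHeight 2 B (χ₀ : G → ℂ) = 0) :
    ctr 2 x H b χ₀ χ₀ = 1 ∧ (∀ χ ∈ B, ctr 2 x H b χ χ₀ = 1 ∨ ctr 2 x H b χ χ₀ = -1) ∧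
      ∀ (χ : IrrCharacter G) (s : H), ¬ 2 ∣ orderOf s →
        secH x H b χ s = ctr 2 x H b χ χ₀ * secH x H b χ₀ s := by
  have := Fact.mk Nat.prime_two
  have hx' : ∃ k : ℕ, orderOf x = 2 ^ k := ⟨1, by rw [hx, pow_one]⟩
  have hd : blockDefect 2 b = blockDefect 2 B := hdb.trans hdB.symm
  choose m hm using ctr_int_involution hH hM hb (show x ^ 2 = 1 by rw [← hx, pow_orderOf_eq_one])
  obtain ⟨t, htd⟩ : ∃ t : Finset (IrrCharacter G), t = Finset.univ.filter (· ∈ B) := ⟨_, rfl⟩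
  have htB : ∀ {χ}, χ ∈ t ↔ χ ∈ B := fun {χ} => by rw [htd]; simp
  have hsym : ∀ χ ψ, m χ ψ = m ψ χ := fun χ ψ => by
    have h := ctr_conj (p := 2) (x := x) (H := H) (b := b) χ ψ
    rw [hm, hm, map_intCast] at h
    exact_mod_cast h.symm
  have hne : ∀ χ ∈ t, m χ₀ χ ≠ 0 := fun χ hχ h =>
    ctr_ne_zero_major hH hM hx' hind hd hχ₀ h0 (htB.mp hχ) (by rw [hm, h, Int.cast_zero])
  have hsum : ∑ χ ∈ t, m χ₀ χ ^ 2 = 4 * m χ₀ χ₀ := by
    have h := ctr_sum_mul hH hM hx' hind χ₀ χ₀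
    rw [← htd, hdb] at h
    simp only [hm] at h
    apply Int.cast_injective (α := ℂ)
    push_cast at h ⊢
    rw [← h]
    exact Finset.sum_congr rfl fun χ _ => by rw [hsym χ χ₀, pow_two]
  have hne0 : ctr 2 x H b χ₀ χ₀ ≠ 0 := ctr_ne_zero_major hH hM hx' hind hd hχ₀ h0 hχ₀
  have hrow : ∀ χ, ∃ r : ℂ, (∀ s : H, ¬ 2 ∣ orderOf s → secH x H b χ s = r * secH x H b χ₀ s) ∧
      ctr 2 x H b χ χ₀ = r * ctr 2 x H b χ₀ χ₀ ∧ ctr 2 x H b χ χ = r * conj r * ctr 2 x H b χ₀ χ₀ :=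
    fun χ => exists_secH_mul hM hb hl hne0 χ
  have hdvd : ∀ χ, m χ₀ χ₀ * m χ χ = m χ₀ χ ^ 2 := fun χ => by
    obtain ⟨r, -, h1, h2⟩ := hrow χ
    apply Int.cast_injective (α := ℂ)
    have h3 : conj (ctr 2 x H b χ χ₀) = conj r * ctr 2 x H b χ₀ χ₀ := by
      rw [h1, map_mul, hm χ₀ χ₀, map_intCast]
    rw [hm, map_intCast] at h3
    rw [hm, hm] at h1
    rw [hm, hm] at h2
    rw [hm] at h3
    push_cast
    rw [hsym χ₀ χ, pow_two]
    conv_rhs => arg 1; rw [h1]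
    rw [h2, h3]
    ring
  have hχ₀t : χ₀ ∈ t := htB.mpr hχ₀
  have hcard : t.card = 4 := by
    rw [← hk, Nat.card_eq_fintype_card, ← Set.toFinset_card]
    congr 1
    ext; simp [htd]
  have hapos : 0 < m χ₀ χ₀ := by
    have h1 : 0 < ∑ χ ∈ t, m χ₀ χ ^ 2 :=
      Finset.sum_pos' (fun χ _ => sq_nonneg _) ⟨χ₀, hχ₀t, pow_two_pos_of_ne_zero (hne χ₀ hχ₀t)⟩
    omega
  have hge : ∀ χ ∈ t, m χ₀ χ₀ ≤ m χ₀ χ ^ 2 := fun χ hχ =>
    Int.le_of_dvd (pow_two_pos_of_ne_zero (hne χ hχ)) ⟨m χ χ, (hdvd χ).symm⟩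
  have hsplit := Finset.add_sum_erase t (fun χ => m χ₀ χ ^ 2) hχ₀t
  have herase : (t.erase χ₀).card = 3 := by rw [Finset.card_erase_of_mem hχ₀t, hcard]
  have h3a : 3 * m χ₀ χ₀ ≤ ∑ χ ∈ t.erase χ₀, m χ₀ χ ^ 2 := by
    have h := Finset.card_nsmul_le_sum (t.erase χ₀) (fun χ => m χ₀ χ ^ 2) (m χ₀ χ₀)
      fun χ hχ => hge χ (Finset.mem_of_mem_erase hχ)
    rw [herase, nsmul_eq_mul, Nat.cast_ofNat] at h
    exact h
  have ha : m χ₀ χ₀ = 1 := by nlinarith [hsum, hsplit, h3a]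
  have hsq : ∀ χ ∈ t, m χ₀ χ ^ 2 = 1 := by
    intro χ hχ
    have hall : ∀ ψ ∈ t, (1 : ℤ) ≤ m χ₀ ψ ^ 2 := fun ψ hψ => ha ▸ hge ψ hψ
    have h4 : ∑ ψ ∈ t, (1 : ℤ) = ∑ ψ ∈ t, m χ₀ ψ ^ 2 := by
      rw [hsum, ha, Finset.sum_const, hcard]; norm_num
    exact ((Finset.sum_eq_sum_iff_of_le hall).mp h4 χ hχ).symm
  refine ⟨by rw [hm, ha, Int.cast_one], fun χ hχ => ?_, fun χ s hs => ?_⟩
  · rw [hm, hsym]
    rcases sq_eq_one_iff.mp (hsq χ (htB.mpr hχ)) with h | h <;> simp [h]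
  · obtain ⟨r, h1, h2, -⟩ := hrow χ
    rw [h1 s hs, h2, hm χ₀ χ₀, ha, Int.cast_one, mul_one]

/-- The section data of a block with Klein four defect group. -/
theorem exists_klein_sec (hM : IsPModular 2 M) {B : Set (IrrCharacter G)} {P : Subgroup G}
    {c : Set (IrrCharacter (Cen P))} (hmax : IsMaximalBrauerPair 2 M B P c) (hV : IsKleinFour P)
    {β : (y : P) → Set (IrrCharacter (Cen (Subgroup.zpowers (y : G))))}
    (hβ : ∀ y : P, SubpairLE 2 M (Subgroup.zpowers (y : G)) (β y) P c) :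
    ∃ S : SecData 2 M B P β, (∀ χ ∈ B, ∀ y : P, y ≠ 1 → S.f χ y = 1 ∨ S.f χ y = -1) ∧
      (∀ y y' : P, y ≠ 1 → ∀ t ∈ stab M P c, (y' : G) = t * (y : G) * t⁻¹ → ∀ χ, S.f χ y' = S.f χ y) ∧
      ∀ y y' : P, y ≠ 1 → y' ≠ 1 → (∀ t ∈ stab M P c, (y' : G) ≠ t * (y : G) * t⁻¹) →
        ∑ χ ∈ Finset.univ.filter (· ∈ B), S.f χ y * S.f χ y' = 0 := by
  have := Fact.mk Nat.prime_two
  have := hV
  have hP := hmax.1.1
  have hB := hmax.1.2.1
  have hab : ∀ x ∈ P, ∀ y ∈ P, x * y = y * x := fun x hx y hy => by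
    have := IsKleinFour.isMulCommutative (G := P)
    exact congrArg Subtype.val (mul_comm' (⟨x, hx⟩ : P) ⟨y, hy⟩)
  have hk : Nat.card B = 4 := (klein_counts hM hmax hV).2.1
  have hdB : blockDefect 2 B = 2 := by
    have h1 := card_defectGroup hM hB (isDefectGroup_of_maximal hM hmax)
    rw [hV.card_four] at h1
    exact (Nat.pow_right_injective le_rfl (show 2 ^ 2 = 2 ^ blockDefect 2 B from h1)).symm
  have hord : ∀ y : P, y ≠ 1 → orderOf (y : G) = 2 := fun y hy => orderOf_eq_prime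
    (by rw [pow_two]; exact congrArg Subtype.val (IsKleinFour.mul_self y)) fun h => hy (Subtype.ext h)
  have hPC : ∀ y : P, P ≤ Cen (Subgroup.zpowers (y : G)) := fun y z hz =>
    Subgroup.mem_centralizer_iff.mpr fun q hq => hab q (Subgroup.zpowers_le.mpr y.2 hq) z hz
  have hpair : ∀ y : P, IsBrauerPairOf 2 M B (Subgroup.zpowers (y : G)) (β y) := fun y =>
    (brauerPairOf_iff_of_subpair hM (a := ⟨_, β y⟩) (b := ⟨P, c⟩) (hβ y)).mp hmax.1
  have hblk : ∀ y : P, IsPBlock M (β y) := fun y => (hpair y).1.2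
  have hind : ∀ y : P, IsInducedBlock M (Cen (Subgroup.zpowers (y : G))) (β y) B := fun y => by
    let _ := Fintype.ofFinite (Cen (Subgroup.zpowers (y : G)))
    exact (brauerPairOf_iff_induced hM (hpair y).1.1 (hblk y) hB).mp (hpair y)
  have hdef : ∀ y : P, blockDefect 2 (β y) = 2 := fun y => by
    have := Fintype.ofFinite (Cen (Subgroup.zpowers (y : G)))
    have h2 := card_defectGroup hM (hblk y) (pairs_defect hM hmax hab (Q := Subgroup.zpowers (y : G)) (f := β y) (hβ y))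
    rw [card_subgroupOf' (hPC y), hV.card_four] at h2
    exact (Nat.pow_right_injective le_rfl (show 2 ^ 2 = 2 ^ _ from h2)).symm
  have hrank : ∀ y : P, y ≠ 1 → blockRank 2 (β y) = 1 := fun y hy => by
    let _ := Fintype.ofFinite (Cen (Subgroup.zpowers (y : G)))
    have hQC : Subgroup.zpowers (y : G) ≤ Cen (Subgroup.zpowers (y : G)) :=
      Subgroup.zpowers_le.mpr (hPC y y.2)
    refine BlockArith.blockRank_eq_one_of_central_half hM (hblk y) (hdef y)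
      (Q := (Subgroup.zpowers (y : G)).subgroupOf (Cen (Subgroup.zpowers (y : G)))) ?_ ?_
    · rw [card_subgroupOf' hQC, Nat.card_zpowers, hord y hy]
    · intro q hq
      exact Subgroup.mem_center_iff.mpr fun z => Subtype.ext
        (Subgroup.mem_centralizer_iff.mp z.2 _ hq).symm
  obtain ⟨χ₀, hχ₀, h0⟩ := exists_height_zero hM hB
  have hsig := fun (y : P) (hy : y ≠ 1) => exists_signs hM (cen_zpowers (y : G)) (hord y hy) (hind y) (hblk y)
    (hdef y) hdB (hrank y hy) hk hχ₀ h0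
  obtain ⟨f, hfd⟩ : ∃ f : IrrCharacter G → P → ℂ,
      f = fun χ (y : P) => ctr 2 (y : G) (Cen (Subgroup.zpowers (y : G))) (β y) χ χ₀ := ⟨_, rfl⟩
  have hf1 : ∀ χ ∈ B, ∀ y : P, y ≠ 1 → f χ y = 1 ∨ f χ y = -1 := fun χ hχ y hy => by
    rw [hfd]; exact (hsig y hy).2.1 χ hχ
  have hconj : ∀ χ ∈ B, ∀ y : P, y ≠ 1 → conj (f χ y) = f χ y := fun χ hχ y hy => by
    rcases hf1 χ hχ y hy with h | h <;> simp [h]
  have hexw : ∀ y : P, y ≠ 1 → ∃ s : Cen (Subgroup.zpowers (y : G)), ¬ 2 ∣ orderOf s ∧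
      secH (y : G) (Cen (Subgroup.zpowers (y : G))) (β y) χ₀ s ≠ 0 := by
    intro y hy
    have := Fintype.ofFinite (Cen (Subgroup.zpowers (y : G)))
    by_contra! h
    have h1 := (hsig y hy).1
    rw [ctr, regSum_eq, Finset.sum_eq_zero fun s _ => ?_, mul_zero] at h1
    · exact zero_ne_one h1
    · split_ifs with hs
      · rfl
      · rw [h s hs, zero_mul]
  have hinv : ∀ y y' : P, y ≠ 1 → ∀ t ∈ stab M P c, (y' : G) = t * (y : G) * t⁻¹ → ∀ χ, f χ y' = f χ y := by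
    intro y y' _ t ht hyt χ
    have hiff : ∀ g, g ∈ Cen (Subgroup.zpowers (y' : G)) ↔ t⁻¹ * g * t ∈ Cen (Subgroup.zpowers (y : G)) :=
      fun g => by rw [hyt, ← map_conj_zpowers]; exact mem_centralizer_map_conj
    have hb : tblock (conjEquiv t _ _ hiff) (β y) = β y' := by
      refine gidem_inj (M := M) (isPBlock_tblock _ (hblk y)) (hblk y') ?_
      rw [gidem_tblock]
      have h1 : cjPair t (⟨_, β y⟩ : BrauerPairIdx G) = ⟨_, β y'⟩ := by
        refine pair_eq_of_le hM hP ?_ (hβ y') ?_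
        · rw [← cjPair_eq_self_of_mem_stab hP ht]
          exact subpair_cjPair hM t (hβ y)
        · rw [cjPair_fst, map_conj_zpowers]
          exact congrArg Subgroup.zpowers hyt.symm
      have h2 := congrArg (pid M) h1
      rwa [pid_cjPair] at h2
    have h := ctr_tblock (p := 2) t (y : G) (conjEquiv t _ _ hiff) (fun z => rfl) (β y) χ χ₀
    rw [hb, ← hyt] at h
    rw [hfd]; exact h
  have horth0 : ∀ y y' : P, y ≠ 1 → y' ≠ 1 → (∀ t ∈ stab M P c, (y' : G) ≠ t * (y : G) * t⁻¹) →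
      ∑ χ ∈ Finset.univ.filter (· ∈ B), f χ y * f χ y' = 0 := by
    intro y y' hy hy' hno
    obtain ⟨s, hs, hws⟩ := hexw y hy
    obtain ⟨t, ht, hwt⟩ := hexw y' hy'
    have h1 := sum_secH_orth hM (cen_zpowers (y : G)) (cen_zpowers (y' : G)) ⟨1, by rw [hord y hy, pow_one]⟩
      ⟨1, by rw [hord y' hy', pow_one]⟩ (hind y) (hblk y') (fun g hg hgid => ?_) hs ht
    · refine (mul_eq_zero.mp (?_ : _ * (secH (y : G) _ (β y) χ₀ s * conj (secH (y' : G) _ (β y') χ₀ t)) = 0)).resolve_right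
        (mul_ne_zero hws ((map_ne_zero conj).mpr hwt))
      rw [← h1, Finset.sum_mul]
      refine Finset.sum_congr rfl fun χ hχ => ?_
      rw [(hsig y hy).2.2 χ s hs, (hsig y' hy').2.2 χ t ht, map_mul]
      have h2 := hconj χ (Finset.mem_filter.mp hχ).2 y' hy'
      rw [hfd] at h2 ⊢
      beta_reduce at h2 ⊢
      rw [h2]; ring
    · have hpe : cjPair g (⟨_, β y⟩ : BrauerPairIdx G) = ⟨_, β y'⟩ :=
        pair_ext (M := M) (isBrauerPair_cjPair g (hpair y).1).2 (hblk y')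
          (by rw [cjPair_fst, map_conj_zpowers, hg]) (by rw [pid_cjPair]; exact hgid)
      obtain ⟨t', ht', htg⟩ := exists_cen_mul_map hM hmax hab (hβ y) (hβ y') hpe
      refine hno _ htg ?_
      rw [show t' * g * (y : G) * (t' * g)⁻¹ = t' * (g * (y : G) * g⁻¹) * t'⁻¹ by group, hg,
        ← Subgroup.mem_centralizer_iff.mp ht' (y' : G) (Subgroup.mem_zpowers _), mul_inv_cancel_right]
  refine ⟨⟨f, fun y => secH (y : G) (Cen (Subgroup.zpowers (y : G))) (β y) χ₀,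
    fun y hy χ s hs => by rw [hfd]; exact (hsig y hy).2.2 χ s hs,
    fun y hy => ⟨χ₀, hχ₀, hf1 χ₀ hχ₀ y hy⟩, fun {g} hg {y} hy => ?_, fun {y y'} hy hy' => ?_⟩, hf1, hinv, horth0⟩
  · obtain ⟨s, hs, hws⟩ := hexw y hy
    have h1 := sum_secH_reg hM (cen_zpowers (y : G)) ⟨1, by rw [hord y hy, pow_one]⟩
      (fun h => hy (Subtype.ext h)) (hind y) hg hs
    refine (mul_eq_zero.mp (?_ : _ * conj (secH (y : G) _ (β y) χ₀ s) = 0)).resolve_right
      ((map_ne_zero conj).mpr hws)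
    rw [← h1, Finset.sum_mul]
    refine Finset.sum_congr rfl fun χ hχ => ?_
    rw [(hsig y hy).2.2 χ s hs, map_mul]
    have h2 := hconj χ (Finset.mem_filter.mp hχ).2 y hy
    rw [hfd] at h2 ⊢
    beta_reduce at h2 ⊢
    rw [h2]; ring
  · by_cases h : ∃ t ∈ stab M P c, (y' : G) = t * (y : G) * t⁻¹
    · obtain ⟨t, ht, hyt⟩ := h
      refine ⟨1, ?_⟩
      rw [Finset.sum_congr rfl (g := fun _ => (1 : ℂ)) fun χ hχ => ?_, Finset.sum_const, nsmul_eq_mul, mul_one,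
        Int.cast_one, mul_one, hV.card_four, ← hk, Nat.card_eq_fintype_card, Fintype.card_subtype]
      rw [hinv y y' hy t ht hyt χ]
      rcases hf1 χ (Finset.mem_filter.mp hχ).2 y hy with h | h <;> simp [h]
    · push Not at h
      exact ⟨0, by rw [horth0 y y' hy hy' h, Int.cast_zero, mul_zero]⟩

/-- Three orthogonal sign vectors of length four: each pattern occurs once. -/
theorem exists_unique_pattern {β : Type u} (t : Finset β) (ht : t.card = 4) (c₁ c₂ c₃ : β → ℂ)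
    (hc : ∀ χ ∈ t, (c₁ χ = 1 ∨ c₁ χ = -1) ∧ (c₂ χ = 1 ∨ c₂ χ = -1) ∧ (c₃ χ = 1 ∨ c₃ χ = -1))
    (h12 : ∑ χ ∈ t, c₁ χ * c₂ χ = 0) (h13 : ∑ χ ∈ t, c₁ χ * c₃ χ = 0) (h23 : ∑ χ ∈ t, c₂ χ * c₃ χ = 0)
    (u v : ℂ) (hu : u = 1 ∨ u = -1) (hv : v = 1 ∨ v = -1) :
    ∃ χ, (t.filter fun χ => c₁ χ * c₂ χ = u ∧ c₁ χ * c₃ χ = v) = {χ} := by
  refine Finset.card_eq_one.mp ?_
  have h1 : ∑ χ ∈ t, (1 + u * (c₁ χ * c₂ χ)) * (1 + v * (c₁ χ * c₃ χ)) = 4 := by
    rw [Finset.sum_congr rfl (g := fun χ => (1 : ℂ) + u * (c₁ χ * c₂ χ) + v * (c₁ χ * c₃ χ) +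
      u * v * (c₂ χ * c₃ χ)) fun χ hχ => ?_]
    · simp only [Finset.sum_add_distrib, ← Finset.mul_sum, h12, h13, h23, mul_zero, add_zero,
        Finset.sum_const, ht, nsmul_eq_mul, mul_one, Nat.cast_ofNat]
    · rcases (hc χ hχ).1 with h | h <;> rw [h] <;> ring
  rw [Finset.sum_congr rfl (g := fun χ => if c₁ χ * c₂ χ = u ∧ c₁ χ * c₃ χ = v then (4 : ℂ) else 0)
    fun χ hχ => ?_] at h1
  · rw [← Finset.sum_filter, Finset.sum_const, nsmul_eq_mul] at h1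
    have h2 : (((t.filter fun χ => c₁ χ * c₂ χ = u ∧ c₁ χ * c₃ χ = v).card : ℕ) : ℂ) = 1 :=
      mul_right_cancel₀ (b := (4 : ℂ)) (by norm_num) (h1.trans (one_mul 4).symm)
    exact_mod_cast h2
  · obtain ⟨e1, e2, e3⟩ := hc χ hχ
    rcases hu with rfl | rfl <;> rcases hv with rfl | rfl <;> rcases e1 with e1 | e1 <;>
      rcases e2 with e2 | e2 <;> rcases e3 with e3 | e3 <;> simp [e1, e2, e3] <;> norm_num

/-- Two families of three orthogonal sign vectors of length four differ by a signed permutation. -/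
theorem exists_match_orth {α : Type u} {α' : Type v} (s : Finset α) (s' : Finset α') (hs : s.card = 4)
    (hs' : s'.card = 4) (a₁ a₂ a₃ : α → ℂ) (b₁ b₂ b₃ : α' → ℂ)
    (ha : ∀ χ ∈ s, (a₁ χ = 1 ∨ a₁ χ = -1) ∧ (a₂ χ = 1 ∨ a₂ χ = -1) ∧ (a₃ χ = 1 ∨ a₃ χ = -1))
    (hb : ∀ χ ∈ s', (b₁ χ = 1 ∨ b₁ χ = -1) ∧ (b₂ χ = 1 ∨ b₂ χ = -1) ∧ (b₃ χ = 1 ∨ b₃ χ = -1))
    (ha12 : ∑ χ ∈ s, a₁ χ * a₂ χ = 0) (ha13 : ∑ χ ∈ s, a₁ χ * a₃ χ = 0) (ha23 : ∑ χ ∈ s, a₂ χ * a₃ χ = 0)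
    (hb12 : ∑ χ ∈ s', b₁ χ * b₂ χ = 0) (hb13 : ∑ χ ∈ s', b₁ χ * b₃ χ = 0) (hb23 : ∑ χ ∈ s', b₂ χ * b₃ χ = 0)
    [Nonempty α] :
    ∃ (I : α' → α) (ε : α' → ℤ), Set.BijOn I s' s ∧ (∀ η ∈ s', ε η = 1 ∨ ε η = -1) ∧
      ∀ η ∈ s', (ε η : ℂ) * a₁ (I η) = b₁ η ∧ (ε η : ℂ) * a₂ (I η) = b₂ η ∧ (ε η : ℂ) * a₃ (I η) = b₃ η := by
  have key := @exists_unique_pattern.{u}
  have key' := @exists_unique_pattern.{v}
  have hpm : ∀ {z w : ℂ}, (z = 1 ∨ z = -1) → (w = 1 ∨ w = -1) → (z * w = 1 ∨ z * w = -1) := by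
    intro z w hz hw; rcases hz with rfl | rfl <;> rcases hw with rfl | rfl <;> simp
  have hex : ∀ η ∈ s', ∃ χ, (s.filter fun χ => a₁ χ * a₂ χ = b₁ η * b₂ η ∧ a₁ χ * a₃ χ = b₁ η * b₃ η) = {χ} :=
    fun η hη => key s hs a₁ a₂ a₃ ha ha12 ha13 ha23 _ _ (hpm (hb η hη).1 (hb η hη).2.1) (hpm (hb η hη).1 (hb η hη).2.2)
  choose! I hI using hex
  have hIm : ∀ η ∈ s', I η ∈ s ∧ a₁ (I η) * a₂ (I η) = b₁ η * b₂ η ∧ a₁ (I η) * a₃ (I η) = b₁ η * b₃ η :=
    fun η hη => Finset.mem_filter.mp ((hI η hη).symm ▸ Finset.mem_singleton_self _)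
  refine ⟨I, fun η => if a₁ (I η) = b₁ η then 1 else -1, ?_, fun η _ => ?_, fun η hη => ?_⟩
  · have hinj : Set.InjOn I s' := by
      intro η₁ h₁ η₂ h₂ he
      obtain ⟨-, p1, p2⟩ := hIm η₁ h₁
      obtain ⟨-, q1, q2⟩ := hIm η₂ h₂
      rw [he, q1] at p1
      rw [he, q2] at p2
      have h3 : b₁ η₁ * b₂ η₁ * (b₁ η₁ * b₂ η₁) = 1 := by
        rcases hpm (hb η₁ h₁).1 (hb η₁ h₁).2.1 with h | h <;> rw [h] <;> ring
      obtain ⟨χ, hχ⟩ := key' s' hs' b₁ b₂ b₃ hb hb12 hb13 hb23 _ _ (hpm (hb η₁ h₁).1 (hb η₁ h₁).2.1)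
        (hpm (hb η₁ h₁).1 (hb η₁ h₁).2.2)
      have m1 : η₁ ∈ ({χ} : Finset α') := hχ ▸ Finset.mem_filter.mpr ⟨h₁, rfl, rfl⟩
      have m2 : η₂ ∈ ({χ} : Finset α') := hχ ▸ Finset.mem_filter.mpr ⟨h₂, p1, p2⟩
      rw [Finset.mem_singleton.mp m1, Finset.mem_singleton.mp m2]
    refine ⟨fun η hη => (hIm η hη).1, hinj, ?_⟩
    intro χ hχ
    have himg : s'.image I = s := Finset.eq_of_subset_of_card_le
      (fun z hz => by obtain ⟨η, hη, rfl⟩ := Finset.mem_image.mp hz; exact (hIm η hη).1)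
      (by rw [Finset.card_image_of_injOn hinj, hs, hs'])
    obtain ⟨η, hη, rfl⟩ := Finset.mem_image.mp (himg ▸ hχ)
    exact ⟨η, hη, rfl⟩
  · beta_reduce; split_ifs <;> simp
  · obtain ⟨hm, p1, p2⟩ := hIm η hη
    beta_reduce
    obtain ⟨e1, -, -⟩ := ha _ hm
    obtain ⟨d1, -, -⟩ := hb η hη
    split_ifs with h
    · rw [h] at p1 p2
      have : b₁ η ≠ 0 := by rcases d1 with h | h <;> simp [h]
      exact ⟨by simp [h], by simp [mul_left_cancel₀ this p1], by simp [mul_left_cancel₀ this p2]⟩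
    · have hopp : a₁ (I η) = -b₁ η := by
        rcases e1 with x | x <;> rcases d1 with y | y <;> rw [x, y] at h ⊢ <;> first | exact absurd rfl h | norm_num
      rw [hopp] at p1 p2
      have : b₁ η ≠ 0 := by rcases d1 with h | h <;> simp [h]
      push_cast
      refine ⟨by rw [hopp]; ring, ?_, ?_⟩
      · refine mul_left_cancel₀ this ?_; linear_combination p1
      · refine mul_left_cancel₀ this ?_; linear_combination p2

end CfsgLib.Blocks.Sections
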