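import Cfsg.Agent.Lib.Blocks.SylowDefect
import Cfsg.Agent.Lib.Blocks.Heights
import Cfsg.Agent.Lib.Blocks.Covering
import Cfsg.Agent.Lib.Cores.Basic

/-!
# Groups whose radical subgroups are self-centralising modulo a central `p'`-subgroup

If every nontrivial radical `p`-subgroup `D` satisfies `C(D) ≤ D Z` with `Z` a central subgroup of
order prime to `p`, then every block of positive defect has full defect, and there are `|Z|` of them.
-/

set_option autoImplicit false
set_option linter.unusedSectionVars false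

open Cfsg

noncomputable section

namespace CfsgLib.Blocks.LocalCentral

variable {G : Type*} [Group G] [Fintype G] {p : ℕ} [hp : Fact p.Prime] {M : Ideal AlgInt} [M.IsMaximal]

omit [Fintype G] in
/-- A `p`-regular element of `Q Z` lies in `Z`. -/
theorem mem_of_mul_regular {Q Z : Subgroup G} (hQ : IsPGroup p Q) (hZ : Z ≤ Subgroup.center G)
    {y : G} (hy : ¬ p ∣ orderOf y) (h : y ∈ Q ⊔ Z) : y ∈ Z := by
  have : Z.Normal := ⟨fun z hz g => by
    rw [Subgroup.mem_center_iff.1 (hZ hz) g, mul_assoc, mul_inv_cancel, mul_one]; exact hz⟩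
  obtain ⟨q, hq, z, hz, rfl⟩ := Subgroup.mem_sup_of_normal_right.1 h
  obtain ⟨k, hk⟩ := hQ ⟨q, hq⟩
  have hk' : q ^ p ^ k = 1 := congrArg Subtype.val hk
  have hc : Commute q z := Subgroup.mem_center_iff.1 (hZ hz) q
  have hco : (orderOf (q * z)).Coprime (p ^ k) :=
    ((hp.out.coprime_iff_not_dvd).2 hy).symm.pow_right k
  have h1 : (q * z) ^ p ^ k ∈ Z := by
    rw [hc.mul_pow, hk', one_mul]; exact pow_mem hz _
  obtain ⟨m, hm⟩ := exists_pow_eq_self_of_coprime hco.symm
  rw [← hm]
  exact pow_mem h1 _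

/-- A block of a group with `C(Q) ≤ Q Z`, `Q` a normal `p`-subgroup, has full defect. -/
theorem defect_full (hM : IsPModular p M) {Q Z : Subgroup G} [Q.Normal] (hQ : IsPGroup p Q)
    (hZ : Z ≤ Subgroup.center G) (hC : Subgroup.centralizer (Q : Set G) ≤ Q ⊔ Z)
    {b : Set (IrrCharacter G)} (hb : IsPBlock M b) {D : Subgroup G} (hD : IsDefectGroup p M b D) :
    Nat.card D = p ^ (Nat.card G).factorization p := by
  obtain ⟨y, hy, hyD⟩ := isDefectGroup_iff.mp hD
  obtain ⟨χ, hχ⟩ := IsPBlock.nonempty hb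
  obtain ⟨h1, h2⟩ := (isDefectClass_iff hb hχ y).mp hy
  have hreg : ¬ p ∣ orderOf y := fun hd => h1 (rcoeff_idem_singular hM hb hd)
  have hyZ := mem_of_mul_regular hQ hZ hreg (hC (mem_centralizer_of_bomega_ne_zero hM hQ h2))
  have hcen : Subgroup.centralizer ({y} : Set G) = ⊤ := by
    rw [Subgroup.centralizer_eq_top_iff_subset, Set.singleton_subset_iff]
    exact hZ hyZ
  rw [hyD.card, hcen, Subgroup.card_top]

/-- In a group with self-centralising radical subgroups every block of positive defect has full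
defect. -/
theorem sylow_defect (hM : IsPModular p M) {Z : Subgroup G} (hZ : Z ≤ Subgroup.center G)
    (hloc : ∀ D : Subgroup G, IsPGroup p D → D ≠ ⊥ →
      (∀ R : Subgroup G, IsPGroup p R → D ≤ R → R ≤ Subgroup.normalizer (D : Set G) →
        (∀ n ∈ Subgroup.normalizer (D : Set G), ∀ r ∈ R, n * r * n⁻¹ ∈ R) → R ≤ D) →
      Subgroup.centralizer (D : Set G) ≤ D ⊔ Z)
    {B : Set (IrrCharacter G)} (hB : IsPBlock M B) {D : Subgroup G} (hD : IsDefectGroup p M B D)
    (hne : D ≠ ⊥) : ∃ P : Sylow p G, (P : Subgroup G) = D := by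
  classical
  have hDp : IsPGroup p D := IsDefectGroup.isPGroup hD
  set N : Subgroup G := Subgroup.normalizer (D : Set G) with hN
  let _ : Fintype ↥N := Fintype.ofFinite _
  have hDN : D ≤ N := Subgroup.le_normalizer
  obtain ⟨b, ⟨hb, hbD, -⟩, -⟩ := existsUnique_inducing_with_defect hM hDp hB hD
  have hQn : (D.subgroupOf N).Normal := Subgroup.normal_in_normalizer
  have hQp : IsPGroup p (D.subgroupOf N) := IsDefectGroup.isPGroup hbD
  have hrad : ∀ R : Subgroup G, IsPGroup p R → D ≤ R → R ≤ N →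
      (∀ n ∈ N, ∀ r ∈ R, n * r * n⁻¹ ∈ R) → R ≤ D := by
    intro R hR _ hRN hRn
    have : (R.subgroupOf N).Normal := ⟨fun r hr n => hRn n n.2 r hr⟩
    have h := normal_le_defect hM hb hbD (Q := R.subgroupOf N)
      (hR.of_injective (Subgroup.subgroupOfEquivOfLe hRN).toMonoidHom (MulEquiv.injective _))
    intro r hr
    exact h (show (⟨r, hRN hr⟩ : ↥N) ∈ R.subgroupOf N from hr)
  have hC := hloc D hDp hne hrad
  have hcard := defect_full hM (Q := D.subgroupOf N) (Z := Z.subgroupOf N) hQp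
    (fun z hz => Subgroup.mem_center_iff.2 fun n => Subtype.ext (Subgroup.mem_center_iff.1 (hZ hz) n))
    (fun c hc => by
      have hc' : (c : G) ∈ D ⊔ Z := hC (Subgroup.mem_centralizer_iff.2 fun d hd =>
        congrArg Subtype.val (Subgroup.mem_centralizer_iff.1 hc ⟨d, hDN hd⟩ hd))
      have hZN : Z ≤ N := fun z hz => Subgroup.centralizer_le_normalizer _
        (Subgroup.mem_centralizer_iff.2 fun d _ => Subgroup.mem_center_iff.1 (hZ hz) d)
      rw [← Subgroup.subgroupOf_sup hDN hZN]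
      exact hc') hb hbD
  obtain ⟨P, hP⟩ := hDp.exists_le_sylow
  refine ⟨P, ?_⟩
  by_contra hPD
  have hPp : IsPGroup p (P : Subgroup G) := P.2
  have hlt : D.subgroupOf (P : Subgroup G) < ⊤ := lt_of_le_of_ne le_top fun e =>
    hPD (le_antisymm (Subgroup.subgroupOf_eq_top.1 e) hP)
  have := hPp.isNilpotent
  have hgrow := Group.normalizerCondition_of_isNilpotent _ hlt
  obtain ⟨x, hx, hxD⟩ := SetLike.exists_of_lt hgrow
  have hxN : (x : G) ∈ N := by
    rw [hN, Subgroup.mem_normalizer_iff]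
    intro h
    have hx' := Subgroup.mem_normalizer_iff.1 hx
    refine ⟨fun hh => (hx' ⟨h, hP hh⟩).1 hh, fun hh => ?_⟩
    have hhP : h ∈ (P : Subgroup G) := by
      have := mul_mem (mul_mem (inv_mem x.2) (hP hh)) x.2
      simpa [mul_assoc] using this
    exact (hx' ⟨h, hhP⟩).2 hh
  have hSp : IsPGroup p ((P : Subgroup G).subgroupOf N) :=
    hPp.comap_of_injective _ (Subgroup.subtype_injective N)
  obtain ⟨Q, hQ⟩ := hSp.exists_le_sylow
  have hDQ : D.subgroupOf N ≤ (Q : Subgroup ↥N) := fun z hz => hQ (hP hz)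
  have heq : D.subgroupOf N = (Q : Subgroup ↥N) :=
    Subgroup.eq_of_le_of_card_ge hDQ (by rw [hcard, Q.card_eq_multiplicity])
  exact hxD (show (x : G) ∈ D from
    heq.symm.le (hQ (show (⟨(x : G), hxN⟩ : ↥N) ∈ (P : Subgroup G).subgroupOf N from x.2)))

/-- The blocks of a group with self-centralising radical subgroups and one character of defect
zero. -/
theorem card_blocks (hM : IsPModular p M) {Z : Subgroup G} (hZ : Z ≤ Subgroup.center G)
    (hZp : ¬ p ∣ Nat.card Z) (hpG : p ∣ Nat.card G)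
    (hloc : ∀ D : Subgroup G, IsPGroup p D → D ≠ ⊥ →
      (∀ R : Subgroup G, IsPGroup p R → D ≤ R → R ≤ Subgroup.normalizer (D : Set G) →
        (∀ n ∈ Subgroup.normalizer (D : Set G), ∀ r ∈ R, n * r * n⁻¹ ∈ R) → R ≤ D) →
      Subgroup.centralizer (D : Set G) ≤ D ⊔ Z)
    (P : Sylow p G) (hP : Subgroup.centralizer ((P : Subgroup G) : Set G) ≤ (P : Subgroup G) ⊔ Z)
    (χ₀ : IrrCharacter G) (h₀ : p ^ (Nat.card G).factorization p ∣ charDegree (χ₀ : G → ℂ))
    (huniq : ∀ χ : IrrCharacter G, p ^ (Nat.card G).factorization p ∣ charDegree (χ : G → ℂ) → χ = χ₀) :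
    Nat.card {B : Set (IrrCharacter G) // IsPBlock M B} = Nat.card Z + 1 := by
  classical
  have hp1 := hp.out.one_lt
  have hne : (Nat.card G).factorization p ≠ 0 := fun h =>
    hp.out.factorization_pos_of_dvd Nat.card_pos.ne' hpG |>.ne' h
  set B₀ := blockOf M (χ₀ : G → ℂ) with hB₀def
  have hB₀ : IsPBlock M B₀ := isPBlock_blockOf χ₀
  have hdvdcard : charDegree (χ₀ : G → ℂ) ∣ Nat.card G := CfsgLib.CharBlocks.charDegree_dvd_card χ₀.2
  have hnd : ¬ p ∣ Nat.card G / charDegree (χ₀ : G → ℂ) := fun hd => by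
    have hm := mul_dvd_mul h₀ hd
    rw [Nat.mul_div_cancel' hdvdcard, ← pow_succ] at hm
    exact Nat.pow_succ_factorization_not_dvd Nat.card_pos.ne' hp.out hm
  have hsingle : B₀ = {χ₀} := blockOf_eq_singleton hM χ₀ hnd
  have hsplit : ∀ B : Set (IrrCharacter G), IsPBlock M B →
      (B = B₀ ↔ ¬ IsDefectGroup p M B (P : Subgroup G)) := by
    intro B hB
    obtain ⟨D, hD⟩ := exists_isDefectGroup (p := p) hB
    have hDc := card_defectGroup hM hB hD
    constructor
    · rintro rfl hPd
      have h1 := card_defectGroup hM hB hPd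
      rw [P.card_eq_multiplicity, hsingle] at h1
      have h2 := Nat.pow_right_injective hp1 h1
      simp only [blockDefect, Set.image_singleton, csInf_singleton] at h2
      have := (Nat.Prime.pow_dvd_iff_le_factorization hp.out
        (Nat.pos_of_dvd_of_pos hdvdcard Nat.card_pos).ne').1 h₀
      omega
    · intro hnot
      by_cases hbot : D = ⊥
      · subst hbot
        rw [Subgroup.card_bot] at hDc
        have hd0 : blockDefect p B = 0 := by
          by_contra h
          exact (Nat.one_lt_pow h hp1).ne hDc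
        obtain ⟨χ, hχ⟩ := IsPBlock.nonempty hB
        refine isPBlock_eq_of_mem hB hB₀ hχ ?_
        have hle : sInf ((fun χ : IrrCharacter G => (charDegree (χ : G → ℂ)).factorization p) '' B) ≤
            (charDegree (χ : G → ℂ)).factorization p := Nat.sInf_le ⟨χ, hχ, rfl⟩
        rw [blockDefect] at hd0
        have hpos : charDegree (χ : G → ℂ) ≠ 0 :=
          (Nat.pos_of_dvd_of_pos (CfsgLib.CharBlocks.charDegree_dvd_card χ.2) Nat.card_pos).ne'
        rw [huniq χ ((Nat.Prime.pow_dvd_iff_le_factorization hp.out hpos).2 (by omega))]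
        exact mem_blockOf_self χ₀
      · obtain ⟨P', hP'⟩ := sylow_defect hM hZ hloc hB hD hbot
        obtain ⟨g, hg⟩ := MulAction.exists_smul_eq G P' P
        refine absurd ?_ hnot
        have h := IsDefectGroup.conj hB hD g
        rw [← hg, Sylow.coe_subgroup_smul, hP']
        exact h
  have e : {B : Set (IrrCharacter G) // IsPBlock M B} ≃
      Option {B : Set (IrrCharacter G) // IsPBlock M B ∧ IsDefectGroup p M B (P : Subgroup G)} :=
    { toFun := fun B => if h : IsDefectGroup p M B.1 (P : Subgroup G) then some ⟨B.1, B.2, h⟩ else none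
      invFun := fun o => o.elim ⟨B₀, hB₀⟩ fun B => ⟨B.1, B.2.1⟩
      left_inv := fun B => by
        by_cases h : IsDefectGroup p M B.1 (P : Subgroup G)
        · simp [h]
        · simp only [dif_neg h, Option.elim_none]
          exact Subtype.ext ((hsplit B.1 B.2).2 h).symm
      right_inv := fun o => by
        cases o with
        | none => simp [(hsplit B₀ hB₀).1 rfl]
        | some B => simp [B.2.2] }
  rw [Nat.card_congr e, Finite.card_option, card_blocks_sylow_defect hM P]
  congr 1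
  set N := Subgroup.normalizer ((P : Subgroup G) : Set G)
  have hZN : Z ≤ N := fun z hz => Subgroup.centralizer_le_normalizer _
    (Subgroup.mem_centralizer_iff.2 fun d _ => Subgroup.mem_center_iff.1 (hZ hz) d)
  have hreg : ∀ n : ↥N, (n : G) ∈ Z →
      ¬ p ∣ orderOf n ∧ (n : G) ∈ Subgroup.centralizer ((P : Subgroup G) : Set G) := by
    intro n hn
    refine ⟨fun hd => hZp (hd.trans ?_), Subgroup.mem_centralizer_iff.2 fun d _ =>
      Subgroup.mem_center_iff.1 (hZ hn) d⟩
    rw [← Subgroup.orderOf_coe]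
    exact Subgroup.orderOf_dvd_natCard Z hn
  have hmem : ∀ z : ↥Z, ∀ n : ↥N, ConjClasses.mk n = ConjClasses.mk (⟨z.1, hZN z.2⟩ : ↥N) →
      ¬ p ∣ orderOf n ∧ (n : G) ∈ Subgroup.centralizer ((P : Subgroup G) : Set G) := by
    intro z n hn
    obtain ⟨c, hc⟩ := isConj_iff.1 (ConjClasses.mk_eq_mk_iff_isConj.1 hn)
    refine hreg n ?_
    have hc' : (c : G) * (n : G) * (c : G)⁻¹ = z.1 := congrArg Subtype.val hc
    have hz := Subgroup.mem_center_iff.1 (hZ z.2) (c : G)
    have : (n : G) = z.1 := by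
      calc (n : G) = (c : G)⁻¹ * ((c : G) * n * (c : G)⁻¹) * c := by group
        _ = (c : G)⁻¹ * (z.1 * c) := by rw [hc', mul_assoc]
        _ = z.1 := by rw [← hz, inv_mul_cancel_left]
    rw [this]; exact z.2
  let f : ↥Z → {C : ConjClasses ↥N // ∀ n : ↥N, ConjClasses.mk n = C →
      ¬ p ∣ orderOf n ∧ (n : G) ∈ Subgroup.centralizer ((P : Subgroup G) : Set G)} :=
    fun z => ⟨ConjClasses.mk (⟨z.1, hZN z.2⟩ : ↥N), hmem z⟩
  refine (Nat.card_eq_of_bijective f ⟨fun a b h => ?_, fun C => ?_⟩).symm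
  · obtain ⟨c, hc⟩ := isConj_iff.1 (ConjClasses.mk_eq_mk_iff_isConj.1 (congrArg Subtype.val h))
    have hc' : (c : G) * a.1 * (c : G)⁻¹ = b.1 := congrArg Subtype.val hc
    rw [Subgroup.mem_center_iff.1 (hZ a.2) (c : G), mul_inv_cancel_right] at hc'
    exact Subtype.ext hc'
  · obtain ⟨n, hn⟩ := ConjClasses.mk_surjective C.1
    obtain ⟨hr, hcn⟩ := C.2 n hn
    rw [← Subgroup.orderOf_coe] at hr
    exact ⟨⟨_, mem_of_mul_regular P.2 hZ hr (hP hcn)⟩, Subtype.ext hn⟩

end CfsgLib.Blocks.LocalCentral
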