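import Cfsg.Agent.Lib.Blocks.CentralProduct
import Cfsg.Agent.Lib.Blocks.Roots
import Cfsg.Agent.Lib.Char.Linear
import Cfsg.Agent.Lib.Char.Ito
import Cfsg.Agent.Lib.CharBlocks.Degree

/-!
# Blocks with a normal defect group
-/

set_option autoImplicit false

noncomputable section

namespace CfsgLib.Blocks

open Cfsg CfsgLib.CharNormal
open scoped ComplexConjugate

variable {M : Ideal AlgInt} [M.IsMaximal] {G : Type*} [Group G] [Fintype G] {p : ℕ}

/-- A block covering a block of a normal subgroup containing `C(Q)` is induced by it. -/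
theorem isInducedBlock_of_covers (hM : IsPModular p M) {Q N : Subgroup G} [Q.Normal] [N.Normal] [Fintype N]
    (hQ : IsPGroup p Q) (hCN : Subgroup.centralizer (Q : Set G) ≤ N) {χ : IrrCharacter G}
    {θ : IrrCharacter N} (hne : classInner (fun n : N => (χ : G → ℂ) n) (θ : N → ℂ) ≠ 0) :
    IsInducedBlock M N (blockOf M (θ : N → ℂ)) (blockOf M (χ : G → ℂ)) := by
  classical
  refine isInducedBlock_of_mem (M := M) N ?_
  rw [indBomega_eq_iff]
  intro g
  by_cases hg : g ∈ N
  · rw [centralChar_eq_icc_of_over χ.2 hne hg, sub_self]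
    exact (res_eq_zero_iff M 0).mp (map_zero _)
  · refine (indBomega_zclass_eq_iff N θ χ g).mp ?_
    have h0 : bomega (M := M) χ (zclass M g) = 0 := by
      by_contra h
      exact hg (hCN (mem_centralizer_of_bomega_ne_zero hM hQ h))
    rw [h0, indBomega_apply]
    refine bomega_eq_zero_of_rcoeff_eq_zero θ fun n => ?_
    rw [rcoeff_resIn, rcoeff_zclass, if_neg]
    intro hc
    obtain ⟨w, hw⟩ := isConj_iff.mp hc
    refine hg ?_
    have h2 := Subgroup.Normal.conj_mem (inferInstance : N.Normal) _ n.2 w⁻¹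
    rwa [← hw, inv_inv, show w⁻¹ * (w * g * w⁻¹) * w = g by group] at h2

variable [hp : Fact p.Prime]

set_option maxHeartbeats 800000 in
/-- A normal defect group is abelian iff every character of the block has height zero. -/
theorem normal_defect_abelian_iff (hM : IsPModular p M) {B : Set (IrrCharacter G)} (hB : IsPBlock M B)
    {P : Subgroup G} [P.Normal] (hP : IsDefectGroup p M B P) :
    (∀ a ∈ P, ∀ c ∈ P, a * c = c * a) ↔ ∀ χ ∈ B, blockHeight p B (χ : G → ℂ) = 0 := by
  classical
  have hPp := IsDefectGroup.isPGroup hP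
  obtain ⟨N, hN⟩ : ∃ N : Subgroup G, N = P ⊔ Subgroup.centralizer (P : Set G) := ⟨_, rfl⟩
  have : N.Normal := by rw [hN]; infer_instance
  let _ := Fintype.ofFinite N
  have hPN : P ≤ N := hN ▸ le_sup_left
  have hCN : Subgroup.centralizer (P : Set G) ≤ N := hN ▸ le_sup_right
  have hNN : N ≤ Subgroup.normalizer (P : Set G) := le_top.trans (Subgroup.normalizer_eq_top (H := P)).ge
  obtain ⟨Q, hQ⟩ : ∃ Q : Subgroup N, Q = P.subgroupOf N := ⟨_, rfl⟩
  have hQp : IsPGroup p Q := hQ ▸ hPp.of_equiv (Subgroup.subgroupOfEquivOfLe hPN).symm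
  have hQG : Q ⊔ Subgroup.centralizer (Q : Set N) = ⊤ := by
    refine eq_top_iff.mpr ?_
    rw [show (⊤ : Subgroup N) = (P ⊔ Subgroup.centralizer (P : Set G)).subgroupOf N by
      rw [← hN, Subgroup.subgroupOf_self], Subgroup.subgroupOf_sup hPN hCN, hQ]
    refine sup_le_sup_left (fun v hv => Subgroup.mem_centralizer_iff.mpr fun w hw => Subtype.ext ?_) _
    exact Subgroup.mem_centralizer_iff.mp (Subgroup.mem_subgroupOf.mp hv) _ (Subgroup.mem_subgroupOf.mp hw)
  have hQidx : Q.index * N.index = P.index := by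
    rw [hQ]; exact Subgroup.relIndex_mul_index hPN
  have hblk : ∀ χ ∈ B, ∀ θ : IrrCharacter N,
      classInner (fun n : N => (χ : G → ℂ) n) (θ : N → ℂ) ≠ 0 →
        IsDefectGroup p M (blockOf M (θ : N → ℂ)) Q := by
    intro χ hχ θ hθ
    have h := isInducedBlock_of_covers hM hPp hCN hθ
    rw [← isPBlock_eq_blockOf hB hχ] at h
    exact hQ ▸ defectGroup_of_inducing hM hPN hNN h hP
  have hdP : (Nat.card P).factorization p = blockDefect p B := by
    rw [card_defectGroup hM hB hP, hp.out.factorization_pow, Finsupp.single_eq_same]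
  have hPfac : (Nat.card G).factorization p = (Nat.card P).factorization p + P.index.factorization p := by
    rw [← P.card_mul_index, Nat.factorization_mul Nat.card_pos.ne' Subgroup.index_ne_zero_of_finite,
      Finsupp.add_apply]
  have hPidx : P.index.factorization p = Q.index.factorization p + N.index.factorization p := by
    rw [← hQidx, Nat.factorization_mul Subgroup.index_ne_zero_of_finite Subgroup.index_ne_zero_of_finite,
      Finsupp.add_apply]
  constructor
  · intro hab χ hχ
    obtain ⟨θ, hθ⟩ := exists_over (N := N) χ.2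
    have hQZ : Q ≤ Subgroup.center N := by
      intro z hz
      refine Subgroup.mem_center_iff.mpr fun v => Subtype.ext ?_
      have hle : N ≤ Subgroup.centralizer ({(z : G)} : Set G) := by
        refine hN.le.trans (sup_le (fun w hw => Subgroup.mem_centralizer_singleton_iff.mpr ?_)
          fun w hw => Subgroup.mem_centralizer_singleton_iff.mpr ?_)
        · exact hab w hw z (Subgroup.mem_subgroupOf.mp (hQ ▸ hz))
        · exact (Subgroup.mem_centralizer_iff.mp hw _ (Subgroup.mem_subgroupOf.mp (hQ ▸ hz))).symm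
      exact Subgroup.mem_centralizer_singleton_iff.mp (hle v.2)
    have h1 := degree_le_index_central (p := p) hQZ θ
    have hθd := charDegree_eq (CfsgLib.Char.isCharacter_of_isIrr θ.2)
    have hχd := charDegree_eq (CfsgLib.Char.isCharacter_of_isIrr χ.2)
    obtain ⟨hdvd, hquo⟩ := CfsgLib.Char.degree_quotient_dvd_index N χ.2 θ.2 hθ hχd hθd
    obtain ⟨k, hk⟩ := hdvd
    rw [hk, Nat.mul_div_cancel_left _ (Nat.pos_of_ne_zero (charDegree_ne_zero θ))] at hquo
    have hk0 : k ≠ 0 := fun h => charDegree_ne_zero χ (by rw [hk, h, mul_zero])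
    have h2 := (Nat.factorization_le_iff_dvd hk0 Subgroup.index_ne_zero_of_finite).mpr hquo p
    have h3 := degree_height hM hB hχ
    rw [hk, Nat.factorization_mul (charDegree_ne_zero θ) hk0, Finsupp.add_apply] at h3
    omega
  · intro hall
    obtain ⟨χ₀, hχ₀⟩ := IsPBlock.nonempty hB
    obtain ⟨θ₀, hθ₀⟩ := exists_over (N := N) χ₀.2
    have hind₀ : IsInducedBlock M N (blockOf M (θ₀ : N → ℂ)) B := by
      have h := isInducedBlock_of_covers (M := M) hM hPp hCN hθ₀
      rwa [← isPBlock_eq_blockOf hB hχ₀] at h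
    set b := blockOf M (θ₀ : N → ℂ)
    have hb : IsPBlock M b := isPBlock_blockOf θ₀
    obtain ⟨⟨θ₁, ⟨hθ₁b, hθ₁P⟩, huniq⟩, hdeg₁, -, hnu⟩ :=
      central_product_block_degrees hM hQp hQG hb (hblk χ₀ hχ₀ θ₀ hθ₀)
    have hover : ∀ θ ∈ b, ∀ χ : IrrCharacter G,
        classInner (fun n : N => (χ : G → ℂ) n) (θ : N → ℂ) ≠ 0 → χ ∈ B := by
      intro θ hθ χ hχ
      have h := isInducedBlock_of_covers (M := M) hM hPp hCN hχ
      rw [← isPBlock_eq_blockOf hb hθ] at h
      rw [inducedBlock_unique _ hind₀ h]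
      exact mem_blockOf_self χ
    have hval : ∀ χ ∈ B, (charDegree (χ : G → ℂ)).factorization p = P.index.factorization p := by
      intro χ hχ
      have h := degree_height hM hB hχ
      rw [hall χ hχ] at h
      omega
    -- multiplicities and orbit lengths
    have hdec : ∀ (θ : IrrCharacter N) (χ : IrrCharacter G),
        classInner (fun n : N => (χ : G → ℂ) n) (θ : N → ℂ) ≠ 0 →
        ∃ e : ℕ, e ≠ 0 ∧ classInner (fun n : N => (χ : G → ℂ) n) (θ : N → ℂ) = e ∧
          charDegree (χ : G → ℂ) = e * (inertia N (θ : N → ℂ)).index * charDegree (θ : N → ℂ) := by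
      intro θ χ h
      obtain ⟨e, he⟩ := CfsgLib.Char.classInner_char_nat
        (CfsgLib.Char.isCharacter_res N (CfsgLib.Char.isCharacter_of_isIrr χ.2))
        (CfsgLib.Char.isCharacter_of_isIrr θ.2)
      refine ⟨e, fun h0 => h (by rw [he, h0, Nat.cast_zero]), he, ?_⟩
      have hd := degree_eq_mul_card_orbit N χ.2 θ h
      rw [card_orbit_eq_index, he, charDegree_eq (CfsgLib.Char.isCharacter_of_isIrr χ.2),
        charDegree_eq (CfsgLib.Char.isCharacter_of_isIrr θ.2)] at hd
      exact_mod_cast hd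
    set T := inertia N (θ₁ : N → ℂ)
    have hθ₁deg : (charDegree (θ₁ : N → ℂ)).factorization p = Q.index.factorization p :=
      hdeg₁ θ₁ hθ₁b hθ₁P
    have hNT : N ≤ T := le_inertia N (CfsgLib.Char.isClassFunction_of_isIrr θ₁.2)
    have hTfac : T.index.factorization p = N.index.factorization p := by
      have hrel := Subgroup.relIndex_mul_index hNT
      have hr0 : N.relIndex T ≠ 0 := fun h => Subgroup.index_ne_zero_of_finite (H := N)
        (by rw [← hrel, h, zero_mul])
      set t := (N.relIndex T).factorization p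
      have ht : N.index.factorization p = t + T.index.factorization p := by
        rw [← hrel, Nat.factorization_mul hr0 Subgroup.index_ne_zero_of_finite, Finsupp.add_apply]
      choose e he0 he hdege using fun χ : {χ : IrrCharacter G //
          classInner (fun n : N => (χ : G → ℂ) n) (θ₁ : N → ℂ) ≠ 0} => hdec θ₁ χ.1 χ.2
      have hsum : ∑ χ, (e χ) ^ 2 = N.relIndex T := by
        have h := sum_degree_mul_classInner_res N θ₁.2 (G := G)
        rw [← Finset.sum_filter_add_sum_filter_not Finset.univ
          (fun χ : IrrCharacter G => classInner (fun n : N => (χ : G → ℂ) n) (θ₁ : N → ℂ) ≠ 0)] at h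
        rw [Finset.sum_eq_zero (s := Finset.univ.filter fun χ : IrrCharacter G =>
          ¬ classInner (fun n : N => (χ : G → ℂ) n) (θ₁ : N → ℂ) ≠ 0) (fun χ hχ => by
          rw [not_not.mp (Finset.mem_filter.mp hχ).2, mul_zero]), add_zero] at h
        rw [Finset.sum_subtype _ (p := fun χ : IrrCharacter G =>
          classInner (fun n : N => (χ : G → ℂ) n) (θ₁ : N → ℂ) ≠ 0) (by simp)] at h
        have h2 : (((∑ χ, (e χ) ^ 2) * (T.index * charDegree (θ₁ : N → ℂ)) : ℕ) : ℂ) =
            ((N.relIndex T * (T.index * charDegree (θ₁ : N → ℂ)) : ℕ) : ℂ) := by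
          rw [Finset.sum_mul, Nat.cast_sum]
          refine Eq.trans (Finset.sum_congr rfl fun χ _ => ?_) (h.trans ?_)
          · rw [he, charDegree_eq (CfsgLib.Char.isCharacter_of_isIrr χ.1.2), hdege]
            push_cast; ring
          · rw [← hrel, charDegree_eq (CfsgLib.Char.isCharacter_of_isIrr θ₁.2)]
            push_cast; ring
        exact Nat.eq_of_mul_eq_mul_right (Nat.mul_pos (Nat.pos_of_ne_zero Subgroup.index_ne_zero_of_finite)
          (Nat.pos_of_ne_zero (charDegree_ne_zero θ₁))) (Nat.cast_injective h2)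
      have hdiv : p ^ (2 * t) ∣ N.relIndex T := by
        rw [← hsum]
        refine Finset.dvd_sum fun χ _ => ?_
        have hv := hval χ.1 (hover θ₁ hθ₁b χ.1 χ.2)
        rw [hdege, Nat.factorization_mul (mul_ne_zero (he0 χ) Subgroup.index_ne_zero_of_finite)
          (charDegree_ne_zero θ₁), Nat.factorization_mul (he0 χ) Subgroup.index_ne_zero_of_finite,
          Finsupp.add_apply, Finsupp.add_apply] at hv
        have hle : t ≤ (e χ).factorization p := by
          simp only [T] at ht
          omega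
        have hd : p ^ t ∣ e χ := (hp.out.pow_dvd_iff_le_factorization (he0 χ)).mpr hle
        have := pow_dvd_pow_of_dvd hd 2
        rwa [← pow_mul, mul_comm] at this
      have h2t := (hp.out.pow_dvd_iff_le_factorization hr0).mp hdiv
      omega
    intro a ha c hc
    by_contra hne
    let _ := Fintype.ofFinite Q
    obtain ⟨ν, hν⟩ : ∃ ν : IrrCharacter Q, (ν : Q → ℂ) 1 ≠ 1 := by
      by_contra h
      push Not at h
      refine hne ?_
      have := CfsgLib.Char.comm_iff_forall_linear.mpr h
        ⟨⟨a, hPN ha⟩, hQ ▸ Subgroup.mem_subgroupOf.mpr ha⟩ ⟨⟨c, hPN hc⟩, hQ ▸ Subgroup.mem_subgroupOf.mpr hc⟩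
      exact congrArg (fun v : Q => ((v : N) : G)) this
    obtain ⟨θ, hθb, hθdeg⟩ := hnu ν
    have hνp : 1 ≤ (charDegree (ν : Q → ℂ)).factorization p := by
      obtain ⟨n, hn⟩ := IsPGroup.iff_card.mp hQp
      obtain ⟨j, -, hj⟩ := (Nat.dvd_prime_pow hp.out).mp
        (hn ▸ CfsgLib.CharBlocks.charDegree_dvd_card ν.2)
      have hj0 : j ≠ 0 := fun h => hν (by
        rw [← CfsgLib.CharBlocks.coe_charDegree_irr ν, hj, h, pow_zero, Nat.cast_one])
      rw [hj, hp.out.factorization_pow, Finsupp.single_eq_same]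
      omega
    have hTθ : inertia N (θ : N → ℂ) ≤ T := by
      intro g hg
      rw [mem_inertia] at hg ⊢
      have h1 : conjIrr N g θ₁ = θ₁ := by
        refine huniq _ ⟨?_, fun v hv => ?_⟩
        · have hsb : SameBlock M (θ : N → ℂ) (θ₁ : N → ℂ) :=
            (sameBlock_iff θ θ₁).mpr (bomega_eq_of_mem hb hθb hθ₁b)
          have h := sameBlock_conjFun hsb g
          rw [hg] at h
          exact mem_of_bomega_eq hb hθb ((sameBlock_iff θ (conjIrr N g θ₁)).mp h)
        · rw [conjIrr_coe, conjFun_apply, conjFun_apply_one]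
          refine hθ₁P _ (hQ ▸ Subgroup.mem_subgroupOf.mpr ?_)
          exact Subgroup.Normal.conj_mem inferInstance _ (Subgroup.mem_subgroupOf.mp (hQ ▸ hv)) g
      exact congrArg Subtype.val h1
    obtain ⟨χ, hχ⟩ := exists_irr_over N θ.2 (G := G)
    obtain ⟨e, he0, -, hd⟩ := hdec θ χ hχ
    have h1 := hval χ (hover θ hθb χ hχ)
    rw [hd, Nat.factorization_mul (mul_ne_zero he0 Subgroup.index_ne_zero_of_finite) (charDegree_ne_zero θ),
      Nat.factorization_mul he0 Subgroup.index_ne_zero_of_finite, Finsupp.add_apply, Finsupp.add_apply] at h1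
    have h2 := (Nat.factorization_le_iff_dvd Subgroup.index_ne_zero_of_finite
      Subgroup.index_ne_zero_of_finite).mpr (Subgroup.index_dvd_of_le hTθ) p
    omega

end CfsgLib.Blocks
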