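import Cfsg.Agent.Lib.Blocks.SimpleTrace
import Mathlib.RepresentationTheory.AlgebraRepresentation.Basic
import Mathlib.GroupTheory.SpecificGroups.Cyclic
import Mathlib.GroupTheory.GroupAction.Quotient

/-!
# Points of modules at a subgroup of prime order

For a subgroup `P` of order `p` and a linear character `l` of `N`, a point of a module is an
`l`-eigenvector which is not in the image of the norm of `P`. A simple module has points for one
character only.
-/

set_option autoImplicit false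

noncomputable section

namespace CfsgLib.Blocks.Points

open Finset

variable {k : Type*} [Field k] {G : Type*} [Group G] {V : Type*} [AddCommGroup V] [Module k V]
  [Module (MonoidAlgebra k G) V] [IsScalarTower k (MonoidAlgebra k G) V]

/-- The action of a group element. -/
def gact (k : Type*) [Field k] {G : Type*} [Group G] {V : Type*} [AddCommGroup V] [Module k V]
    [Module (MonoidAlgebra k G) V] [IsScalarTower k (MonoidAlgebra k G) V] (g : G) : V →ₗ[k] V :=
  Algebra.lsmul k k V (MonoidAlgebra.single g (1 : k))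

theorem gact_apply (g : G) (v : V) : gact k g v = MonoidAlgebra.single g (1 : k) • v := rfl

theorem gact_mul (g h : G) (v : V) : gact k (g * h) v = gact k g (gact k h v) := by
  rw [gact_apply, gact_apply, gact_apply, smul_smul, MonoidAlgebra.single_mul_single, mul_one]

theorem gact_one (v : V) : gact k (1 : G) v = v := by
  rw [gact_apply, ← MonoidAlgebra.one_def, one_smul]

theorem gact_inv (g : G) (v : V) : gact k g⁻¹ (gact k g v) = v := by
  rw [← gact_mul, inv_mul_cancel, gact_one]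

theorem gact_mem {U : Submodule (MonoidAlgebra k G) V} (g : G) {v : V} (hv : v ∈ U) :
    gact k g v ∈ U := U.smul_mem _ hv

theorem smul_mem' {U : Submodule (MonoidAlgebra k G) V} (c : k) {v : V} (hv : v ∈ U) : c • v ∈ U :=
  U.smul_of_tower_mem c hv

variable {P N : Subgroup G}

/-- The norm of `P`. -/
def nu (k : Type*) [Field k] {G : Type*} [Group G] (P : Subgroup G) [Fintype P] {V : Type*}
    [AddCommGroup V] [Module k V] [Module (MonoidAlgebra k G) V]
    [IsScalarTower k (MonoidAlgebra k G) V] : V →ₗ[k] V := ∑ π : P, gact k (π : G)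

theorem nu_apply [Fintype P] (v : V) : nu k P v = ∑ π : P, gact k (π : G) v := LinearMap.sum_apply _ _ _

theorem nu_mem [Fintype P] {U : Submodule (MonoidAlgebra k G) V} {v : V} (hv : v ∈ U) : nu k P v ∈ U := by
  rw [nu_apply]; exact sum_mem fun π _ => gact_mem _ hv

theorem gact_nu [Fintype P] (π₀ : P) (v : V) : gact k (π₀ : G) (nu k P v) = nu k P v := by
  rw [nu_apply, map_sum]
  exact Fintype.sum_equiv (Equiv.mulLeft π₀) _ _ fun π => by
    rw [Equiv.coe_mulLeft, Subgroup.coe_mul, gact_mul]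

theorem nu_comm [Fintype P] {n : G} (hn : n ∈ Subgroup.normalizer (P : Set G)) (v : V) :
    gact k n (nu k P v) = nu k P (gact k n v) := by
  rw [nu_apply, nu_apply, map_sum]
  refine Fintype.sum_bijective (fun π : P => (⟨n * π * n⁻¹, (Subgroup.mem_normalizer_iff.mp hn π).mp π.2⟩ : P))
    ⟨fun a b h => Subtype.ext (by simpa using congrArg Subtype.val h), fun b =>
      ⟨⟨n⁻¹ * b * n, (Subgroup.mem_normalizer_iff.mp hn _).mpr (by simp [mul_assoc])⟩,
        Subtype.ext (by simp [mul_assoc])⟩⟩ _ _ fun π => ?_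
  rw [← gact_mul, ← gact_mul, inv_mul_cancel_right]

/-- Average over the cosets of `P` in `N`, twisted by `l`. -/
def avg (l : N →* k) [Fintype (N ⧸ P.subgroupOf N)] (v : V) : V :=
  (Fintype.card (N ⧸ P.subgroupOf N) : k)⁻¹ •
    ∑ c : N ⧸ P.subgroupOf N, (l c.out)⁻¹ • gact k ((c.out : N) : G) v

variable {l : N →* k}

omit [AddCommGroup V] [Module k V] [Module (MonoidAlgebra k G) V] [IsScalarTower k (MonoidAlgebra k G) V] in
theorem l_ne_zero (n : N) : l n ≠ 0 := fun h => one_ne_zero (α := k) (by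
  rw [← map_one l, ← mul_inv_cancel n, map_mul, h, zero_mul])

variable [Fintype (N ⧸ P.subgroupOf N)]

theorem avg_eq_self (hcard : (Fintype.card (N ⧸ P.subgroupOf N) : k) ≠ 0)
    {U : Submodule (MonoidAlgebra k G) V} {v : V} (hv : ∀ n : N, gact k (n : G) v - l n • v ∈ U) :
    avg (P := P) l v - v ∈ U := by
  have : avg (P := P) l v - v = (Fintype.card (N ⧸ P.subgroupOf N) : k)⁻¹ •
      ∑ c : N ⧸ P.subgroupOf N, (l c.out)⁻¹ • (gact k ((c.out : N) : G) v - l c.out • v) := by
    have hli : ∀ n : N, (l n)⁻¹ * l n = 1 := fun n => inv_mul_cancel₀ (l_ne_zero (l := l) n)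
    simp only [smul_sub, smul_smul, hli, one_smul, Finset.sum_sub_distrib,
      Finset.sum_const, Finset.card_univ, ← Nat.cast_smul_eq_nsmul k, inv_mul_cancel₀ hcard, avg]
  rw [this]
  exact smul_mem' _ (sum_mem fun c _ => smul_mem' _ (hv _))

theorem avg_eigen (hN : N ≤ Subgroup.normalizer (P : Set G)) (hl : ∀ n : N, (n : G) ∈ P → l n = 1)
    {U : Submodule (MonoidAlgebra k G) V} {v : V} (hv : ∀ π ∈ P, gact k π v - v ∈ U) (n : N) :
    gact k (n : G) (avg (P := P) l v) - l n • avg (P := P) l v ∈ U := by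
  have : (P.subgroupOf N).Normal := Subgroup.normal_subgroupOf_of_le_normalizer hN
  have key : ∀ c : N ⧸ P.subgroupOf N,
      (l c.out)⁻¹ • gact k (n : G) (gact k ((c.out : N) : G) v) -
        l n • (l ((QuotientGroup.mk n * c).out))⁻¹ • gact k (((QuotientGroup.mk n * c).out : N) : G) v ∈ U := by
    intro c
    have hmk : (QuotientGroup.mk (n * c.out) : N ⧸ P.subgroupOf N) = QuotientGroup.mk n * c := by
      rw [QuotientGroup.mk_mul, QuotientGroup.out_eq']
    obtain ⟨q, hq⟩ := QuotientGroup.mk_out_eq_mul (P.subgroupOf N) (n * c.out)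
    rw [hmk] at hq
    rw [hq, map_mul, map_mul, hl q.1 (Subgroup.mem_subgroupOf.mp q.2), mul_one, smul_smul, mul_inv,
      ← mul_assoc, mul_inv_cancel₀ (l_ne_zero n), one_mul, ← smul_sub]
    refine smul_mem' _ ?_
    rw [Subgroup.coe_mul, gact_mul, Subgroup.coe_mul, gact_mul, ← map_sub, ← map_sub]
    refine gact_mem _ (gact_mem _ ?_)
    rw [← neg_sub]
    exact neg_mem (hv _ (Subgroup.mem_subgroupOf.mp q.2))
  have h1 : l n • avg (P := P) l v = (Fintype.card (N ⧸ P.subgroupOf N) : k)⁻¹ •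
      ∑ c : N ⧸ P.subgroupOf N, l n • (l ((QuotientGroup.mk n * c).out))⁻¹ •
        gact k (((QuotientGroup.mk n * c).out : N) : G) v := by
    rw [avg, smul_comm, Finset.smul_sum]
    congr 1
    exact (Fintype.sum_equiv (Equiv.mulLeft (QuotientGroup.mk n : N ⧸ P.subgroupOf N)) _ _ fun c => rfl).symm
  rw [h1]
  simp only [avg, map_smul, map_sum, ← smul_sub, ← Finset.sum_sub_distrib]
  exact smul_mem' _ (sum_mem fun c _ => key c)

/-- A point of the subquotient `U / C`. -/
def IsPointPair (l : N →* k) [Fintype P] (U C : Submodule (MonoidAlgebra k G) V) : Prop :=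
  ∃ v ∈ U, (∀ n : N, gact k (n : G) v - l n • v ∈ C) ∧ ∀ w ∈ U, nu k P w - v ∉ C

/-- A point of a module. -/
def HasPoint (P : Subgroup G) [Fintype P] (l : N →* k) (V : Type*) [AddCommGroup V] [Module k V]
    [Module (MonoidAlgebra k G) V] [IsScalarTower k (MonoidAlgebra k G) V] : Prop :=
  ∃ v : V, (∀ n : N, gact k (n : G) v = l n • v) ∧ ∀ w, nu k P w ≠ v

variable [Fintype P]

/-- A module with a point has a simple subquotient with a point. -/
theorem exists_simple_point [FiniteDimensional k V] (hPN : P ≤ N)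
    (hN : N ≤ Subgroup.normalizer (P : Set G)) (hl : ∀ n : N, (n : G) ∈ P → l n = 1)
    (hcard : (Fintype.card (N ⧸ P.subgroupOf N) : k) ≠ 0) (h : HasPoint P l V) :
    ∃ (U : Submodule (MonoidAlgebra k G) V) (C : Submodule (MonoidAlgebra k G) U),
      IsSimpleModule (MonoidAlgebra k G) (U ⧸ C) ∧ HasPoint P l (U ⧸ C) := by
  classical
  let f : Submodule (MonoidAlgebra k G) V → ℕ := fun U => Module.finrank k (U.restrictScalars k)
  have hmono : ∀ {U D : Submodule (MonoidAlgebra k G) V}, U < D → f U < f D := fun {U D} hUD => by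
    refine Submodule.finrank_lt_finrank_of_lt ?_
    exact lt_of_le_of_ne (fun x hx => hUD.le hx) fun h => hUD.ne
      (Submodule.restrictScalars_injective k _ _ h)
  have hex : ∃ d : ℕ, ∃ U C, C ≤ U ∧ IsPointPair (P := P) l U C ∧ f U - f C = d := by
    obtain ⟨v, hv, hnu⟩ := h
    refine ⟨_, ⊤, ⊥, bot_le, ⟨v, trivial, fun n => ?_, fun w _ hw => hnu w ?_⟩, rfl⟩
    · rw [hv n, sub_self]; exact zero_mem _
    · exact sub_eq_zero.mp ((Submodule.mem_bot _).mp hw)
  obtain ⟨U, C, hCU, ⟨v, hvU, hv, hnu⟩, hd⟩ := Nat.find_spec hex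
  refine ⟨U, C.submoduleOf U, ?_, ?_⟩
  · rw [isSimpleModule_iff_isCoatom]
    refine ⟨fun htop => ?_, fun D hD => ?_⟩
    · refine hnu 0 (zero_mem _) ?_
      rw [map_zero, zero_sub]
      exact neg_mem (show (⟨v, hvU⟩ : U) ∈ C.submoduleOf U from htop ▸ Submodule.mem_top)
    · set D' := D.map U.subtype
      have hD'U : D' ≤ U := Submodule.map_subtype_le U D
      have hDD' : ∀ u : U, (u : V) ∈ D' ↔ u ∈ D := fun u =>
        ⟨fun ⟨y, hy, he⟩ => Subtype.ext he ▸ hy, fun hu => ⟨u, hu, rfl⟩⟩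
      have hCD' : C < D' := by
        obtain ⟨u, huD, huC⟩ := SetLike.exists_of_lt hD
        exact lt_of_le_of_ne (fun c hc => (hDD' ⟨c, hCU hc⟩).mpr (hD.le (show (⟨c, hCU hc⟩ : U) ∈ C.submoduleOf U from hc)))
          fun h => huC (show (u : V) ∈ C from h ▸ (hDD' u).mpr huD)
      by_contra hne
      have hD'lt : D' < U := lt_of_le_of_ne hD'U fun h => hne
        (eq_top_iff.mpr fun u _ => (hDD' u).mp (h.ge u.2))
      by_cases hw : ∃ w ∈ U, nu k P w - v ∈ D'
      · obtain ⟨w, hwU, hw⟩ := hw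
        set u := v - nu k P w
        have huD : u ∈ D' := by rw [show u = -(nu k P w - v) by simp [u]]; exact neg_mem hw
        have huP : ∀ π ∈ P, gact k π u - u ∈ C := fun π hπ => by
          have h1 := hv ⟨π, hPN hπ⟩
          rw [hl _ hπ, one_smul] at h1
          simp only [u, map_sub, gact_nu (⟨π, hπ⟩ : P) w]
          simpa using h1
        have hav : avg (P := P) l u - (v - nu k P (avg (P := P) l w)) ∈ C := by
          have h2 : avg (P := P) l u = avg (P := P) l v - nu k P (avg (P := P) l w) := by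
            simp only [avg, u, map_sub, map_smul, map_sum, smul_sub, Finset.sum_sub_distrib]
            congr 1
            exact congrArg _ (Finset.sum_congr rfl fun c _ => by rw [nu_comm (hN (c.out : N).2)])
          rw [h2, sub_sub_sub_cancel_right]
          exact avg_eq_self hcard hv
        have hpair : IsPointPair (P := P) l D' C := by
          refine ⟨avg (P := P) l u, ?_, avg_eigen hN hl huP, fun w' hw' hc => ?_⟩
          · exact smul_mem' _ (sum_mem fun c _ => smul_mem' _ (gact_mem _ huD))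
          · have hwU' : avg (P := P) l w ∈ U :=
              smul_mem' _ (sum_mem fun c _ => smul_mem' _ (gact_mem _ hwU))
            refine hnu (w' + avg (P := P) l w) (add_mem (hD'U hw') hwU') ?_
            have := add_mem hc hav
            rwa [sub_add_sub_cancel, sub_sub_eq_add_sub, ← map_add] at this
        have h3 := Nat.find_min' hex ⟨D', C, hCD'.le, hpair, rfl⟩
        have h4 := hmono hD'lt
        have h5 := hmono hCD'
        omega
      · push Not at hw
        have hpair : IsPointPair (P := P) l U D' := ⟨v, hvU, fun n => hCD'.le (hv n), hw⟩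
        have h3 := Nat.find_min' hex ⟨U, D', hD'U, hpair, rfl⟩
        have h4 := hmono hD'lt
        have h5 := hmono hCD'
        omega
  · refine ⟨Submodule.Quotient.mk ⟨v, hvU⟩, fun n => ?_, fun w => ?_⟩
    · rw [gact_apply, ← Submodule.Quotient.mk_smul, ← Submodule.Quotient.mk_smul, Submodule.Quotient.eq]
      exact hv n
    · obtain ⟨w, rfl⟩ := Submodule.Quotient.mk_surjective _ w
      intro hc
      refine hnu w w.2 ?_
      have h1 : nu k P (Submodule.Quotient.mk w : U ⧸ C.submoduleOf U) =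
          Submodule.Quotient.mk (nu k P w) := by
        rw [nu_apply, nu_apply]
        exact (map_sum (C.submoduleOf U).mkQ (fun π : P => gact k (π : G) w) Finset.univ).symm
      rw [h1, Submodule.Quotient.eq] at hc
      have h2 : ((nu k P w : U) : V) = nu k P (w : V) := by
        rw [nu_apply, nu_apply, Submodule.coe_sum]; rfl
      have h3 : ((nu k P w - ⟨v, hvU⟩ : U) : V) ∈ C := hc
      rwa [Submodule.coe_sub, h2] at h3

section unique

variable {p : ℕ} [hp : Fact p.Prime] [CharP k p]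

open Polynomial in
/-- The geometric sum in characteristic `p`. -/
theorem geom_sum_eq_sub_one_pow :
    ∑ j ∈ range p, (X : k[X]) ^ j = (X - 1) ^ (p - 1) := by
  have hne : (X : k[X]) - 1 ≠ 0 := by
    rw [← map_one (C : k →+* k[X])]; exact X_sub_C_ne_zero 1
  refine mul_right_cancel₀ hne ?_
  rw [geom_sum_mul, ← pow_succ, Nat.sub_add_cancel hp.out.one_le, sub_pow_char, one_pow]

omit [Fintype (N ⧸ P.subgroupOf N)] in
/-- The norm is the top power of `x - 1`. -/
theorem nu_eq_pow (hP : Nat.card P = p) {x : G} (hxP : x ∈ P) (hx : x ≠ 1) :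
    nu k P (V := V) = (gact k x - 1) ^ (p - 1) := by
  classical
  have hox : orderOf (⟨x, hxP⟩ : P) = p :=
    orderOf_eq_prime (by rw [← hP]; exact pow_card_eq_one') fun h => hx (congrArg Subtype.val h)
  have h1 := congrArg (Polynomial.aeval (gact k x : Module.End k V)) (geom_sum_eq_sub_one_pow (k := k) (p := p))
  simp only [map_sum, map_pow, Polynomial.aeval_X, map_sub, map_one] at h1
  rw [← h1, nu]
  refine (Finset.sum_bij (fun j _ => (⟨x, hxP⟩ : P) ^ j) (fun j _ => mem_univ _) (fun i hi j hj h => ?_)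
    (fun π _ => ?_) (fun j _ => ?_)).symm
  · exact pow_injOn_Iio_orderOf (by simpa [hox] using hi) (by simpa [hox] using hj) h
  · obtain ⟨j, hj, hj'⟩ := (mem_zpowers_iff_mem_range_orderOf (x := (⟨x, hxP⟩ : P)) (y := π)).mp
      (by rw [zpowers_eq_top_of_prime_card hP fun h => hx (congrArg Subtype.val h)]; trivial) |> Finset.mem_image.mp
    exact ⟨j, by rwa [hox] at hj, hj'⟩
  · rw [Subgroup.coe_pow]
    clear h1
    induction j with
    | zero => rw [pow_zero, pow_zero]; exact LinearMap.ext fun v => (gact_one v).symm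
    | succ j ih =>
      rw [pow_succ, pow_succ, ih (Finset.mem_range.mpr (Nat.lt_of_succ_lt (Finset.mem_range.mp ‹_›)))]
      exact LinearMap.ext fun v => (gact_mul _ _ v).symm

omit [Fintype (N ⧸ P.subgroupOf N)] in
/-- A sum of an equivariant family over `G / N`, minus its base term, is a norm. -/
theorem sum_cosets_sub_mem_range [Fintype (G ⧸ N)] (hP : Nat.card P = p) (hPN : P ≤ N)
    (hTI : ∀ g ∉ N, ∃ π ∈ P, g⁻¹ * π * g ∉ N) (f : G ⧸ N → V)
    (hf : ∀ (π : P) (c : G ⧸ N), f ((π : G) • c) = gact k (π : G) (f c)) :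
    ∑ c, f c - f (QuotientGroup.mk 1) ∈ LinearMap.range (nu k P (V := V)) := by
  classical
  let orb : G ⧸ N → Finset (G ⧸ N) := fun c => univ.image fun π : P => (π : G) • c
  have hfree : ∀ c : G ⧸ N, c ≠ QuotientGroup.mk 1 → ∀ π : P, (π : G) • c = c → π = 1 := by
    intro c hc π hπ
    by_contra hne
    obtain ⟨g, rfl⟩ := QuotientGroup.mk_surjective c
    have hg : g ∉ N := fun h => hc (QuotientGroup.eq.mpr (by simpa using N.inv_mem h))
    obtain ⟨π', hπ', hπg⟩ := hTI g hg
    obtain ⟨j, hj⟩ := Subgroup.mem_zpowers_iff.mp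
      (show (⟨π', hπ'⟩ : P) ∈ Subgroup.zpowers π by rw [zpowers_eq_top_of_prime_card hP hne]; trivial)
    have hstab : (π : G) ∈ MulAction.stabilizer G (QuotientGroup.mk g : G ⧸ N) := hπ
    have h2 := zpow_mem hstab j
    rw [← Subgroup.coe_zpow, hj, MulAction.mem_stabilizer_iff, MulAction.Quotient.smul_mk,
      QuotientGroup.eq, smul_eq_mul] at h2
    exact hπg (by simpa [mul_assoc] using N.inv_mem h2)
  rw [← sum_erase_eq_sub (mem_univ _),
    ← sum_fiberwise_of_maps_to (t := (univ.erase (QuotientGroup.mk 1)).image orb) (g := orb)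
      (fun c hc => mem_image_of_mem orb hc)]
  refine Submodule.sum_mem _ fun O hO => ?_
  obtain ⟨c, hc, rfl⟩ := mem_image.mp hO
  have hc1 := (mem_erase.mp hc).1
  refine ⟨f c, ?_⟩
  rw [nu_apply]
  have hsm : ∀ (π₀ π : P), ((π₀ * π : P) : G) • c = (π₀ : G) • (π : G) • c := fun π₀ π => by
    rw [Subgroup.coe_mul, mul_smul]
  refine Finset.sum_bij (fun π _ => (π : G) • c) (fun π _ => ?_) (fun a _ b _ h => ?_) (fun d hd => ?_)
    (fun π _ => (hf π c).symm)
  · refine mem_filter.mpr ⟨mem_erase.mpr ⟨fun h => hc1 ?_, mem_univ _⟩, ?_⟩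
    · have h' := congrArg (fun d => (π : G)⁻¹ • d) h
      simp only [inv_smul_smul] at h'
      rw [h', MulAction.Quotient.smul_mk, QuotientGroup.eq]
      simpa using hPN π.2
    · refine Finset.ext fun d => ?_
      simp only [orb, mem_image, mem_univ, true_and]
      exact ⟨fun ⟨a, ha⟩ => ⟨a * π, by rw [hsm]; exact ha⟩,
        fun ⟨a, ha⟩ => ⟨a * π⁻¹, by rw [← hsm, inv_mul_cancel_right]; exact ha⟩⟩
  · have := hfree c hc1 (b⁻¹ * a) (by rw [hsm, h, ← hsm, inv_mul_cancel, Subgroup.coe_one, one_smul])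
    exact (inv_mul_eq_one.mp this).symm
  · have h : d ∈ orb c := (mem_filter.mp hd).2 ▸ mem_image.mpr ⟨1, mem_univ _, by simp⟩
    obtain ⟨a, -, ha⟩ := mem_image.mp h
    exact ⟨a, mem_univ _, ha⟩

variable [IsAlgClosed k] [Finite G] [FiniteDimensional k V] [IsSimpleModule (MonoidAlgebra k G) V]

set_option maxHeartbeats 800000 in
/-- A simple module has points for one character only. -/
theorem point_unique (hP : Nat.card P = p) (hPN : P ≤ N) (hN : N ≤ Subgroup.normalizer (P : Set G))
    (hTI : ∀ g ∉ N, ∃ π ∈ P, g⁻¹ * π * g ∉ N)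
    (hcard : (Fintype.card (N ⧸ P.subgroupOf N) : k) ≠ 0) {l' : N →* k}
    (hl : ∀ n : N, (n : G) ∈ P → l n = 1) (hl' : ∀ n : N, (n : G) ∈ P → l' n = 1)
    (h : HasPoint P l V) (h' : HasPoint P l' V) : l = l' := by
  classical
  have := Fintype.ofFinite (G ⧸ N)
  by_contra hne
  obtain ⟨v, hv, hvnu⟩ := h
  obtain ⟨v', hv', hvnu'⟩ := h'
  have : Nontrivial P := Finite.one_lt_card_iff_nontrivial.mp (by rw [hP]; exact hp.out.one_lt)
  obtain ⟨⟨x, hxP⟩, hx⟩ := exists_ne (1 : P)
  have hx' : x ≠ 1 := fun h => hx (Subtype.ext h)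
  set T : Module.End k V := gact k x - 1
  have hnu : nu k P (V := V) = T ^ (p - 1) := nu_eq_pow hP hxP hx'
  have hTv : ∀ (u : V), (∀ π : P, gact k (π : G) u = u) → T u = 0 := fun u hu => by
    rw [LinearMap.sub_apply, Module.End.one_apply, hu ⟨x, hxP⟩, sub_self]
  have hfix : ∀ (μ : N →* k), (∀ n : N, (n : G) ∈ P → μ n = 1) → ∀ u : V,
      (∀ n : N, gact k (n : G) u = μ n • u) → ∀ π : P, gact k (π : G) u = u := fun μ hμ u hu π => by
    rw [hu ⟨π, hPN π.2⟩, hμ _ π.2, one_smul]
  have hexi : ∃ i, v ∉ LinearMap.range (T ^ (i + 1)) := by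
    refine ⟨p - 2, ?_⟩
    have := hp.out.two_le
    rw [show p - 2 + 1 = p - 1 by omega, ← hnu]
    rintro ⟨w, hw⟩
    exact hvnu w hw
  set i := Nat.find hexi
  have hi : v ∉ LinearMap.range (T ^ (i + 1)) := Nat.find_spec hexi
  obtain ⟨w, hw⟩ : v ∈ LinearMap.range (T ^ i) := by
    by_cases hi0 : i = 0
    · exact ⟨v, by rw [hi0, pow_zero, Module.End.one_apply]⟩
    · have := Nat.find_min hexi (show i - 1 < i by omega)
      rw [not_not, show i - 1 + 1 = i by omega] at this
      exact this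
  obtain ⟨f₀, hf₀v, hf₀⟩ := Submodule.exists_dual_map_eq_bot_of_notMem hi inferInstance
  have hf₀' : ∀ s, f₀ ((T ^ (i + 1)) s) = 0 := fun s =>
    (Submodule.mem_bot _).mp (hf₀ ▸ Submodule.mem_map_of_mem (LinearMap.mem_range_self _ s))
  set φ : Module.Dual k V := (f₀ v)⁻¹ • f₀
  have hφv : φ v = 1 := by rw [LinearMap.smul_apply, smul_eq_mul, inv_mul_cancel₀ hf₀v]
  have hφ : ∀ s, φ ((T ^ (i + 1)) s) = 0 := fun s => by rw [LinearMap.smul_apply, hf₀', smul_zero]
  let ψ : Module.End k V :=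
    ∑ j ∈ range (i + 1), (φ.comp (T ^ j)).smulRight ((T ^ (i - j)) w)
  have hψT : ψ * T = T * ψ := by
    refine LinearMap.ext fun s => ?_
    simp only [ψ, Module.End.mul_apply, LinearMap.sum_apply, LinearMap.smulRight_apply, LinearMap.comp_apply,
      map_sum, map_smul]
    simp only [← Module.End.mul_apply, ← pow_succ', ← pow_succ]
    rw [Finset.sum_range_succ, Finset.sum_range_succ', hφ, zero_smul, add_zero, Nat.sub_zero]
    have hTw : (T ^ (i + 1)) w = 0 := by
      rw [pow_succ', Module.End.mul_apply, hw]; exact hTv v (hfix l hl v hv)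
    rw [hTw, smul_zero, add_zero]
    refine Finset.sum_congr rfl fun j hj => ?_
    rw [mem_range] at hj
    rw [show i - (j + 1) + 1 = i - j by omega]
  have hψker : ∀ u, T u = 0 → ψ u = φ u • v := by
    intro u hu
    simp only [ψ, LinearMap.sum_apply, LinearMap.smulRight_apply, LinearMap.comp_apply]
    rw [Finset.sum_eq_single_of_mem 0 (by simp) fun j _ hj => by
      obtain ⟨j', rfl⟩ := Nat.exists_eq_succ_of_ne_zero hj
      rw [pow_succ, Module.End.mul_apply, hu, map_zero, map_zero, zero_smul]]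
    rw [pow_zero, Module.End.one_apply, Nat.sub_zero, hw]
  have hψP : ∀ π ∈ P, Commute ψ (gact k π) := by
    intro π hπ
    obtain ⟨j, hj, hj'⟩ : ∃ j ∈ range p, (⟨x, hxP⟩ : P) ^ j = ⟨π, hπ⟩ := by
      have hox : orderOf (⟨x, hxP⟩ : P) = p := orderOf_eq_prime (by rw [← hP]; exact pow_card_eq_one') hx
      obtain ⟨j, hj, hj'⟩ := (mem_zpowers_iff_mem_range_orderOf (x := (⟨x, hxP⟩ : P)) (y := (⟨π, hπ⟩ : P))).mp
        (by rw [zpowers_eq_top_of_prime_card hP hx]; trivial) |> Finset.mem_image.mp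
      exact ⟨j, hox ▸ hj, hj'⟩
    have h1 : gact k π = (T + 1) ^ j := by
      rw [sub_add_cancel, show π = x ^ j from (congrArg Subtype.val hj').symm]
      clear hj hj'
      induction j with
      | zero => rw [pow_zero, pow_zero]; exact LinearMap.ext fun u => gact_one u
      | succ j ih =>
        rw [pow_succ, pow_succ, ← ih]; exact LinearMap.ext fun u => gact_mul _ _ u
    rw [h1]
    exact (Commute.add_right hψT (Commute.one_right ψ)).pow_right j
  let Φ : Module.End k V := (Fintype.card (N ⧸ P.subgroupOf N) : k)⁻¹ •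
    ∑ c : N ⧸ P.subgroupOf N, gact k ((c.out : N) : G) ∘ₗ ψ ∘ₗ gact k ((c.out : N) : G)⁻¹
  have : (P.subgroupOf N).Normal := Subgroup.normal_subgroupOf_of_le_normalizer hN
  have hΦN : ∀ n : N, ∀ u, Φ (gact k (n : G) u) = gact k (n : G) (Φ u) := by
    intro n u
    simp only [Φ, LinearMap.smul_apply, LinearMap.sum_apply, LinearMap.comp_apply, map_smul, map_sum]
    congr 1
    refine (Fintype.sum_equiv (Equiv.mulLeft (QuotientGroup.mk n : N ⧸ P.subgroupOf N)) _ _ fun c => ?_).symm
    have hmk : (QuotientGroup.mk (n * c.out) : N ⧸ P.subgroupOf N) = QuotientGroup.mk n * c := by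
      rw [QuotientGroup.mk_mul, QuotientGroup.out_eq']
    obtain ⟨q, hq⟩ := QuotientGroup.mk_out_eq_mul (P.subgroupOf N) (n * c.out)
    rw [hmk] at hq
    rw [Equiv.coe_mulLeft, hq]
    simp only [Subgroup.coe_mul, mul_inv_rev, gact_mul, gact_inv]
    have hqP : ((q : N) : G) ∈ P := Subgroup.mem_subgroupOf.mp q.2
    have h1 : ∀ z, ψ (gact k ((q : N) : G)⁻¹ z) = gact k ((q : N) : G)⁻¹ (ψ z) :=
      fun z => LinearMap.congr_fun (hψP _ (P.inv_mem hqP)).eq z
    rw [h1, ← gact_mul ((q : N) : G), mul_inv_cancel, gact_one]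
  have hΦeig : ∀ (μ : N →* k), (∀ n : N, (n : G) ∈ P → μ n = 1) → ∀ u : V,
      (∀ n : N, gact k (n : G) u = μ n • u) →
      Φ u = ((Fintype.card (N ⧸ P.subgroupOf N) : k)⁻¹ *
        ∑ c : N ⧸ P.subgroupOf N, (μ c.out)⁻¹ * l c.out) • φ u • v := by
    intro μ hμ u hu
    simp only [Φ, LinearMap.smul_apply, LinearMap.sum_apply, LinearMap.comp_apply, mul_smul, Finset.sum_smul]
    congr 1
    refine Finset.sum_congr rfl fun c _ => ?_
    have hinv : gact k ((c.out : N) : G)⁻¹ u = (μ c.out)⁻¹ • u := by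
      rw [← Subgroup.coe_inv, hu]
      congr 1
      exact eq_inv_of_mul_eq_one_left (by rw [← map_mul, inv_mul_cancel, map_one])
    rw [hinv, map_smul, hψker u (hTv u (hfix μ hμ u hu)), map_smul, map_smul, hv]
    exact congrArg _ (smul_comm _ _ _)
  have hΦv : Φ v = v := by
    rw [hΦeig l hl v hv, hφv, one_smul,
      Finset.sum_congr rfl (fun c _ => inv_mul_cancel₀ (l_ne_zero (l := l) c.out)), Finset.sum_const,
      card_univ, nsmul_one, inv_mul_cancel₀ hcard, one_smul]
  have hsum0 : ∑ c : N ⧸ P.subgroupOf N, (l' c.out)⁻¹ * l c.out = 0 := by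
    obtain ⟨n, hn⟩ : ∃ n, l n ≠ l' n := by
      by_contra h; push Not at h; exact hne (MonoidHom.ext h)
    have hs : ∑ c : N ⧸ P.subgroupOf N, (l' c.out)⁻¹ * l c.out =
        ((l' n)⁻¹ * l n) * ∑ c : N ⧸ P.subgroupOf N, (l' c.out)⁻¹ * l c.out := by
      rw [Finset.mul_sum]
      refine (Fintype.sum_equiv (Equiv.mulLeft (QuotientGroup.mk n : N ⧸ P.subgroupOf N)) _ _ fun c => ?_).symm
      have hmk : (QuotientGroup.mk (n * c.out) : N ⧸ P.subgroupOf N) = QuotientGroup.mk n * c := by
        rw [QuotientGroup.mk_mul, QuotientGroup.out_eq']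
      obtain ⟨q, hq⟩ := QuotientGroup.mk_out_eq_mul (P.subgroupOf N) (n * c.out)
      rw [hmk] at hq
      rw [Equiv.coe_mulLeft, hq]
      simp only [map_mul, hl _ (Subgroup.mem_subgroupOf.mp q.2), hl' _ (Subgroup.mem_subgroupOf.mp q.2), mul_one,
        mul_inv]
      ring
    by_contra h0
    refine hn ?_
    have h1 := mul_right_cancel₀ h0 ((one_mul _).trans hs)
    rwa [eq_comm, inv_mul_eq_one₀ (l_ne_zero n), eq_comm] at h1
  have hΦv' : Φ v' = 0 := by rw [hΦeig l' hl' v' hv', hsum0, mul_zero, zero_smul]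
  -- the trace from `N` to `G`
  have hΦinv : ∀ n : N, ∀ u, gact k (n : G) (Φ (gact k (n : G)⁻¹ u)) = Φ u := fun n u => by
    rw [← hΦN, ← gact_mul, mul_inv_cancel, gact_one]
  let g₀ : G ⧸ N → G := fun c => c.out
  let F : G ⧸ N → Module.End k V := fun c => gact k (g₀ c) ∘ₗ Φ ∘ₗ gact k (g₀ c)⁻¹
  have hF : ∀ (g : G) u, F (QuotientGroup.mk g) u = gact k g (Φ (gact k g⁻¹ u)) := by
    intro g u
    obtain ⟨q, hq⟩ := QuotientGroup.mk_out_eq_mul N g
    simp only [F, g₀, hq, LinearMap.comp_apply, mul_inv_rev, gact_mul]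
    rw [hΦinv q]
  have hFc : ∀ (h : G) c u, F (h • c) u = gact k h (F c (gact k h⁻¹ u)) := by
    intro h c u
    obtain ⟨g, rfl⟩ := QuotientGroup.mk_surjective c
    rw [MulAction.Quotient.smul_mk, hF, hF, smul_eq_mul, mul_inv_rev, gact_mul, gact_mul]
  let Ψ₀ : Module.End k V := ∑ c, F c
  have hΨ₀ : ∀ (h : G) u, Ψ₀ (gact k h u) = gact k h (Ψ₀ u) := by
    intro h u
    simp only [Ψ₀, LinearMap.sum_apply, map_sum]
    refine (Fintype.sum_equiv (MulAction.toPerm h) _ _ fun c => ?_).symm
    rw [MulAction.toPerm_apply, hFc, gact_inv]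
  let Ψ : Module.End (MonoidAlgebra k G) V :=
    { toFun := Ψ₀
      map_add' := map_add _
      map_smul' := fun a u => by
        induction a using MonoidAlgebra.induction_linear with
        | zero => simp
        | add f g hf hg =>
          rw [RingHom.id_apply] at hf hg ⊢
          rw [add_smul, map_add, hf, hg, add_smul]
        | single g r =>
          rw [RingHom.id_apply, show MonoidAlgebra.single g r = r • MonoidAlgebra.single g (1 : k) by simp,
            smul_assoc, smul_assoc, map_smul, ← gact_apply, ← gact_apply, hΨ₀] }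
  obtain ⟨c₀, hc₀⟩ := (IsSimpleModule.algebraMap_end_bijective_of_isAlgClosed k (A := MonoidAlgebra k G) (V := V)).2 Ψ
  have hkey : ∀ u, (∀ π : P, gact k (π : G) u = u) → c₀ • u - Φ u ∈ LinearMap.range (nu k P (V := V)) := by
    intro u hu
    have h1 : c₀ • u = ∑ c, F c u := by
      rw [← LinearMap.sum_apply]
      exact LinearMap.congr_fun hc₀ u
    have h2 : Φ u = F (QuotientGroup.mk 1) u := by rw [hF, inv_one, gact_one, gact_one]
    rw [h1, h2]
    refine sum_cosets_sub_mem_range hP hPN hTI (fun c => F c u) fun π c => ?_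
    rw [hFc, show gact k (π : G)⁻¹ u = u by rw [← Subgroup.coe_inv]; exact hu _]
  have hk1 := hkey v (hfix l hl v hv)
  rw [hΦv] at hk1
  have hc1 : c₀ = 1 := by
    by_contra hc
    obtain ⟨z, hz⟩ := hk1
    refine hvnu ((c₀ - 1)⁻¹ • z) ?_
    rw [map_smul, hz, show c₀ • v - v = (c₀ - 1) • v by rw [sub_smul, one_smul],
      inv_smul_smul₀ (sub_ne_zero.mpr hc)]
  have hk2 := hkey v' (hfix l' hl' v' hv')
  rw [hΦv', hc1, one_smul, sub_zero] at hk2
  obtain ⟨z, hz⟩ := hk2
  exact hvnu' z hz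

end unique

end CfsgLib.Blocks.Points
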