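import Cfsg.Agent.Lib.Blocks.Points
import Cfsg.Agent.Lib.Blocks.GroupAlgebra
import Cfsg.Agent.Lib.Blocks.Nilpotent
import Mathlib.RingTheory.Nilpotent.Lemmas
import Mathlib.LinearAlgebra.Eigenspace.Zero

/-!
# Central elements from simple modules with a point

For a central idempotent `E` whose coefficients sum to one over `C(P)` and linear characters of `N(P)`
trivial on `C(P)`, the trace forms of suitable simple modules give independent class functions fixed by
convolution with `E`.
-/

set_option autoImplicit false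

noncomputable section

namespace CfsgLib.Blocks.Points

open Finset

variable {k : Type*} [Field k] {G : Type*} [Group G] {p : ℕ}

/-- The trace form of a module. -/
def traceForm (k : Type*) [Field k] {G : Type*} [Group G] (S : Type*) [AddCommGroup S] [Module k S]
    [Module (MonoidAlgebra k G) S] [IsScalarTower k (MonoidAlgebra k G) S] (g : G) : k :=
  LinearMap.trace k S (gact k g)

theorem traceForm_conj (S : Type*) [AddCommGroup S] [Module k S] [Module (MonoidAlgebra k G) S]
    [IsScalarTower k (MonoidAlgebra k G) S] (g h : G) :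
    traceForm k S (h * g * h⁻¹) = traceForm k S g := by
  have hm : ∀ a b : G, (gact k (a * b) : S →ₗ[k] S) = gact k a * gact k b := fun a b =>
    LinearMap.ext fun v => gact_mul a b v
  rw [traceForm, traceForm, hm, LinearMap.trace_mul_comm, ← hm, ← mul_assoc, inv_mul_cancel, one_mul]

/-- A commuting `p`-element does not change the trace form. -/
theorem traceForm_mul [hp : Fact p.Prime] [CharP k p] (S : Type*) [AddCommGroup S] [Module k S]
    [Module (MonoidAlgebra k G) S] [IsScalarTower k (MonoidAlgebra k G) S] [FiniteDimensional k S]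
    {z h : G} (hzh : Commute z h) {n : ℕ} (hz : z ^ p ^ n = 1) :
    traceForm k S (z * h) = traceForm k S h := by
  have : CharP (MonoidAlgebra k G) p := charP_of_injective_algebraMap
    (algebraMap k (MonoidAlgebra k G)).injective p
  rw [← sub_eq_zero, traceForm, traceForm, ← map_sub, gact, gact, ← map_sub]
  refine IsNilpotent.eq_zero (LinearMap.isNilpotent_trace_of_isNilpotent (IsNilpotent.map ⟨p ^ n, ?_⟩ _))
  have hc : Commute (MonoidAlgebra.single (z * h) (1 : k)) (MonoidAlgebra.single h 1) :=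
    (Commute.mul_left hzh (Commute.refl h)).map (MonoidAlgebra.of k G)
  rw [sub_pow_char_pow_of_commute _ _ hc, MonoidAlgebra.single_pow, MonoidAlgebra.single_pow,
    hzh.mul_pow, hz, one_mul, sub_self]

variable [Fintype G] [hp : Fact p.Prime] [CharP k p]

omit [CharP k p] hp in
theorem coeff_gact (n g : G) (w : MonoidAlgebra k G) :
    (gact k n w).coeff g = w.coeff (n⁻¹ * g) := by
  rw [gact_apply, smul_eq_mul, MonoidAlgebra.single_mul_apply, one_mul]

/-- The twisted right-covariant elements fixed by `E`. -/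
def pointModule (E : MonoidAlgebra k G) (hEc : ∀ a, a * E = E * a) {N : Subgroup G} (μ : N →* k) :
    Submodule (MonoidAlgebra k G) (MonoidAlgebra k G) where
  carrier := {w | E * w = w ∧ ∀ (g : G) (n : N), w.coeff (g * n) = w.coeff g * (μ n)⁻¹}
  add_mem' {a b} ha hb := ⟨by rw [mul_add, ha.1, hb.1], fun g n => by
    simp only [MonoidAlgebra.coeff_add, Finsupp.add_apply, ha.2, hb.2, add_mul]⟩
  zero_mem' := ⟨mul_zero _, fun g n => by simp⟩
  smul_mem' a w hw := ⟨by rw [smul_eq_mul, ← mul_assoc, ← hEc, mul_assoc, hw.1],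
    fun g n => by
      rw [smul_eq_mul, coeff_mul_eq_sum, coeff_mul_eq_sum, Finset.sum_mul]
      refine Finset.sum_congr rfl fun h _ => ?_
      rw [← mul_assoc h⁻¹, hw.2, mul_assoc]⟩

variable {P N : Subgroup G} [Fintype P] {E : MonoidAlgebra k G}

theorem hasPoint_pointModule (hP : Nat.card P = p) (hPN : P ≤ N)
    (hCN : Subgroup.centralizer (P : Set G) ≤ N) (hPC : P ≤ Subgroup.centralizer (P : Set G))
    (hE : E * E = E) (hEc : ∀ a, a * E = E * a)
    [DecidablePred (· ∈ Subgroup.centralizer (P : Set G))]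
    (hEsum : ∑ g ∈ Finset.univ.filter (· ∈ Subgroup.centralizer (P : Set G)), E.coeff g = 1)
    (μ : N →* k) (hμC : ∀ n : N, (n : G) ∈ Subgroup.centralizer (P : Set G) → μ n = 1) :
    HasPoint P μ (pointModule E hEc μ) := by
  classical
  have hμP : ∀ n : N, (n : G) ∈ P → μ n = 1 := fun n hn => hμC n (hPC hn)
  obtain ⟨u, hu'⟩ : ∃ u : MonoidAlgebra k G, ∀ x, u.coeff x = if h : x ∈ N then (μ ⟨x, h⟩)⁻¹ else 0 :=
    ⟨ofFun fun x => if h : x ∈ N then (μ ⟨x, h⟩)⁻¹ else 0, fun x => by rw [coeff_ofFun]⟩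
  have hu : ∀ (g : G) (n : N), u.coeff (g * n) = u.coeff g * (μ n)⁻¹ := by
    intro g n
    rw [hu', hu']
    by_cases hg : g ∈ N
    · rw [dif_pos hg, dif_pos (N.mul_mem hg n.2), ← mul_inv, ← map_mul]; rfl
    · rw [dif_neg hg, dif_neg (fun h => hg ((N.mul_mem_cancel_right n.2).mp h)), zero_mul]
  have hWu : E * u ∈ pointModule E hEc μ := ⟨by rw [← mul_assoc, hE], fun g n => by
    rw [coeff_mul_eq_sum, coeff_mul_eq_sum, Finset.sum_mul]
    refine Finset.sum_congr rfl fun h _ => ?_
    rw [← mul_assoc h⁻¹, hu, mul_assoc]⟩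
  have hone : (E * u).coeff 1 = 1 := by
    let _ : MulAction P G :=
      { smul := fun x g => (x : G) * g * (x : G)⁻¹
        one_smul := fun g => show ((1 : P) : G) * g * ((1 : P) : G)⁻¹ = g by simp
        mul_smul := fun x y g => show ((x * y : P) : G) * g * ((x * y : P) : G)⁻¹ =
          (x : G) * ((y : G) * g * (y : G)⁻¹) * (x : G)⁻¹ by push_cast; group }
    rw [coeff_mul_eq_sum, sum_eq_sum_fixedPoints (p := p) (IsPGroup.of_card (n := 1) (by rwa [pow_one])) _
      (fun x g => ?_), ← hEsum]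
    · refine Finset.sum_congr (Finset.filter_congr fun g _ => ?_) fun h hh => ?_
      · rw [Subgroup.mem_centralizer_iff]
        exact ⟨fun h x hx => mul_inv_eq_iff_eq_mul.mp (h ⟨x, hx⟩),
          fun h x => mul_inv_eq_iff_eq_mul.mpr (h x x.2)⟩
      · have hhC : h ∈ Subgroup.centralizer (P : Set G) := (Finset.mem_filter.mp hh).2
        rw [mul_one, hu', dif_pos (N.inv_mem (hCN hhC)), hμC _ (Subgroup.inv_mem _ hhC), inv_one, mul_one]
    · change E.coeff ((x : G) * g * (x : G)⁻¹) * u.coeff (((x : G) * g * (x : G)⁻¹)⁻¹ * 1) =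
        E.coeff g * u.coeff (g⁻¹ * 1)
      rw [mul_one, mul_one, (mem_center_iff E).mp (Subsemiring.mem_center_iff.mpr hEc) g x]
      congr 1
      rw [show ((x : G) * g * (x : G)⁻¹)⁻¹ = (x : G) * g⁻¹ * (x : G)⁻¹ by group, hu', hu']
      have hxN := hPN x.2
      by_cases hg : g⁻¹ ∈ N
      · rw [dif_pos hg, dif_pos (N.mul_mem (N.mul_mem hxN hg) (N.inv_mem hxN))]
        congr 1
        change μ (⟨x, hxN⟩ * ⟨g⁻¹, hg⟩ * ⟨x, hxN⟩⁻¹) = _
        rw [map_mul, map_mul, hμP ⟨x, hxN⟩ x.2, hμP (⟨x, hxN⟩⁻¹) (P.inv_mem x.2), one_mul, mul_one]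
      · rw [dif_neg hg, dif_neg]
        intro h
        exact hg (by simpa [mul_assoc] using N.mul_mem (N.mul_mem (N.inv_mem hxN) h) hxN)
  refine ⟨⟨E * u, hWu⟩, fun n => Subtype.ext ?_, fun w hw => ?_⟩
  · change MonoidAlgebra.single (n : G) (1 : k) * (E * u) = μ n • (E * u)
    rw [← mul_assoc, hEc, mul_assoc, ← mul_smul_comm]
    congr 1
    refine MonoidAlgebra.coeff_injective (Finsupp.ext fun g => ?_)
    rw [MonoidAlgebra.coeff_smul, Finsupp.smul_apply, MonoidAlgebra.single_mul_apply, one_mul, smul_eq_mul,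
      hu', hu']
    by_cases hg : g ∈ N
    · rw [dif_pos hg, dif_pos (N.mul_mem (N.inv_mem n.2) hg)]
      change (μ (n⁻¹ * ⟨g, hg⟩))⁻¹ = _
      rw [map_mul, mul_inv]
      congr 1
      exact inv_eq_of_mul_eq_one_right (by rw [← map_mul, inv_mul_cancel, map_one])
    · rw [dif_neg hg, dif_neg, mul_zero]
      exact fun h => hg ((N.mul_mem_cancel_left (N.inv_mem n.2)).mp h)
  · have h1 := congrArg (fun z : pointModule E hEc μ => (z : MonoidAlgebra k G).coeff 1) hw
    simp only [hone, nu_apply, Submodule.coe_sum, MonoidAlgebra.coeff_sum, Finsupp.finsetSum_apply] at h1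
    refine one_ne_zero (α := k) (h1.symm.trans ?_)
    have h2 : ∀ π : P, ((gact k (π : G) w : pointModule E hEc μ) : MonoidAlgebra k G).coeff 1 =
        (w : MonoidAlgebra k G).coeff 1 := fun π => by
      have h := w.2.2 1 ⟨(π : G)⁻¹, hPN (P.inv_mem π.2)⟩
      rw [one_mul, hμP _ (P.inv_mem π.2), inv_one, mul_one] at h
      rw [show ((gact k (π : G) w : pointModule E hEc μ) : MonoidAlgebra k G) =
        gact k (π : G) (w : MonoidAlgebra k G) from rfl, coeff_gact, mul_one]
      exact h
    rw [Finset.sum_congr rfl fun π _ => h2 π, Finset.sum_const, Finset.card_univ, nsmul_eq_mul,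
      ← Nat.card_eq_fintype_card, hP, CharP.cast_eq_zero, zero_mul]

/-- Independent class functions fixed by `E` from modules fixed by `E` with points. -/
theorem exists_class_functions_of_points [IsAlgClosed k] (hP : Nat.card P = p) (hPN : P ≤ N)
    (hN : N ≤ Subgroup.normalizer (P : Set G))
    (hPC : P ≤ Subgroup.centralizer (P : Set G))
    (hTI : ∀ g ∉ N, ∃ π ∈ P, g⁻¹ * π * g ∉ N)
    [Fintype (N ⧸ P.subgroupOf N)] (hcard : (Fintype.card (N ⧸ P.subgroupOf N) : k) ≠ 0)
    {ι : Type*} [Fintype ι] (l : ι → (N →* k)) (hlinj : Function.Injective l)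
    (hlC : ∀ m (n : N), (n : G) ∈ Subgroup.centralizer (P : Set G) → l m n = 1)
    (V : ι → Type*) [∀ m, AddCommGroup (V m)] [∀ m, Module k (V m)]
    [∀ m, Module (MonoidAlgebra k G) (V m)] [∀ m, IsScalarTower k (MonoidAlgebra k G) (V m)]
    [∀ m, FiniteDimensional k (V m)] (hV : ∀ m (v : V m), E • v = v) (hVp : ∀ m, HasPoint P (l m) (V m)) :
    ∃ z : ι → G → k, (∀ m g h, z m (h * g * h⁻¹) = z m g) ∧
      (∀ m g, ∑ h : G, z m h * E.coeff (h⁻¹ * g) = z m g) ∧
      (∀ m π h, π ∈ P → h ∈ Subgroup.centralizer (P : Set G) → z m (π * h) = z m h) ∧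
      ∀ c : ι → k, (∀ g : G, ∑ m, c m * z m g = 0) → c = 0 := by
  classical
  have hlP : ∀ m (n : N), (n : G) ∈ P → l m n = 1 := fun m n hn => hlC m n (hPC hn)
  choose U Cq hsimple hpoint using fun m =>
    exists_simple_point (V := V m) hPN hN (hlP m) hcard (hVp m)
  have hfd : ∀ m, FiniteDimensional k (U m ⧸ Cq m) := fun m => by
    have : Module.Finite k (U m) :=
      Module.Finite.of_injective ((U m).subtype.restrictScalars k) Subtype.val_injective
    exact Module.Finite.of_surjective ((Cq m).mkQ.restrictScalars k) (Submodule.Quotient.mk_surjective _)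
  have hne : ∀ i j, i ≠ j → IsEmpty ((U i ⧸ Cq i) ≃ₗ[MonoidAlgebra k G] (U j ⧸ Cq j)) := by
    intro i j hij
    refine ⟨fun f => hij (hlinj ?_)⟩
    have := hsimple j
    refine point_unique (V := U j ⧸ Cq j) hP hPN hN hTI hcard (hlP i) (hlP j) ?_ (hpoint j)
    obtain ⟨v, hv, hnu⟩ := hpoint i
    refine ⟨f v, fun n => ?_, fun w hw => hnu (f.symm w) ?_⟩
    · rw [gact_apply, ← map_smul, ← gact_apply, hv]
      exact (f.toLinearMap.map_smul_of_tower _ _)
    · apply f.injective
      rw [← hw, nu_apply, nu_apply, map_sum]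
      refine Finset.sum_congr rfl fun π _ => ?_
      rw [gact_apply, gact_apply, map_smul, LinearEquiv.apply_symm_apply]
  have hES : ∀ m (s : U m ⧸ Cq m), E • s = s := by
    intro m s
    obtain ⟨s, rfl⟩ := Submodule.Quotient.mk_surjective _ s
    rw [← Submodule.Quotient.mk_smul]
    congr 1
    exact Subtype.ext (hV m s.1)
  refine ⟨fun m g => traceForm k (U m ⧸ Cq m) g⁻¹, fun m g h => ?_, fun m g => ?_, fun m π h hπ hh => ?_,
    fun c hc => ?_⟩
  · dsimp only
    rw [show (h * g * h⁻¹)⁻¹ = h * g⁻¹ * h⁻¹ by group, traceForm_conj]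
  · have h1 : LinearMap.trace k (U m ⧸ Cq m) (Algebra.lsmul k k (U m ⧸ Cq m)
        (E * MonoidAlgebra.single g⁻¹ 1)) = traceForm k (U m ⧸ Cq m) g⁻¹ := by
      rw [traceForm, gact]
      congr 1
      exact LinearMap.ext fun s => by
        simp only [Algebra.lsmul_coe, mul_smul]
        exact hES m _
    have h2 : E * MonoidAlgebra.single g⁻¹ 1 =
        ∑ h : G, E.coeff (h⁻¹ * g) • MonoidAlgebra.single h⁻¹ (1 : k) := by
      refine MonoidAlgebra.coeff_injective (Finsupp.ext fun x => ?_)
      rw [MonoidAlgebra.coeff_sum, Finsupp.finsetSum_apply, Finset.sum_eq_single x⁻¹]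
      · simp
      · intro b _ hb
        rw [MonoidAlgebra.coeff_smul, Finsupp.smul_apply, MonoidAlgebra.coeff_single, Finsupp.single_apply,
          if_neg (fun h => hb (by rw [← h, inv_inv])), smul_zero]
      · simp
    dsimp only
    rw [← h1, h2, map_sum, map_sum]
    refine Finset.sum_congr rfl fun h _ => ?_
    rw [map_smul, map_smul, smul_eq_mul, mul_comm]
    rfl
  · simp only [mul_inv_rev]
    have hcm : Commute π⁻¹ h⁻¹ := (show Commute π h from Subgroup.mem_centralizer_iff.mp hh _ hπ).inv_inv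
    rw [← hcm.eq]
    refine traceForm_mul (U m ⧸ Cq m) hcm (n := 1) ?_
    have h1 := congrArg Subtype.val (pow_card_eq_one' (x := (⟨π, hπ⟩ : P)))
    rw [hP] at h1
    rw [pow_one, inv_pow, inv_eq_one]
    exact h1
  · have := hsimple
    refine trace_forms_independent (k := k) (A := MonoidAlgebra k G) (fun m => U m ⧸ Cq m) hne c fun a => ?_
    induction a using MonoidAlgebra.induction_linear with
    | zero => simp
    | add f g hf hg =>
      simp only [map_add, mul_add, Finset.sum_add_distrib, hf, hg, add_zero]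
    | single g r =>
      have h2 := hc g⁻¹
      rw [show MonoidAlgebra.single g r = r • MonoidAlgebra.single g (1 : k) by simp]
      simp only [map_smul, smul_eq_mul, inv_inv] at h2 ⊢
      calc ∑ m, c m * (r * LinearMap.trace k (U m ⧸ Cq m)
            (Algebra.lsmul k k (U m ⧸ Cq m) (MonoidAlgebra.single g (1 : k))))
          = r * ∑ m, c m * traceForm k (U m ⧸ Cq m) g := by
            rw [Finset.mul_sum]
            refine Finset.sum_congr rfl fun m _ => ?_
            rw [traceForm, gact]; ring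
        _ = 0 := by rw [h2, mul_zero]

/-- Independent class functions fixed by `E` from simple modules with points. -/
theorem exists_block_class_functions [IsAlgClosed k] (hP : Nat.card P = p) (hPN : P ≤ N)
    (hN : N ≤ Subgroup.normalizer (P : Set G))
    (hCN : Subgroup.centralizer (P : Set G) ≤ N) (hPC : P ≤ Subgroup.centralizer (P : Set G))
    (hTI : ∀ g ∉ N, ∃ π ∈ P, g⁻¹ * π * g ∉ N)
    [Fintype (N ⧸ P.subgroupOf N)] (hcard : (Fintype.card (N ⧸ P.subgroupOf N) : k) ≠ 0)
    (hE : E * E = E) (hEc : ∀ a, a * E = E * a)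
    [DecidablePred (· ∈ Subgroup.centralizer (P : Set G))]
    (hEsum : ∑ g ∈ Finset.univ.filter (· ∈ Subgroup.centralizer (P : Set G)), E.coeff g = 1)
    {ι : Type*} [Fintype ι] (l : ι → (N →* k)) (hlinj : Function.Injective l)
    (hlC : ∀ m (n : N), (n : G) ∈ Subgroup.centralizer (P : Set G) → l m n = 1) :
    ∃ z : ι → G → k, (∀ m g h, z m (h * g * h⁻¹) = z m g) ∧
      (∀ m g, ∑ h : G, z m h * E.coeff (h⁻¹ * g) = z m g) ∧
      (∀ m π h, π ∈ P → h ∈ Subgroup.centralizer (P : Set G) → z m (π * h) = z m h) ∧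
      ∀ c : ι → k, (∀ g : G, ∑ m, c m * z m g = 0) → c = 0 := by
  classical
  exact exists_class_functions_of_points hP hPN hN hPC hTI hcard l hlinj hlC
    (fun m => pointModule E hEc (l m)) (fun m v => Subtype.ext v.2.1)
    fun m => hasPoint_pointModule hP hPN hCN hPC hE hEc hEsum (l m) (hlC m)

end CfsgLib.Blocks.Points
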