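import Cfsg.Agent.Lib.Blocks.PrimeLower

/-!
# Blocks with a defect group which is a Sylow subgroup of prime order

`row θ χ j` are the reduced Fourier coefficients of the multiples of `θ` in `χ`; their Gram matrix
on a block is `δ + e` on the orbits of `E = rho (T)`.
-/

set_option autoImplicit false

noncomputable section

namespace CfsgLib.Blocks.PrimeBlock

open Cfsg PrimeSylow PrimeLocal
open scoped ComplexConjugate

variable {G : Type*} [Group G] [Fintype G] {p : ℕ} [hp : Fact p.Prime] (P : Sylow p G) (hP : Nat.card P = p)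
  [Fintype (Subgroup.normalizer ((P : Subgroup G) : Set G))] [Fintype (Subgroup.centralizer ((P : Subgroup G) : Set G))] (θ : IrrCharacter (Subgroup.centralizer ((P : Subgroup G) : Set G)))

local notation "ψ" => ZMod.stdAddChar

theorem thn_one : thn P θ 1 = θ :=
  Subtype.ext (funext fun c => by
    rw [thn_apply]
    refine congrArg _ (Subtype.ext ?_)
    show (1 : G) * (c : G) * (1 : G)⁻¹ = c
    simp)

theorem thn_mul (a b : (Subgroup.normalizer ((P : Subgroup G) : Set G))) : thn P (thn P θ a) b = thn P θ (a * b) :=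
  Subtype.ext (funext fun c => by
    rw [thn_apply, thn_apply, thn_apply]
    refine congrArg _ (Subtype.ext ?_)
    show (a : G) * ((b : G) * (c : G) * (b : G)⁻¹) * (a : G)⁻¹ = (a : G) * (b : G) * (c : G) * ((a : G) * (b : G))⁻¹
    group)

/-- The stabiliser of `θ` in the normaliser. -/
def stab : Subgroup (Subgroup.normalizer ((P : Subgroup G) : Set G)) where
  carrier := {w | thn P θ w = θ}
  one_mem' := thn_one P θ
  mul_mem' {a b} ha hb := by
    simp only [Set.mem_setOf_eq] at ha hb ⊢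
    rw [← thn_mul, ha, hb]
  inv_mem' {a} ha := by
    simp only [Set.mem_setOf_eq] at ha ⊢
    conv_lhs => rw [← ha]
    rw [thn_mul, mul_inv_cancel, thn_one]

theorem mem_stab {w : (Subgroup.normalizer ((P : Subgroup G) : Set G))} : w ∈ stab P θ ↔ thn P θ w = θ := Iff.rfl

theorem CN_le_stab : CN P ≤ stab P θ := fun c hc => by
  refine Subtype.ext (funext fun d => ?_)
  rw [thn_apply]
  conv_rhs => rw [← CfsgLib.Char.isClassFunction_of_isIrr θ.2 d (eC P ⟨c, hc⟩)]
  exact congrArg _ (Subtype.ext rfl)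

/-- The image of the stabiliser in the multipliers. -/
def Eset : Finset (ZMod p) :=
  haveI := Classical.propDecidable
  Finset.univ.filter fun u => ∃ w ∈ stab P θ, rho P hP w = u

theorem mem_Eset {u : ZMod p} : u ∈ Eset P hP θ ↔ ∃ w ∈ stab P θ, rho P hP w = u := by
  classical
  simp [Eset]

theorem ne_zero_of_mem {u : ZMod p} (hu : u ∈ Eset P hP θ) : u ≠ 0 := by
  obtain ⟨w, -, rfl⟩ := (mem_Eset P hP θ).mp hu
  exact rho_ne_zero P hP w

theorem card_Eset : (Eset P hP θ).card = (CN P).relIndex (stab P θ) := by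
  classical
  let φ : stab P θ →* (ZMod p)ˣ := (rhoU P hP).comp (stab P θ).subtype
  have hker : φ.ker = (CN P).subgroupOf (stab P θ) := by
    ext w
    rw [MonoidHom.mem_ker, Subgroup.mem_subgroupOf]
    exact ⟨fun h => (rho_eq_one_iff P hP w.1).mp (congrArg Units.val h),
      fun h => Units.ext ((rho_eq_one_iff P hP w.1).mpr h)⟩
  rw [Subgroup.relIndex, ← hker, Subgroup.index_ker, ← Nat.card_eq_finsetCard]
  refine Nat.card_congr (Equiv.ofBijective (fun u => ⟨Units.mk0 u.1 (ne_zero_of_mem P hP θ u.2), ?_⟩) ⟨?_, ?_⟩)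
  · obtain ⟨w, hw, hwu⟩ := (mem_Eset P hP θ).mp u.2
    exact ⟨⟨w, hw⟩, Units.ext hwu⟩
  · exact fun a b h => Subtype.ext (congrArg (fun x => ((x.1 : (ZMod p)ˣ) : ZMod p)) h)
  · rintro ⟨u, ⟨w, hw⟩⟩
    exact ⟨⟨u, (mem_Eset P hP θ).mpr ⟨w.1, w.2, congrArg Units.val hw⟩⟩, Subtype.ext (Units.ext rfl)⟩

/-- The conjugates of `θ`. -/
def conjs : Finset (IrrCharacter (Subgroup.centralizer ((P : Subgroup G) : Set G))) :=
  haveI := Classical.propDecidable
  Finset.univ.image fun n : (Subgroup.normalizer ((P : Subgroup G) : Set G)) => thn P θ n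

theorem mem_conjs {φ : IrrCharacter (Subgroup.centralizer ((P : Subgroup G) : Set G))} : φ ∈ conjs P θ ↔ ∃ n : (Subgroup.normalizer ((P : Subgroup G) : Set G)), thn P θ n = φ := by
  classical
  simp [conjs]

theorem card_conjs : (conjs P θ).card = (stab P θ).index := by
  classical
  let Φ : Quotient (QuotientGroup.rightRel (stab P θ)) → conjs P θ :=
    Quotient.lift (fun n => ⟨thn P θ n, (mem_conjs P θ).mpr ⟨n, rfl⟩⟩) fun a b hab =>
      Subtype.ext (by
        replace hab := QuotientGroup.rightRel_apply.mp hab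
        rw [mem_stab] at hab
        have h : thn P (thn P θ (b * a⁻¹)) a = thn P θ a := by rw [hab]
        rw [thn_mul, inv_mul_cancel_right] at h
        exact h.symm)
  rw [← Nat.card_eq_finsetCard, Subgroup.index_eq_card,
    ← Nat.card_congr (QuotientGroup.quotientRightRelEquivQuotientLeftRel (stab P θ))]
  refine (Nat.card_congr (Equiv.ofBijective Φ ⟨?_, ?_⟩)).symm
  · intro a b
    induction a using Quotient.inductionOn with
    | h a => induction b using Quotient.inductionOn with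
      | h b =>
        intro h
        refine Quotient.sound ?_
        change QuotientGroup.rightRel _ a b
        rw [QuotientGroup.rightRel_apply, mem_stab]
        have h' : thn P θ a = thn P θ b := congrArg Subtype.val h
        rw [← thn_mul, ← h', thn_mul, mul_inv_cancel, thn_one]
  · rintro ⟨φ, hφ⟩
    obtain ⟨n, rfl⟩ := (mem_conjs P θ).mp hφ
    exact ⟨Quotient.mk _ n, rfl⟩

variable (hθP : ∀ x : (Subgroup.centralizer ((P : Subgroup G) : Set G)), (x : G) ∈ (P : Subgroup G) → (θ : (Subgroup.centralizer ((P : Subgroup G) : Set G)) → ℂ) x = (θ : (Subgroup.centralizer ((P : Subgroup G) : Set G)) → ℂ) 1)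

/-- The reduced Fourier coefficient. -/
def rowC (f : G → ℂ) (j : ZMod p) : ℂ :=
  (p : ℂ)⁻¹ * ∑ i : ZMod p, (ψ (-(j * i)) - 1) * coef P hP θ f i

/-- The reduced Fourier coefficient, as an integer. -/
def row (f : G → ℂ) (j : ZMod p) : ℤ :=
  haveI := Classical.propDecidable
  if h : ∃ r : ℤ, rowC P hP θ f j = r then Classical.choose h else 0

include hθP in
theorem coe_row (χ : IrrCharacter G) (j : ZMod p) :
    (row P hP θ (χ : G → ℂ) j : ℂ) = rowC P hP θ (χ : G → ℂ) j := by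
  have hp0 : (p : ℂ) ≠ 0 := Nat.cast_ne_zero.mpr hp.out.ne_zero
  obtain ⟨n, hn⟩ := exists_mult P hP hθP (CfsgLib.Char.isCharacter_of_isIrr χ.2)
  have h : ∃ r : ℤ, rowC P hP θ (χ : G → ℂ) j = r := ⟨(n j : ℤ) - n 0, by
    rw [rowC, inv_mul_eq_iff_eq_mul₀ hp0]
    push_cast
    rw [mul_sub, hn, hn, ← Finset.sum_sub_distrib]
    refine Finset.sum_congr rfl fun i _ => ?_
    rw [zero_mul, neg_zero, AddChar.map_zero_eq_one, sub_mul]⟩
  rw [row, dif_pos h]
  exact (Classical.choose_spec h).symm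

theorem row_zero (χ : IrrCharacter G) : rowC P hP θ (χ : G → ℂ) 0 = 0 := by
  simp [rowC]

/-- Inversion away from zero. -/
theorem coef_eq_sum_rowC (f : G → ℂ) {l : ZMod p} (hl : l ≠ 0) :
    coef P hP θ f l = ∑ j : ZMod p, rowC P hP θ f j * ψ (j * l) := by
  have hp0 : (p : ℂ) ≠ 0 := Nat.cast_ne_zero.mpr hp.out.ne_zero
  refine mul_left_cancel₀ hp0 ?_
  symm
  calc (p : ℂ) * ∑ j : ZMod p, rowC P hP θ f j * ψ (j * l)
      = ∑ j : ZMod p, ∑ i : ZMod p, coef P hP θ f i * (ψ (j * (l - i)) - ψ (j * l)) := by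
        rw [Finset.mul_sum]
        refine Finset.sum_congr rfl fun j _ => ?_
        rw [← mul_assoc, rowC, mul_inv_cancel_left₀ hp0, Finset.sum_mul]
        refine Finset.sum_congr rfl fun i _ => ?_
        rw [mul_sub j, sub_eq_add_neg (j * l), AddChar.map_add_eq_mul]
        ring
    _ = ∑ i : ZMod p, coef P hP θ f i * if i = l then (p : ℂ) else 0 := by
        rw [Finset.sum_comm]
        refine Finset.sum_congr rfl fun i _ => ?_
        rw [← Finset.mul_sum, Finset.sum_sub_distrib, sum_stdAddChar, sum_stdAddChar, if_neg hl, sub_zero,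
          if_congr (sub_eq_zero.trans eq_comm) rfl rfl]
    _ = _ := by simp [mul_comm]

theorem coef_Eset {f : G → ℂ} (hf : IsClassFunction G f) {u : ZMod p} (hu : u ∈ Eset P hP θ) (i : ZMod p) :
    coef P hP θ f (u * i) = coef P hP θ f i := by
  obtain ⟨w, hw, rfl⟩ := (mem_Eset P hP θ).mp hu
  rw [← coef_thn P hP hf θ w i, (mem_stab P θ).mp hw]

theorem rowC_Eset {f : G → ℂ} (hf : IsClassFunction G f) {u : ZMod p} (hu : u ∈ Eset P hP θ) (j : ZMod p) :
    rowC P hP θ f (u * j) = rowC P hP θ f j := by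
  rw [rowC, rowC]
  congr 1
  refine Fintype.sum_equiv (Equiv.mulLeft₀ u (ne_zero_of_mem P hP θ hu)) _ _ fun i => ?_
  simp only [Equiv.mulLeft₀_apply]
  rw [coef_Eset P hP θ hf hu, show u * j * i = j * (u * i) by ring]

variable {M : Ideal AlgInt} [M.IsMaximal] {B : Set (IrrCharacter G)} {b : Set (IrrCharacter (Subgroup.centralizer ((P : Subgroup G) : Set G)))}

include hθP in
theorem value_conjs (hM : IsPModular p M) (hBP : IsDefectGroup p M B P) (hind : IsInducedBlock M (Subgroup.centralizer ((P : Subgroup G) : Set G)) b B)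
    (hθ : θ ∈ b) {χ : IrrCharacter G} (hχ : χ ∈ B) {i : ZMod p} (hi : i ≠ 0) {y : (Subgroup.centralizer ((P : Subgroup G) : Set G))} (hy : ¬ p ∣ orderOf y) :
    (χ : G → ℂ) (pw P hP i * (y : G)) = ∑ φ ∈ conjs P θ, coef P hP φ (χ : G → ℂ) i * (φ : (Subgroup.centralizer ((P : Subgroup G) : Set G)) → ℂ) y := by
  classical
  rw [value_eq P hP (CfsgLib.Char.isClassFunction_of_isIrr χ.2) i hy,
    ← Finset.sum_subset (Finset.subset_univ (conjs P θ)) fun φ _ hφ => ?_]
  · refine Finset.sum_congr rfl fun φ hφ => if_pos fun x hx => ?_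
    obtain ⟨n, rfl⟩ := (mem_conjs P θ).mp hφ
    exact thn_trivial P hθP n x hx
  · by_cases hφP : ∀ x : (Subgroup.centralizer ((P : Subgroup G) : Set G)), (x : G) ∈ (P : Subgroup G) → (φ : (Subgroup.centralizer ((P : Subgroup G) : Set G)) → ℂ) x = (φ : (Subgroup.centralizer ((P : Subgroup G) : Set G)) → ℂ) 1
    · rw [if_pos hφP, coef_eq_zero P hP hM hind.2.1 hχ (fun h => hφ ?_) hi, zero_mul]
      obtain ⟨n, hn⟩ := exists_thn P hP hθP hM hBP hind hθ hφP h
      exact (mem_conjs P θ).mpr ⟨n, hn⟩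
    · rw [if_neg hφP]

include hθP in
theorem column (hM : IsPModular p M) (hind : IsInducedBlock M (Subgroup.centralizer ((P : Subgroup G) : Set G)) b B) (hθ : θ ∈ b) [Fintype B]
    {i l : ZMod p} (hi : i ≠ 0) (hl : l ≠ 0) [Decidable (∃ u ∈ Eset P hP θ, u * i = l)] :
    ∑ χ : B, coef P hP θ (χ.1 : G → ℂ) i * conj (coef P hP θ (χ.1 : G → ℂ) l) =
      if ∃ u ∈ Eset P hP θ, u * i = l then (p : ℂ) else 0 := by
  classical
  rw [← Finset.sum_subtype (Finset.univ.filter (· ∈ B)) (by simp)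
      (fun χ : IrrCharacter G => coef P hP θ (χ : G → ℂ) i * conj (coef P hP θ (χ : G → ℂ) l)),
    Finset.sum_filter, Finset.sum_congr rfl fun χ _ => show (if χ ∈ B then
      coef P hP θ (χ : G → ℂ) i * conj (coef P hP θ (χ : G → ℂ) l) else 0) =
      coef P hP θ (χ : G → ℂ) i * conj (coef P hP θ (χ : G → ℂ) l) by
      split_ifs with hχ
      · rfl
      · rw [coef_eq_zero_of_notMem P hP hM hind hθ hχ hi, zero_mul],
    sum_coef_mul P hP hθP i l hl]
  refine if_congr ⟨fun ⟨w, hw, he⟩ => ⟨rho P hP w, (mem_Eset P hP θ).mpr ⟨w, hw, rfl⟩, he⟩, ?_⟩ rfl rfl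
  rintro ⟨u, hu, he⟩
  obtain ⟨w, hw, rfl⟩ := (mem_Eset P hP θ).mp hu
  exact ⟨w, hw, he⟩

theorem column_regular (hM : IsPModular p M) (hB : IsPBlock M B) [Fintype B] {i : ZMod p} (hi : i ≠ 0)
    {g : G} (hg : ¬ p ∣ orderOf g) :
    ∑ χ : B, coef P hP θ (χ.1 : G → ℂ) i * (χ.1 : G → ℂ) g = 0 := by
  classical
  simp only [coef, Finset.mul_sum, Finset.sum_mul]
  rw [Finset.sum_comm]
  refine Finset.sum_eq_zero fun y _ => ?_
  split_ifs with hy
  · simp
  have hy' : ¬ p ∣ orderOf (y : G) := (reg_coe P y).mp hy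
  have h := block_orthogonality hM (g := pw P hP i * (y : G)) (h := g⁻¹) (x := pw P hP i) (y := 1)
    (isPPart_mul (commute_of_mem P y.2 (pw_mem P hP i)) (orderOf_pw_pow P hP i) hy')
    (isPPart_one_iff.mpr (by rwa [orderOf_inv]))
    (fun h => hi ((pw_eq_one_iff P hP).mp (isConj_one_left.mp h))) hB
  rw [← Finset.sum_filter, Finset.sum_subtype _ (p := fun χ => χ ∈ B) (by simp)] at h
  calc _ = ((p : ℂ) / (Nat.card (Subgroup.centralizer ((P : Subgroup G) : Set G)) : ℂ) * conj ((θ : (Subgroup.centralizer ((P : Subgroup G) : Set G)) → ℂ) y)) *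
        ∑ χ : B, (χ.1 : G → ℂ) (pw P hP i * (y : G)) * conj ((χ.1 : G → ℂ) g⁻¹) := by
        rw [Finset.mul_sum]
        refine Finset.sum_congr rfl fun χ _ => ?_
        rw [CfsgLib.Char.char_inv (CfsgLib.Char.isCharacter_of_isIrr χ.1.2), Complex.conj_conj]
        ring
    _ = 0 := by rw [h, mul_zero]

include hθP in
set_option maxHeartbeats 800000 in
theorem gram (hM : IsPModular p M) (hind : IsInducedBlock M (Subgroup.centralizer ((P : Subgroup G) : Set G)) b B) (hθ : θ ∈ b) [Fintype B]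
    {j k : ZMod p} (hj : j ≠ 0) (hk : k ≠ 0) [Decidable (∃ u ∈ Eset P hP θ, u * k = j)] :
    ∑ χ : B, row P hP θ (χ.1 : G → ℂ) j * row P hP θ (χ.1 : G → ℂ) k =
      ((Eset P hP θ).card : ℤ) + if ∃ u ∈ Eset P hP θ, u * k = j then 1 else 0 := by
  classical
  have hp0 : (p : ℂ) ≠ 0 := Nat.cast_ne_zero.mpr hp.out.ne_zero
  set E := Eset P hP θ
  have hE0 : ∀ u ∈ E, u ≠ 0 := fun u hu => ne_zero_of_mem P hP θ hu
  have hrow : ∀ (χ : IrrCharacter G) j, (p : ℂ) * (row P hP θ (χ : G → ℂ) j : ℂ) =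
      ∑ i : ZMod p, (ψ (-(j * i)) - 1) * coef P hP θ (χ : G → ℂ) i := fun χ j => by
    rw [coe_row P hP θ hθP, rowC, mul_inv_cancel_left₀ hp0]
  refine Int.cast_injective (α := ℂ) ?_
  refine mul_left_cancel₀ (mul_ne_zero hp0 hp0) ?_
  calc (p : ℂ) * p * ((∑ χ : B, row P hP θ (χ.1 : G → ℂ) j * row P hP θ (χ.1 : G → ℂ) k : ℤ) : ℂ)
      = ∑ χ : B, ((p : ℂ) * (row P hP θ (χ.1 : G → ℂ) j : ℂ)) * conj ((p : ℂ) * (row P hP θ (χ.1 : G → ℂ) k : ℂ)) := by
        push_cast
        rw [Finset.mul_sum]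
        refine Finset.sum_congr rfl fun χ _ => ?_
        rw [map_mul, map_natCast, map_intCast]
        ring
    _ = ∑ i : ZMod p, ∑ l : ZMod p, (ψ (-(j * i)) - 1) * (ψ (k * l) - 1) *
          ∑ χ : B, coef P hP θ (χ.1 : G → ℂ) i * conj (coef P hP θ (χ.1 : G → ℂ) l) := by
        simp only [hrow, map_sum, map_mul, map_sub, map_one, conj_stdAddChar, neg_neg, Finset.sum_mul,
          Finset.mul_sum]
        rw [Finset.sum_comm]
        conv_rhs => rw [Finset.sum_comm]
        refine Finset.sum_congr rfl fun i _ => ?_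
        rw [Finset.sum_comm]
        exact Finset.sum_congr rfl fun l _ => Finset.sum_congr rfl fun χ _ => by ring
    _ = ∑ i : ZMod p, (ψ (-(j * i)) - 1) * ((p : ℂ) * ∑ u ∈ E, (ψ (k * (u * i)) - 1)) := by
        refine Finset.sum_congr rfl fun i _ => ?_
        by_cases hi : i = 0
        · subst hi; simp
        rw [Finset.mul_sum, Finset.mul_sum]
        refine Eq.trans (Finset.sum_subset (Finset.subset_univ (E.image fun u => u * i)) ?_).symm ?_
        · intro l _ hl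
          by_cases hl0 : l = 0
          · subst hl0; simp
          rw [column P hP θ hθP hM hind hθ hi hl0, if_neg, mul_zero]
          exact fun ⟨u, hu, h⟩ => hl (Finset.mem_image.mpr ⟨u, hu, h⟩)
        · rw [Finset.sum_image fun u _ u' _ h => mul_right_cancel₀ hi h]
          refine Finset.sum_congr rfl fun u hu => ?_
          rw [column P hP θ hθP hM hind hθ hi (mul_ne_zero (hE0 u hu) hi), if_pos ⟨u, hu, rfl⟩]
          ring
    _ = (p : ℂ) * ∑ u ∈ E, ∑ i : ZMod p, (ψ (i * (k * u - j)) - ψ (i * -j) - ψ (i * (k * u)) + 1) := by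
        simp only [Finset.mul_sum]
        rw [Finset.sum_comm]
        refine Finset.sum_congr rfl fun u _ => Finset.sum_congr rfl fun i _ => ?_
        rw [show k * (u * i) = i * (k * u) by ring, show -(j * i) = i * -j by ring,
          show i * (k * u - j) = i * -j + i * (k * u) by ring, AddChar.map_add_eq_mul]
        ring
    _ = (p : ℂ) * ∑ u ∈ E, ((p : ℂ) * if k * u = j then 1 else 0) + (p : ℂ) * ((E.card : ℂ) * p) := by
        rw [← mul_add]
        congr 1
        rw [← nsmul_eq_mul, ← Finset.sum_const, ← Finset.sum_add_distrib]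
        refine Finset.sum_congr rfl fun u hu => ?_
        rw [Finset.sum_add_distrib, Finset.sum_sub_distrib, Finset.sum_sub_distrib, sum_stdAddChar,
          sum_stdAddChar, sum_stdAddChar, if_neg (neg_ne_zero.mpr hj), if_neg (mul_ne_zero hk (hE0 u hu)),
          Finset.sum_const, Finset.card_univ, ZMod.card, nsmul_one, sub_zero, sub_zero]
        simp only [sub_eq_zero, mul_ite, mul_one, mul_zero]
    _ = _ := by
        rw [← Finset.mul_sum, Finset.sum_boole]
        have hc : ((E.filter fun u => k * u = j).card : ℂ) =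
            ((if ∃ u ∈ E, u * k = j then 1 else 0 : ℤ) : ℂ) := by
          split_ifs with h
          · obtain ⟨u, hu, hu'⟩ := h
            have : (E.filter fun u => k * u = j) = {u} := by
              ext v
              simp only [Finset.mem_filter, Finset.mem_singleton]
              exact ⟨fun ⟨_, hv⟩ => mul_left_cancel₀ hk (hv.trans (by rw [← hu', mul_comm])),
                fun hv => ⟨hv ▸ hu, by rw [hv, ← hu', mul_comm]⟩⟩
            rw [this, Finset.card_singleton, Nat.cast_one, Int.cast_one]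
          · rw [Finset.filter_false_of_mem, Finset.card_empty, Nat.cast_zero, Int.cast_zero]
            exact fun u hu hv => h ⟨u, hu, by rw [mul_comm]; exact hv⟩
        rw [hc]
        push_cast
        ring

include hθP in
/-- The degree from the row. -/
theorem exists_degree_eq (hM : IsPModular p M) (hBP : IsDefectGroup p M B P) (hind : IsInducedBlock M (Subgroup.centralizer ((P : Subgroup G) : Set G)) b B)
    (hθ : θ ∈ b) {χ : IrrCharacter G} (hχ : χ ∈ B) :
    ∃ a : ℤ, (charDegree (χ : G → ℂ) : ℤ) = ((conjs P θ).card : ℤ) * (charDegree (θ : (Subgroup.centralizer ((P : Subgroup G) : Set G)) → ℂ) : ℤ) *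
      (∑ j : ZMod p, row P hP θ (χ : G → ℂ) j) + (p : ℤ) * a := by
  classical
  have hp0 : (p : ℂ) ≠ 0 := Nat.cast_ne_zero.mpr hp.out.ne_zero
  obtain ⟨a, ha⟩ := exists_fourier P hP χ
  refine ⟨a 0, Int.cast_injective (α := ℂ) ?_⟩
  push_cast
  rw [ha 0, Finset.sum_congr rfl fun j _ => coe_row P hP θ hθP χ j,
    ← charDegree_eq (CfsgLib.Char.isCharacter_of_isIrr χ.2), ← charDegree_eq (CfsgLib.Char.isCharacter_of_isIrr θ.2)]
  simp only [zero_mul, neg_zero, AddChar.map_zero_eq_one, one_mul]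
  rw [← Finset.add_sum_erase Finset.univ (fun i => (χ : G → ℂ) (pw P hP i)) (Finset.mem_univ 0), pw_zero]
  have hS : ∑ j : ZMod p, rowC P hP θ (χ : G → ℂ) j =
      -∑ i ∈ Finset.univ.erase (0 : ZMod p), coef P hP θ (χ : G → ℂ) i := by
    simp only [rowC, ← Finset.mul_sum]
    rw [Finset.sum_comm, inv_mul_eq_iff_eq_mul₀ hp0, ← Finset.add_sum_erase _ _ (Finset.mem_univ (0 : ZMod p)),
      mul_neg, Finset.mul_sum, ← Finset.sum_neg_distrib]
    simp only [mul_zero, neg_zero, AddChar.map_zero_eq_one, sub_self, zero_mul, Finset.sum_const_zero, zero_add]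
    refine Finset.sum_congr rfl fun i hi => ?_
    rw [← Finset.sum_mul, Finset.sum_sub_distrib, Finset.sum_congr rfl fun j _ => by
      rw [show -(j * i) = j * -i by ring], sum_stdAddChar, if_neg (neg_ne_zero.mpr (Finset.mem_erase.mp hi).1),
      Finset.sum_const, Finset.card_univ, ZMod.card, nsmul_one]
    ring
  have hone : (1 : G) = ((1 : (Subgroup.centralizer ((P : Subgroup G) : Set G))) : G) := rfl
  have hval : ∑ i ∈ Finset.univ.erase (0 : ZMod p), (χ : G → ℂ) (pw P hP i) =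
      ((conjs P θ).card : ℂ) * (θ : (Subgroup.centralizer ((P : Subgroup G) : Set G)) → ℂ) 1 * ∑ i ∈ Finset.univ.erase (0 : ZMod p), coef P hP θ (χ : G → ℂ) i := by
    rw [Finset.sum_congr rfl fun i hi => show (χ : G → ℂ) (pw P hP i) =
        ∑ φ ∈ conjs P θ, coef P hP φ (χ : G → ℂ) i * (φ : (Subgroup.centralizer ((P : Subgroup G) : Set G)) → ℂ) 1 by
      rw [← value_conjs P hP θ hθP hM hBP hind hθ hχ (Finset.mem_erase.mp hi).1 (y := 1)
        (by rw [orderOf_one]; exact hp.out.not_dvd_one), OneMemClass.coe_one, mul_one], Finset.sum_comm,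
      mul_assoc, ← nsmul_eq_mul, ← Finset.sum_const]
    refine Finset.sum_congr rfl fun φ hφ => ?_
    obtain ⟨n, rfl⟩ := (mem_conjs P θ).mp hφ
    rw [thn_apply, map_one, Finset.mul_sum]
    refine Finset.sum_bij (fun i _ => rho P hP n * i) (fun i hi => ?_)
      (fun _ _ _ _ h => mul_left_cancel₀ (rho_ne_zero P hP n) h) (fun l hl => ?_) fun i _ => ?_
    · exact Finset.mem_erase.mpr ⟨mul_ne_zero (rho_ne_zero P hP n) (Finset.mem_erase.mp hi).1, Finset.mem_univ _⟩
    · refine ⟨(rho P hP n)⁻¹ * l, Finset.mem_erase.mpr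
        ⟨mul_ne_zero (inv_ne_zero (rho_ne_zero P hP n)) (Finset.mem_erase.mp hl).1, Finset.mem_univ _⟩, ?_⟩
      rw [mul_inv_cancel_left₀ (rho_ne_zero P hP n)]
    · rw [coef_thn P hP (CfsgLib.Char.isClassFunction_of_isIrr χ.2) θ n i]; ring
  rw [hS, hval]
  ring

include hθP in
/-- A member with zero row vanishes on the `p`-singular elements. -/
theorem eq_zero_of_row (hM : IsPModular p M) (hBP : IsDefectGroup p M B P) (hind : IsInducedBlock M (Subgroup.centralizer ((P : Subgroup G) : Set G)) b B)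
    (hθ : θ ∈ b) {χ : IrrCharacter G} (hχ : χ ∈ B) (h0 : ∀ j, row P hP θ (χ : G → ℂ) j = 0) {g : G}
    (hg : p ∣ orderOf g) : (χ : G → ℂ) g = 0 := by
  classical
  have hc : ∀ i : ZMod p, i ≠ 0 → coef P hP θ (χ : G → ℂ) i = 0 := fun i hi => by
    rw [coef_eq_sum_rowC P hP θ _ hi]
    exact Finset.sum_eq_zero fun j _ => by rw [← coe_row P hP θ hθP, h0, Int.cast_zero, zero_mul]
  obtain ⟨z, hz⟩ := exists_isPPart (p := p) g
  have hz1 : z ≠ 1 := fun h => (isPPart_one_iff.mp (h ▸ hz)) hg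
  obtain ⟨y, hzy, hcomm, ⟨k, hk⟩, hy⟩ := hz
  obtain ⟨Q, hQ⟩ := (IsPGroup.of_card (n := k) (show Nat.card (Subgroup.zpowers z) = p ^ k by
    rw [Nat.card_zpowers, hk])).exists_le_sylow
  obtain ⟨c, hc'⟩ := MulAction.exists_smul_eq G Q P
  have hzP : c * z * c⁻¹ ∈ (P : Subgroup G) := by
    rw [← hc', Sylow.coe_subgroup_smul]
    exact ⟨z, hQ (Subgroup.mem_zpowers z), by simp⟩
  obtain ⟨i, hi⟩ := pw_surjOn P hP hzP
  have hi0 : i ≠ 0 := fun h => hz1 (by
    rw [h, pw_zero] at hi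
    exact (conj_eq_one_iff (a := c)).mp hi.symm)
  have hcy : c * y * c⁻¹ ∈ (Subgroup.centralizer ((P : Subgroup G) : Set G)) := by
    rw [← centralizer_pw P hP hi0, hi, Subgroup.mem_centralizer_singleton_iff]
    calc c * y * c⁻¹ * (c * z * c⁻¹) = c * (y * z) * c⁻¹ := by group
      _ = c * (z * y) * c⁻¹ := by rw [hcomm.eq]
      _ = c * z * c⁻¹ * (c * y * c⁻¹) := by group
  rw [← CfsgLib.Char.isClassFunction_of_isIrr χ.2 g c, show c * g * c⁻¹ = pw P hP i * ((⟨_, hcy⟩ : (Subgroup.centralizer ((P : Subgroup G) : Set G))) : G) by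
    rw [hi, ← hzy]; group, value_conjs P hP θ hθP hM hBP hind hθ hχ hi0 (by
    rwa [Subgroup.orderOf_mk, show c * y * c⁻¹ = MulAut.conj c y by simp, MulEquiv.orderOf_eq])]
  refine Finset.sum_eq_zero fun φ hφ => ?_
  obtain ⟨n, rfl⟩ := (mem_conjs P θ).mp hφ
  rw [coef_thn P hP (CfsgLib.Char.isClassFunction_of_isIrr χ.2) θ n i,
    hc _ (mul_ne_zero (rho_ne_zero P hP n) hi0), zero_mul]

omit hθP in
theorem card_conjs_mul : (conjs P θ).card * (Eset P hP θ).card = ((Subgroup.centralizer ((P : Subgroup G) : Set G))).relIndex (Subgroup.normalizer ((P : Subgroup G) : Set G)) := by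
  rw [card_conjs, card_Eset, mul_comm, Subgroup.relIndex_mul_index (CN_le_stab P θ)]
  rfl

include hθP in
/-- The characters of the normaliser over `θ` are as many as the elements of `E`. -/
theorem card_over_eq [Fintype (CN P)] : Nat.card (Over P θ) = (Eset P hP θ).card := by
  rw [card_Eset, card_over P hP ((stab P θ).map ((Subgroup.normalizer ((P : Subgroup G) : Set G))).subtype) fun g => ?_]
  · have h := Subgroup.relIndex_subgroupOf (H := (Subgroup.centralizer ((P : Subgroup G) : Set G)))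
      (Subgroup.map_subtype_le (stab P θ) : (stab P θ).map ((Subgroup.normalizer ((P : Subgroup G) : Set G))).subtype ≤ (Subgroup.normalizer ((P : Subgroup G) : Set G)))
    rw [← h, ← Subgroup.comap_subtype, ← Subgroup.comap_subtype,
      Subgroup.comap_map_eq_self_of_injective (Subgroup.subtype_injective _)]
    rfl
  · exact ⟨fun ⟨w, hw, e⟩ => ⟨e ▸ w.2, by subst e; exact hw⟩, fun ⟨hg, hw⟩ => ⟨⟨g, hg⟩, hw, rfl⟩⟩

theorem one_mem_Eset : (1 : ZMod p) ∈ Eset P hP θ :=
  (mem_Eset P hP θ).mpr ⟨1, (stab P θ).one_mem, map_one _⟩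

theorem mul_mem_Eset {u v : ZMod p} (hu : u ∈ Eset P hP θ) (hv : v ∈ Eset P hP θ) : u * v ∈ Eset P hP θ := by
  obtain ⟨a, ha, rfl⟩ := (mem_Eset P hP θ).mp hu
  obtain ⟨c, hc, rfl⟩ := (mem_Eset P hP θ).mp hv
  exact (mem_Eset P hP θ).mpr ⟨a * c, (stab P θ).mul_mem ha hc, map_mul _ _ _⟩

theorem inv_mem_Eset {u : ZMod p} (hu : u ∈ Eset P hP θ) : u⁻¹ ∈ Eset P hP θ := by
  obtain ⟨a, ha, rfl⟩ := (mem_Eset P hP θ).mp hu
  refine (mem_Eset P hP θ).mpr ⟨a⁻¹, (stab P θ).inv_mem ha, eq_inv_of_mul_eq_one_left ?_⟩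
  rw [← map_mul, inv_mul_cancel, map_one]

/-- The orbit of `i` under `E`. -/
def eOrbit (i : ZMod p) : Finset (ZMod p) := (Eset P hP θ).image (· * i)

theorem mem_eOrbit {i j : ZMod p} : j ∈ eOrbit P hP θ i ↔ ∃ u ∈ Eset P hP θ, u * i = j := Finset.mem_image

theorem self_mem_eOrbit (i : ZMod p) : i ∈ eOrbit P hP θ i :=
  (mem_eOrbit P hP θ).mpr ⟨1, one_mem_Eset P hP θ, one_mul i⟩

theorem eOrbit_eq {i j : ZMod p} (h : j ∈ eOrbit P hP θ i) : eOrbit P hP θ j = eOrbit P hP θ i := by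
  obtain ⟨u, hu, rfl⟩ := (mem_eOrbit P hP θ).mp h
  ext l
  simp only [mem_eOrbit]
  refine ⟨fun ⟨v, hv, e⟩ => ⟨v * u, mul_mem_Eset P hP θ hv hu, by rw [mul_assoc, e]⟩,
    fun ⟨v, hv, e⟩ => ⟨v * u⁻¹, mul_mem_Eset P hP θ hv (inv_mem_Eset P hP θ hu), ?_⟩⟩
  rw [mul_assoc, inv_mul_cancel_left₀ (ne_zero_of_mem P hP θ hu), e]

theorem card_eOrbit {i : ZMod p} (hi : i ≠ 0) : (eOrbit P hP θ i).card = (Eset P hP θ).card :=
  Finset.card_image_of_injective _ fun _ _ h => mul_right_cancel₀ hi h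

/-- The orbits of `E` on the nonzero residues. -/
def orbits : Finset (Finset (ZMod p)) := (Finset.univ.erase (0 : ZMod p)).image (eOrbit P hP θ)

theorem card_orbits_mul : (orbits P hP θ).card * (Eset P hP θ).card = p - 1 := by
  classical
  have hcnt : (Finset.univ.erase (0 : ZMod p)).card = p - 1 := by
    rw [Finset.card_erase_of_mem (Finset.mem_univ _), Finset.card_univ, ZMod.card]
  rw [← hcnt, orbits]
  refine ((Finset.card_eq_sum_card_image (eOrbit P hP θ) _).trans (Finset.sum_const_nat fun Q hQ => ?_)).symm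
  obtain ⟨i, hi, rfl⟩ := Finset.mem_image.mp hQ
  rw [← card_eOrbit P hP θ (Finset.mem_erase.mp hi).1]
  congr 1
  ext j
  simp only [Finset.mem_filter, Finset.mem_erase, Finset.mem_univ, and_true]
  refine ⟨fun h => h.2 ▸ self_mem_eOrbit P hP θ j, fun h => ⟨?_, eOrbit_eq P hP θ h⟩⟩
  obtain ⟨u, hu, rfl⟩ := (mem_eOrbit P hP θ).mp h
  exact mul_ne_zero (ne_zero_of_mem P hP θ hu) (Finset.mem_erase.mp hi).1

theorem card_Eset_pos : 0 < (Eset P hP θ).card := Finset.card_pos.mpr ⟨1, one_mem_Eset P hP θ⟩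

/-- The shape of the rows of a block. -/
structure Shape (B Y : Set (IrrCharacter G)) (s : IrrCharacter G → ℤ) (σ : ℤ) : Prop where
  le : Y ⊆ B
  card_eq : Nat.card B = (Eset P hP θ).card + (p - 1) / (Eset P hP θ).card
  card_Y : Nat.card Y = (p - 1) / (Eset P hP θ).card
  sign : σ = 1 ∨ σ = -1
  sign_X : ∀ χ ∈ B, χ ∉ Y → s χ = 1 ∨ s χ = -1
  row_X : ∀ χ ∈ B, χ ∉ Y → ∀ j, j ≠ 0 → row P hP θ (χ : G → ℂ) j = s χ
  row_Y : ∀ η ∈ Y, ∃ i, i ≠ 0 ∧ ∀ j, j ≠ 0 →
    row P hP θ (η : G → ℂ) j = if j ∈ eOrbit P hP θ i then σ else 0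
  surj : ∀ i, i ≠ 0 → ∃ η ∈ Y, row P hP θ (η : G → ℂ) i = σ
  inj : ∀ η ∈ Y, ∀ η' ∈ Y,
    (∀ j, j ≠ 0 → row P hP θ (η : G → ℂ) j = row P hP θ (η' : G → ℂ) j) → η = η'
  relation : ∀ η ∈ Y, ∀ g : G, ¬ p ∣ orderOf g →
    (∑ᶠ χ ∈ B \ Y, (s χ : ℂ) * (χ : G → ℂ) g) + (σ : ℂ) * (η : G → ℂ) g = 0

include hθP in
theorem row_eq_zero : ∀ χ : IrrCharacter G, row P hP θ (χ : G → ℂ) 0 = 0 := fun χ => by
  exact_mod_cast (coe_row P hP θ hθP χ 0).trans (row_zero P hP θ χ)

include hθP in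
set_option maxHeartbeats 800000 in
/-- **Structure of a block.** -/
theorem exists_shape (hM : IsPModular p M) (hBP : IsDefectGroup p M B P) (hind : IsInducedBlock M (Subgroup.centralizer ((P : Subgroup G) : Set G)) b B)
    (hθ : θ ∈ b) : ∃ Y s σ, Shape P hP θ B Y s σ := by
  classical
  have hp0 : (p : ℂ) ≠ 0 := Nat.cast_ne_zero.mpr hp.out.ne_zero
  let _ := Fintype.ofFinite B
  let _ := Fintype.ofFinite (CN P)
  set E := Eset P hP θ with hE
  have hB : IsPBlock M B := hind.2.1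
  set R := orbits P hP θ with hRdef
  have hR : ∀ Q : R, ∃ i : ZMod p, i ≠ 0 ∧ eOrbit P hP θ i = Q.1 := fun Q => by
    obtain ⟨i, hi, h⟩ := Finset.mem_image.mp Q.2
    exact ⟨i, (Finset.mem_erase.mp hi).1, h⟩
  choose rep hrep0 hrep using hR
  have hcls : ∀ j : ZMod p, j ≠ 0 → ∃ Q : R, j ∈ eOrbit P hP θ (rep Q) := fun j hj =>
    ⟨⟨_, Finset.mem_image_of_mem _ (Finset.mem_erase.mpr ⟨hj, Finset.mem_univ j⟩)⟩, by
      rw [hrep]; exact self_mem_eOrbit P hP θ j⟩
  have hrepeq : ∀ Q Q' : R, rep Q ∈ eOrbit P hP θ (rep Q') → Q = Q' := fun Q Q' h =>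
    Subtype.ext (by rw [← hrep Q, ← hrep Q', eOrbit_eq P hP θ h])
  have hRcard : R.card * E.card = p - 1 := card_orbits_mul P hP θ
  have he0 : 0 < E.card := card_Eset_pos P hP θ
  have ht : (p - 1) / E.card = Fintype.card R := by
    rw [← hRcard, Nat.mul_div_cancel _ he0, Fintype.card_coe]
  have : Nonempty R := Fintype.card_pos_iff.mp (by
    rw [Fintype.card_coe]
    have := hp.out.two_le
    rcases Nat.eq_zero_or_pos R.card with h | h
    · rw [h] at hRcard; omega
    · exact h)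
  -- the lower bound
  have hlow : E.card + Fintype.card R ≤ Fintype.card B := by
    rw [← card_over_eq P hP θ hθP]
    refine card_ge P hP hθP hM hind hθ (fun (Q : R) (χ : B) => coef P hP θ (χ.1 : G → ℂ) (rep Q)) ?_
      fun Q g hg => ?_
    · rw [Fintype.linearIndependent_iff]
      intro a ha Q'
      have h1 : ∑ χ : B, (∑ Q : R, a Q * coef P hP θ (χ.1 : G → ℂ) (rep Q)) *
          conj (coef P hP θ (χ.1 : G → ℂ) (rep Q')) = 0 := Finset.sum_eq_zero fun χ _ => by
        have := congrFun ha χ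
        simp only [Finset.sum_apply, Pi.smul_apply, smul_eq_mul, Pi.zero_apply] at this
        rw [this, zero_mul]
      simp only [Finset.sum_mul, mul_assoc] at h1
      rw [Finset.sum_comm] at h1
      simp only [← Finset.mul_sum] at h1
      rw [Finset.sum_eq_single Q', column P hP θ hθP hM hind hθ (hrep0 _) (hrep0 _),
        if_pos ⟨1, one_mem_Eset P hP θ, one_mul _⟩] at h1
      · exact (mul_eq_zero.mp h1).resolve_right hp0
      · intro Q _ hQ
        rw [column P hP θ hθP hM hind hθ (hrep0 _) (hrep0 _), if_neg, mul_zero]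
        exact fun h => hQ (hrepeq Q' Q ((mem_eOrbit P hP θ).mpr h)).symm
      · simp
    · have h := column_regular P hP θ hM hB (hrep0 Q) (g := g⁻¹) (by rwa [orderOf_inv])
      simpa only [CfsgLib.Char.char_inv (CfsgLib.Char.isCharacter_of_isIrr (Subtype.prop (Subtype.val _)))] using h
  -- rows
  let r : B → R → ℤ := fun χ Q => row P hP θ (χ.1 : G → ℂ) (rep Q)
  have hgramR : ∀ Q Q' : R, ∑ χ, r χ Q * r χ Q' = (E.card : ℤ) + if Q = Q' then 1 else 0 := by
    intro Q Q'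
    rw [gram P hP θ hθP hM hind hθ (hrep0 Q) (hrep0 Q')]
    refine congrArg _ (if_congr ⟨fun h => hrepeq Q Q' ((mem_eOrbit P hP θ).mpr h),
      fun h => h ▸ ⟨1, one_mem_Eset P hP θ, one_mul _⟩⟩ rfl rfl)
  have hconst : ∀ (χ : IrrCharacter G) (Q : R) (j : ZMod p), j ∈ eOrbit P hP θ (rep Q) →
      row P hP θ (χ : G → ℂ) j = row P hP θ (χ : G → ℂ) (rep Q) := fun χ Q j hj => by
    obtain ⟨u, hu, rfl⟩ := (mem_eOrbit P hP θ).mp hj
    refine Int.cast_injective (α := ℂ) ?_
    rw [coe_row P hP θ hθP, coe_row P hP θ hθP,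
      rowC_Eset P hP θ (CfsgLib.Char.isClassFunction_of_isIrr χ.2) hu]
  have hnz : ∀ χ : B, ∃ Q, r χ Q ≠ 0 := by
    intro χ
    by_contra hcon
    push Not at hcon
    have hall : ∀ j, row P hP θ (χ.1 : G → ℂ) j = 0 := fun j => by
      by_cases hj : j = 0
      · rw [hj, row_eq_zero P hP θ hθP]
      · obtain ⟨Q, hQ⟩ := hcls j hj
        rw [hconst _ Q j hQ]
        exact hcon Q
    obtain ⟨a, ha⟩ := exists_degree_eq P hP θ hθP hM hBP hind hθ χ.2
    rw [Finset.sum_eq_zero fun j _ => hall j, mul_zero, zero_add] at ha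
    have hsub := blockOf_subset_of_integral (M := M) (A := {χ.1}) (χ := χ.1) (fun g => ?_) rfl
    · rw [← isPBlock_eq_blockOf hB χ.2] at hsub
      have : Fintype.card B ≤ 1 := Fintype.card_le_one_iff.mpr fun c d => Subtype.ext
        ((hsub c.2 : c.1 = χ.1).trans (hsub d.2 : d.1 = χ.1).symm)
      have hRpos : 0 < Fintype.card R := Fintype.card_pos
      omega
    · rw [blockCoeff_eq, Finset.sum_eq_single χ.1]
      · rw [if_pos (Set.mem_singleton χ.1)]
        by_cases hg : p ∣ orderOf g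
        · rw [eq_zero_of_row P hP θ hθP hM hBP hind hθ χ.2 hall hg, map_zero, mul_zero, mul_zero]
          exact Subring.zero_mem _
        · rw [← mul_assoc, charDegree_eq (CfsgLib.Char.isCharacter_of_isIrr χ.1.2), ← div_eq_inv_mul]
          refine Subring.mul_mem _ (frac_mem_locRing hM Nat.card_pos.ne' (Or.inr ?_)) ?_
          · rw [factorization_card P hP]
            exact hp.out.factorization_pos_of_dvd (charDegree_ne_zero χ.1) (Int.natCast_dvd_natCast.mp ⟨a, ha⟩)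
          · rw [← CfsgLib.Char.char_inv (CfsgLib.Char.isCharacter_of_isIrr χ.1.2)]
            exact algInt_le_locRing M (CfsgLib.Char.char_isIntegral (CfsgLib.Char.isCharacter_of_isIrr χ.1.2) _)
      · intro c _ hc; rw [if_neg (show c ∉ ({χ.1} : Set (IrrCharacter G)) by simpa using hc)]
      · simp
  obtain ⟨hk, η, σf, hηinj, hσ, hη, hfull⟩ := CyclicRows.structure_rows hgramR hnz hlow
  set Y : Set (IrrCharacter G) := Set.range fun Q => (η Q).1 with hY
  have hYB : Y ⊆ B := by rintro _ ⟨Q, rfl⟩; exact (η Q).2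
  choose sf hsf hsval using fun (χ : {χ : B // ∀ Q, η Q ≠ χ}) => hfull χ.1 χ.2
  let s : IrrCharacter G → ℤ := fun χ => if h : χ ∈ B ∧ χ ∉ Y then
    sf ⟨⟨χ, h.1⟩, fun Q hQ => h.2 ⟨Q, congrArg Subtype.val hQ⟩⟩ else 1
  have hXrow : ∀ χ ∈ B, χ ∉ Y → (s χ = 1 ∨ s χ = -1) ∧ ∀ j, j ≠ 0 → row P hP θ (χ : G → ℂ) j = s χ := by
    intro χ h1 h2
    have hh : χ ∈ B ∧ χ ∉ Y := ⟨h1, h2⟩
    simp only [s, dif_pos hh]
    refine ⟨hsf _, fun j hj => ?_⟩
    obtain ⟨Q, hQ⟩ := hcls j hj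
    rw [hconst _ Q j hQ]
    exact hsval ⟨⟨χ, hh.1⟩, fun Q hQ => hh.2 ⟨Q, congrArg Subtype.val hQ⟩⟩ Q
  have hYrow : ∀ Q : R, ∀ j, j ≠ 0 →
      row P hP θ ((η Q).1 : G → ℂ) j = if j ∈ eOrbit P hP θ (rep Q) then σf Q else 0 := by
    intro Q j hj
    obtain ⟨Q', hQ'⟩ := hcls j hj
    rw [hconst _ Q' j hQ']
    change r (η Q) Q' = _
    rw [hη]
    refine if_congr ⟨fun h => h ▸ hQ', fun h => hrepeq Q Q' ?_⟩ rfl rfl
    rw [← eOrbit_eq P hP θ hQ', eOrbit_eq P hP θ h]
    exact self_mem_eOrbit P hP θ _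
  -- the relations on the regular elements
  have hrel : ∀ Q : R, ∀ g : G, ¬ p ∣ orderOf g →
      (∑ᶠ χ ∈ B \ Y, (s χ : ℂ) * (χ : G → ℂ) g) + (σf Q : ℂ) * ((η Q).1 : G → ℂ) g = 0 := by
    intro Q g hg
    have h0 : ∑ χ : B, (row P hP θ (χ.1 : G → ℂ) (rep Q) : ℂ) * (χ.1 : G → ℂ) g = 0 := by
      simp only [coe_row P hP θ hθP, rowC, mul_assoc, ← Finset.mul_sum, Finset.sum_mul]
      rw [mul_eq_zero]
      refine Or.inr ?_
      rw [Finset.sum_comm]
      refine Finset.sum_eq_zero fun i _ => ?_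
      by_cases hi : i = 0
      · subst hi; simp
      rw [← Finset.mul_sum, column_regular P hP θ hM hB hi hg, mul_zero]
    rw [← Finset.sum_filter_add_sum_filter_not Finset.univ (fun χ : B => χ.1 ∈ Y),
      Finset.sum_eq_single_of_mem (η Q) (Finset.mem_filter.mpr ⟨Finset.mem_univ _, Q, rfl⟩) ?_] at h0
    · rw [hYrow Q _ (hrep0 Q), if_pos (self_mem_eOrbit P hP θ _)] at h0
      rw [finsum_mem_eq_finite_toFinset_sum _ (Set.toFinite (B \ Y)), add_comm, ← h0]
      congr 1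
      refine (Finset.sum_bij (fun χ _ => χ.1) (fun χ hχ => ?_) (fun c _ d _ h => Subtype.ext h) (fun χ hχ => ?_)
        (fun χ hχ => ?_)).symm
      · exact (Set.Finite.mem_toFinset _).mpr ⟨χ.2, (Finset.mem_filter.mp hχ).2⟩
      · have hh : χ ∈ B \ Y := (Set.Finite.mem_toFinset _).mp hχ
        exact ⟨⟨χ, hh.1⟩, Finset.mem_filter.mpr ⟨Finset.mem_univ _, hh.2⟩, rfl⟩
      · rw [(hXrow χ.1 χ.2 (Finset.mem_filter.mp hχ).2).2 _ (hrep0 Q)]
    · intro χ hχ hne
      obtain ⟨Q', hQ'⟩ := (Finset.mem_filter.mp hχ).2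
      have hQ'' : η Q' = χ := Subtype.ext hQ'
      rw [← hQ'', hYrow Q' _ (hrep0 Q), if_neg, Int.cast_zero, zero_mul]
      exact fun h => hne (hQ''.symm.trans (congrArg η (hrepeq Q Q' h).symm))
  have hσeq : ∀ Q Q' : R, σf Q = σf Q' := by
    intro Q Q'
    have h := (hrel Q 1 (by rw [orderOf_one]; exact hp.out.not_dvd_one)).trans
      (hrel Q' 1 (by rw [orderOf_one]; exact hp.out.not_dvd_one)).symm
    rw [add_right_inj, charDegree_eq (CfsgLib.Char.isCharacter_of_isIrr (η Q).1.2),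
      charDegree_eq (CfsgLib.Char.isCharacter_of_isIrr (η Q').1.2)] at h
    have h' : σf Q * (charDegree ((η Q).1 : G → ℂ) : ℤ) = σf Q' * (charDegree ((η Q').1 : G → ℂ) : ℤ) := by
      exact_mod_cast h
    have := charDegree_ne_zero (η Q).1
    have := charDegree_ne_zero (η Q').1
    rcases hσ Q with h1 | h1 <;> rcases hσ Q' with h2 | h2 <;> rw [h1, h2] at h' ⊢ <;> omega
  obtain ⟨Q₀⟩ := ‹Nonempty R›
  refine ⟨Y, s, σf Q₀, ⟨hYB, ?_, ?_, hσ Q₀, fun χ a c => (hXrow χ a c).1, fun χ a c => (hXrow χ a c).2,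
    ?_, fun i hi => ?_, ?_, ?_⟩⟩
  · rw [Nat.card_eq_fintype_card, hk, ← hE, ht]
  · rw [hY, Nat.card_range_of_injective (f := fun Q => (η Q).1) (Subtype.val_injective.comp hηinj), ht,
      Nat.card_eq_fintype_card]
  · rintro _ ⟨Q, rfl⟩
    exact ⟨rep Q, hrep0 Q, fun j hj => by rw [hYrow Q j hj, hσeq Q Q₀]⟩
  · obtain ⟨Q, hQ⟩ := hcls i hi
    exact ⟨_, ⟨Q, rfl⟩, by rw [hYrow Q i hi, if_pos hQ, hσeq Q Q₀]⟩
  · rintro _ ⟨Q, rfl⟩ _ ⟨Q', rfl⟩ h
    have h' := h (rep Q) (hrep0 Q)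
    rw [hYrow Q _ (hrep0 Q), hYrow Q' _ (hrep0 Q), if_pos (self_mem_eOrbit P hP θ _)] at h'
    by_cases hQ : rep Q ∈ eOrbit P hP θ (rep Q')
    · rw [hrepeq Q Q' hQ]
    · rw [if_neg hQ] at h'
      rcases hσ Q with h1 | h1 <;> omega
  · rintro _ ⟨Q, rfl⟩ g hg
    rw [← hσeq Q Q₀]
    exact hrel Q g hg

end CfsgLib.Blocks.PrimeBlock
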