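import Cfsg.Agent.Lib.Blocks.PrimeGalois

/-!
# Counting the characters of degree prime to `p`

For a Sylow subgroup of order `p`, the number of characters of degree prime to `p` is determined by
the characters of `C(P)` trivial on `P` and their inertial indices, so `G` and `N(P)` agree.
-/

set_option autoImplicit false

noncomputable section

namespace CfsgLib.Blocks.PrimeBlock

open Cfsg PrimeSylow PrimeLocal

section count

variable {G : Type*} [Group G] [Fintype G] {p : ℕ} [hp : Fact p.Prime] (P : Sylow p G) (hP : Nat.card P = p)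
  [Fintype (Subgroup.normalizer ((P : Subgroup G) : Set G))] [Fintype (Subgroup.centralizer ((P : Subgroup G) : Set G))] {M : Ideal AlgInt} [M.IsMaximal]

theorem conjs_thn (θ : IrrCharacter (Subgroup.centralizer ((P : Subgroup G) : Set G))) (n : (Subgroup.normalizer ((P : Subgroup G) : Set G))) : conjs P (thn P θ n) = conjs P θ := by
  ext φ
  rw [mem_conjs, mem_conjs]
  exact ⟨fun ⟨m, h⟩ => ⟨n * m, by rw [← thn_mul, h]⟩, fun ⟨m, h⟩ => ⟨n⁻¹ * m, by rw [thn_mul, mul_inv_cancel_left, h]⟩⟩

theorem card_Eset_thn (θ : IrrCharacter (Subgroup.centralizer ((P : Subgroup G) : Set G))) (n : (Subgroup.normalizer ((P : Subgroup G) : Set G))) :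
    (Eset P hP (thn P θ n)).card = (Eset P hP θ).card := by
  have h1 := card_conjs_mul P hP θ
  have h2 := card_conjs_mul P hP (thn P θ n)
  rw [conjs_thn, ← h1] at h2
  exact Nat.eq_of_mul_eq_mul_left (Finset.card_pos.mpr ⟨θ, (mem_conjs P θ).mpr ⟨1, thn_one P θ⟩⟩) h2

include hP in
omit [Fintype (Subgroup.normalizer ((P : Subgroup G) : Set G))] in
/-- The block induced from a trivial character has `P` as a defect group. -/
theorem exists_block_of_trivial (hM : IsPModular p M) (θ : IrrCharacter (Subgroup.centralizer ((P : Subgroup G) : Set G))) :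
    ∃ B : Set (IrrCharacter G), IsInducedBlock M (Subgroup.centralizer ((P : Subgroup G) : Set G)) (blockOf M (θ : (Subgroup.centralizer ((P : Subgroup G) : Set G)) → ℂ)) B ∧ IsDefectGroup p M B P := by
  obtain ⟨B, hB⟩ := exists_inducedBlock hM P.isPGroup' (le_centralizer P hP) le_rfl
    (Subgroup.centralizer_le_normalizer _) (isPBlock_blockOf (M := M) θ)
  refine ⟨B, hB, isDefectGroup_of_pos P hP hM hB.2.1 (Nat.pos_of_ne_zero fun h0 => ?_)⟩
  have hpair := (CfsgLib.BrauerPairs.brauerPairOf_iff_induced hM P.isPGroup' hB.1 hB.2.1).mpr hB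
  obtain ⟨c, hc, hle⟩ := CfsgLib.BrauerPairs.exists_maximal hM (a := ⟨(P : Subgroup G), _⟩) hpair
  have h1 := card_defectGroup hM hB.2.1 (CfsgLib.BrauerPairs.isDefectGroup_of_maximal hM hc)
  have h2 := Subgroup.card_le_of_le (CfsgLib.BrauerPairs.subgroup_le hle)
  rw [h1, h0, pow_zero, show Nat.card (P : Subgroup G) = p from hP] at h2
  exact absurd h2 (not_le.mpr hp.out.one_lt)

include hP in
omit [Fintype (Subgroup.normalizer ((P : Subgroup G) : Set G))] in
theorem blockDefect_pos_of_not_dvd {χ : IrrCharacter G} (hd : ¬ p ∣ charDegree (χ : G → ℂ)) :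
    0 < blockDefect p (blockOf M (χ : G → ℂ)) := by
  rw [blockDefect, factorization_card P hP]
  have : sInf ((fun χ : IrrCharacter G => (charDegree (χ : G → ℂ)).factorization p) '' blockOf M (χ : G → ℂ)) = 0 :=
    Nat.le_zero.mp ((Nat.sInf_le (Set.mem_image_of_mem _ (mem_blockOf_self (M := M) χ))).trans
      (Nat.factorization_eq_zero_of_not_dvd hd).le)
  omega

omit [Fintype (Subgroup.normalizer ((P : Subgroup G) : Set G))] [M.IsMaximal] in
include hP in
theorem not_dvd_trivial_degree (θ : IrrCharacter (Subgroup.centralizer ((P : Subgroup G) : Set G))) : ¬ p ∣ charDegree (θ : (Subgroup.centralizer ((P : Subgroup G) : Set G)) → ℂ) := by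
  have hidx : ¬ p ∣ ((P : Subgroup G).subgroupOf (Subgroup.centralizer ((P : Subgroup G) : Set G))).index := fun hd =>
    P.not_dvd_index (hd.trans (Subgroup.relIndex_dvd_index_of_le (le_centralizer P hP)))
  have : ((P : Subgroup G).subgroupOf (Subgroup.centralizer ((P : Subgroup G) : Set G))).Normal := ⟨fun z hz c => by
    have h := (commute_of_mem P c.2 (Subgroup.mem_subgroupOf.mp hz)).eq
    rwa [show c * z * c⁻¹ = z from Subtype.ext (by simp [← h])]⟩
  refine fun h => hidx (h.trans (CfsgLib.Char.degree_dvd_index_abelian_normal _ (fun a ha c _ => ?_) θ.2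
    (charDegree_eq (CfsgLib.Char.isCharacter_of_isIrr θ.2))))
  exact Subtype.ext (commute_of_mem P c.2 (Subgroup.mem_subgroupOf.mp ha)).eq

variable {θ : IrrCharacter (Subgroup.centralizer ((P : Subgroup G) : Set G))} (hθP : ∀ x : (Subgroup.centralizer ((P : Subgroup G) : Set G)), (x : G) ∈ (P : Subgroup G) → (θ : (Subgroup.centralizer ((P : Subgroup G) : Set G)) → ℂ) x = (θ : (Subgroup.centralizer ((P : Subgroup G) : Set G)) → ℂ) 1)
  {B : Set (IrrCharacter G)} {b : Set (IrrCharacter (Subgroup.centralizer ((P : Subgroup G) : Set G)))}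

include hP hθP in
/-- The members of a block of full defect have degree prime to `p`. -/
theorem not_dvd_degree_of_mem (hM : IsPModular p M) (hBP : IsDefectGroup p M B P) (hind : IsInducedBlock M (Subgroup.centralizer ((P : Subgroup G) : Set G)) b B)
    (hθ : θ ∈ b) {χ : IrrCharacter G} (hχ : χ ∈ B) : ¬ p ∣ charDegree (χ : G → ℂ) := by
  classical
  obtain ⟨Y, s, σ, hS⟩ := exists_shape P hP θ hθP hM hBP hind hθ
  obtain ⟨a, ha⟩ := exists_degree_eq P hP θ hθP hM hBP hind hθ hχ
  intro hd
  have hpp : Prime (p : ℤ) := Nat.prime_iff_prime_int.mp hp.out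
  have h0 : (p : ℤ) ∣ ((conjs P θ).card : ℤ) * (charDegree (θ : (Subgroup.centralizer ((P : Subgroup G) : Set G)) → ℂ) : ℤ) *
      ∑ j : ZMod p, row P hP θ (χ : G → ℂ) j := by
    have h1 : (p : ℤ) ∣ (charDegree (χ : G → ℂ) : ℤ) := Int.natCast_dvd_natCast.mpr hd
    rw [ha] at h1
    exact (dvd_add_left ⟨a, rfl⟩).mp h1
  have hep : (Eset P hP θ).card ∣ p - 1 :=
    ⟨(orbits P hP θ).card, by rw [mul_comm, card_orbits_mul P hP θ]⟩
  rcases hpp.dvd_or_dvd h0 with h | h
  · rcases hpp.dvd_or_dvd h with h | h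
    · refine P.not_dvd_index ((Int.natCast_dvd_natCast.mp h).trans ((dvd_mul_right _ (Eset P hP θ).card).trans ?_))
      rw [card_conjs_mul]
      exact (Subgroup.relIndex_dvd_index_of_le (Subgroup.centralizer_le_normalizer _)).trans
        (Subgroup.index_dvd_of_le (le_centralizer P hP))
    · exact not_dvd_trivial_degree P hP θ (Int.natCast_dvd_natCast.mp h)
  · by_cases hY : χ ∈ Y
    · obtain ⟨i, hi, hrow⟩ := hS.row_Y χ hY
      have h0' : (0 : ZMod p) ∉ eOrbit P hP θ i := fun h => by
        obtain ⟨u, hu, hu'⟩ := (mem_eOrbit P hP θ).mp h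
        exact mul_ne_zero (ne_zero_of_mem P hP θ hu) hi hu'
      rw [Finset.sum_congr rfl fun j _ => show row P hP θ (χ : G → ℂ) j = if j ∈ eOrbit P hP θ i then σ else 0 by
          by_cases hj : j = 0
          · rw [hj, row_eq_zero P hP θ hθP, if_neg h0']
          · exact hrow j hj, ← Finset.sum_filter, Finset.filter_univ_mem, Finset.sum_const,
        card_eOrbit P hP θ hi, nsmul_eq_mul] at h
      rcases hpp.dvd_or_dvd h with h | h
      · have h2 := Nat.le_of_dvd (card_Eset_pos P hP θ) (Int.natCast_dvd_natCast.mp h)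
        have h3 := Nat.le_of_dvd (by have := hp.out.two_le; omega) hep
        have := hp.out.two_le
        omega
      · rcases hS.sign with h1 | h1 <;> rw [h1] at h <;>
          exact hpp.not_dvd_one (by simpa using h)
    · rw [← Finset.add_sum_erase _ _ (Finset.mem_univ (0 : ZMod p)), row_eq_zero P hP θ hθP, zero_add,
        Finset.sum_congr rfl fun j hj => hS.row_X χ hχ hY j (Finset.mem_erase.mp hj).1, Finset.sum_const,
        Finset.card_erase_of_mem (Finset.mem_univ _), Finset.card_univ, ZMod.card, nsmul_eq_mul,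
        Nat.cast_sub hp.out.one_le, Nat.cast_one, sub_mul, one_mul] at h
      have h1 : (p : ℤ) ∣ s χ := (dvd_sub_right (dvd_mul_right _ _)).mp h
      rcases hS.sign_X χ hχ hY with h2 | h2 <;> rw [h2] at h1 <;> exact hpp.not_dvd_one (by simpa using h1)

/-- The trivial characters of the centraliser. -/
def trivs : Finset (IrrCharacter (Subgroup.centralizer ((P : Subgroup G) : Set G))) :=
  haveI := Classical.propDecidable
  Finset.univ.filter fun θ => ∀ x : (Subgroup.centralizer ((P : Subgroup G) : Set G)), (x : G) ∈ (P : Subgroup G) → (θ : (Subgroup.centralizer ((P : Subgroup G) : Set G)) → ℂ) x = (θ : (Subgroup.centralizer ((P : Subgroup G) : Set G)) → ℂ) 1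

theorem mem_trivs {θ : IrrCharacter (Subgroup.centralizer ((P : Subgroup G) : Set G))} :
    θ ∈ trivs P ↔ ∀ x : (Subgroup.centralizer ((P : Subgroup G) : Set G)), (x : G) ∈ (P : Subgroup G) → (θ : (Subgroup.centralizer ((P : Subgroup G) : Set G)) → ℂ) x = (θ : (Subgroup.centralizer ((P : Subgroup G) : Set G)) → ℂ) 1 := by
  classical
  simp [trivs]

omit hθP in
include hP in
/-- **The count.** -/
theorem card_not_dvd_degree (hM : IsPModular p M) :
    ((Subgroup.centralizer ((P : Subgroup G) : Set G))).relIndex (Subgroup.normalizer ((P : Subgroup G) : Set G)) * Nat.card {χ : IrrCharacter G // ¬ p ∣ charDegree (χ : G → ℂ)} =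
      ∑ φ ∈ trivs P, (Eset P hP φ).card * ((Eset P hP φ).card + (p - 1) / (Eset P hP φ).card) := by
  classical
  set S : Finset (IrrCharacter G) := Finset.univ.filter fun χ => ¬ p ∣ charDegree (χ : G → ℂ) with hS
  let R : IrrCharacter G → IrrCharacter (Subgroup.centralizer ((P : Subgroup G) : Set G)) → Prop := fun χ φ =>
    IsInducedBlock M (Subgroup.centralizer ((P : Subgroup G) : Set G)) (blockOf M (φ : (Subgroup.centralizer ((P : Subgroup G) : Set G)) → ℂ)) (blockOf M (χ : G → ℂ))
  have hrow : ∀ φ ∈ trivs P, Nat.card {χ // χ ∈ S.filter fun χ => R χ φ} =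
      (Eset P hP φ).card + (p - 1) / (Eset P hP φ).card := by
    intro φ hφ
    obtain ⟨B, hind, hBP⟩ := exists_block_of_trivial (M := M) P hP hM φ
    obtain ⟨Y, s, σ, hSh⟩ := exists_shape P hP φ ((mem_trivs P).mp hφ) hM hBP hind (mem_blockOf_self φ)
    rw [← hSh.card_eq]
    refine Nat.card_congr (Equiv.subtypeEquivRight fun χ => ?_)
    simp only [hS, Finset.mem_filter, Finset.mem_univ, true_and, R]
    refine ⟨fun h => (inducedBlock_unique _ hind h.2) ▸ mem_blockOf_self χ, fun h => ⟨?_, ?_⟩⟩
    · exact not_dvd_degree_of_mem P hP ((mem_trivs P).mp hφ) hM hBP hind (mem_blockOf_self φ) h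
    · rwa [← isPBlock_eq_blockOf hind.2.1 h]
  have hcol : ∀ χ ∈ S, ∑ φ ∈ (trivs P).filter (R χ), (Eset P hP φ).card = ((Subgroup.centralizer ((P : Subgroup G) : Set G))).relIndex (Subgroup.normalizer ((P : Subgroup G) : Set G)) := by
    intro χ hχ
    have hB : IsPBlock M (blockOf M (χ : G → ℂ)) := isPBlock_blockOf χ
    have hBP := isDefectGroup_of_pos P hP hM hB
      (blockDefect_pos_of_not_dvd P hP (Finset.mem_filter.mp hχ).2)
    obtain ⟨b, θ, hθ, hind, hθP⟩ := exists_local P hP hM hBP hB
    have hset : (trivs P).filter (R χ) = conjs P θ := by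
      ext φ
      simp only [Finset.mem_filter, mem_trivs, mem_conjs, R]
      constructor
      · rintro ⟨hφ, hR⟩
        exact exists_thn P hP hθP hM hBP hind hθ hφ hR
      · rintro ⟨n, rfl⟩
        refine ⟨thn_trivial P hθP n, ?_⟩
        refine isInducedBlock_of_mem (Subgroup.centralizer ((P : Subgroup G) : Set G)) fun a => ?_
        have h := ((isInducedBlock_iff (Subgroup.centralizer ((P : Subgroup G) : Set G))).mp hind).2.2 θ hθ χ (mem_blockOf_self χ) a
        rw [← h, indBomega_apply, indBomega_apply, bomega_apply, bomega_apply]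
        refine congrArg (res M) (Subtype.ext ?_)
        rw [coe_zomega, coe_zomega, omega, omega, charLin_apply, charLin_apply,
          show (thn P θ n : (Subgroup.centralizer ((P : Subgroup G) : Set G)) → ℂ) 1 = (θ : (Subgroup.centralizer ((P : Subgroup G) : Set G)) → ℂ) 1 by rw [thn_apply, map_one]]
        congr 1
        refine Fintype.sum_equiv (cjC P n).toEquiv _ _ fun c => ?_
        simp only [MulEquiv.toEquiv_eq_coe, EquivLike.coe_coe, thn_apply, resIn, AddMonoidHom.coe_mk,
          ZeroHom.coe_mk, coeff_ofFun, coe_cjC]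
        rw [(mem_Zint_iff.mp a.2).2]
    rw [hset, Finset.sum_congr rfl fun φ hφ => ?_, Finset.sum_const, smul_eq_mul, card_conjs_mul P hP θ]
    obtain ⟨n, rfl⟩ := (mem_conjs P θ).mp hφ
    exact card_Eset_thn P hP θ n
  have h1 : ∑ χ ∈ S, ∑ φ ∈ (trivs P).filter (R χ), (Eset P hP φ).card = S.card * ((Subgroup.centralizer ((P : Subgroup G) : Set G))).relIndex (Subgroup.normalizer ((P : Subgroup G) : Set G)) := by
    rw [Finset.sum_congr rfl hcol, Finset.sum_const, smul_eq_mul]
  rw [Nat.card_eq_fintype_card, Fintype.card_subtype, ← hS, mul_comm, ← h1]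
  simp only [Finset.sum_filter]
  rw [Finset.sum_comm]
  refine Finset.sum_congr rfl fun φ hφ => ?_
  rw [← hrow φ hφ, Nat.card_eq_finsetCard, ← Finset.sum_filter, Finset.sum_const, smul_eq_mul, mul_comm]

end count

/-! ### Passing to the normaliser -/

section transfer

variable {G : Type*} [Group G] [Fintype G] {p : ℕ} [hp : Fact p.Prime] (P : Sylow p G) (hP : Nat.card P = p)

/-- The Sylow subgroup in its normaliser. -/
def PN : Sylow p (Subgroup.normalizer ((P : Subgroup G) : Set G)) := P.subtype Subgroup.le_normalizer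

theorem coe_PN : ((PN P : Sylow p (Subgroup.normalizer ((P : Subgroup G) : Set G))) : Subgroup (Subgroup.normalizer ((P : Subgroup G) : Set G))) = (P : Subgroup G).subgroupOf (Subgroup.normalizer ((P : Subgroup G) : Set G)) :=
  P.coe_subtype _

include hP in
theorem card_PN : Nat.card (PN P) = p := by
  rw [show Nat.card (PN P) = Nat.card ((PN P : Sylow p (Subgroup.normalizer ((P : Subgroup G) : Set G))) : Subgroup (Subgroup.normalizer ((P : Subgroup G) : Set G))) from rfl, coe_PN,
    Nat.card_congr (Subgroup.subgroupOfEquivOfLe Subgroup.le_normalizer).toEquiv]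
  exact hP

theorem mem_normalizer_PN (n : (Subgroup.normalizer ((P : Subgroup G) : Set G))) : n ∈ Subgroup.normalizer ((PN P : Subgroup (Subgroup.normalizer ((P : Subgroup G) : Set G))) : Set (Subgroup.normalizer ((P : Subgroup G) : Set G))) := by
  have : ((P : Subgroup G).subgroupOf (Subgroup.normalizer ((P : Subgroup G) : Set G))).Normal := Subgroup.normal_subgroupOf_of_le_normalizer le_rfl
  rw [coe_PN, Subgroup.normalizer_eq_top_iff.mpr this]
  trivial

theorem mem_centralizer_PN {n : (Subgroup.normalizer ((P : Subgroup G) : Set G))} :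
    n ∈ Subgroup.centralizer ((PN P : Subgroup (Subgroup.normalizer ((P : Subgroup G) : Set G))) : Set (Subgroup.normalizer ((P : Subgroup G) : Set G))) ↔ (n : G) ∈ (Subgroup.centralizer ((P : Subgroup G) : Set G)) := by
  simp only [coe_PN, Subgroup.mem_centralizer_iff, SetLike.mem_coe, Subgroup.mem_subgroupOf]
  exact ⟨fun h x hx => congrArg Subtype.val (h ⟨x, Subgroup.le_normalizer hx⟩ hx),
    fun h x hx => Subtype.ext (h (x : G) hx)⟩

/-- The two centralisers. -/
def cenEquiv : Subgroup.centralizer ((PN P : Subgroup (Subgroup.normalizer ((P : Subgroup G) : Set G))) : Set (Subgroup.normalizer ((P : Subgroup G) : Set G))) ≃* (Subgroup.centralizer ((P : Subgroup G) : Set G)) where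
  toFun c := ⟨((c : (Subgroup.normalizer ((P : Subgroup G) : Set G))) : G), (mem_centralizer_PN P).mp c.2⟩
  invFun c := ⟨⟨(c : G), Subgroup.centralizer_le_normalizer _ c.2⟩, (mem_centralizer_PN P).mpr c.2⟩
  left_inv _ := rfl
  right_inv _ := rfl
  map_mul' _ _ := rfl

theorem relIndex_eq : (Subgroup.centralizer ((PN P : Subgroup (Subgroup.normalizer ((P : Subgroup G) : Set G))) : Set (Subgroup.normalizer ((P : Subgroup G) : Set G)))).relIndex
    (Subgroup.normalizer ((PN P : Subgroup (Subgroup.normalizer ((P : Subgroup G) : Set G))) : Set (Subgroup.normalizer ((P : Subgroup G) : Set G)))) = ((Subgroup.centralizer ((P : Subgroup G) : Set G))).relIndex (Subgroup.normalizer ((P : Subgroup G) : Set G)) := by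
  rw [show Subgroup.normalizer ((PN P : Subgroup (Subgroup.normalizer ((P : Subgroup G) : Set G))) : Set (Subgroup.normalizer ((P : Subgroup G) : Set G))) = ⊤ from
      Subgroup.eq_top_iff' _ |>.mpr (mem_normalizer_PN P),
    show Subgroup.centralizer ((PN P : Subgroup (Subgroup.normalizer ((P : Subgroup G) : Set G))) : Set (Subgroup.normalizer ((P : Subgroup G) : Set G))) = ((Subgroup.centralizer ((P : Subgroup G) : Set G))).subgroupOf (Subgroup.normalizer ((P : Subgroup G) : Set G)) from
      Subgroup.ext fun n => mem_centralizer_PN P]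
  rw [Subgroup.relIndex_top_right]
  rfl

variable [Fintype (Subgroup.normalizer ((P : Subgroup G) : Set G))] [Fintype (Subgroup.centralizer ((P : Subgroup G) : Set G))] [Fintype (Subgroup.centralizer ((PN P : Subgroup (Subgroup.normalizer ((P : Subgroup G) : Set G))) : Set (Subgroup.normalizer ((P : Subgroup G) : Set G))))]
  [Fintype (Subgroup.normalizer ((PN P : Subgroup (Subgroup.normalizer ((P : Subgroup G) : Set G))) : Set (Subgroup.normalizer ((P : Subgroup G) : Set G))))]

/-- The transfer of characters. -/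
def cenIrr : IrrCharacter (Subgroup.centralizer ((P : Subgroup G) : Set G)) ≃ IrrCharacter (Subgroup.centralizer ((PN P : Subgroup (Subgroup.normalizer ((P : Subgroup G) : Set G))) : Set (Subgroup.normalizer ((P : Subgroup G) : Set G)))) where
  toFun θ := ⟨(θ : (Subgroup.centralizer ((P : Subgroup G) : Set G)) → ℂ) ∘ cenEquiv P, CfsgLib.CharNormal.isIrr_comp_mulEquiv θ.2 _⟩
  invFun θ := ⟨(θ : _ → ℂ) ∘ (cenEquiv P).symm, CfsgLib.CharNormal.isIrr_comp_mulEquiv θ.2 _⟩
  left_inv θ := Subtype.ext (funext fun c => by simp)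
  right_inv θ := Subtype.ext (funext fun c => by simp)

theorem cenIrr_thn (θ : IrrCharacter (Subgroup.centralizer ((P : Subgroup G) : Set G))) (n : Subgroup.normalizer ((PN P : Subgroup (Subgroup.normalizer ((P : Subgroup G) : Set G))) : Set (Subgroup.normalizer ((P : Subgroup G) : Set G)))) :
    thn (PN P) (cenIrr P θ) n = cenIrr P (thn P θ (n : (Subgroup.normalizer ((P : Subgroup G) : Set G)))) :=
  Subtype.ext (funext fun _ => rfl)

include hP in
theorem card_Eset_cenIrr (θ : IrrCharacter (Subgroup.centralizer ((P : Subgroup G) : Set G))) :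
    (Eset (PN P) (card_PN P hP) (cenIrr P θ)).card = (Eset P hP θ).card := by
  classical
  have h1 := card_conjs_mul P hP θ
  have h2 := card_conjs_mul (PN P) (card_PN P hP) (cenIrr P θ)
  have hc : conjs (PN P) (cenIrr P θ) = (conjs P θ).image (cenIrr P) := by
    ext φ
    simp only [mem_conjs, Finset.mem_image]
    constructor
    · rintro ⟨n, rfl⟩; exact ⟨_, ⟨_, rfl⟩, (cenIrr_thn P θ n).symm⟩
    · rintro ⟨_, ⟨n, rfl⟩, rfl⟩; exact ⟨⟨n, mem_normalizer_PN P n⟩, cenIrr_thn P θ _⟩
  rw [relIndex_eq, ← h1, hc, Finset.card_image_of_injective _ (cenIrr P).injective] at h2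
  exact Nat.eq_of_mul_eq_mul_left (Finset.card_pos.mpr ⟨θ, (mem_conjs P θ).mpr ⟨1, thn_one P θ⟩⟩) h2

theorem cenIrr_mem_trivs (θ : IrrCharacter (Subgroup.centralizer ((P : Subgroup G) : Set G))) : cenIrr P θ ∈ trivs (PN P) ↔ θ ∈ trivs P := by
  simp only [mem_trivs, coe_PN, Subgroup.mem_subgroupOf]
  exact ⟨fun h x hx => h ((cenEquiv P).symm x) hx, fun h x hx => h (cenEquiv P x) hx⟩

include hP in
/-- `G` and `N(P)` have equally many characters of degree prime to `p`. -/
theorem card_not_dvd_eq {M : Ideal AlgInt} [M.IsMaximal] (hM : IsPModular p M) :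
    Nat.card {χ : IrrCharacter G // ¬ p ∣ charDegree (χ : G → ℂ)} =
      Nat.card {χ : IrrCharacter (Subgroup.normalizer ((P : Subgroup G) : Set G)) // ¬ p ∣ charDegree (χ : (Subgroup.normalizer ((P : Subgroup G) : Set G)) → ℂ)} := by
  classical
  have h1 := card_not_dvd_degree (M := M) P hP hM
  have h2 := card_not_dvd_degree (M := M) (PN P) (card_PN P hP) hM
  rw [relIndex_eq] at h2
  have h3 : ∑ φ ∈ trivs P, (Eset P hP φ).card * ((Eset P hP φ).card + (p - 1) / (Eset P hP φ).card) =
      ∑ φ ∈ trivs (PN P), (Eset (PN P) (card_PN P hP) φ).card *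
        ((Eset (PN P) (card_PN P hP) φ).card + (p - 1) / (Eset (PN P) (card_PN P hP) φ).card) :=
    Finset.sum_equiv (cenIrr P) (fun θ => (cenIrr_mem_trivs P θ).symm) fun θ _ => by
      rw [card_Eset_cenIrr P hP θ]
  rw [h3, ← h2] at h1
  exact Nat.eq_of_mul_eq_mul_left (Nat.pos_of_ne_zero (Subgroup.index_ne_zero_of_finite :
    (((Subgroup.centralizer ((P : Subgroup G) : Set G))).subgroupOf (Subgroup.normalizer ((P : Subgroup G) : Set G))).index ≠ 0)) h1

end transfer

end CfsgLib.Blocks.PrimeBlock
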