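import Cfsg.Agent.Lib.Blocks.PrimeBlock
import Cfsg.Agent.Lib.Blocks.QuotientBlocks
import Cfsg.Agent.Lib.BrauerPairs.Stable
import Cfsg.Agent.Lib.CharNormal.Galois

/-!
# Defect group, local character and Galois action for blocks of a Sylow subgroup of prime order
-/

set_option autoImplicit false

noncomputable section

namespace CfsgLib.Blocks.PrimeBlock

open Cfsg PrimeSylow PrimeLocal
open scoped ComplexConjugate

variable {G : Type*} [Group G] [Fintype G] {p : ℕ} [hp : Fact p.Prime] (P : Sylow p G) (hP : Nat.card P = p)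
  {M : Ideal AlgInt} [M.IsMaximal]

local notation "ψ" => ZMod.stdAddChar

include hP in
/-- A block of positive defect has `P` as a defect group. -/
theorem isDefectGroup_of_pos (hM : IsPModular p M) {B : Set (IrrCharacter G)} (hB : IsPBlock M B)
    (hd : 0 < blockDefect p B) : IsDefectGroup p M B P := by
  obtain ⟨D, hD⟩ := exists_isDefectGroup (p := p) hB
  have hcard := card_defectGroup hM hB hD
  obtain ⟨Q, hQ⟩ := (IsDefectGroup.isPGroup hD).exists_le_sylow
  obtain ⟨c, hc⟩ := MulAction.exists_smul_eq G Q P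
  have hle : cj c D ≤ (P : Subgroup G) := by
    rw [← hc, Sylow.coe_subgroup_smul]
    exact cj_mono c hQ
  have hge : Nat.card (P : Subgroup G) ≤ Nat.card (cj c D) := by
    rw [card_cj, hcard, show Nat.card (P : Subgroup G) = p from hP]
    exact Nat.le_self_pow hd.ne' p
  have := IsDefectGroup.conj hB hD c
  rwa [Subgroup.eq_of_le_of_card_ge hle hge] at this

variable [Fintype (Subgroup.centralizer ((P : Subgroup G) : Set G))]

include hP in
/-- A block of the centraliser has a member trivial on `P`. -/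
theorem exists_trivial_mem (hM : IsPModular p M) {b : Set (IrrCharacter (Subgroup.centralizer ((P : Subgroup G) : Set G)))} (hb : IsPBlock M b) :
    ∃ θ ∈ b, ∀ x : (Subgroup.centralizer ((P : Subgroup G) : Set G)), (x : G) ∈ (P : Subgroup G) → (θ : (Subgroup.centralizer ((P : Subgroup G) : Set G)) → ℂ) x = (θ : (Subgroup.centralizer ((P : Subgroup G) : Set G)) → ℂ) 1 := by
  set Z := (P : Subgroup G).subgroupOf (Subgroup.centralizer ((P : Subgroup G) : Set G)) with hZ
  have hZC : ∀ c : (Subgroup.centralizer ((P : Subgroup G) : Set G)), c ∈ Subgroup.centralizer (Z : Set (Subgroup.centralizer ((P : Subgroup G) : Set G))) := fun c =>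
    Subgroup.mem_centralizer_iff.mpr fun z hz =>
      Subtype.ext (commute_of_mem P c.2 (Subgroup.mem_subgroupOf.mp hz)).eq
  have : Z.Normal := ⟨fun z hz c => by
    have h := Subgroup.mem_centralizer_iff.mp (hZC c) z hz
    rwa [← h, mul_inv_cancel_right]⟩
  let _ := Fintype.ofFinite ((Subgroup.centralizer ((P : Subgroup G) : Set G)) ⧸ Z)
  obtain ⟨χ, θ, hθ, he⟩ := exists_inflation_mem (P := Z) hM (P.isPGroup'.comap_subtype : IsPGroup p Z)
    ⟨0, by rw [pow_zero, Subgroup.index_eq_one]; exact Subgroup.eq_top_iff' _ |>.mpr hZC⟩ hb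
  refine ⟨θ, hθ, fun x hx => ?_⟩
  rw [he, Function.comp_apply, Function.comp_apply]
  rw [(QuotientGroup.eq_one_iff x).mpr (Subgroup.mem_subgroupOf.mpr hx : x ∈ Z), QuotientGroup.mk_one]

include hP in
/-- The local data of a block of positive defect. -/
theorem exists_local (hM : IsPModular p M) {B : Set (IrrCharacter G)} (hBP : IsDefectGroup p M B P)
    (hB : IsPBlock M B) : ∃ (b : Set (IrrCharacter (Subgroup.centralizer ((P : Subgroup G) : Set G)))) (θ : IrrCharacter (Subgroup.centralizer ((P : Subgroup G) : Set G))), θ ∈ b ∧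
      IsInducedBlock M (Subgroup.centralizer ((P : Subgroup G) : Set G)) b B ∧
      ∀ x : (Subgroup.centralizer ((P : Subgroup G) : Set G)), (x : G) ∈ (P : Subgroup G) → (θ : (Subgroup.centralizer ((P : Subgroup G) : Set G)) → ℂ) x = (θ : (Subgroup.centralizer ((P : Subgroup G) : Set G)) → ℂ) 1 := by
  obtain ⟨e, he⟩ := CfsgLib.BrauerPairs.exists_maximal_at hM hB hBP
  have heb : IsPBlock M e := he.1.1.2
  have hind := (CfsgLib.BrauerPairs.brauerPairOf_iff_induced hM P.isPGroup' heb hB).mp he.1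
  obtain ⟨θ, hθ, hθP⟩ := exists_trivial_mem P hP hM heb
  exact ⟨e, θ, hθ, hind, hθP⟩

/-! ### Galois action -/

/-- The order of `G` prime to `p`. -/
abbrev gp (p : ℕ) (G : Type*) : ℕ := Nat.card G / p ^ (Nat.card G).factorization p

variable {σ : ℂ ≃+* ℂ}

omit [M.IsMaximal] [Fintype (Subgroup.centralizer ((P : Subgroup G) : Set G))] in
theorem fix_roots (hσ : σ (Complex.exp (2 * Real.pi * Complex.I / (gp p G : ℕ))) =
    Complex.exp (2 * Real.pi * Complex.I / (gp p G : ℕ))) {z : ℂ} (hz : z ^ gp p G = 1) : σ z = z := by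
  have h0 : gp p G ≠ 0 := (Nat.ordCompl_pos p Nat.card_pos.ne').ne'
  have : NeZero (gp p G) := ⟨h0⟩
  obtain ⟨i, -, rfl⟩ := (Complex.isPrimitiveRoot_exp (gp p G) h0).eq_pow_of_pow_eq_one hz
  rw [map_pow, hσ]

omit [M.IsMaximal] [Fintype (Subgroup.centralizer ((P : Subgroup G) : Set G))] in
theorem fix_regular {H : Type*} [Group H] [Finite H] {θ : H → ℂ} (hθ : IsCharacter H θ)
    (hσ : σ (Complex.exp (2 * Real.pi * Complex.I / (gp p G : ℕ))) =
      Complex.exp (2 * Real.pi * Complex.I / (gp p G : ℕ))) {h : H} (hh : orderOf h ∣ gp p G) :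
    σ (θ h) = θ h := by
  obtain ⟨d, ρ, rfl⟩ := hθ
  obtain ⟨z, hz, hsum⟩ := CfsgLib.Char.exists_roots_char ρ h
  rw [hsum, map_sum]
  exact Finset.sum_congr rfl fun i _ => fix_roots hσ (by
    obtain ⟨c, hc⟩ := hh
    rw [hc, pow_mul, hz i, one_pow])

omit [M.IsMaximal] [Fintype (Subgroup.centralizer ((P : Subgroup G) : Set G))] in
theorem orderOf_dvd_gp {g : G} (hg : ¬ p ∣ orderOf g) : orderOf g ∣ gp p G :=
  (((Nat.Prime.coprime_iff_not_dvd hp.out).mpr hg).symm.pow_right _).dvd_of_dvd_mul_left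
    (by rw [Nat.ordProj_mul_ordCompl_eq_self]; exact orderOf_dvd_natCard g)

omit [M.IsMaximal] [Fintype (Subgroup.centralizer ((P : Subgroup G) : Set G))] [Fintype G] in
theorem exists_shift (σ : ℂ ≃+* ℂ) : ∃ m : ZMod p, m ≠ 0 ∧ ∀ a : ZMod p, σ (ψ a) = ψ (m * a) := by
  have : NeZero p := ⟨hp.out.ne_zero⟩
  have h1 : (ψ (1 : ZMod p) : ℂ) = Complex.exp (2 * Real.pi * Complex.I / p) := by
    have := ZMod.stdAddChar_coe (N := p) 1
    simpa using this
  have hprim : IsPrimitiveRoot (ψ (1 : ZMod p) : ℂ) p := h1 ▸ Complex.isPrimitiveRoot_exp p hp.out.ne_zero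
  obtain ⟨m, hm, hmσ⟩ := hprim.eq_pow_of_pow_eq_one (ξ := σ (ψ (1 : ZMod p))) (by
    rw [← map_pow, hprim.pow_eq_one, map_one])
  have hall : ∀ a : ZMod p, σ (ψ a) = ψ ((m : ZMod p) * a) := fun a => by
    conv_lhs => rw [← ZMod.natCast_zmod_val a, ← nsmul_one, AddChar.map_nsmul_eq_pow, map_pow, ← hmσ,
      ← AddChar.map_nsmul_eq_pow, ← AddChar.map_nsmul_eq_pow]
    rw [nsmul_one, nsmul_eq_mul, ZMod.natCast_zmod_val, mul_comm]
  refine ⟨m, fun h0 => ?_, hall⟩
  have h2 := hall 1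
  rw [h0, zero_mul, AddChar.map_zero_eq_one, ← map_one σ] at h2
  exact hprim.ne_one hp.out.one_lt (σ.injective h2)

variable [Fintype (Subgroup.normalizer ((P : Subgroup G) : Set G))] (θ : IrrCharacter (Subgroup.centralizer ((P : Subgroup G) : Set G)))

omit [M.IsMaximal] in
theorem coef_galois (hσ : σ (Complex.exp (2 * Real.pi * Complex.I / (gp p G : ℕ))) =
    Complex.exp (2 * Real.pi * Complex.I / (gp p G : ℕ))) (f : G → ℂ) (i : ZMod p) :
    coef P hP θ (fun g => σ (f g)) i = σ (coef P hP θ f i) := by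
  rw [coef, coef, map_mul, map_div₀, map_natCast, map_natCast, map_sum]
  refine congrArg _ (Finset.sum_congr rfl fun y _ => ?_)
  split_ifs with hy
  · rw [map_zero]
  · rw [map_mul, ← CfsgLib.Char.char_inv (CfsgLib.Char.isCharacter_of_isIrr θ.2),
      fix_regular (CfsgLib.Char.isCharacter_of_isIrr θ.2) hσ]
    rw [orderOf_inv, ← Subgroup.orderOf_coe]
    exact orderOf_dvd_gp (by rwa [Subgroup.orderOf_coe])

variable (hθP : ∀ x : (Subgroup.centralizer ((P : Subgroup G) : Set G)), (x : G) ∈ (P : Subgroup G) → (θ : (Subgroup.centralizer ((P : Subgroup G) : Set G)) → ℂ) x = (θ : (Subgroup.centralizer ((P : Subgroup G) : Set G)) → ℂ) 1)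

omit [M.IsMaximal] in
include hθP in
/-- A Galois automorphism fixing the regular values shifts the rows. -/
theorem row_galois (hσ : σ (Complex.exp (2 * Real.pi * Complex.I / (gp p G : ℕ))) =
    Complex.exp (2 * Real.pi * Complex.I / (gp p G : ℕ))) {m : ZMod p} (hm : m ≠ 0)
    (hmσ : ∀ a : ZMod p, σ (ψ a) = ψ (m * a)) {χ χ' : IrrCharacter G}
    (hχ : (χ' : G → ℂ) = fun g => σ ((χ : G → ℂ) g)) (j : ZMod p) :
    row P hP θ (χ' : G → ℂ) (m * j) = row P hP θ (χ : G → ℂ) j := by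
  refine Int.cast_injective (α := ℂ) ?_
  rw [coe_row P hP θ hθP, ← map_intCast σ (row P hP θ (χ : G → ℂ) j), coe_row P hP θ hθP, rowC, rowC, hχ,
    map_mul, map_inv₀, map_natCast, map_sum]
  refine congrArg _ (Finset.sum_congr rfl fun i _ => ?_)
  rw [coef_galois P hP θ hσ, map_mul, map_sub, map_one, hmσ, show m * -(j * i) = -(m * j * i) by ring]

variable {B : Set (IrrCharacter G)} {b : Set (IrrCharacter (Subgroup.centralizer ((P : Subgroup G) : Set G)))}

include hθP in
/-- Members of the block with the same rows and the same regular values are equal. -/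
theorem ext_of_row (hM : IsPModular p M) (hBP : IsDefectGroup p M B P) (hind : IsInducedBlock M (Subgroup.centralizer ((P : Subgroup G) : Set G)) b B)
    (hθ : θ ∈ b) {χ χ' : IrrCharacter G} (hχ : χ ∈ B) (hχ' : χ' ∈ B)
    (hreg : ∀ g : G, ¬ p ∣ orderOf g → (χ : G → ℂ) g = (χ' : G → ℂ) g)
    (hrow : ∀ j, j ≠ 0 → row P hP θ (χ : G → ℂ) j = row P hP θ (χ' : G → ℂ) j) : χ = χ' := by
  classical
  have hrow' : ∀ j, row P hP θ (χ : G → ℂ) j = row P hP θ (χ' : G → ℂ) j := fun j => by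
    by_cases hj : j = 0
    · rw [hj, row_eq_zero P hP θ hθP, row_eq_zero P hP θ hθP]
    · exact hrow j hj
  have hc : ∀ i : ZMod p, i ≠ 0 → coef P hP θ (χ : G → ℂ) i = coef P hP θ (χ' : G → ℂ) i := fun i hi => by
    rw [coef_eq_sum_rowC P hP θ _ hi, coef_eq_sum_rowC P hP θ _ hi]
    exact Finset.sum_congr rfl fun j _ => by rw [← coe_row P hP θ hθP, ← coe_row P hP θ hθP, hrow']
  refine Subtype.ext (funext fun g => ?_)
  by_cases hg : p ∣ orderOf g
  swap
  · exact hreg g hg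
  obtain ⟨z, hz⟩ := exists_isPPart (p := p) g
  have hz1 : z ≠ 1 := fun h => (isPPart_one_iff.mp (h ▸ hz)) hg
  obtain ⟨y, hzy, hcomm, ⟨k, hk⟩, hy⟩ := hz
  obtain ⟨Q, hQ⟩ := (IsPGroup.of_card (n := k) (show Nat.card (Subgroup.zpowers z) = p ^ k by
    rw [Nat.card_zpowers, hk])).exists_le_sylow
  obtain ⟨c, hc'⟩ := MulAction.exists_smul_eq G Q P
  have hzP : c * z * c⁻¹ ∈ (P : Subgroup G) := by
    rw [← hc', Sylow.coe_subgroup_smul]
    exact ⟨z, hQ (Subgroup.mem_zpowers z), by simp⟩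
  obtain ⟨i, hi⟩ := pw_surjOn P hP hzP
  have hi0 : i ≠ 0 := fun h => hz1 (by
    rw [h, pw_zero] at hi
    exact (conj_eq_one_iff (a := c)).mp hi.symm)
  have hcy : c * y * c⁻¹ ∈ (Subgroup.centralizer ((P : Subgroup G) : Set G)) := by
    rw [← centralizer_pw P hP hi0, hi, Subgroup.mem_centralizer_singleton_iff]
    calc c * y * c⁻¹ * (c * z * c⁻¹) = c * (y * z) * c⁻¹ := by group
      _ = c * (z * y) * c⁻¹ := by rw [hcomm.eq]
      _ = c * z * c⁻¹ * (c * y * c⁻¹) := by group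
  have hy' : ¬ p ∣ orderOf (⟨_, hcy⟩ : (Subgroup.centralizer ((P : Subgroup G) : Set G))) := by
    rwa [Subgroup.orderOf_mk, show c * y * c⁻¹ = MulAut.conj c y by simp, MulEquiv.orderOf_eq]
  rw [← CfsgLib.Char.isClassFunction_of_isIrr χ.2 g c, ← CfsgLib.Char.isClassFunction_of_isIrr χ'.2 g c,
    show c * g * c⁻¹ = pw P hP i * ((⟨_, hcy⟩ : (Subgroup.centralizer ((P : Subgroup G) : Set G))) : G) by rw [hi, ← hzy]; group,
    value_conjs P hP θ hθP hM hBP hind hθ hχ hi0 hy', value_conjs P hP θ hθP hM hBP hind hθ hχ' hi0 hy']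
  refine Finset.sum_congr rfl fun φ hφ => ?_
  obtain ⟨n, rfl⟩ := (mem_conjs P θ).mp hφ
  rw [coef_thn P hP (CfsgLib.Char.isClassFunction_of_isIrr χ.2) θ n i,
    coef_thn P hP (CfsgLib.Char.isClassFunction_of_isIrr χ'.2) θ n i,
    hc _ (mul_ne_zero (rho_ne_zero P hP n) hi0)]

include hθP in
theorem mem_of_row_ne_zero (hM : IsPModular p M) (hind : IsInducedBlock M (Subgroup.centralizer ((P : Subgroup G) : Set G)) b B) (hθ : θ ∈ b)
    {χ : IrrCharacter G} {j : ZMod p} (h : row P hP θ (χ : G → ℂ) j ≠ 0) : χ ∈ B := by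
  classical
  by_contra hχ
  refine h (Int.cast_injective (α := ℂ) ?_)
  rw [coe_row P hP θ hθP, rowC, Int.cast_zero, Finset.sum_eq_zero, mul_zero]
  intro i _
  by_cases hi : i = 0
  · subst hi; simp
  · rw [coef_eq_zero_of_notMem P hP hM hind hθ hχ hi, mul_zero]

omit hp [M.IsMaximal] [Fintype (Subgroup.centralizer ((P : Subgroup G) : Set G))] [Fintype (Subgroup.normalizer ((P : Subgroup G) : Set G))] in
theorem exists_galois_image (σ : ℂ ≃+* ℂ) (χ : IrrCharacter G) :
    ∃ χ' : IrrCharacter G, (χ' : G → ℂ) = fun g => σ ((χ : G → ℂ) g) := by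
  have hc := CfsgLib.Char.isCharacter_of_isIrr χ.2
  refine ⟨⟨σ ∘ (χ : G → ℂ), CfsgLib.Char.irr_of_norm_one (CfsgLib.CharNormal.isCharacter_ringEquiv σ hc) ?_⟩, rfl⟩
  rw [CfsgLib.CharNormal.classInner_ringEquiv σ _ hc, CfsgLib.Char.classInner_irr_self χ.2, map_one]

omit [M.IsMaximal] [Fintype (Subgroup.centralizer ((P : Subgroup G) : Set G))] [Fintype (Subgroup.normalizer ((P : Subgroup G) : Set G))] in
include hP in
/-- Every shift occurs. -/
theorem exists_ringEquiv_shift {m : ZMod p} (hm : m ≠ 0) :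
    ∃ σ : ℂ ≃+* ℂ, σ (Complex.exp (2 * Real.pi * Complex.I / (gp p G : ℕ))) =
      Complex.exp (2 * Real.pi * Complex.I / (gp p G : ℕ)) ∧ ∀ a : ZMod p, σ (ψ a) = ψ (m * a) := by
  have : NeZero p := ⟨hp.out.ne_zero⟩
  have hfac : (Nat.card G).factorization p = 1 := factorization_card P hP
  have hG : p * gp p G = Nat.card G := by
    have := Nat.ordProj_mul_ordCompl_eq_self (Nat.card G) p
    rwa [hfac, pow_one, show Nat.card G / p = gp p G by rw [gp, hfac, pow_one]] at this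
  have hcop : p.Coprime (gp p G) := (hp.out.coprime_iff_not_dvd).mpr (Nat.not_dvd_ordCompl hp.out Nat.card_pos.ne')
  obtain ⟨k, hk1, hk2⟩ := Nat.chineseRemainder hcop m.val 1
  have hkp : (k : ZMod p) = m := by rw [(ZMod.natCast_eq_natCast_iff _ _ _).mpr hk1, ZMod.natCast_zmod_val]
  have hkc : k.Coprime (Nat.card G) := by
    rw [← hG]
    refine Nat.Coprime.mul_right ((hp.out.coprime_iff_not_dvd.mpr fun h => hm ?_).symm) ?_
    · rw [← hkp, ZMod.natCast_eq_zero_iff]; exact h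
    · exact Nat.coprime_iff_gcd_eq_one.mpr (hk2.gcd_eq.trans (Nat.gcd_one_left _))
  obtain ⟨σ, hσ⟩ := CfsgLib.CharNormal.exists_ringEquiv_root_pow Nat.card_pos.ne' hkc
  refine ⟨σ, ?_, fun a => ?_⟩
  · have hprim := Complex.isPrimitiveRoot_exp (gp p G) (Nat.ordCompl_pos p Nat.card_pos.ne').ne'
    rw [hσ _ (by rw [← hG, Nat.mul_comm p, pow_mul, hprim.pow_eq_one, one_pow])]
    conv_rhs => rw [← pow_one (Complex.exp _)]
    rw [pow_eq_pow_mod k hprim.pow_eq_one, pow_eq_pow_mod 1 hprim.pow_eq_one, hk2]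
  · have hpow : (ψ a : ℂ) ^ Nat.card G = 1 := by
      rw [← hG, pow_mul, ← AddChar.map_nsmul_eq_pow, nsmul_eq_mul, ZMod.natCast_self, zero_mul,
        AddChar.map_zero_eq_one, one_pow]
    rw [hσ _ hpow, ← AddChar.map_nsmul_eq_pow, nsmul_eq_mul, hkp]

end CfsgLib.Blocks.PrimeBlock
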