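import Cfsg.Agent.Lib.Blocks.QuaternionKernelSpan
import Cfsg.Agent.Lib.Blocks.KleinRank
import Cfsg.Agent.Lib.Blocks.QuotientBlocks
import Cfsg.Agent.Lib.Blocks.Laradji
import Cfsg.Agent.Lib.Blocks.TwoLocal
import Cfsg.Agent.Lib.Invol.ZStarFinal

/-!
# The principal 2-block for a quaternion Sylow subgroup of order eight

The centre `⟨t⟩` has order two and `G ⧸ ⟨t⟩` has a Klein four Sylow subgroup; the characters of the
block on which `t` is trivial are the four inflated ones, the others vanish outside `⟨t⟩ × regular`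
and span on the regular elements the same space of dimension three.
-/

set_option autoImplicit false

noncomputable section

universe u

namespace CfsgLib.Blocks.QuaternionBlock

open Cfsg CfsgLib.Blocks
open scoped ComplexConjugate

local notation "Q8" => QuaternionGroup 2

theorem q8_cases : ∀ x : Q8, x * x = 1 ∨ x * x = .a 2 := by decide

theorem q8_centralizer : ∀ x y : Q8, x * x ≠ 1 → y * x = x * y →
    y = 1 ∨ y = x ∨ y = x * x ∨ y = x * x * x := by decide

variable {G : Type u} [Group G] [Finite G] (S : Sylow 2 G) (e : (S : Subgroup G) ≃* Q8)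
  (hO : ∀ N : Subgroup G, N.Normal → Odd (Nat.card N) → N = ⊥)

include e in
theorem card_S : Nat.card (S : Subgroup G) = 8 := by
  rw [Nat.card_congr e.toEquiv, Nat.card_eq_fintype_card, QuaternionGroup.card]

include e hO in
theorem card_center : Nat.card (Subgroup.center G) = 2 :=
  CfsgLib.Invol.brauer_suzuki CfsgLib.Invol.constTwo S 0 e hO

include e hO in
theorem isPGroup_center : IsPGroup 2 (Subgroup.center G) :=
  IsPGroup.of_card (n := 1) (by rw [card_center S e hO, pow_one])

include e hO in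
theorem center_le : Subgroup.center G ≤ (S : Subgroup G) := by
  intro z hz
  obtain ⟨P, hP⟩ := (isPGroup_center S e hO).exists_le_sylow
  obtain ⟨g, hg⟩ := MulAction.exists_smul_eq G P S
  have h1 : g * z * g⁻¹ ∈ ((g • P : Sylow 2 G) : Subgroup G) := by
    rw [Sylow.coe_subgroup_smul]
    exact ⟨z, hP hz, rfl⟩
  rw [hg, Subgroup.mem_center_iff.1 hz g, mul_inv_cancel_right] at h1
  exact h1

include e hO in
theorem exists_t : ∃ (t : G) (ht : t ∈ Subgroup.center G), orderOf t = 2 ∧
    (∀ z ∈ Subgroup.center G, z = 1 ∨ z = t) ∧ e ⟨t, center_le S e hO ht⟩ = .a 2 := by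
  have h2 := card_center S e hO
  obtain ⟨t, ht⟩ := exists_prime_orderOf_dvd_card' (G := Subgroup.center G) 2 (by rw [h2])
  refine ⟨(t : G), t.2, by rwa [Subgroup.orderOf_coe], ?_, ?_⟩
  · intro z hz
    have htne : (t : G) ≠ 1 := fun h => by
      rw [show t = 1 from Subtype.ext h, orderOf_one] at ht
      exact absurd ht (by norm_num)
    by_contra hne
    push Not at hne
    have h3 : ({⟨z, hz⟩, t, 1} : Set (Subgroup.center G)).ncard = 3 := by
      rw [Set.ncard_insert_of_notMem, Set.ncard_pair]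
      · exact fun h => htne (by rw [h]; rfl)
      · simp only [Set.mem_insert_iff, Set.mem_singleton_iff, not_or]
        exact ⟨fun h => hne.2 (congrArg Subtype.val h), fun h => hne.1 (congrArg Subtype.val h)⟩
    have := Set.ncard_le_card ({⟨z, hz⟩, t, 1} : Set (Subgroup.center G))
    omega
  · set T : (S : Subgroup G) := ⟨t, center_le S e hO t.2⟩
    have hT : orderOf T = 2 := by
      rw [← Subgroup.orderOf_coe]
      show orderOf (t : G) = 2
      rwa [Subgroup.orderOf_coe]
    have hsq : e T ^ 2 = 1 := by rw [← map_pow, orderOf_dvd_iff_pow_eq_one.1 hT.dvd, map_one]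
    rcases (TwoLocal.q8_sq_eq_one (e T)).2 hsq with h | h
    · rw [MulEquiv.map_eq_one_iff] at h
      rw [h, orderOf_one] at hT
      exact absurd hT (by norm_num)
    · exact h

include e hO in
theorem sq_mem {s : G} (hs : s ∈ (S : Subgroup G)) : s * s ∈ Subgroup.center G := by
  obtain ⟨t, ht, -, -, het⟩ := exists_t S e hO
  rcases q8_cases (e ⟨s, hs⟩) with h | h
  · rw [← map_mul, MulEquiv.map_eq_one_iff] at h
    rw [show s * s = 1 from congrArg Subtype.val h]
    exact one_mem _
  · rw [← map_mul, ← het] at h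
    rw [show s * s = t from congrArg Subtype.val (e.injective h)]
    exact ht

include e hO in
theorem sq_ne_one {s : G} (hs : s ∈ (S : Subgroup G)) (hsZ : s ∉ Subgroup.center G) : s * s ≠ 1 := by
  obtain ⟨t, ht, -, -, het⟩ := exists_t S e hO
  intro h
  have h2 : e ⟨s, hs⟩ ^ 2 = 1 := by
    rw [← map_pow, show (⟨s, hs⟩ : (S : Subgroup G)) ^ 2 = 1 from Subtype.ext (by simp [pow_two, h]),
      map_one]
  rcases (TwoLocal.q8_sq_eq_one (e ⟨s, hs⟩)).2 h2 with h1 | h1
  · rw [MulEquiv.map_eq_one_iff] at h1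
    exact hsZ (by rw [show s = 1 from congrArg Subtype.val h1]; exact one_mem _)
  · rw [← het] at h1
    exact hsZ (by rw [show s = t from congrArg Subtype.val (e.injective h1)]; exact ht)

include e hO in
theorem orderOf_eq_four {s : G} (hs : s ∈ (S : Subgroup G)) (hsZ : s ∉ Subgroup.center G) :
    orderOf s = 4 := by
  refine orderOf_eq_prime_pow (p := 2) (n := 1) (by rw [pow_one, pow_two]; exact sq_ne_one S e hO hs hsZ) ?_
  have h : (⟨s, hs⟩ : (S : Subgroup G)) ^ 4 = 1 := e.injective (by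
    rw [map_pow, (TwoLocal.q8_sq_eq_one (e ⟨s, hs⟩)).1, map_one])
  exact congrArg Subtype.val h

include e hO in
/-- The centraliser of an element of order four has a normal 2-complement. -/
theorem index_core_centralizer {s : G} (hs : s ∈ (S : Subgroup G)) (hsZ : s ∉ Subgroup.center G) :
    ∃ k : ℕ, (pPrimeCore 2 (Subgroup.centralizer ({s} : Set G))).index = 2 ^ k := by
  set C := Subgroup.centralizer ({s} : Set G) with hC
  have h4 := orderOf_eq_four S e hO hs hsZ
  set σ : C := ⟨s, Subgroup.mem_centralizer_singleton_iff.2 rfl⟩ with hσ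
  have hσ4 : orderOf σ = 4 := by rw [← Subgroup.orderOf_coe]; exact h4
  have hcen : σ ∈ Subgroup.center C := Subgroup.mem_center_iff.2 fun c =>
    Subtype.ext (Subgroup.mem_centralizer_singleton_iff.1 c.2)
  have hp : IsPGroup 2 (Subgroup.zpowers σ) := IsPGroup.of_card (n := 2) (by rw [Nat.card_zpowers, hσ4]; norm_num)
  obtain ⟨P, hP⟩ := hp.exists_le_sylow
  have hPeq : (P : Subgroup C) = Subgroup.zpowers σ := by
    refine le_antisymm (fun c hc => ?_) hP
    obtain ⟨U, hU⟩ := (P.2.map C.subtype).exists_le_sylow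
    obtain ⟨g, hg⟩ := MulAction.exists_smul_eq G U S
    have hin : ∀ d : C, d ∈ (P : Subgroup C) → g * (d : G) * g⁻¹ ∈ (S : Subgroup G) := by
      intro d hd
      rw [← hg, Sylow.coe_subgroup_smul]
      exact ⟨(d : G), hU ⟨d, hd, rfl⟩, rfl⟩
    have h1 := hin σ (hP (Subgroup.mem_zpowers σ))
    have h2 := hin c hc
    have hne : e ⟨_, h1⟩ * e ⟨_, h1⟩ ≠ 1 := by
      rw [← map_mul, Ne, MulEquiv.map_eq_one_iff]
      intro h
      have h3 : g * (s * s) * g⁻¹ = 1 := by
        rw [← show g * s * g⁻¹ * (g * s * g⁻¹) = g * (s * s) * g⁻¹ by group]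
        exact congrArg Subtype.val h
      exact sq_ne_one S e hO hs hsZ (conj_eq_one_iff.1 h3)
    have hcomm : e ⟨_, h2⟩ * e ⟨_, h1⟩ = e ⟨_, h1⟩ * e ⟨_, h2⟩ := by
      rw [← map_mul, ← map_mul]
      refine congrArg e (Subtype.ext ?_)
      show g * (c : G) * g⁻¹ * (g * s * g⁻¹) = g * s * g⁻¹ * (g * (c : G) * g⁻¹)
      rw [show g * (c : G) * g⁻¹ * (g * s * g⁻¹) = g * ((c : G) * s) * g⁻¹ by group,
        Subgroup.mem_centralizer_singleton_iff.1 c.2]
      group
    have hval : ∀ k : ℕ, e ⟨_, h2⟩ = (e ⟨_, h1⟩) ^ k → c ∈ Subgroup.zpowers σ := by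
      intro k hk
      rw [← map_pow] at hk
      have h3 : g * (c : G) * g⁻¹ = (g * s * g⁻¹) ^ k := congrArg Subtype.val (e.injective hk)
      rw [conj_pow] at h3
      refine ⟨(k : ℤ), Subtype.ext ?_⟩
      simp only [zpow_natCast, SubgroupClass.coe_pow]
      exact (mul_left_cancel (mul_right_cancel h3)).symm
    rcases q8_centralizer _ _ hne hcomm with h | h | h | h
    · exact hval 0 (by rw [pow_zero]; exact h)
    · exact hval 1 (by rw [pow_one]; exact h)
    · exact hval 2 (by rw [pow_two]; exact h)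
    · exact hval 3 (by rw [pow_succ, pow_two]; exact h)
  have hle : Subgroup.normalizer ((P : Subgroup C) : Set C) ≤ Subgroup.centralizer ((P : Subgroup C) : Set C) := by
    intro n _
    rw [hPeq, Subgroup.mem_centralizer_iff]
    intro x hx
    exact (Subgroup.mem_center_iff.1 ((Subgroup.zpowers_le.2 hcen) hx) n).symm
  have hcompl := MonoidHom.ker_transferSylow_isComplement' P hle
  set N := (MonoidHom.transferSylow P hle).ker
  have hidx : N.index = Nat.card (P : Subgroup C) := hcompl.symm.index_eq_card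
  obtain ⟨k, hk⟩ := P.2.exists_card_eq
  have hNle : N ≤ pPrimeCore 2 C := by
    refine CfsgLib.Cores.le_pPrimeCore ?_
    exact (Nat.prime_two.coprime_iff_not_dvd.2 (MonoidHom.not_dvd_card_ker_transferSylow P hle)).symm
  have hdvd := Subgroup.index_dvd_of_le hNle
  rw [hidx, hk] at hdvd
  obtain ⟨j, -, hj⟩ := (Nat.dvd_prime_pow Nat.prime_two).1 hdvd
  exact ⟨j, hj⟩

variable (hG : (S : Subgroup G) ≠ ⊤)

include hO hG in
theorem no_complement (N : Subgroup G) (hN : N.Normal) :
    ¬ Subgroup.IsComplement' N (S : Subgroup G) := by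
  intro hc
  refine hG ?_
  have hodd : Odd (Nat.card N) := by
    rw [← hc.index_eq_card]
    exact Nat.odd_iff.2 (Nat.two_dvd_ne_zero.1 S.not_dvd_index)
  rw [hO N hN hodd] at hc
  exact (Subgroup.isComplement'_bot_left.1 hc)

include e hO in
theorem klein_image (T : Sylow 2 (G ⧸ Subgroup.center G))
    (hT : (T : Subgroup (G ⧸ Subgroup.center G)) = (S : Subgroup G).map (QuotientGroup.mk' _)) :
    IsKleinFour (T : Subgroup (G ⧸ Subgroup.center G)) := by
  have hcard : Nat.card (T : Subgroup (G ⧸ Subgroup.center G)) = 4 := by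
    have h1 := T.card_eq_multiplicity
    have h2 := S.card_eq_multiplicity
    rw [card_S S e, Subgroup.card_eq_card_quotient_mul_card_subgroup (Subgroup.center G),
      card_center S e hO, Nat.factorization_mul Nat.card_pos.ne' two_ne_zero, Finsupp.add_apply,
      Nat.prime_two.factorization_self] at h2
    have h3 : (2 : ℕ) ^ 3 = 8 := by norm_num
    rw [← h3] at h2
    have h4 := Nat.pow_right_injective le_rfl h2
    rw [h1, show (Nat.card (G ⧸ Subgroup.center G)).factorization 2 = 2 by omega]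
    norm_num
  have hsq : ∀ x : (T : Subgroup (G ⧸ Subgroup.center G)), x ^ 2 = 1 := by
    rintro ⟨x, hx⟩
    rw [hT] at hx
    obtain ⟨s, hs, rfl⟩ := hx
    refine Subtype.ext ?_
    show (QuotientGroup.mk' (Subgroup.center G) s) ^ 2 = 1
    rw [← map_pow, QuotientGroup.mk'_apply, QuotientGroup.eq_one_iff, pow_two]
    exact sq_mem S e hO hs
  have : Nontrivial (T : Subgroup (G ⧸ Subgroup.center G)) :=
    Finite.one_lt_card_iff_nontrivial.1 (by omega)
  exact ⟨hcard, (Monoid.exponent_eq_prime_iff Nat.prime_two).2 fun g hg => orderOf_eq_prime (hsq g) hg⟩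

include e hO in
theorem exists_conj_into {u : G ⧸ Subgroup.center G} {k : ℕ} (hu : orderOf u = 2 ^ k) :
    ∃ g : G ⧸ Subgroup.center G, ∃ s ∈ (S : Subgroup G),
      g * u * g⁻¹ = (s : G ⧸ Subgroup.center G) := by
  obtain ⟨U, hU⟩ := (IsPGroup.of_card (n := k) (G := Subgroup.zpowers u)
    (by rw [Nat.card_zpowers, hu])).exists_le_sylow (p := 2)
  let T : Sylow 2 (G ⧸ Subgroup.center G) := S.mapSurjective (QuotientGroup.mk'_surjective _)
  obtain ⟨g, hg⟩ := MulAction.exists_smul_eq (G ⧸ Subgroup.center G) U T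
  have h1 : g * u * g⁻¹ ∈ ((g • U : Sylow 2 _) : Subgroup (G ⧸ Subgroup.center G)) := by
    rw [Sylow.coe_subgroup_smul]
    exact ⟨u, hU (Subgroup.mem_zpowers u), rfl⟩
  rw [hg] at h1
  obtain ⟨s, hs, hse⟩ := h1
  exact ⟨g, s, hs, hse.symm⟩

include e hO hG in
theorem one_class (u v : G ⧸ Subgroup.center G) (hu : orderOf u = 2) (hv : orderOf v = 2) :
    IsConj u v := by
  obtain ⟨g, s, hs, hgs⟩ := exists_conj_into S e hO (k := 1) (hu.trans (pow_one 2).symm)
  obtain ⟨h, r, hr, hhr⟩ := exists_conj_into S e hO (k := 1) (hv.trans (pow_one 2).symm)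
  have hsZ : s ∉ Subgroup.center G := fun hm => by
    rw [(QuotientGroup.eq_one_iff s).2 hm, conj_eq_one_iff] at hgs
    rw [hgs, orderOf_one] at hu
    exact absurd hu (by norm_num)
  have hrZ : r ∉ Subgroup.center G := fun hm => by
    rw [(QuotientGroup.eq_one_iff r).2 hm, conj_eq_one_iff] at hhr
    rw [hhr, orderOf_one] at hv
    exact absurd hv (by norm_num)
  have hnc : ¬ HasNormalPComplement 2 G := fun h => by
    obtain ⟨N, hN, hc⟩ := (CfsgLib.Transfer.hasNormalPComplement_iff_sylow S).1 h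
    exact no_complement S hO hG N hN hc
  obtain ⟨n, -, hn⟩ := TwoLocal.exists_conj_eq_of_quaternion S e hnc
    (A := Subgroup.zpowers s) (B := Subgroup.zpowers r) (Subgroup.zpowers_le.2 hs) (Subgroup.zpowers_le.2 hr)
    (by rw [Nat.card_zpowers, orderOf_eq_four S e hO hs hsZ])
    (by rw [Nat.card_zpowers, orderOf_eq_four S e hO hr hrZ])
  have h1 : n * s * n⁻¹ ∈ Subgroup.zpowers r := by
    rw [hn]; exact ⟨s, Subgroup.mem_zpowers s, rfl⟩
  obtain ⟨i, hi⟩ := Subgroup.mem_zpowers_iff.1 h1
  have hrsq : (r : G ⧸ Subgroup.center G) * r = 1 := by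
    rw [← QuotientGroup.mk_mul, QuotientGroup.eq_one_iff]
    exact sq_mem S e hO hr
  have h2 : (n : G ⧸ Subgroup.center G) * (s : G ⧸ Subgroup.center G) * (n : G ⧸ Subgroup.center G)⁻¹ =
      (r : G ⧸ Subgroup.center G) := by
    have h3 : (n : G ⧸ Subgroup.center G) * (s : G ⧸ Subgroup.center G) * (n : G ⧸ Subgroup.center G)⁻¹ =
        (r : G ⧸ Subgroup.center G) ^ i := by
      rw [← QuotientGroup.mk_inv, ← QuotientGroup.mk_mul, ← QuotientGroup.mk_mul,
        ← QuotientGroup.mk_zpow, hi]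
    rcases Int.even_or_odd i with ⟨j, rfl⟩ | ⟨j, rfl⟩
    · exfalso
      rw [← two_mul, zpow_mul, zpow_two, hrsq, one_zpow, conj_eq_one_iff] at h3
      exact hsZ ((QuotientGroup.eq_one_iff s).1 h3)
    · rwa [zpow_add, zpow_mul, zpow_two, hrsq, one_zpow, one_mul, zpow_one] at h3
  refine isConj_iff.2 ⟨h⁻¹ * (n : G ⧸ Subgroup.center G) * g, ?_⟩
  calc h⁻¹ * (n : G ⧸ Subgroup.center G) * g * u * (h⁻¹ * (n : G ⧸ Subgroup.center G) * g)⁻¹ =
      h⁻¹ * ((n : G ⧸ Subgroup.center G) * (g * u * g⁻¹) * (n : G ⧸ Subgroup.center G)⁻¹) * h := by group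
    _ = h⁻¹ * (r : G ⧸ Subgroup.center G) * h := by rw [hgs, h2]
    _ = v := by rw [← hhr]; group

include e hO hG in
/-- **Brauer**: the principal 2-block has seven characters. -/
theorem card_principalBlock (M : Ideal AlgInt) (hM : IsPModular 2 M) :
    Nat.card (principalBlock M G) = 7 := by
  classical
  haveI : M.IsMaximal := hM.2.1
  haveI : Fact (Nat.Prime 2) := ⟨Nat.prime_two⟩
  letI := Fintype.ofFinite G
  letI := Fintype.ofFinite (G ⧸ Subgroup.center G)
  obtain ⟨t, ht, hto, hcases, -⟩ := exists_t S e hO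
  set Z := Subgroup.center G with hZ
  have hZp : IsPGroup 2 Z := isPGroup_center S e hO
  have hZC : ∃ k : ℕ, (Subgroup.centralizer (Z : Set G)).index = 2 ^ k := by
    refine ⟨0, ?_⟩
    rw [pow_zero, Subgroup.index_eq_one, Subgroup.centralizer_eq_top_iff_subset]
  let T : Sylow 2 (G ⧸ Z) := S.mapSurjective (QuotientGroup.mk'_surjective _)
  have hK : IsKleinFour (T : Subgroup (G ⧸ Z)) := klein_image S e hO T rfl
  have hone := one_class S e hO hG
  obtain ⟨ζ₂, ζ₃, ζ₄, ε, hε, h21, h31, h23, h24, h34, hBq, hval, -, -, hd4, -⟩ :=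
    klein_principal_block hM T hK hone
  have hrank := klein_blockRank hM T hK hone
  set one : IrrCharacter (G ⧸ Z) := CfsgLib.Char.irrOne with hone'
  have hf1 : ((one : IrrCharacter (G ⧸ Z)) : G ⧸ Z → ℂ) = fun _ => 1 := rfl
  have hmemq : ∀ χ, χ ∈ principalBlock M (G ⧸ Z) ↔ χ = one ∨ χ = ζ₂ ∨ χ = ζ₃ ∨ χ = ζ₄ := fun χ => by
    rw [hBq]
    simp only [Set.mem_setOf_eq, ← hf1, Subtype.coe_inj]
  have h12 : one ≠ ζ₂ := fun h => h21 (by rw [← h, hf1])
  have h13 : one ≠ ζ₃ := fun h => h31 (by rw [← h, hf1])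
  have h14 : one ≠ ζ₄ := fun h => by
    rw [← h, hf1, charDegree_one] at hd4
    norm_num at hd4
  have hfin : Finset.univ.filter (· ∈ principalBlock M (G ⧸ Z)) = {one, ζ₂, ζ₃, ζ₄} := by
    ext χ
    simp [hmemq]
  -- inflation
  set ι : IrrCharacter (G ⧸ Z) → IrrCharacter G := fun ψ =>
    ⟨_, CfsgLib.CharNormal.isIrr_comp_mk' Z ψ.2⟩ with hι
  have hιinj : Function.Injective ι := fun a b h => Subtype.ext
    (QuotientGroup.mk_surjective.injective_comp_right (congrArg Subtype.val h))
  set B := principalBlock M G with hB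
  have hιB : ∀ ψ, ι ψ ∈ B ↔ ψ ∈ principalBlock M (G ⧸ Z) := fun ψ =>
    (sameBlock_inflation_iff hM hZp hZC one ψ).symm
  have hsc : ∀ χ : IrrCharacter G, centScal χ t = 1 ∨ centScal χ t = -1 := fun χ => by
    have h := centScal_mul χ ht t
    rw [← pow_two t, ← hto, pow_orderOf_eq_one, centScal_one] at h
    exact mul_self_eq_one_iff.1 h.symm
  set Bp := Finset.univ.filter (fun χ : IrrCharacter G => χ ∈ B ∧ centScal χ t = 1) with hBp
  set Bm := Finset.univ.filter (fun χ : IrrCharacter G => χ ∈ B ∧ centScal χ t = -1) with hBm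
  have hBp' : Bp = (Finset.univ.filter (· ∈ principalBlock M (G ⧸ Z))).image ι := by
    ext χ
    simp only [hBp, Finset.mem_filter, Finset.mem_univ, true_and, Finset.mem_image]
    constructor
    · rintro ⟨hχ, hc⟩
      have hker : ∀ n ∈ Z, (χ : G → ℂ) n = (χ : G → ℂ) 1 := by
        intro n hn
        rcases hcases n hn with rfl | rfl
        · rfl
        · have := char_central_mul χ ht 1
          rwa [mul_one, hc, one_mul] at this
      obtain ⟨ψ, hψ, hψe⟩ := CfsgLib.CharNormal.exists_irr_eq_comp_mk' Z χ.2 hker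
      have heq : ι ⟨ψ, hψ⟩ = χ := Subtype.ext hψe
      exact ⟨⟨ψ, hψ⟩, (hιB _).1 (heq ▸ hχ), heq⟩
    · rintro ⟨ψ, hψ, rfl⟩
      refine ⟨(hιB ψ).2 hψ, ?_⟩
      rw [centScal, div_eq_one_iff_eq (CfsgLib.Char.irr_one_ne_zero (ι ψ).2)]
      exact CfsgLib.CharNormal.comp_mk'_const Z ht
  have hBpc : Bp.card = 4 := by
    rw [hBp', Finset.card_image_of_injective _ hιinj, hfin]
    simp [h12, h13, h14, h23, h24, h34]
  have hdisj : Disjoint Bp Bm := by
    rw [Finset.disjoint_left]
    intro χ h1 h2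
    simp only [hBp, hBm, Finset.mem_filter] at h1 h2
    rw [h1.2.2] at h2
    norm_num at h2
  have hsum : ∀ F : IrrCharacter G → ℂ, ∑ χ : IrrCharacter G, (if χ ∈ B then F χ else 0) =
      ∑ χ ∈ Bp, F χ + ∑ χ ∈ Bm, F χ := by
    intro F
    rw [← Finset.sum_union hdisj, ← Finset.sum_filter]
    refine Finset.sum_congr ?_ fun _ _ => rfl
    ext χ
    simp only [hBp, hBm, Finset.mem_union, Finset.mem_filter, Finset.mem_univ, true_and]
    constructor
    · intro h; rcases hsc χ with hc | hc
      · exact Or.inl ⟨h, hc⟩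
      · exact Or.inr ⟨h, hc⟩
    · rintro (h | h) <;> exact h.1
  -- vanishing on elements of order four
  have hzero : ∀ χ ∈ Bm, ∀ s ∈ (S : Subgroup G), s ∉ Z → (χ : G → ℂ) s = 0 := by
    intro χ hχ s hs hsZ
    letI := Fintype.ofFinite (Subgroup.centralizer ({s} : Set G))
    have h4 := orderOf_eq_four S e hO hs hsZ
    have hx : ∃ k : ℕ, orderOf s = 2 ^ k := ⟨2, by rw [h4]; norm_num⟩
    have hnc := index_core_centralizer S e hO hs hsZ
    have hC4 : (2 : ℕ) ^ (Nat.card (Subgroup.centralizer ({s} : Set G))).factorization 2 ≤ 4 := by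
      obtain ⟨P⟩ : Nonempty (Sylow 2 (Subgroup.centralizer ({s} : Set G))) := Sylow.nonempty
      rw [← P.card_eq_multiplicity]
      by_contra hlt
      obtain ⟨U, hU⟩ := (P.2.map (Subgroup.centralizer ({s} : Set G)).subtype).exists_le_sylow
      have h8 : Nat.card ((P : Subgroup _).map (Subgroup.centralizer ({s} : Set G)).subtype) =
          Nat.card (P : Subgroup (Subgroup.centralizer ({s} : Set G))) :=
        Subgroup.card_map_of_injective (Subgroup.subtype_injective _)
      have hU8 : Nat.card (U : Subgroup G) = 8 := by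
        rw [U.card_eq_multiplicity, ← S.card_eq_multiplicity, card_S S e]
      have hle := Subgroup.card_dvd_of_le hU
      rw [h8, hU8] at hle
      have h9 := Nat.le_of_dvd (by norm_num) hle
      have h10 : Nat.card (P : Subgroup (Subgroup.centralizer ({s} : Set G))) = 8 := by
        have : Nat.card (P : Subgroup (Subgroup.centralizer ({s} : Set G))) ∈ Nat.divisors 8 :=
          Nat.mem_divisors.2 ⟨hle, by norm_num⟩
        rw [show Nat.divisors 8 = {1, 2, 4, 8} by decide] at this
        simp only [Finset.mem_insert, Finset.mem_singleton] at this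
        omega
      have hUeq : (P : Subgroup _).map (Subgroup.centralizer ({s} : Set G)).subtype = (U : Subgroup G) :=
        Subgroup.eq_of_le_of_card_ge hU (by rw [hU8, h8, h10])
      obtain ⟨g, hg⟩ := MulAction.exists_smul_eq G U S
      refine hsZ (Subgroup.mem_center_iff.2 fun w => ?_)
      exfalso
      have hall : ∀ y ∈ (S : Subgroup G), y * (g * s * g⁻¹) = g * s * g⁻¹ * y := by
        intro y hy
        rw [← hg, Sylow.coe_subgroup_smul] at hy
        obtain ⟨u, hu, rfl⟩ := hy
        rw [← hUeq] at hu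
        obtain ⟨d, -, rfl⟩ := hu
        show g * (d : G) * g⁻¹ * (g * s * g⁻¹) = g * s * g⁻¹ * (g * (d : G) * g⁻¹)
        rw [show g * (d : G) * g⁻¹ * (g * s * g⁻¹) = g * ((d : G) * s) * g⁻¹ by group,
          Subgroup.mem_centralizer_singleton_iff.1 d.2]
        group
      have hgs : g * s * g⁻¹ ∈ (S : Subgroup G) := by
        have hsU : s ∈ (U : Subgroup G) := by
          by_contra hno
          have hpz : IsPGroup 2 (Subgroup.zpowers s) := IsPGroup.of_card (n := 2) (by rw [Nat.card_zpowers, h4]; norm_num)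
          have hj : IsPGroup 2 ↥((U : Subgroup G) ⊔ Subgroup.zpowers s) := by
            refine IsPGroup.to_sup_of_normal_left' U.2 hpz (Subgroup.zpowers_le.2 ?_)
            refine Subgroup.centralizer_le_normalizer _ (Subgroup.mem_centralizer_iff.2 fun u hu => ?_)
            rw [← hUeq] at hu
            obtain ⟨d, -, rfl⟩ := hu
            exact Subgroup.mem_centralizer_singleton_iff.1 d.2
          exact hno ((U.3 hj le_sup_left).le (Subgroup.mem_sup_right (Subgroup.mem_zpowers s)))
        rw [← hg, Sylow.coe_subgroup_smul]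
        exact ⟨s, hsU, rfl⟩
      have hgsZ : g * s * g⁻¹ ∉ Z := fun h => hsZ (by
        have := Subgroup.Normal.conj_mem (inferInstance : Z.Normal) _ h g⁻¹
        simpa [mul_assoc] using this)
      have hnn : ∀ q : Q8, q * q ≠ 1 → ∃ q' : Q8, q' * q ≠ q * q' := by decide
      obtain ⟨q, hq⟩ := hnn (e ⟨_, hgs⟩) (by
        rw [← map_mul, Ne, MulEquiv.map_eq_one_iff]
        exact fun h => sq_ne_one S e hO hgs hgsZ (congrArg Subtype.val h))
      refine hq ?_
      conv_lhs => rw [← e.apply_symm_apply q, ← map_mul]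
      conv_rhs => rw [← e.apply_symm_apply q, ← map_mul]
      exact congrArg e (Subtype.ext (hall _ (e.symm q).2))
    have hfac : (2 : ℕ) ^ (Nat.card (Subgroup.centralizer ({s} : Set G))).factorization 2 = 4 := by
      refine le_antisymm hC4 (Nat.le_of_dvd (by positivity) ?_)
      have h2 : 2 ^ 2 ∣ Nat.card (Subgroup.centralizer ({s} : Set G)) := by
        have := orderOf_dvd_natCard (⟨s, Subgroup.mem_centralizer_singleton_iff.2 rfl⟩ : Subgroup.centralizer ({s} : Set G))
        rw [Subgroup.orderOf_mk, h4] at this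
        exact this
      exact (pow_dvd_pow 2 ((Nat.Prime.pow_dvd_iff_le_factorization Nat.prime_two Nat.card_pos.ne').1 h2))
    have hsum4 := sum_principal_section_complement (G := G) hM hx hnc (y := 1)
      (by rw [orderOf_one]; exact Nat.prime_two.not_dvd_one)
    simp only [OneMemClass.coe_one, mul_one, hfac] at hsum4
    rw [hsum, hBp', Finset.sum_image (fun a _ b _ h => hιinj h), hfin] at hsum4
    have hs2 : orderOf ((s : G) : G ⧸ Z) = 2 := by
      refine orderOf_eq_prime ?_ (fun h => hsZ ((QuotientGroup.eq_one_iff s).1 h))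
      rw [← QuotientGroup.mk_pow, QuotientGroup.eq_one_iff, pow_two]
      exact sq_mem S e hO hs
    obtain ⟨v2, v3, v4⟩ := hval _ hs2
    rw [Finset.sum_insert (by simp [h12, h13, h14]), Finset.sum_insert (by simp [h23, h24]),
      Finset.sum_insert (by simp [h34]), Finset.sum_singleton] at hsum4
    simp only [hι, Function.comp_apply, v2, v3, v4, hf1, map_one, mul_one, map_neg, map_intCast] at hsum4
    have hε2 : (ε : ℂ) * ε = 1 := by rcases hε with h | h <;> simp [h]
    rw [hε2] at hsum4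
    norm_num at hsum4
    have hz : ∑ ζ ∈ Bm, ((Complex.normSq ((ζ : G → ℂ) s) : ℝ) : ℂ) = 0 := by
      simp only [Complex.normSq_eq_conj_mul_self, mul_comm (conj _)]
      linear_combination hsum4
    rw [← Complex.ofReal_sum, Complex.ofReal_eq_zero,
      Finset.sum_eq_zero_iff_of_nonneg fun i _ => Complex.normSq_nonneg _] at hz
    exact Complex.normSq_eq_zero.1 (hz χ hχ)
  -- regular parts
  set reg : IrrCharacter G → G → ℂ := fun χ => pRegularPart 2 (χ : G → ℂ) with hreg
  have hindep : LinearIndependent ℂ (fun χ : {χ // χ ∈ Bm} => reg χ.1) := by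
    rw [Fintype.linearIndependent_iff]
    intro a ha
    have hall : ∀ g : G, ∑ χ : {χ // χ ∈ Bm}, a χ * ((χ.1 : IrrCharacter G) : G → ℂ) g = 0 := by
      intro g
      have hodd : ∀ y : G, ¬ 2 ∣ orderOf y → ∑ χ : {χ // χ ∈ Bm}, a χ * ((χ.1 : IrrCharacter G) : G → ℂ) y = 0 := by
        intro y hy
        have := congrFun ha y
        simpa [hreg, pRegularPart, IsPRegular, hy] using this
      obtain ⟨z, hz⟩ := exists_isPPart (p := 2) g
      obtain ⟨y, rfl, hzy, ⟨k, hk⟩, hy⟩ := hz
      by_cases hzZ : z ∈ Z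
      · rcases hcases z hzZ with rfl | rfl
        · rw [one_mul]; exact hodd y hy
        · have : ∀ χ : {χ // χ ∈ Bm}, ((χ.1 : IrrCharacter G) : G → ℂ) (z * y) =
              -((χ.1 : IrrCharacter G) : G → ℂ) y := fun χ => by
            rw [char_central_mul χ.1 ht, ((Finset.mem_filter.1 χ.2).2).2, neg_one_mul]
          simp only [this, mul_neg, Finset.sum_neg_distrib, hodd y hy, neg_zero]
      · refine Finset.sum_eq_zero fun χ _ => ?_
        obtain ⟨U, hU⟩ := (IsPGroup.of_card (n := k) (G := Subgroup.zpowers z)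
          (by rw [Nat.card_zpowers, hk])).exists_le_sylow (p := 2)
        obtain ⟨w, hw⟩ := MulAction.exists_smul_eq G U S
        have hs : w * z * w⁻¹ ∈ (S : Subgroup G) := by
          rw [← hw, Sylow.coe_subgroup_smul]
          exact ⟨z, hU (Subgroup.mem_zpowers z), rfl⟩
        have hsZ : w * z * w⁻¹ ∉ Z := fun h => hzZ (by
          have := Subgroup.Normal.conj_mem (inferInstance : Z.Normal) _ h w⁻¹
          simpa [mul_assoc] using this)
        letI := Fintype.ofFinite (Subgroup.centralizer ({w * z * w⁻¹} : Set G))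
        have hyC : w * y * w⁻¹ ∈ Subgroup.centralizer ({w * z * w⁻¹} : Set G) := by
          rw [Subgroup.mem_centralizer_singleton_iff]
          calc w * y * w⁻¹ * (w * z * w⁻¹) = w * (y * z) * w⁻¹ := by group
            _ = w * (z * y) * w⁻¹ := by rw [hzy.eq]
            _ = w * z * w⁻¹ * (w * y * w⁻¹) := by group
        have hy' : ¬ 2 ∣ orderOf (⟨_, hyC⟩ : Subgroup.centralizer ({w * z * w⁻¹} : Set G)) := by
          rwa [Subgroup.orderOf_mk, show w * y * w⁻¹ = MulAut.conj w y by simp, MulEquiv.orderOf_eq]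
        have hχB : χ.1 ∈ B := ((Finset.mem_filter.1 χ.2).2).1
        have h1 := principal_section_const hM (x := w * z * w⁻¹) ⟨2, by
          rw [orderOf_eq_four S e hO hs hsZ]; norm_num⟩ (index_core_centralizer S e hO hs hsZ) hχB
          (y := ⟨_, hyC⟩) hy'
        rw [hzero χ.1 χ.2 _ hs hsZ, show w * z * w⁻¹ * (w * y * w⁻¹) = w * (z * y) * w⁻¹ by group,
          CfsgLib.Char.isClassFunction_of_isIrr χ.1.2] at h1
        rw [h1, mul_zero]
    intro χ₀
    have hli := Fintype.linearIndependent_iff.1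
      (CfsgLib.Char.linearIndependent_irr.comp (fun χ : {χ // χ ∈ Bm} => χ.1) Subtype.val_injective)
    refine hli a ?_ χ₀
    funext g
    simpa using hall g
  -- the two families have the same kernel
  have hkernel : ∀ g h : G, ∑ χ : {χ // χ ∈ Bp}, reg χ.1 g * conj (reg χ.1 h) =
      ∑ χ : {χ // χ ∈ Bm}, reg χ.1 g * conj (reg χ.1 h) := by
    intro g h
    rw [Finset.sum_coe_sort Bp (fun χ => reg χ g * conj (reg χ h)),
      Finset.sum_coe_sort Bm (fun χ => reg χ g * conj (reg χ h))]
    by_cases hg : 2 ∣ orderOf g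
    · simp [hreg, pRegularPart, IsPRegular, hg]
    by_cases hh : 2 ∣ orderOf h
    · simp [hreg, pRegularPart, IsPRegular, hh]
    simp only [hreg, pRegularPart, IsPRegular, hg, hh, not_false_iff, if_true]
    have hth : 2 ∣ orderOf (t * h) := by
      have hc : Commute t h := (Subgroup.mem_center_iff.1 ht h).symm
      have hcop : (orderOf t).Coprime (orderOf h) := by
        rw [hto]; exact (Nat.prime_two.coprime_iff_not_dvd).2 hh
      rw [hc.orderOf_mul_eq_mul_orderOf_of_coprime hcop, hto]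
      exact dvd_mul_right 2 _
    have hw := weak_orthogonality hM (isPBlock_principalBlock (M := M) (G := G)) hg hth
    rw [hsum] at hw
    have e1 : ∀ χ ∈ Bp, (χ : G → ℂ) g * conj ((χ : G → ℂ) (t * h)) = (χ : G → ℂ) g * conj ((χ : G → ℂ) h) :=
      fun χ hχ => by rw [char_central_mul χ ht, ((Finset.mem_filter.1 hχ).2).2, one_mul]
    have e2 : ∀ χ ∈ Bm, (χ : G → ℂ) g * conj ((χ : G → ℂ) (t * h)) = -((χ : G → ℂ) g * conj ((χ : G → ℂ) h)) :=
      fun χ hχ => by rw [char_central_mul χ ht, ((Finset.mem_filter.1 hχ).2).2, map_mul, map_neg, map_one]; ring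
    rw [Finset.sum_congr rfl e1, Finset.sum_congr rfl e2, Finset.sum_neg_distrib] at hw
    linear_combination hw
  have hspan := span_eq_of_kernel_eq (fun χ : {χ // χ ∈ Bp} => reg χ.1) (fun χ : {χ // χ ∈ Bm} => reg χ.1) hkernel
  have hBmc : Bm.card = Module.finrank ℂ (Submodule.span ℂ (Set.range fun χ : {χ // χ ∈ Bp} => reg χ.1)) := by
    rw [hspan, finrank_span_eq_card hindep, Fintype.card_coe]
  -- transport to the quotient
  let L : (G ⧸ Z → ℂ) →ₗ[ℂ] (G → ℂ) :=
    { toFun := fun v => pRegularPart 2 (fun g => v (g : G ⧸ Z))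
      map_add' := fun v w => by ext g; simp only [pRegularPart, Pi.add_apply]; split_ifs <;> simp
      map_smul' := fun c v => by ext g; simp only [pRegularPart, Pi.smul_apply, RingHom.id_apply]; split_ifs <;> simp }
  have hLψ : ∀ ψ : IrrCharacter (G ⧸ Z), L (pRegularPart 2 (ψ : G ⧸ Z → ℂ)) = reg (ι ψ) := by
    intro ψ; ext g
    simp only [L, hreg, hι, LinearMap.coe_mk, AddHom.coe_mk, pRegularPart, IsPRegular, Function.comp_apply]
    by_cases hg : 2 ∣ orderOf g
    · simp [hg]
    · have : ¬ 2 ∣ orderOf (g : G ⧸ Z) := fun h => hg (h.trans (orderOf_map_dvd (QuotientGroup.mk' Z) g))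
      simp [hg, this]
  set W := Submodule.span ℂ ((fun ψ : IrrCharacter (G ⧸ Z) => pRegularPart 2 (ψ : G ⧸ Z → ℂ)) ''
    principalBlock M (G ⧸ Z)) with hW
  have hWsupp : ∀ v ∈ W, ∀ q : G ⧸ Z, 2 ∣ orderOf q → v q = 0 := by
    intro v hv q hq
    induction hv using Submodule.span_induction with
    | mem x hx => obtain ⟨ψ, -, rfl⟩ := hx; simp [pRegularPart, IsPRegular, hq]
    | zero => rfl
    | add x y _ _ hx hy => simp [hx, hy]
    | smul c x _ hx => simp [hx]
  have hLinj : Function.Injective (L.domRestrict W) := by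
    rw [← LinearMap.ker_eq_bot, LinearMap.ker_eq_bot']
    rintro ⟨v, hv⟩ h0
    refine Subtype.ext (funext fun q => ?_)
    by_cases hq : 2 ∣ orderOf q
    · exact hWsupp v hv q hq
    · obtain ⟨g, hg, rfl⟩ := exists_regular_lift (P := Z) q hq
      have := congrFun h0 g
      simpa [L, pRegularPart, IsPRegular, hg] using this
  have himage : Submodule.span ℂ (Set.range fun χ : {χ // χ ∈ Bp} => reg χ.1) = LinearMap.range (L.domRestrict W) := by
    rw [LinearMap.range_domRestrict, hW, Submodule.map_span, ← Set.image_comp]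
    congr 1
    ext f
    constructor
    · rintro ⟨⟨χ, hχ⟩, rfl⟩
      rw [hBp', Finset.mem_image] at hχ
      obtain ⟨ψ, hψ, rfl⟩ := hχ
      exact ⟨ψ, (Finset.mem_filter.1 hψ).2, hLψ ψ⟩
    · rintro ⟨ψ, hψ, rfl⟩
      refine ⟨⟨ι ψ, ?_⟩, (hLψ ψ).symm⟩
      rw [hBp']
      exact Finset.mem_image_of_mem ι (Finset.mem_filter.2 ⟨Finset.mem_univ _, hψ⟩)
  have h3 : Bm.card = 3 := by
    rw [hBmc, himage, LinearMap.finrank_range_of_inj hLinj]
    exact hrank
  rw [Nat.card_eq_fintype_card, Fintype.card_subtype,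
    show Finset.univ.filter (· ∈ B) = Bp ∪ Bm from ?_, Finset.card_union_of_disjoint hdisj, hBpc, h3]
  ext χ
  simp only [hBp, hBm, Finset.mem_union, Finset.mem_filter, Finset.mem_univ, true_and]
  constructor
  · intro h; rcases hsc χ with hc | hc
    · exact Or.inl ⟨h, hc⟩
    · exact Or.inr ⟨h, hc⟩
  · rintro (h | h) <;> exact h.1

end CfsgLib.Blocks.QuaternionBlock
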