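import Mathlib

/-!
# Families with the same Gram kernel span the same space
-/

set_option autoImplicit false

noncomputable section

namespace CfsgLib.Blocks.QuaternionBlock

open scoped ComplexConjugate

variable {X : Type*} [Fintype X] {I : Type*} [Fintype I]

/-- The operator of the Gram kernel of a family of functions. -/
def kerOp (f : I → X → ℂ) : (X → ℂ) →ₗ[ℂ] (X → ℂ) where
  toFun v x := ∑ y, (∑ i, f i x * conj (f i y)) * v y
  map_add' v w := by ext x; simp [mul_add, Finset.sum_add_distrib]
  map_smul' a v := by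
    ext x
    simp only [Pi.smul_apply, smul_eq_mul, RingHom.id_apply, Finset.mul_sum]
    exact Finset.sum_congr rfl fun y _ => by ring

theorem kerOp_eq (f : I → X → ℂ) (v : X → ℂ) :
    kerOp f v = ∑ i, (∑ y, conj (f i y) * v y) • f i := by
  ext x
  simp only [kerOp, LinearMap.coe_mk, AddHom.coe_mk, Finset.sum_apply, Pi.smul_apply, smul_eq_mul,
    Finset.sum_mul]
  rw [Finset.sum_comm]
  exact Finset.sum_congr rfl fun i _ => Finset.sum_congr rfl fun y _ => by ring

theorem range_kerOp (f : I → X → ℂ) :
    LinearMap.range (kerOp f) = Submodule.span ℂ (Set.range f) := by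
  set W := Submodule.span ℂ (Set.range f) with hW
  have hmem : ∀ v, kerOp f v ∈ W := fun v => by
    rw [kerOp_eq]
    exact Submodule.sum_mem _ fun i _ => Submodule.smul_mem _ _ (Submodule.subset_span ⟨i, rfl⟩)
  refine le_antisymm (by rintro _ ⟨v, rfl⟩; exact hmem v) ?_
  let L : W →ₗ[ℂ] W := (kerOp f).restrict (fun v _ => hmem v)
  have hL : Function.Injective L := by
    rw [← LinearMap.ker_eq_bot, LinearMap.ker_eq_bot']
    rintro ⟨v, hv⟩ h0
    have h1 : kerOp f v = 0 := congrArg Subtype.val h0
    set c : I → ℂ := fun i => ∑ y, conj (f i y) * v y with hc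
    have h2 : ∑ i, ((Complex.normSq (c i) : ℝ) : ℂ) = 0 := by
      have h3 : ∑ x, conj (v x) * kerOp f v x = 0 := by simp [h1]
      rw [kerOp_eq] at h3
      simp only [Finset.sum_apply, Pi.smul_apply, smul_eq_mul, Finset.mul_sum] at h3
      rw [Finset.sum_comm] at h3
      refine (Finset.sum_congr rfl fun i _ => ?_).trans h3
      rw [Complex.normSq_eq_conj_mul_self]
      simp only [hc, map_sum, map_mul, Complex.conj_conj, Finset.sum_mul, Finset.mul_sum]
      rw [Finset.sum_comm]
      exact Finset.sum_congr rfl fun x _ => Finset.sum_congr rfl fun y _ => by ring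
    have h4 : ∀ i, c i = 0 := by
      rw [← Complex.ofReal_sum, Complex.ofReal_eq_zero,
        Finset.sum_eq_zero_iff_of_nonneg fun i _ => Complex.normSq_nonneg _] at h2
      exact fun i => Complex.normSq_eq_zero.1 (h2 i (Finset.mem_univ i))
    obtain ⟨a, ha⟩ := (Submodule.mem_span_range_iff_exists_fun ℂ).1 hv
    have h5 : ∑ x, ((Complex.normSq (v x) : ℝ) : ℂ) = 0 := by
      calc ∑ x, ((Complex.normSq (v x) : ℝ) : ℂ) = ∑ i, conj (a i) * c i := by
            simp only [Complex.normSq_eq_conj_mul_self, hc, Finset.mul_sum]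
            rw [Finset.sum_comm]
            refine Finset.sum_congr rfl fun x _ => ?_
            conv_lhs => arg 1; rw [← ha]
            simp only [Finset.sum_apply, Pi.smul_apply, smul_eq_mul, map_sum, map_mul, Finset.sum_mul]
            exact Finset.sum_congr rfl fun i _ => by ring
        _ = 0 := by simp [h4]
    rw [← Complex.ofReal_sum, Complex.ofReal_eq_zero,
      Finset.sum_eq_zero_iff_of_nonneg fun i _ => Complex.normSq_nonneg _] at h5
    exact Subtype.ext (funext fun x => Complex.normSq_eq_zero.1 (h5 x (Finset.mem_univ x)))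
  intro w hw
  obtain ⟨v, hv⟩ := (LinearMap.injective_iff_surjective.1 hL) ⟨w, hw⟩
  exact ⟨v, congrArg Subtype.val hv⟩

/-- Families with the same Gram kernel span the same space. -/
theorem span_eq_of_kernel_eq {J : Type*} [Fintype J] (f : I → X → ℂ) (f' : J → X → ℂ)
    (h : ∀ x y, ∑ i, f i x * conj (f i y) = ∑ j, f' j x * conj (f' j y)) :
    Submodule.span ℂ (Set.range f) = Submodule.span ℂ (Set.range f') := by
  have e : kerOp f = kerOp f' := LinearMap.ext fun v => funext fun x => by simp only [kerOp, LinearMap.coe_mk, AddHom.coe_mk, h]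
  rw [← range_kerOp f, ← range_kerOp f', e]

end CfsgLib.Blocks.QuaternionBlock
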