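import Cfsg.Agent.Lib.Blocks.CyclicIsometry

/-!
# Perfect isometries from functions on the sections

`SecData`: functions `f` through which every part on a section is a multiple of one function;
`isPerfect_of_sections`: a signed bijection matching these functions is a perfect isometry.
-/

set_option autoImplicit false
set_option maxHeartbeats 1000000
set_option linter.unusedSectionVars false

noncomputable section

namespace CfsgLib.Blocks.Sections

open Cfsg CfsgLib.Blocks CfsgLib.Blocks.Cyclic CfsgLib.BlockArith CfsgLib.Char CfsgLib.BrauerPairs CfsgLib.NilBlock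
open scoped ComplexConjugate Classical

universe u v

variable {G : Type u} [Group G] [Fintype G] {p : ℕ} [hp : Fact p.Prime] {M : Ideal AlgInt} [M.IsMaximal]

/-- The parts on the sections of `P` through functions on `P`. -/
structure SecData (p : ℕ) (M : Ideal AlgInt) [M.IsMaximal] (B : Set (IrrCharacter G)) (P : Subgroup G)
    (β : (y : P) → Set (IrrCharacter (Cen (Subgroup.zpowers (y : G))))) where
  f : IrrCharacter G → P → ℂ
  w : (y : P) → Cen (Subgroup.zpowers (y : G)) → ℂ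
  hsec : ∀ y : P, y ≠ 1 → ∀ (χ : IrrCharacter G) (s : Cen (Subgroup.zpowers (y : G))), ¬ p ∣ orderOf s →
    secH (y : G) (Cen (Subgroup.zpowers (y : G))) (β y) χ s = f χ y * w y s
  hunit : ∀ y : P, y ≠ 1 → ∃ χ, χ ∈ B ∧ (f χ y = 1 ∨ f χ y = -1)
  hreg : ∀ {g : G}, ¬ p ∣ orderOf g → ∀ {y : P}, y ≠ 1 →
    ∑ χ ∈ Finset.univ.filter (· ∈ B), (χ : G → ℂ) g * f χ y = 0
  horth : ∀ {y y' : P}, y ≠ 1 → y' ≠ 1 → ∃ n : ℤ,
    ∑ χ ∈ Finset.univ.filter (· ∈ B), f χ y * f χ y' = (Nat.card P : ℂ) * (n : ℂ)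

variable {B : Set (IrrCharacter G)} {P : Subgroup G} {c : Set (IrrCharacter (Cen P))}
  {β : (y : P) → Set (IrrCharacter (Cen (Subgroup.zpowers (y : G))))}

/-- The values at a singular element through the functions `f`. -/
theorem SecData.expansion (hM : IsPModular p M) (hmax : IsMaximalBrauerPair p M B P c)
    (hab : ∀ x ∈ P, ∀ y ∈ P, x * y = y * x)
    (hβ : ∀ y : P, SubpairLE p M (Subgroup.zpowers (y : G)) (β y) P c) (S : SecData p M B P β)
    {g : G} (hg : p ∣ orderOf g) :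
    ∃ (n : ℕ) (y : Fin n → P) (W : Fin n → ℂ), (∀ i, y i ≠ 1) ∧
      (∀ i, W i ∈ locRing M ∧
        (Nat.card P : ℂ) * W i / (Nat.card (Subgroup.centralizer ({g} : Set G)) : ℂ) ∈ locRing M) ∧
      ∀ χ ∈ B, (χ : G → ℂ) g = ∑ i, S.f χ (y i) * W i := by
  have hB := hmax.1.2.1
  have hP := hmax.1.1
  have hcardP : Nat.card P = p ^ blockDefect p B :=
    card_defectGroup hM hB (isDefectGroup_of_maximal hM hmax)
  obtain ⟨x, s', hgx, hxs, hx, hs'⟩ := exists_isPPart (p := p) g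
  have hx1 : x ≠ 1 := fun h => hs' (by rw [← hgx, h, one_mul] at hg; exact hg)
  obtain ⟨H, hH⟩ : ∃ H : Subgroup G, H = Cen (Subgroup.zpowers x) := ⟨_, rfl⟩
  subst hH
  have hsH : s' ∈ Cen (Subgroup.zpowers x) := by
    rw [cen_zpowers]; exact Subgroup.mem_centralizer_singleton_iff.mpr hxs.eq.symm
  have hsreg : ¬ p ∣ orderOf (⟨s', hsH⟩ : Cen (Subgroup.zpowers x)) := by rwa [Subgroup.orderOf_mk]
  let _ := Fintype.ofFinite (Cen (Subgroup.zpowers x))
  let _ := Fintype.ofFinite {b : Set (IrrCharacter (Cen (Subgroup.zpowers x))) // IsPBlock M b}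
  have key : ∀ b : {b : {b : Set (IrrCharacter (Cen (Subgroup.zpowers x))) // IsPBlock M b} //
      IsInducedBlock M (Cen (Subgroup.zpowers x)) b.1 B}, ∃ (y : P) (W : ℂ), y ≠ 1 ∧
      (W ∈ locRing M ∧
        (Nat.card P : ℂ) * W / (Nat.card (Subgroup.centralizer ({g} : Set G)) : ℂ) ∈ locRing M) ∧
      ∀ χ, secH x (Cen (Subgroup.zpowers x)) b.1.1 χ ⟨s', hsH⟩ = S.f χ y * W := by
    rintro ⟨⟨b, hbb⟩, hb⟩
    have hbp := (brauerPairOf_iff_induced hM (isPGroup_zpowers hx) hbb hB).mpr hb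
    obtain ⟨g₀, hg₀⟩ := exists_conj_le_maximal hM (a := ⟨Subgroup.zpowers x, b⟩) (b := ⟨P, c⟩) hmax hbp
    have hy'P : g₀ * x * g₀⁻¹ ∈ P := subgroup_le hg₀ (by
      rw [cjPair_fst, map_conj_zpowers]; exact Subgroup.mem_zpowers _)
    obtain ⟨y, hyd⟩ : ∃ y : P, y = ⟨_, hy'P⟩ := ⟨_, rfl⟩
    have hyG : (y : G) = g₀ * x * g₀⁻¹ := congrArg Subtype.val hyd
    have hy1 : y ≠ 1 := fun h => hx1 (conj_eq_one_iff.mp (hyG.symm.trans (congrArg Subtype.val h)))
    have hpair := (brauerPairOf_iff_of_subpair hM (a := ⟨_, β y⟩) (b := ⟨P, c⟩) (hβ y)).mp hmax.1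
    have hblk : IsPBlock M (β y) := hpair.1.2
    have hpe : cjPair g₀ (⟨Subgroup.zpowers x, b⟩ : BrauerPairIdx G) = ⟨_, β y⟩ :=
      pair_eq_of_le hM hP hg₀ (hβ y) (by rw [cjPair_fst, map_conj_zpowers]; exact congrArg Subgroup.zpowers hyG.symm)
    have hiff : ∀ z, z ∈ Cen (Subgroup.zpowers (y : G)) ↔ g₀⁻¹ * z * g₀ ∈ Cen (Subgroup.zpowers x) := fun z => by
      rw [hyG, ← map_conj_zpowers]
      exact mem_centralizer_map_conj
    let _ := Fintype.ofFinite (Cen (Subgroup.zpowers (y : G)))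
    have htb : tblock (conjEquiv g₀ _ _ hiff) b = β y := by
      refine gidem_inj (M := M) (isPBlock_tblock _ hbb) hblk ?_
      rw [gidem_tblock]
      have h2 := congrArg (pid M) hpe
      rwa [pid_cjPair] at h2
    obtain ⟨es, hesd⟩ : ∃ es, es = conjEquiv g₀ _ _ hiff ⟨s', hsH⟩ := ⟨_, rfl⟩
    have hesreg : ¬ p ∣ orderOf es := by rwa [hesd, MulEquiv.orderOf_eq]
    have hesG : (es : G) = g₀ * s' * g₀⁻¹ := by rw [hesd]; rfl
    have hval : ∀ χ, secH x (Cen (Subgroup.zpowers x)) b χ ⟨s', hsH⟩ = S.f χ y * S.w y es := by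
      intro χ
      rw [← S.hsec y hy1 χ es hesreg, secH, secH, ← htb, hesd, blockPart_tblock]
      refine congrArg (fun h => blockPart b h _) (funext fun k => ?_)
      rw [show ((conjEquiv g₀ _ _ hiff k : Cen (Subgroup.zpowers (y : G))) : G) = g₀ * (k : G) * g₀⁻¹ from rfl, hyG,
        show g₀ * x * g₀⁻¹ * (g₀ * (k : G) * g₀⁻¹) = g₀ * (x * (k : G)) * g₀⁻¹ by group,
        isClassFunction_of_isIrr χ.2]
    refine ⟨y, S.w y es, hy1, ?_, hval⟩
    have hPC : P ≤ Cen (Subgroup.zpowers (y : G)) := fun z hz =>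
      Subgroup.mem_centralizer_iff.mpr fun q hq => hab q (Subgroup.zpowers_le.mpr y.2 hq) z hz
    have hdef : p ^ blockDefect p (β y) = Nat.card P := by
      have h2 := card_defectGroup hM hblk (pairs_defect hM hmax hab (Q := Subgroup.zpowers (y : G)) (f := β y) (hβ y))
      rw [← card_subgroupOf' hPC, h2]
    obtain ⟨χ₀, -, hu⟩ := S.hunit y hy1
    obtain ⟨h1, h2⟩ := secH_div_mem hM (cen_zpowers (y : G)) (exists_pow_of_mem hP.1 y.2) hblk χ₀ hesreg
    have hcen : Nat.card (Subgroup.centralizer ({(y : G) * (es : G)} : Set G)) =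
        Nat.card (Subgroup.centralizer ({g} : Set G)) := by
      rw [hesG, hyG, show g₀ * x * g₀⁻¹ * (g₀ * s' * g₀⁻¹) = g₀ * (x * s') * g₀⁻¹ by group,
        card_centralizer_conjElt, hgx]
    rw [hdef, hcen] at h2
    rw [S.hsec y hy1 χ₀ es hesreg] at h1 h2
    rcases hu with h | h <;> rw [h] at h1 h2
    · rw [one_mul] at h1 h2
      exact ⟨h1, h2⟩
    · rw [neg_one_mul] at h1 h2
      refine ⟨by simpa using neg_mem h1, ?_⟩
      simpa [neg_div] using neg_mem h2
  choose yb Wb hyb hWb hvb using key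
  refine ⟨Fintype.card {b : {b : Set (IrrCharacter (Cen (Subgroup.zpowers x))) // IsPBlock M b} //
      IsInducedBlock M (Cen (Subgroup.zpowers x)) b.1 B},
    fun i => yb ((Fintype.equivFin _).symm i), fun i => Wb ((Fintype.equivFin _).symm i),
    fun i => hyb _, fun i => hWb _, fun χ hχ => ?_⟩
  rw [← hgx, ← sum_inducingH (cen_zpowers x) hM hx hB χ hχ hsreg, ← Finset.sum_filter,
    Finset.sum_subtype (p := fun b : {b : Set (IrrCharacter (Cen (Subgroup.zpowers x))) // IsPBlock M b} =>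
      IsInducedBlock M (Cen (Subgroup.zpowers x)) b.1 B) _ (fun b => by simp)]
  exact Fintype.sum_equiv (Fintype.equivFin _) _ _ fun b => by simp only [hvb b χ, Equiv.symm_apply_apply]

/-- A combination orthogonal to all `f` vanishes on singular elements. -/
theorem SecData.sum_sing (hM : IsPModular p M) (hmax : IsMaximalBrauerPair p M B P c)
    (hab : ∀ x ∈ P, ∀ y ∈ P, x * y = y * x)
    (hβ : ∀ y : P, SubpairLE p M (Subgroup.zpowers (y : G)) (β y) P c) (S : SecData p M B P β)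
    (a : IrrCharacter G → ℂ)
    (ha : ∀ y : P, y ≠ 1 → ∑ χ ∈ Finset.univ.filter (· ∈ B), a χ * S.f χ y = 0) (g : G) (hg : p ∣ orderOf g) :
    ∑ χ ∈ Finset.univ.filter (· ∈ B), a χ * (χ : G → ℂ) g = 0 := by
  obtain ⟨n, y, W, hy, -, hv⟩ := SecData.expansion hM hmax hab hβ S hg
  rw [Finset.sum_congr rfl fun χ hχ => by rw [hv χ (Finset.mem_filter.mp hχ).2, Finset.mul_sum], Finset.sum_comm]
  refine Finset.sum_eq_zero fun i _ => ?_
  simp only [← mul_assoc]
  rw [← Finset.sum_mul, ha (y i) (hy i), zero_mul]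

variable {H : Type v} [Group H] [Fintype H] {b : Set (IrrCharacter H)} {P' : Subgroup H}
  {c' : Set (IrrCharacter (Cen P'))} {β' : (y : P') → Set (IrrCharacter (Cen (Subgroup.zpowers (y : H))))}

/-- **A signed bijection matching the functions `f` is a perfect isometry.** -/
theorem isPerfect_of_sections (hM : IsPModular p M) (hmax : IsMaximalBrauerPair p M B P c)
    (hab : ∀ x ∈ P, ∀ y ∈ P, x * y = y * x)
    (hβ : ∀ y : P, SubpairLE p M (Subgroup.zpowers (y : G)) (β y) P c) (S : SecData p M B P β)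
    (hmax' : IsMaximalBrauerPair p M b P' c')
    (hβ' : ∀ y : P', SubpairLE p M (Subgroup.zpowers (y : H)) (β' y) P' c') (S' : SecData p M b P' β')
    (ψ : P' ≃* P) {I : IrrCharacter H → IrrCharacter G} {ε : IrrCharacter H → ℤ} (hI : Set.BijOn I b B)
    (hε : ∀ η ∈ b, ε η = 1 ∨ ε η = -1)
    (hmatch : ∀ η ∈ b, ∀ y : P', y ≠ 1 → (ε η : ℂ) * S.f (I η) (ψ y) = S'.f η y) :
    IsPerfectIsometry p M b B I ε := by
  have habP : ∀ x y : P, x * y = y * x := fun x y => Subtype.ext (hab _ x.2 _ y.2)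
  have habP' : ∀ x y : P', x * y = y * x := fun x y => ψ.injective (by rw [map_mul, map_mul, habP])
  have hab' : ∀ x ∈ P', ∀ y ∈ P', x * y = y * x := fun a ha d hd =>
    congrArg Subtype.val (habP' ⟨a, ha⟩ ⟨d, hd⟩)
  have hψ1 : ∀ {y : P'}, y ≠ 1 → ψ y ≠ 1 := fun hy h => hy (ψ.injective (by rw [h, map_one]))
  have hψ1' : ∀ {y : P}, y ≠ 1 → ψ.symm y ≠ 1 := fun hy h => hy (ψ.symm.injective (by rw [h, map_one]))
  have hsq : ∀ η ∈ b, (ε η : ℂ) * ε η = 1 := fun η hη => by rcases hε η hη with h | h <;> simp [h]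
  obtain ⟨bF, hbF⟩ : ∃ bF : Finset (IrrCharacter H), bF = Finset.univ.filter (· ∈ b) := ⟨_, rfl⟩
  have hmem : ∀ {η}, η ∈ bF ↔ η ∈ b := fun {η} => by rw [hbF]; simp
  have hμ : ∀ x z, signedBijectionKernel b I ε x z =
      ∑ η ∈ bF, (ε η : ℂ) * (I η : G → ℂ) x * (η : H → ℂ) z := fun x z => by
    rw [signedBijectionKernel, finsum_mem_eq_finite_toFinset_sum _ (Set.toFinite _)]
    exact Finset.sum_congr (by ext η; simp [hmem]) fun _ _ => rfl
  have hchg : ∀ h : IrrCharacter G → ℂ, ∑ η ∈ bF, h (I η) = ∑ χ ∈ Finset.univ.filter (· ∈ B), h χ := fun h =>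
    Finset.sum_nbij I (fun η hη => by simpa using hI.mapsTo (hmem.mp hη))
      (fun η hη η' hη' he => hI.injOn (hmem.mp hη) (hmem.mp hη') he)
      (fun χ hχ => by
        obtain ⟨η, hη, rfl⟩ := hI.surjOn (show χ ∈ B by simpa using hχ)
        exact ⟨η, hmem.mpr hη, rfl⟩) fun η _ => rfl
  have : Nonempty (IrrCharacter H) := ⟨irrOne⟩
  obtain ⟨J, hJd⟩ : ∃ J : IrrCharacter G → IrrCharacter H, J = Function.invFunOn I b := ⟨_, rfl⟩
  have hJ : ∀ η ∈ b, J (I η) = η := fun η hη => by rw [hJd]; exact hI.injOn.leftInvOn_invFunOn hη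
  have hA : ∀ x z, signedBijectionKernel b I ε x z =
      ∑ χ ∈ Finset.univ.filter (· ∈ B), ((ε (J χ) : ℂ) * (J χ : H → ℂ) z) * (χ : G → ℂ) x := fun x z => by
    rw [hμ, ← hchg fun χ => ((ε (J χ) : ℂ) * (J χ : H → ℂ) z) * (χ : G → ℂ) x]
    exact Finset.sum_congr rfl fun η hη => by rw [hJ η (hmem.mp hη)]; ring
  have hA' : ∀ x z, signedBijectionKernel b I ε x z =
      ∑ η ∈ Finset.univ.filter (· ∈ b), ((ε η : ℂ) * (I η : G → ℂ) x) * (η : H → ℂ) z := fun x z => by
    rw [hμ, hbF]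
  have hmix : ∀ x z, ¬ p ∣ orderOf x → p ∣ orderOf z → signedBijectionKernel b I ε x z = 0 := by
    intro x z hx hz
    rw [hA']
    refine SecData.sum_sing hM hmax' hab' hβ' S' (fun η => (ε η : ℂ) * (I η : G → ℂ) x) (fun y hy => ?_) z hz
    rw [← hbF, ← S.hreg hx (hψ1 hy), ← hchg fun χ => (χ : G → ℂ) x * S.f χ (ψ y)]
    exact Finset.sum_congr rfl fun η hη => by
      rw [← hmatch η (hmem.mp hη) y hy]
      linear_combination (I η : G → ℂ) x * S.f (I η) (ψ y) * hsq η (hmem.mp hη)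
  have hmix' : ∀ x z, p ∣ orderOf x → ¬ p ∣ orderOf z → signedBijectionKernel b I ε x z = 0 := by
    intro x z hx hz
    rw [hA]
    refine SecData.sum_sing hM hmax hab hβ S (fun χ => (ε (J χ) : ℂ) * (J χ : H → ℂ) z) (fun y hy => ?_) x hx
    rw [← hchg fun χ => (ε (J χ) : ℂ) * (J χ : H → ℂ) z * S.f χ y, ← S'.hreg hz (hψ1' hy), ← hbF]
    exact Finset.sum_congr rfl fun η hη => by
      rw [hJ η (hmem.mp hη), ← hmatch η (hmem.mp hη) _ (hψ1' hy), ψ.apply_symm_apply]; ring
  have hint : ∀ (η : IrrCharacter H) z, (ε η : ℂ) * (η : H → ℂ) z ∈ locRing M := fun η z =>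
    Subring.mul_mem _ (intCast_mem _ _) (algInt_le_locRing M (char_isIntegral (isCharacter_of_isIrr η.2) z))
  have hint' : ∀ (η : IrrCharacter H) x, (ε η : ℂ) * (I η : G → ℂ) x ∈ locRing M := fun η x =>
    Subring.mul_mem _ (intCast_mem _ _) (algInt_le_locRing M (char_isIntegral (isCharacter_of_isIrr (I η).2) x))
  refine ⟨hI, hε, fun x z => ?_⟩
  by_cases hx : p ∣ orderOf x <;> by_cases hz : p ∣ orderOf z
  · obtain ⟨n, y, W, hy, hW, hxv⟩ := SecData.expansion hM hmax hab hβ S hx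
    obtain ⟨n', y', W', hy', hW', hzv⟩ := SecData.expansion hM hmax' hab' hβ' S' hz
    have hcard : Nat.card P' = Nat.card P := Nat.card_congr ψ.toEquiv
    choose N hN using fun (i : Fin n) (j : Fin n') => S.horth (hy i) (hψ1 (hy' j))
    have hval : signedBijectionKernel b I ε x z = ∑ i, ∑ j, (Nat.card P : ℂ) * (N i j : ℂ) * W i * W' j := by
      rw [hμ, Finset.sum_congr rfl fun η hη => by
        rw [hxv _ (hI.mapsTo (hmem.mp hη)), hzv η (hmem.mp hη), mul_assoc, Finset.sum_mul_sum, Finset.mul_sum],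
        Finset.sum_comm]
      refine Finset.sum_congr rfl fun i _ => ?_
      simp only [Finset.mul_sum]
      rw [Finset.sum_comm]
      refine Finset.sum_congr rfl fun j _ => ?_
      rw [← hN i j, ← hchg fun χ => S.f χ (y i) * S.f χ (ψ (y' j)),
        Finset.sum_mul, Finset.sum_mul]
      exact Finset.sum_congr rfl fun η hη => by
        rw [← hmatch η (hmem.mp hη) (y' j) (hy' j)]
        linear_combination S.f (I η) (y i) * S.f (I η) (ψ (y' j)) * W i * W' j * hsq η (hmem.mp hη)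
    refine ⟨(mem_locRing M).mp ?_, (mem_locRing M).mp ?_, Or.inl ⟨fun h => absurd hx h, fun h => absurd hz h⟩⟩
    · rw [hval, Finset.sum_div]
      refine Subring.sum_mem _ fun i _ => ?_
      rw [Finset.sum_div]
      refine Subring.sum_mem _ fun j _ => ?_
      rw [show (Nat.card P : ℂ) * (N i j : ℂ) * W i * W' j /
          (Nat.card (Subgroup.centralizer ({x} : Set G)) : ℂ) = (N i j : ℂ) *
          ((Nat.card P : ℂ) * W i / (Nat.card (Subgroup.centralizer ({x} : Set G)) : ℂ)) * W' j by ring]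
      exact Subring.mul_mem _ (Subring.mul_mem _ (intCast_mem _ _) (hW i).2) (hW' j).1
    · rw [hval, Finset.sum_div]
      refine Subring.sum_mem _ fun i _ => ?_
      rw [Finset.sum_div]
      refine Subring.sum_mem _ fun j _ => ?_
      rw [show (Nat.card P : ℂ) * (N i j : ℂ) * W i * W' j /
          (Nat.card (Subgroup.centralizer ({z} : Set H)) : ℂ) = (N i j : ℂ) *
          ((Nat.card P : ℂ) * W' j / (Nat.card (Subgroup.centralizer ({z} : Set H)) : ℂ)) * W i by ring,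
        ← hcard]
      exact Subring.mul_mem _ (Subring.mul_mem _ (intCast_mem _ _) (hW' j).2) (hW i).1
  · have h0 := hmix' x z hx hz
    refine ⟨(mem_locRing M).mp ?_, (mem_locRing M).mp ?_, Or.inr h0⟩ <;> rw [h0, zero_div] <;> exact zero_mem _
  · have h0 := hmix x z hx hz
    refine ⟨(mem_locRing M).mp ?_, (mem_locRing M).mp ?_, Or.inr h0⟩ <;> rw [h0, zero_div] <;> exact zero_mem _
  · refine ⟨(mem_locRing M).mp ?_, (mem_locRing M).mp ?_, Or.inl ⟨fun _ => hz, fun _ => hx⟩⟩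
    · rw [hA]
      exact div_centralizer_mem hM _ _ (fun χ _ => hint (J χ) z)
        (fun g hg => by rw [← hA]; exact hmix' g z hg hz) hx
    · rw [hA']
      exact div_centralizer_mem hM _ _ (fun η _ => hint' η x)
        (fun g hg => by rw [← hA']; exact hmix x g hx hg) hz


end CfsgLib.Blocks.Sections
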