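import Cfsg.Agent.Lib.Blocks.Covering
import Cfsg.Agent.Lib.Blocks.GaloisInv
import Cfsg.Agent.Lib.Char.Burnside

/-!
# Principal blocks of simple groups

* `eq_one_of_primePow_degree`: a character of `p`-power degree in the principal `p`-block of a
  non-abelian simple group is principal;
* `not_orderOf_mul_eq`: no element of order `q * r` in a simple group of order `p^a q^b r`.
-/

set_option autoImplicit false

noncomputable section

namespace CfsgLib.Blocks

open Cfsg Module
open scoped ComplexConjugate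

variable {G : Type*} [Group G] [Fintype G] [IsSimpleGroup G]

theorem eq_one_of_primePow_degree {p : ℕ} {M : Ideal AlgInt} (hM : IsPModular p M)
    (hna : ∃ a b : G, a * b ≠ b * a) {χ : IrrCharacter G} (hχ : χ ∈ principalBlock M G) {k : ℕ}
    (hdeg : (χ : G → ℂ) 1 = (p : ℂ) ^ k) : (χ : G → ℂ) = fun _ => 1 := by
  classical
  have := hM.2.1
  have : Fact p.Prime := ⟨hM.1⟩
  have hcen : Subgroup.center G = ⊥ := by
    refine (Subgroup.Normal.eq_bot_or_eq_top inferInstance).resolve_right fun h => ?_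
    obtain ⟨a, b, hab⟩ := hna
    exact hab (Subgroup.mem_center_iff.mp (h ▸ Subgroup.mem_top b : b ∈ Subgroup.center G) a)
  obtain ⟨n, ρ, hirr, hρ⟩ := χ.2
  by_contra hne
  have hker : (ρ : G →* ((Fin n → ℂ) →ₗ[ℂ] (Fin n → ℂ))).ker = ⊥ := by
    refine (Subgroup.Normal.eq_bot_or_eq_top
      (ρ : G →* ((Fin n → ℂ) →ₗ[ℂ] (Fin n → ℂ))).normal_ker).resolve_right fun htop => ?_
    have hconst : ∀ x, (χ : G → ℂ) x = (χ : G → ℂ) 1 := fun x => by
      rw [← congrFun hρ x, ← congrFun hρ 1]
      have : ρ x = 1 := MonoidHom.mem_ker.mp (htop ▸ Subgroup.mem_top x)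
      simp [Representation.character, this]
    have h1 := CfsgLib.Char.classInner_irr_ne χ.2 CfsgLib.Char.isIrrCharacter_one hne
    rw [CfsgLib.Char.classInner_def, Finset.sum_congr rfl (fun x _ => by rw [hconst x, map_one, mul_one]),
      Finset.sum_const, Finset.card_univ, nsmul_eq_mul, ← Nat.card_eq_fintype_card,
      inv_mul_cancel_left₀ CfsgLib.Char.card_ne_zero'] at h1
    exact CfsgLib.Char.irr_one_ne_zero χ.2 h1
  have hscal : ∀ g : G, (∀ x : G, ρ g * ρ x = ρ x * ρ g) → g ∈ Subgroup.center G := fun g hg =>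
    Subgroup.mem_center_iff.mpr fun x => (ρ.ker_eq_bot_iff.mp hker)
      (by rw [map_mul, map_mul, hg])
  have hfr : (finrank ℂ (Fin n → ℂ) : ℂ) = (p : ℂ) ^ k := by
    rw [← hdeg, ← congrFun hρ 1, Representation.char_one]
  have hfr' : finrank ℂ (Fin n → ℂ) = p ^ k := by exact_mod_cast hfr
  have hk : k ≠ 0 := by
    rintro rfl
    obtain ⟨a, b, hab⟩ := hna
    refine hab ((ρ.ker_eq_bot_iff.mp hker) ?_)
    obtain ⟨v, -, hv⟩ := finrank_eq_one_iff'.mp (hfr'.trans (pow_zero p))
    refine LinearMap.ext fun w => ?_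
    obtain ⟨c, rfl⟩ := hv w
    rw [map_smul, map_smul, map_mul, map_mul, Module.End.mul_apply, Module.End.mul_apply]
    obtain ⟨ca, hca⟩ := hv (ρ a v)
    obtain ⟨cb, hcb⟩ := hv (ρ b v)
    rw [← hca, ← hcb, map_smul, map_smul, ← hca, ← hcb, smul_smul ca cb, smul_smul cb ca, mul_comm ca]
  have hpG : p ∣ Nat.card G := by
    have h := CfsgLib.CharBlocks.charDegree_dvd_card χ.2
    rw [CfsgLib.CharBlocks.charDegree_eq (n := p ^ k) (by rw [hdeg]; push_cast; rfl)] at h
    exact (dvd_pow_self p hk).trans h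
  let P : Sylow p G := default
  have hP : Nontrivial (P : Subgroup G) := by
    rw [← Finite.one_lt_card_iff_nontrivial]
    exact hM.1.one_lt.trans_le (Nat.le_of_dvd Nat.card_pos (P.dvd_card_of_dvd_card hpG))
  have : Nontrivial (Subgroup.center (P : Subgroup G)) := P.2.center_nontrivial
  obtain ⟨z, hz⟩ := exists_ne (1 : Subgroup.center (P : Subgroup G))
  set g : G := ((z : (P : Subgroup G)) : G) with hg
  have hg1 : g ≠ 1 := fun h => hz (Subtype.ext (Subtype.ext h))
  have hle : (P : Subgroup G) ≤ Subgroup.centralizer ({g} : Set G) := fun x hx => by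
    rw [Subgroup.mem_centralizer_singleton_iff]
    exact congrArg Subtype.val (Subgroup.mem_center_iff.mp z.2 ⟨x, hx⟩)
  have hcop : ¬ p ∣ (Subgroup.centralizer ({g} : Set G)).index := fun h =>
    P.not_dvd_index (h.trans (Subgroup.index_dvd_of_le hle))
  rcases CfsgLib.Char.zero_or_norm_eq ρ g (by
      rw [hfr']; exact Nat.Coprime.pow_left _ (hM.1.coprime_iff_not_dvd.mpr hcop)) with h0 | hnorm
  · have hb : MemLocalIdeal M (centralChar (fun _ : G => (1 : ℂ)) g - centralChar (χ : G → ℂ) g) :=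
      hχ g
    rw [centralChar, centralChar, ← congrFun hρ g, h0] at hb
    simp only [mul_one, div_one, mul_zero, zero_div, sub_zero] at hb
    refine hcop ((res_natCast_eq_zero_iff M hM _).mp ((res_eq_zero_iff M _).mpr ?_))
    simpa using hb
  · obtain ⟨ω, hω⟩ := (CfsgLib.Char.norm_character_eq_iff ρ g).mp hnorm
    refine hg1 ?_
    have : g ∈ Subgroup.center G := hscal g fun x => by
      rw [hω]
      exact LinearMap.ext fun v => by simp
    rwa [hcen, Subgroup.mem_bot] at this

/-- No element of order `q * r` in a simple group of order `p^a q^b r`. -/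
theorem not_orderOf_mul_eq {p q r a b : ℕ} (hp : p.Prime) (hq : q.Prime) (hr : r.Prime)
    (hpq : p ≠ q) (hpr : p ≠ r) (hqr : q ≠ r) (hcard : Nat.card G = p ^ a * q ^ b * r)
    (hna : ∃ u v : G, u * v ≠ v * u) (y : G) : orderOf y ≠ q * r := by
  classical
  intro hy
  obtain ⟨Mp, hMp⟩ := exists_isPModular hp
  obtain ⟨Mq, hMq⟩ := exists_isPModular hq
  obtain ⟨Mr, hMr⟩ := exists_isPModular hr
  have := hMp.2.1
  have := hMq.2.1
  have := hMr.2.1
  have hB : IsPBlock Mq (principalBlock Mq G) := by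
    rw [principalBlock_eq]; exact isPBlock_blockOf _
  have horth := weak_orthogonality hMq hB (x := 1) (y := y)
    (by rw [orderOf_one]; exact hq.not_dvd_one) (by rw [hy]; exact dvd_mul_right q r)
  rw [← Finset.add_sum_erase Finset.univ _ (Finset.mem_univ (CfsgLib.Char.irrOne (G := G))),
    if_pos (by rw [principalBlock_eq]; exact mem_blockOf_self _)] at horth
  simp only [CfsgLib.Char.irrOne_apply, map_one, mul_one] at horth
  have key : ∀ η ∈ Finset.univ.erase (CfsgLib.Char.irrOne (G := G)),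
      MemLocalIdeal Mp
        (if η ∈ principalBlock Mq G then (η : G → ℂ) 1 * conj ((η : G → ℂ) y) else 0) := by
    intro η hη
    split_ifs with hmem
    swap
    · exact (res_eq_zero_iff Mp 0).mp (map_zero _)
    set d := charDegree (η : G → ℂ) with hd
    have hd1 : (η : G → ℂ) 1 = (d : ℂ) := (CfsgLib.CharBlocks.coe_charDegree_irr η).symm
    have hdvd : d ∣ p ^ a * q ^ b * r := hcard ▸ CfsgLib.CharBlocks.charDegree_dvd_card η.2
    have hint : IsIntegral ℤ (conj ((η : G → ℂ) y)) := by
      rw [← CfsgLib.Char.char_inv (CfsgLib.Char.isCharacter_of_isIrr η.2)]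
      exact CfsgLib.Char.char_isIntegral (CfsgLib.Char.isCharacter_of_isIrr η.2) _
    by_cases hpd : p ∣ d
    · have h0 : res Mp (d : locRing Mp) = 0 := (res_natCast_eq_zero_iff Mp hMp d).mpr hpd
      have h1 : res Mp ((d : locRing Mp) * ⟨_, algInt_le_locRing Mp hint⟩) = 0 := by
        rw [map_mul, h0, zero_mul]
      rw [res_eq_zero_iff] at h1
      rw [hd1]
      simpa using h1
    by_cases hrd : r ∣ d
    · have hsing := blockOf_eq_singleton hMr η (fun hdd => by
        obtain ⟨m, hm⟩ := hrd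
        have h2 : r * r ∣ Nat.card G := by
          have := mul_dvd_mul (show r ∣ d from ⟨m, hm⟩) hdd
          rwa [hd, Nat.mul_div_cancel' (CfsgLib.CharBlocks.charDegree_dvd_card η.2)] at this
        rw [hcard] at h2
        have h3 : r ∣ p ^ a * q ^ b := (Nat.mul_dvd_mul_iff_right hr.pos).mp h2
        rcases hr.dvd_mul.mp h3 with h | h
        · exact hpr ((Nat.prime_dvd_prime_iff_eq hr hp).mp (hr.dvd_of_dvd_pow h)).symm
        · exact hqr ((Nat.prime_dvd_prime_iff_eq hr hq).mp (hr.dvd_of_dvd_pow h)).symm)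
      have h2 := weak_orthogonality hMr (isPBlock_blockOf η) (x := 1) (y := y)
        (by rw [orderOf_one]; exact hr.not_dvd_one) (by rw [hy]; exact dvd_mul_left r q)
      simp only [hsing, Set.mem_singleton_iff, Finset.sum_ite_eq', Finset.mem_univ, if_true] at h2
      rw [h2]
      exact (res_eq_zero_iff Mp 0).mp (map_zero _)
    exfalso
    have hdq : d ∣ q ^ b := by
      have h1 : Nat.Coprime d r := (hr.coprime_iff_not_dvd.mpr hrd).symm
      have h2 : Nat.Coprime d (p ^ a) := (hp.coprime_iff_not_dvd.mpr hpd).symm.pow_right a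
      exact h2.dvd_of_dvd_mul_left (h1.dvd_of_dvd_mul_right hdvd)
    obtain ⟨c, -, hc⟩ := (Nat.dvd_prime_pow hq).mp hdq
    have := eq_one_of_primePow_degree hMq hna hmem (k := c) (by rw [hd1, hc]; push_cast; rfl)
    exact Finset.ne_of_mem_erase hη (Subtype.ext this)
  have hsum : MemLocalIdeal Mp (∑ η ∈ Finset.univ.erase (CfsgLib.Char.irrOne (G := G)),
      if η ∈ principalBlock Mq G then (η : G → ℂ) 1 * conj ((η : G → ℂ) y) else 0) := by
    have hmem : ∀ η ∈ Finset.univ.erase (CfsgLib.Char.irrOne (G := G)),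
        (if η ∈ principalBlock Mq G then (η : G → ℂ) 1 * conj ((η : G → ℂ) y) else 0) ∈ locRing Mp :=
      fun η hη => memLocalRing_of_memLocalIdeal Mp (key η hη)
    have : res Mp (⟨_, Subring.sum_mem _ hmem⟩ : locRing Mp) = 0 := by
      rw [show (⟨_, Subring.sum_mem _ hmem⟩ : locRing Mp) =
        ∑ η ∈ (Finset.univ.erase (CfsgLib.Char.irrOne (G := G))).attach,
          (⟨_, hmem η.1 η.2⟩ : locRing Mp) from Subtype.ext (by
            rw [AddSubmonoidClass.coe_finsetSum]
            exact (Finset.sum_attach _ _).symm), map_sum]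
      exact Finset.sum_eq_zero fun η _ => (res_eq_zero_iff Mp _).mpr (key η.1 η.2)
    exact (res_eq_zero_iff Mp _).mp this
  have heq : ∑ η ∈ Finset.univ.erase (CfsgLib.Char.irrOne (G := G)),
      (if η ∈ principalBlock Mq G then (η : G → ℂ) 1 * conj ((η : G → ℂ) y) else 0) = -1 := by
    linear_combination horth
  rw [heq] at hsum
  refine locRing_not_ideal_one Mp ?_
  have h1 : res Mp (-1 : locRing Mp) = 0 := (res_eq_zero_iff Mp _).mpr (by simpa using hsum)
  rw [map_neg, map_one, neg_eq_zero] at h1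
  exact absurd h1 one_ne_zero

end CfsgLib.Blocks
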