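import Cfsg.Agent.Lib.Blocks.Consequences
import Cfsg.Agent.Lib.Blocks.PPart
import Cfsg.Agent.Lib.CharNormal.Kernel
import Cfsg.Agent.Lib.FGS.Basics

/-!
# Counting blocks with a Sylow subgroup as defect group
-/

set_option autoImplicit false

noncomputable section

namespace CfsgLib.Blocks

open Cfsg
open scoped ComplexConjugate

section Normal

variable {M : Ideal AlgInt} [M.IsMaximal] {N : Type*} [Group N] [Fintype N] {p : ℕ} [hp : Fact p.Prime]
  (Q : Sylow p N) [hQn : (Q : Subgroup N).Normal]

theorem isDefectGroup_normal_sylow (hM : IsPModular p M) {b : Set (IrrCharacter N)} (hb : IsPBlock M b) :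
    IsDefectGroup p M b (Q : Subgroup N) := by
  obtain ⟨D, hD⟩ := exists_isDefectGroup (p := p) hb
  have hle : (Q : Subgroup N) ≤ D := normal_le_defect hM hb hD Q.2
  rwa [← Q.3 (IsDefectGroup.isPGroup hD) hle]

include Q hQn in
theorem blockDefect_normal_sylow (hM : IsPModular p M) {b : Set (IrrCharacter N)} (hb : IsPBlock M b) :
    blockDefect p b = (Nat.card N).factorization p := by
  have h := card_defectGroup hM hb (isDefectGroup_normal_sylow Q hM hb)
  rw [Q.card_eq_multiplicity] at h
  exact (Nat.pow_right_injective hp.out.two_le h).symm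

omit [M.IsMaximal] in
theorem le_factorization_of_mem_centralizer {g : N} (hg : g ∈ Subgroup.centralizer ((Q : Subgroup N) : Set N)) :
    (Nat.card N).factorization p ≤ (Nat.card (Subgroup.centralizer ({g} : Set N))).factorization p := by
  refine (hp.out.pow_dvd_iff_le_factorization Nat.card_pos.ne').mp ?_
  rw [← Q.card_eq_multiplicity]
  exact Subgroup.card_dvd_of_le (le_centralizer_singleton_iff.mpr hg)

omit [M.IsMaximal] in
theorem eq_of_mk_eq {a b : N} (ha : ¬ p ∣ orderOf a) (hb : ¬ p ∣ orderOf b)
    (hac : a ∈ Subgroup.centralizer ((Q : Subgroup N) : Set N))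
    (h : (a : N ⧸ (Q : Subgroup N)) = (b : N ⧸ (Q : Subgroup N))) : a = b := by
  have hx : a⁻¹ * b ∈ (Q : Subgroup N) := QuotientGroup.eq.mp h
  obtain ⟨k, hk⟩ := IsPGroup.iff_orderOf.mp Q.2 ⟨_, hx⟩
  rw [Subgroup.orderOf_mk] at hk
  have hcomm : Commute (a⁻¹ * b) a := Subgroup.mem_centralizer_iff.mp hac _ hx
  have h1 : IsPPart p b (a⁻¹ * b) := ⟨a, by rw [hcomm.eq, mul_inv_cancel_left], hcomm, ⟨k, hk⟩, ha⟩
  have h2 : (1 : N) = a⁻¹ * b := isPPart_unique (isPPart_one_iff.mpr hb) h1
  exact inv_mul_eq_one.mp h2.symm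

/-- With a normal Sylow subgroup, blocks correspond in number to regular classes centralising it. -/
theorem card_blocks_normal_sylow (hM : IsPModular p M) :
    Nat.card {b : Set (IrrCharacter N) // IsPBlock M b} =
      Nat.card {C : ConjClasses N // ∀ n : N, ConjClasses.mk n = C →
        ¬ p ∣ orderOf n ∧ n ∈ Subgroup.centralizer ((Q : Subgroup N) : Set N)} := by
  classical
  have : Finite (ConjClasses N) := Finite.of_surjective _ ConjClasses.mk_surjective
  let _ := Fintype.ofFinite (ConjClasses N)
  let _ := Fintype.ofFinite {b : Set (IrrCharacter N) // IsPBlock M b}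
  let _ := Fintype.ofFinite (N ⧸ (Q : Subgroup N))
  set a := (Nat.card N).factorization p
  set K : ConjClasses N → Prop := fun C => ∀ n : N, ConjClasses.mk n = C →
    ¬ p ∣ orderOf n ∧ n ∈ Subgroup.centralizer ((Q : Subgroup N) : Set N) with hK
  apply le_antisymm
  · refine le_trans ?_ (le_trans (count_le (M := M) (G := N) hM a) ?_)
    · exact Nat.card_le_card_of_injective
        (fun b => ⟨b.1, b.2, (blockDefect_normal_sylow Q hM b.2).ge⟩)
        fun b c h => Subtype.ext (congrArg Subtype.val h :)
    · refine Nat.card_le_card_of_injective (fun C => ⟨C.1, ?_⟩) fun b c h => Subtype.ext (congrArg Subtype.val h :)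
      obtain ⟨C, g, rfl, hg, hd⟩ := C
      intro n hn
      obtain ⟨w, hw⟩ := isConj_iff.mp (ConjClasses.mk_eq_mk_iff_isConj.mp hn.symm)
      obtain ⟨E, hE⟩ := exists_isClassDefect (p := p) g
      have hEQ : E = (Q : Subgroup N) := by
        have hle : E ≤ (Q : Subgroup N) := fun u hu => by
          obtain ⟨k, hk⟩ := IsPGroup.iff_orderOf.mp hE.isPGroup ⟨u, hu⟩
          rw [Subgroup.orderOf_mk] at hk
          refine CfsgLib.FGS.mem_of_mem_normalizer Q ⟨k, hk⟩ ?_
          rw [Subgroup.normalizer_eq_top]; exact Subgroup.mem_top u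
        refine Subgroup.eq_of_le_of_card_ge hle ?_
        rw [hE.card, Q.card_eq_multiplicity]
        exact Nat.pow_le_pow_right hp.out.pos hd
      subst hw
      refine ⟨by rwa [(SemiconjBy.conj_mk w g).orderOf_eq.symm], ?_⟩
      have hgc := hE.mem_centralizer
      rw [hEQ] at hgc
      exact conj_mem_centralizer (by rw [Subgroup.normalizer_eq_top]; exact Subgroup.mem_top w) hgc
  · choose χ hχ using fun b : {b : Set (IrrCharacter N) // IsPBlock M b} => IsPBlock.nonempty b.2
    set U : {C // K C} → ({b : Set (IrrCharacter N) // IsPBlock M b} → Res M) := fun C b =>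
      tauClass M p b.1 C.1.out * bomega (χ b) (zclass M C.1.out) with hU
    have hout : ∀ C : {C // K C}, ¬ p ∣ orderOf C.1.out ∧
        C.1.out ∈ Subgroup.centralizer ((Q : Subgroup N) : Set N) := fun C => C.2 _ (Quotient.out_eq _)
    have hU' : ∀ (η : IrrCharacter N) (C : {C // K C}), cval M η C.1.out =
        kappa M p (blockOf M (η : N → ℂ)) η * U C ⟨_, isPBlock_blockOf η⟩ := by
      intro η C
      have hb := isPBlock_blockOf (M := M) η
      rw [cval_eq_kappa_mul hM hb (mem_blockOf_self η)
        ((blockDefect_normal_sylow Q hM hb).le.trans (le_factorization_of_mem_centralizer Q (hout C).2)),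
        bomega_eq_of_mem hb (mem_blockOf_self η) (hχ ⟨_, hb⟩)]
    have hli : LinearIndependent (Res M) U := by
      refine Fintype.linearIndependent_iff.mpr fun c hc C₀ => ?_
      have hη : ∀ η : IrrCharacter N, ∑ C : {C // K C}, c C * cval M η C.1.out = 0 := by
        intro η
        simp only [hU']
        have := congrFun hc ⟨_, isPBlock_blockOf η⟩
        simp only [Finset.sum_apply, Pi.smul_apply, smul_eq_mul, Pi.zero_apply] at this
        rw [← mul_zero (kappa M p (blockOf M (η : N → ℂ)) η), ← this, Finset.mul_sum]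
        exact Finset.sum_congr rfl fun C _ => by ring
      set q₀ : N ⧸ (Q : Subgroup N) := (C₀.1.out : N ⧸ (Q : Subgroup N))
      let infl : IrrCharacter (N ⧸ (Q : Subgroup N)) → IrrCharacter N := fun φ =>
        ⟨_, CfsgLib.CharNormal.isIrr_comp_mk' (Q : Subgroup N) φ.2⟩
      have hsum : ∀ C : {C // K C},
          ∑ φ : IrrCharacter (N ⧸ (Q : Subgroup N)), cval M φ q₀⁻¹ * cval M (infl φ) C.1.out =
            if C = C₀ then (Nat.card (Subgroup.centralizer ({q₀} : Set (N ⧸ (Q : Subgroup N)))) : Res M)
              else 0 := by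
        intro C
        have h1 : ∀ φ : IrrCharacter (N ⧸ (Q : Subgroup N)), cval M φ q₀⁻¹ * cval M (infl φ) C.1.out =
            res M (cvalR M (CfsgLib.Char.isCharacter_of_isIrr φ.2) q₀⁻¹ *
              cvalR M (CfsgLib.Char.isCharacter_of_isIrr (infl φ).2) C.1.out) := fun φ => (map_mul _ _ _).symm
        simp only [h1, ← map_sum]
        have hiff : IsConj (C.1.out : N ⧸ (Q : Subgroup N)) q₀ ↔ C = C₀ := by
          constructor
          · intro h
            obtain ⟨v, hv⟩ := isConj_iff.mp h
            obtain ⟨w, rfl⟩ := QuotientGroup.mk_surjective v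
            have h2 := eq_of_mk_eq Q (a := C₀.1.out) (b := w * C.1.out * w⁻¹) (hout C₀).1
              (by rw [(SemiconjBy.conj_mk w C.1.out).orderOf_eq.symm]; exact (hout C).1) (hout C₀).2
              (by rw [QuotientGroup.mk_mul, QuotientGroup.mk_mul, QuotientGroup.mk_inv, hv])
            refine Subtype.ext ?_
            rw [← Quotient.out_eq C.1, ← Quotient.out_eq C₀.1]
            exact ConjClasses.mk_eq_mk_iff_isConj.mpr (isConj_iff.mpr ⟨w, h2.symm⟩)
          · rintro rfl; exact IsConj.refl _
        have h3 : (∑ φ : IrrCharacter (N ⧸ (Q : Subgroup N)),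
            cvalR M (CfsgLib.Char.isCharacter_of_isIrr φ.2) q₀⁻¹ *
              cvalR M (CfsgLib.Char.isCharacter_of_isIrr (infl φ).2) C.1.out) =
            if C = C₀ then ((Nat.card (Subgroup.centralizer ({q₀} : Set (N ⧸ (Q : Subgroup N)))) : ℕ) :
              locRing M) else 0 := by
          refine Subtype.ext ?_
          rw [AddSubmonoidClass.coe_finsetSum]
          have h4 := CfsgLib.Char.second_orthogonality (C.1.out : N ⧸ (Q : Subgroup N)) q₀
          refine Eq.trans (Finset.sum_congr rfl fun φ _ => ?_) (h4.trans ?_)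
          · rw [MulMemClass.coe_mul, coe_cvalR, coe_cvalR,
              CfsgLib.Char.char_inv (CfsgLib.Char.isCharacter_of_isIrr φ.2), mul_comm]
            rfl
          · by_cases hCC : C = C₀
            · rw [if_pos (hiff.mpr hCC), if_pos hCC, hCC]; simp [q₀]
            · rw [if_neg (fun h => hCC (hiff.mp h)), if_neg hCC]; rfl
        rw [h3]
        split_ifs <;> simp
      have hfin : c C₀ * (Nat.card (Subgroup.centralizer ({q₀} : Set (N ⧸ (Q : Subgroup N)))) : Res M) = 0 := by
        calc c C₀ * (Nat.card (Subgroup.centralizer ({q₀} : Set (N ⧸ (Q : Subgroup N)))) : Res M)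
            = ∑ C : {C // K C}, c C * ∑ φ : IrrCharacter (N ⧸ (Q : Subgroup N)),
                cval M φ q₀⁻¹ * cval M (infl φ) C.1.out := by
              simp only [hsum, mul_ite, mul_zero, Finset.sum_ite_eq', Finset.mem_univ, if_true]
          _ = ∑ φ : IrrCharacter (N ⧸ (Q : Subgroup N)), cval M φ q₀⁻¹ *
                ∑ C : {C // K C}, c C * cval M (infl φ) C.1.out := by
              simp only [Finset.mul_sum]
              rw [Finset.sum_comm]
              exact Finset.sum_congr rfl fun φ _ => Finset.sum_congr rfl fun C _ => by ring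
          _ = 0 := by simp [hη]
      refine (mul_eq_zero.mp hfin).resolve_right ?_
      intro h0
      rw [← map_natCast (res M)] at h0
      have hd := (res_natCast_eq_zero_iff M hM _).mp h0
      have hidx : ¬ p ∣ (Q : Subgroup N).index := Q.not_dvd_index
      exact hidx (hd.trans (Subgroup.card_subgroup_dvd_card _))
    have := hli.fintype_card_le_finrank
    rw [Module.finrank_fintype_fun_eq_card] at this
    simpa only [Nat.card_eq_fintype_card] using this

end Normal

variable {M : Ideal AlgInt} [M.IsMaximal] {G : Type*} [Group G] [Fintype G] {p : ℕ} [hp : Fact p.Prime]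

/-- The number of blocks with a Sylow subgroup as defect group. -/
theorem card_blocks_sylow_defect (hM : IsPModular p M) (P : Sylow p G) :
    Nat.card {B : Set (IrrCharacter G) // IsPBlock M B ∧ IsDefectGroup p M B (P : Subgroup G)} =
      Nat.card {C : ConjClasses (Subgroup.normalizer ((P : Subgroup G) : Set G)) //
        ∀ n : Subgroup.normalizer ((P : Subgroup G) : Set G), ConjClasses.mk n = C →
          ¬ p ∣ orderOf n ∧ (n : G) ∈ Subgroup.centralizer ((P : Subgroup G) : Set G)} := by
  classical
  let _ := Fintype.ofFinite (Subgroup.normalizer ((P : Subgroup G) : Set G))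
  set Q : Sylow p (Subgroup.normalizer ((P : Subgroup G) : Set G)) := P.subtype Subgroup.le_normalizer
  have hQn : (Q : Subgroup (Subgroup.normalizer ((P : Subgroup G) : Set G))).Normal :=
    Subgroup.normal_in_normalizer
  have hiff : ∀ n : Subgroup.normalizer ((P : Subgroup G) : Set G),
      n ∈ Subgroup.centralizer ((Q : Subgroup (Subgroup.normalizer ((P : Subgroup G) : Set G))) : Set _) ↔
        (n : G) ∈ Subgroup.centralizer ((P : Subgroup G) : Set G) := by
    intro n
    rw [Subgroup.mem_centralizer_iff, Subgroup.mem_centralizer_iff]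
    exact ⟨fun h w hw => congrArg Subtype.val (h ⟨w, Subgroup.le_normalizer hw⟩ hw),
      fun h w hw => Subtype.ext (h w hw)⟩
  rw [← Nat.card_congr (Equiv.subtypeEquivRight fun C => forall_congr' fun n => imp_congr_right fun _ =>
    and_congr_right fun _ => hiff n), ← card_blocks_normal_sylow Q hM]
  choose f hf1 hf2 hf3 using
    fun b : {b : Set (IrrCharacter (Subgroup.normalizer ((P : Subgroup G) : Set G))) // IsPBlock M b} =>
      exists_induced_with_defect hM P.2 b.2 (isDefectGroup_normal_sylow Q hM b.2)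
  symm
  refine Nat.card_eq_of_bijective (fun b => ⟨f b, hf1 b, hf2 b⟩) ⟨fun b c h => ?_, fun B => ?_⟩
  · obtain ⟨u, -, hu⟩ := existsUnique_inducing_with_defect hM P.2 (hf1 b) (hf2 b)
    have hfc : f b = f c := congrArg Subtype.val h
    exact Subtype.ext ((hu _ ⟨b.2, isDefectGroup_normal_sylow Q hM b.2, hf3 b⟩).trans
      (hu _ ⟨c.2, isDefectGroup_normal_sylow Q hM c.2, hfc ▸ hf3 c⟩).symm)
  · obtain ⟨u, ⟨hu1, -, hu3⟩, -⟩ := existsUnique_inducing_with_defect hM P.2 B.2.1 B.2.2
    exact ⟨⟨u, hu1⟩, Subtype.ext (inducedBlock_unique _ (hf3 ⟨u, hu1⟩) hu3)⟩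

end CfsgLib.Blocks
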