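import Cfsg.Agent.Lib.Blocks.SymAlgTwo
import Mathlib.Tactic.NoncommRing

/-!
# Symmetric algebras with one simple module and a centre of dimension at most four

`finrank_le_sq_mul`: such an algebra is a matrix algebra over a commutative local algebra, so its dimension is
at most the square of the degree of the simple module times the dimension of the centre (Külshammer).
-/

set_option autoImplicit false
set_option maxHeartbeats 1600000

noncomputable section

namespace CfsgLib.Blocks.SymAlgFour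

variable {k : Type*} [Field k] {B : Type*} [Ring B] [Algebra k B] [FiniteDimensional k B]

/-- The radical of a local symmetric corner with a small commutator quotient is commutative. -/
theorem comm_radical (τ : B →ₗ[k] k) (hnd : ∀ b, (∀ a, τ (b * a) = 0) → b = 0) {e : B} (he : e * e = e)
    (hsymm : ∀ a b, τ (a * b) = τ (b * a))
    (A S W : Submodule k B) (heA : e ∈ A) (hSA : S ≤ A) (hA : ∀ a, a ∈ A ↔ e * a = a ∧ a * e = a)
    (hdec : ∀ a ∈ A, ∃ c : k, a - c • e ∈ S) (heS : e ∉ S)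
    (hSS : S * S ≤ S) {N : ℕ} (hSN : S ^ (N + 1) = ⊥)
    (hW : ∀ a ∈ A, ∀ b ∈ A, a * b - b * a ∈ W) (hWgen : W ≤ Submodule.span k {w | ∃ a ∈ A, ∃ b ∈ A, a * b - b * a = w})
    (hτW : ∀ w ∈ W, τ w = 0) (hcod : Module.finrank k A ≤ Module.finrank k W + 4) :
    ∀ s ∈ S, ∀ t ∈ S, s * t = t * s := by
  classical
  have hmul : ∀ a ∈ S, ∀ b ∈ S, a * b ∈ S * S := fun a ha b hb => Submodule.mul_mem_mul ha hb
  have hWS : ∀ U : Submodule k B, (∀ a ∈ S, ∀ b ∈ S, a * b - b * a ∈ U) → W ≤ U := fun U hU => by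
    refine hWgen.trans (Submodule.span_le.mpr ?_)
    rintro _ ⟨a, ha, b, hb, rfl⟩
    obtain ⟨c, hc⟩ := hdec a ha
    obtain ⟨c', hc'⟩ := hdec b hb
    have h := hU _ hc _ hc'
    have h1 : a * b - b * a = (a - c • e) * (b - c' • e) - (b - c' • e) * (a - c • e) := by
      simp only [sub_mul, mul_sub, smul_mul_assoc, mul_smul_comm, smul_smul, ((hA a).mp ha).1, ((hA a).mp ha).2,
        ((hA b).mp hb).1, ((hA b).mp hb).2, he]
      module
    show a * b - b * a ∈ U
    rwa [h1]
  -- elements killed by the radical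
  have hkill : ∀ s ∈ S, (∀ t ∈ S, s * t = 0) → τ s = 0 → s = 0 := by
    intro s hs hst hτ
    obtain ⟨hse1, hse2⟩ := (hA s).mp (hSA hs)
    refine hnd s fun b => ?_
    have hebe : e * b * e ∈ A :=
      (hA _).mpr ⟨by rw [← mul_assoc, ← mul_assoc, he], by rw [mul_assoc (e * b), he]⟩
    obtain ⟨c, hc⟩ := hdec _ hebe
    have h1 : s * (e * b * e) = c • s := by
      have h := hst _ hc
      rw [mul_sub, mul_smul_comm, hse2, sub_eq_zero] at h
      exact h
    calc τ (s * b) = τ ((e * s) * (e * b)) := by rw [hse1, ← mul_assoc, hse2]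
      _ = τ ((s * (e * b)) * e) := by rw [mul_assoc e, hsymm]
      _ = τ (s * (e * b * e)) := by simp only [mul_assoc]
      _ = 0 := by rw [h1, map_smul, hτ, smul_zero]
  have hS2le : S ^ 2 ≤ S := by rw [pow_two]; exact hSS
  have hantitone : ∀ i j, 1 ≤ i → i ≤ j → S ^ j ≤ S ^ i := fun i j hi hij => by
    induction j, hij using Nat.le_induction with
    | base => exact le_rfl
    | succ j hij ih =>
      refine le_trans ?_ ih
      obtain ⟨m, rfl⟩ : ∃ m, j = m + 1 := ⟨j - 1, by omega⟩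
      calc S ^ (m + 1 + 1) = S ^ m * (S * S) := by rw [pow_succ, pow_succ, mul_assoc]
        _ ≤ S ^ m * S := mul_le_mul' le_rfl hSS
        _ = S ^ (m + 1) := (pow_succ _ _).symm
  -- a power of the radical not inside the commutators
  have hnotW : ∀ m, 1 ≤ m → S ^ m ≠ ⊥ → ¬ S ^ m ≤ W := by
    intro m hm hne hle
    have hP : ∃ j, S ^ j = ⊥ := ⟨N + 1, hSN⟩
    have hlt : m < Nat.find hP := by
      by_contra h
      push Not at h
      have h1 := Nat.find_spec hP
      rcases Nat.eq_zero_or_pos (Nat.find hP) with h0 | h0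
      · rw [h0, pow_zero] at h1
        exact hne (by rw [← one_mul (S ^ m), h1, Submodule.bot_mul])
      · exact hne (le_bot_iff.mp ((hantitone _ m h0 h).trans h1.le))
    have hj : Nat.find hP = (Nat.find hP - 1) + 1 := by omega
    refine Nat.find_min hP (m := Nat.find hP - 1) (by omega) (le_bot_iff.mp fun s hs => ?_)
    have hs1 : s ∈ S := by simpa using hantitone 1 _ le_rfl (by omega) hs
    rw [Submodule.mem_bot]
    refine hkill s hs1 (fun t ht => ?_) (hτW s (hle (hantitone m _ hm (by omega) hs)))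
    have : s * t ∈ S ^ Nat.find hP := by rw [hj, pow_succ]; exact Submodule.mul_mem_mul hs ht
    rw [Nat.find_spec hP] at this
    exact (Submodule.mem_bot k).mp this
  by_cases h3 : S ^ 3 = ⊥
  · intro s hs t ht
    by_contra hne
    have h2 : s * t - t * s ∈ S ^ 2 := by
      rw [pow_two]; exact Submodule.sub_mem _ (hmul _ hs _ ht) (hmul _ ht _ hs)
    refine hne (sub_eq_zero.mp (hkill _ (hS2le h2) (fun u hu => ?_) (hτW _ (hW _ (hSA hs) _ (hSA ht)))))
    have : (s * t - t * s) * u ∈ S ^ 3 := by rw [pow_succ]; exact Submodule.mul_mem_mul h2 hu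
    rw [h3] at this
    exact (Submodule.mem_bot k).mp this
  -- the dimensions
  have hW2 : W ≤ S ^ 2 := hWS _ fun a ha b hb => by
    rw [pow_two]; exact Submodule.sub_mem _ (hmul _ ha _ hb) (hmul _ hb _ ha)
  have hlt3 : W < W ⊔ S ^ 3 := lt_of_le_of_ne le_sup_left fun h => hnotW 3 (by norm_num) h3 (h ▸ le_sup_right)
  have hW32 : W ⊔ S ^ 3 ≤ S ^ 2 := sup_le hW2 (hantitone 2 3 (by norm_num) (by norm_num))
  have hd1 := Submodule.finrank_lt_finrank_of_lt hlt3
  have hd2 := Submodule.finrank_mono hW32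
  have hd3 : Module.finrank k S + 1 ≤ Module.finrank k A :=
    Nat.succ_le_of_lt (Submodule.finrank_lt_finrank_of_lt (lt_of_le_of_ne hSA fun h => heS (h ▸ heA)))
  -- one generator
  by_cases h1gen : ∃ g ∈ S, S ≤ (k ∙ g) ⊔ S ^ 2
  · obtain ⟨g, hgS, hgen⟩ := h1gen
    set C : Submodule k B := Submodule.span k (Set.range fun i : ℕ => g ^ (i + 1))
    have hgle : (k ∙ g) ≤ S := (Submodule.span_singleton_le_iff_mem _ _).mpr hgS
    have hstep : ∀ m, S ^ (m + 1) ≤ (k ∙ g ^ (m + 1)) ⊔ S ^ (m + 2) := fun m => by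
      induction m with
      | zero => rwa [pow_one, pow_one]
      | succ m ih =>
        have h2 : (k ∙ g ^ (m + 1)) * S ^ 2 ≤ S ^ (m + 1 + 2) := by
          rw [pow_add (S) (m + 1) 2]
          exact mul_le_mul' ((Submodule.span_singleton_le_iff_mem _ _).mpr
            (Submodule.pow_mem_pow S hgS (m + 1))) le_rfl
        calc S ^ (m + 1 + 1) = S ^ (m + 1) * S := pow_succ _ _
          _ ≤ ((k ∙ g ^ (m + 1)) ⊔ S ^ (m + 2)) * S := mul_le_mul' ih le_rfl
          _ ≤ (k ∙ g ^ (m + 1)) * ((k ∙ g) ⊔ S ^ 2) ⊔ S ^ (m + 2 + 1) := by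
              rw [Submodule.sup_mul, ← pow_succ]
              exact sup_le_sup_right (mul_le_mul' le_rfl hgen) _
          _ ≤ _ := by
              rw [Submodule.mul_sup, Submodule.span_mul_span, Set.singleton_mul_singleton, ← pow_succ]
              exact sup_le (sup_le le_sup_left (h2.trans le_sup_right)) le_sup_right
    have hSC : ∀ m, S ≤ C ⊔ S ^ (m + 1) := fun m => by
      induction m with
      | zero => rw [pow_one]; exact le_sup_right
      | succ m ih =>
        exact ih.trans (sup_le le_sup_left ((hstep m).trans (sup_le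
          (le_sup_of_le_left ((Submodule.span_singleton_le_iff_mem _ _).mpr (Submodule.subset_span ⟨m, rfl⟩)))
          le_sup_right)))
    have hSC' : S ≤ C := (hSC N).trans (by rw [hSN, sup_bot_eq])
    intro s hs t ht
    have hs' := hSC' hs
    have ht' := hSC' ht
    clear hs ht
    induction hs', ht' using Submodule.span_induction₂ with
    | mem_mem u v hu hv =>
      obtain ⟨i, rfl⟩ := hu
      obtain ⟨j, rfl⟩ := hv
      exact ((Commute.refl g).pow_pow _ _).eq
    | zero_left => simp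
    | zero_right => simp
    | add_left _ _ _ _ _ _ h1 h2 => rw [add_mul, mul_add, h1, h2]
    | add_right _ _ _ _ _ _ h1 h2 => rw [add_mul, mul_add, h1, h2]
    | smul_left _ _ _ _ _ h1 => rw [smul_mul_assoc, mul_smul_comm, h1]
    | smul_right _ _ _ _ _ h1 => rw [smul_mul_assoc, mul_smul_comm, h1]
  -- two generators: impossible
  exfalso
  push Not at h1gen
  obtain ⟨x, hxS, hx⟩ : ∃ x ∈ S, x ∉ S ^ 2 := by
    refine SetLike.not_le_iff_exists.mp fun h => h1gen 0 S.zero_mem ?_
    exact h.trans le_sup_right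
  obtain ⟨y, hyS, hy⟩ : ∃ y ∈ S, y ∉ (k ∙ x) ⊔ S ^ 2 := SetLike.not_le_iff_exists.mp (h1gen x hxS)
  have hxle : (k ∙ x) ⊔ S ^ 2 ≤ S := sup_le ((Submodule.span_singleton_le_iff_mem _ _).mpr hxS) hS2le
  have hl1 : S ^ 2 < (k ∙ x) ⊔ S ^ 2 := lt_of_le_of_ne le_sup_right fun h =>
    hx (h ▸ Submodule.mem_sup_left (Submodule.mem_span_singleton_self x))
  set U := (k ∙ y) ⊔ ((k ∙ x) ⊔ S ^ 2) with hU
  have hl2 : (k ∙ x) ⊔ S ^ 2 < U := lt_of_le_of_ne le_sup_right fun h =>
    hy (h ▸ Submodule.mem_sup_left (Submodule.mem_span_singleton_self y))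
  have hUS : U ≤ S := sup_le ((Submodule.span_singleton_le_iff_mem _ _).mpr hyS) hxle
  have hd4 := Submodule.finrank_lt_finrank_of_lt hl1
  have hd5 := Submodule.finrank_lt_finrank_of_lt hl2
  have hd6 := Submodule.finrank_mono hUS
  have hS : U = S := Submodule.eq_of_le_of_finrank_le hUS (by omega)
  have hW3 : W ⊔ S ^ 3 = S ^ 2 := Submodule.eq_of_le_of_finrank_le hW32 (by omega)
  obtain ⟨c, hcd⟩ : ∃ c, c = x * y - y * x := ⟨_, rfl⟩
  have hcoord : ∀ a ∈ S, ∃ α β : k, ∃ j ∈ S ^ 2, a = α • x + β • y + j := fun a ha => by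
    rw [← hS, hU, Submodule.mem_sup] at ha
    obtain ⟨_, hy', _, hr, rfl⟩ := ha
    obtain ⟨β, rfl⟩ := Submodule.mem_span_singleton.mp hy'
    obtain ⟨_, hx', j, hj, rfl⟩ := Submodule.mem_sup.mp hr
    obtain ⟨α, rfl⟩ := Submodule.mem_span_singleton.mp hx'
    exact ⟨α, β, j, hj, by abel⟩
  have hS3r : ∀ a ∈ S, ∀ j ∈ S ^ 2, a * j ∈ S ^ 3 ∧ j * a ∈ S ^ 3 := fun a ha j hj =>
    ⟨by rw [pow_succ' S 2]; exact Submodule.mul_mem_mul ha hj,
      by rw [pow_succ S 2]; exact Submodule.mul_mem_mul hj ha⟩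
  have hWc : W ≤ (k ∙ c) ⊔ S ^ 3 := hWS _ fun a ha b hb => by
    obtain ⟨α, β, j, hj, rfl⟩ := hcoord a ha
    obtain ⟨α', β', j', hj', rfl⟩ := hcoord b hb
    have hu : α • x + β • y ∈ S := S.add_mem (S.smul_mem _ hxS) (S.smul_mem _ hyS)
    have hu' : α' • x + β' • y ∈ S := S.add_mem (S.smul_mem _ hxS) (S.smul_mem _ hyS)
    have hmain : (α • x + β • y) * (α' • x + β' • y) - (α' • x + β' • y) * (α • x + β • y) =
        (α * β' - β * α') • c := by
      simp only [hcd, add_mul, mul_add, smul_mul_assoc, mul_smul_comm, smul_smul]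
      module
    have e1 : (α • x + β • y + j) * (α' • x + β' • y + j') - (α' • x + β' • y + j') * (α • x + β • y + j) =
        ((α • x + β • y) * (α' • x + β' • y) - (α' • x + β' • y) * (α • x + β • y)) +
          (((α • x + β • y + j) * j' - j' * (α • x + β • y + j)) +
            (j * (α' • x + β' • y) - (α' • x + β' • y) * j)) := by
      generalize α • x + β • y = P
      generalize α' • x + β' • y = Q
      simp only [add_mul, mul_add]
      abel
    rw [e1, hmain]
    refine Submodule.add_mem _ (Submodule.mem_sup_left (Submodule.smul_mem _ _ (Submodule.mem_span_singleton_self c)))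
      (Submodule.mem_sup_right (Submodule.add_mem _ (Submodule.sub_mem _ ?_ ?_) (Submodule.sub_mem _ ?_ ?_)))
    · exact (hS3r _ (S.add_mem hu (hS2le hj)) j' hj').1
    · exact (hS3r _ (S.add_mem hu (hS2le hj)) j' hj').2
    · exact (hS3r _ hu' j hj).2
    · exact (hS3r _ hu' j hj).1
  have hS2c : S ^ 2 ≤ (k ∙ c) ⊔ S ^ 3 := hW3 ▸ sup_le hWc le_sup_right
  have hstall : ∀ i, 1 ≤ i → S ^ i ≤ S ^ (i + 1) → S ^ i = ⊥ := fun i hi h => by
    have hall : ∀ j, S ^ i ≤ S ^ (i + j) := fun j => by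
      induction j with
      | zero => exact le_rfl
      | succ j ih =>
        calc S ^ i ≤ S ^ (i + 1) := h
          _ = S ^ i * S := pow_succ _ _
          _ ≤ S ^ (i + j) * S := mul_le_mul' ih le_rfl
          _ = S ^ (i + (j + 1)) := (pow_succ _ _).symm
    exact le_bot_iff.mp ((hall (N + 1)).trans ((hantitone (N + 1) _ (by omega) (by omega)).trans hSN.le))
  have hS2ne : S ^ 2 ≠ ⊥ := fun h => h3 (le_bot_iff.mp ((hantitone 2 3 (by norm_num) (by norm_num)).trans h.le))
  have hc3 : c ∉ S ^ 3 := fun h => hS2ne (hstall 2 (by norm_num)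
    (hS2c.trans (sup_le ((Submodule.span_singleton_le_iff_mem _ _).mpr h) le_rfl)))
  have hbex : ∀ a b : B, ∃ β : k, a ∈ S → b ∈ S → a * b - β • c ∈ S ^ 3 := fun a b => by
    by_cases h : a ∈ S ∧ b ∈ S
    · have h1 : a * b ∈ (k ∙ c) ⊔ S ^ 3 := hS2c (by rw [pow_two]; exact hmul a h.1 b h.2)
      obtain ⟨_, hp, r, hr, he⟩ := Submodule.mem_sup.mp h1
      obtain ⟨β, rfl⟩ := Submodule.mem_span_singleton.mp hp
      exact ⟨β, fun _ _ => by rw [← he, add_sub_cancel_left]; exact hr⟩
    · exact ⟨0, fun h1 h2 => absurd ⟨h1, h2⟩ h⟩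
  choose β hβ using hbex
  have hassoc : ∀ a ∈ S, ∀ b ∈ S, ∀ d ∈ S, β a b • (c * d) - β b d • (a * c) ∈ S ^ 4 := by
    intro a ha b hb d hd
    have h1 : (a * b - β a b • c) * d ∈ S ^ 4 := by
      rw [pow_succ S 3]; exact Submodule.mul_mem_mul (hβ a b ha hb) hd
    have h2 : a * (b * d - β b d • c) ∈ S ^ 4 := by
      rw [pow_succ' S 3]; exact Submodule.mul_mem_mul ha (hβ b d hb hd)
    have e : β a b • (c * d) - β b d • (a * c) = a * (b * d - β b d • c) - (a * b - β a b • c) * d := by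
      rw [mul_sub, sub_mul, mul_smul_comm, smul_mul_assoc, mul_assoc]; abel
    rw [e]
    exact Submodule.sub_mem _ h2 h1
  obtain ⟨u, huS, v, hvS, huv⟩ : ∃ u ∈ S, ∃ v ∈ S, β u v ≠ 0 := by
    by_contra! h
    have h1 := hβ x y hxS hyS
    have h2 := hβ y x hyS hxS
    rw [h x hxS y hyS, zero_smul, sub_zero] at h1
    rw [h y hyS x hxS, zero_smul, sub_zero] at h2
    exact hc3 (hcd ▸ Submodule.sub_mem _ h1 h2)
  obtain ⟨E, hEd⟩ : ∃ E, E = (k ∙ (u * c)) ⊔ S ^ 4 := ⟨_, rfl⟩
  have hcd' : ∀ d ∈ S, c * d ∈ E := fun d hd => by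
    have h1 := Submodule.smul_mem _ (β u v)⁻¹ (hassoc u huS v hvS d hd)
    rw [smul_sub, inv_smul_smul₀ huv, smul_smul] at h1
    rw [hEd, Submodule.mem_sup]
    exact ⟨_, Submodule.smul_mem _ _ (Submodule.mem_span_singleton_self _), _, h1, add_sub_cancel _ _⟩
  have hS3E : S ^ 3 ≤ E := by
    rw [pow_succ S 2]
    refine (mul_le_mul' hS2c le_rfl).trans ?_
    rw [Submodule.sup_mul, ← pow_succ]
    refine sup_le (Submodule.mul_le.mpr fun a ha d hd => ?_) (hEd ▸ le_sup_right)
    obtain ⟨r, rfl⟩ := Submodule.mem_span_singleton.mp ha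
    rw [smul_mul_assoc]
    exact Submodule.smul_mem _ _ (hcd' d hd)
  have he4 : u * c ∉ S ^ 4 := fun h => h3 (hstall 3 (by norm_num)
    (hS3E.trans (hEd ▸ sup_le ((Submodule.span_singleton_le_iff_mem _ _).mpr h) le_rfl)))
  have hLex : ∀ z : B, ∃ l : k, z ∈ S ^ 3 → z - l • (u * c) ∈ S ^ 4 := fun z => by
    by_cases hz : z ∈ S ^ 3
    · have h1 := hS3E hz
      rw [hEd, Submodule.mem_sup] at h1
      obtain ⟨_, hp, r, hr, he⟩ := h1
      obtain ⟨l, rfl⟩ := Submodule.mem_span_singleton.mp hp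
      exact ⟨l, fun _ => by rw [← he, add_sub_cancel_left]; exact hr⟩
    · exact ⟨0, fun h => absurd h hz⟩
  choose L hL using hLex
  have hzero : ∀ r : k, r • (u * c) ∈ S ^ 4 → r = 0 := fun r hr => by
    by_contra h
    have h1 := Submodule.smul_mem _ r⁻¹ hr
    rw [inv_smul_smul₀ h] at h1
    exact he4 h1
  have hc2 : c ∈ S ^ 2 := by
    rw [hcd, pow_two]; exact Submodule.sub_mem _ (hmul x hxS y hyS) (hmul y hyS x hxS)
  have hLu : L (u * c) = 1 := by
    have h1 := hL (u * c) (hS3r u huS c hc2).1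
    have h2 := hzero (1 - L (u * c)) (by rwa [sub_smul, one_smul])
    exact (sub_eq_zero.mp h2).symm
  have hrel : ∀ a ∈ S, ∀ b ∈ S, ∀ d ∈ S, β a b * L (c * d) = L (a * c) * β b d := fun a ha b hb d hd => by
    have h1 := hL (c * d) (hS3r d hd c hc2).2
    have h2 := hL (a * c) (hS3r a ha c hc2).1
    refine sub_eq_zero.mp (hzero _ ?_)
    have e : (β a b * L (c * d) - L (a * c) * β b d) • (u * c) =
        (β a b • (c * d) - β b d • (a * c)) - β a b • (c * d - L (c * d) • (u * c)) +
          β b d • (a * c - L (a * c) • (u * c)) := by module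
    rw [e]
    exact Submodule.add_mem _ (Submodule.sub_mem _ (hassoc a ha b hb d hd) (Submodule.smul_mem _ _ h1))
      (Submodule.smul_mem _ _ h2)
  -- the form is symmetric
  have hM : ∀ b ∈ S, ∀ d ∈ S, β b d = β u b * L (c * d) := fun b hb d hd => by
    rw [hrel u huS b hb d hd, hLu, one_mul]
  have hv0 : L (c * v) ≠ 0 := fun h => huv (by rw [hM u huS v hvS, h, mul_zero])
  have hMb : ∀ b ∈ S, β u b = β u u * L (c * b) := fun b hb => hM u huS b hb
  have hsym : β x y = β y x := by
    rw [hM x hxS y hyS, hM y hyS x hxS, hMb x hxS, hMb y hyS]; ring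
  refine hc3 ?_
  rw [hcd, show x * y - y * x = (x * y - β x y • c) - (y * x - β y x • c) by rw [hsym]; abel]
  exact Submodule.sub_mem _ (hβ x y hxS hyS) (hβ y x hyS hxS)

/-- **Külshammer.** -/
theorem finrank_le_sq_mul (τ : B →ₗ[k] k) (hsymm : ∀ a b, τ (a * b) = τ (b * a))
    (hnd : ∀ b, (∀ a, τ (b * a) = 0) → b = 0) {n : ℕ} [NeZero n]
    (π₀ : B →ₐ[k] Matrix (Fin n) (Fin n) k) (hsurj₀ : Function.Surjective π₀)
    (hker₀ : ∀ x, π₀ x = 0 ↔ x ∈ Ring.jacobson B) (Z : Submodule k B)
    (hZ : ∀ c : B, (∀ b, b * c = c * b) → c ∈ Z) (hdim : Module.finrank k Z ≤ 4) :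
    Module.finrank k B ≤ n ^ 2 * Module.finrank k Z := by
  classical
  have hform : ∀ f : B →ₗ[k] k, (∀ a b, f (a * b) = f (b * a)) → ∃ c ∈ Z, ∀ x, f x = τ (c * x) := by
    intro f hf
    let Φ : B →ₗ[k] Module.Dual k B :=
      LinearMap.mk₂ k (fun c x => τ (c * x)) (fun a b x => by simp [add_mul]) (fun r a x => by simp)
        (fun a x y => by simp [mul_add]) (fun r a x => by simp)
    have hinj : Function.Injective Φ := LinearMap.ker_eq_bot.mp (LinearMap.ker_eq_bot'.mpr fun c hc =>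
      hnd c fun a => LinearMap.congr_fun hc a)
    obtain ⟨c, hc⟩ := (LinearMap.injective_iff_surjective_of_finrank_eq_finrank
      Subspace.dual_finrank_eq.symm).mp hinj f
    have hcf : ∀ x, τ (c * x) = f x := LinearMap.congr_fun hc
    refine ⟨c, hZ c fun b => sub_eq_zero.mp (hnd _ fun x => ?_), fun x => (hcf x).symm⟩
    rw [sub_mul, map_sub, sub_eq_zero, mul_assoc c, hcf, mul_assoc, hsymm b, mul_assoc, hcf, hf b x]
  have : IsArtinianRing B := IsArtinianRing.of_finite k B
  obtain ⟨N, hN⟩ := (IsSemiprimaryRing.isNilpotent : IsNilpotent (Ring.jacobson B))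
  have hJnil : ∀ x, π₀ x = 0 → IsNilpotent x := fun x hx => ⟨N, by
    have := Ideal.pow_mem_pow ((hker₀ x).mp hx) N
    rw [hN] at this
    simpa using this⟩
  -- the idempotent and matrix units
  obtain ⟨e, he, hπe⟩ := exists_isIdempotentElem_eq_of_ker_isNilpotent π₀.toRingHom
    (fun x hx => hJnil x hx) (Matrix.single 0 0 (1 : k)) (hsurj₀ _)
    (by simp [IsIdempotentElem, Matrix.single_mul_single_same])
  replace hπe : π₀ e = Matrix.single 0 0 1 := hπe
  choose X hX using fun i : Fin n => hsurj₀ (Matrix.single i 0 1)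
  choose Y hY using fun i : Fin n => hsurj₀ (Matrix.single 0 i 1)
  have hu : IsUnit (∑ i, X i * e * Y i) := by
    have h0 : π₀ (1 - ∑ i, X i * e * Y i) = 0 := by
      simp only [map_sub, map_one, map_sum, map_mul, hX, hY, hπe, Matrix.single_mul_single_same, mul_one]
      rw [sub_eq_zero]
      ext a b
      simp [Matrix.sum_apply, Matrix.single_apply, Matrix.one_apply, Finset.sum_ite_eq', ite_and]
    have := (hJnil _ h0).isUnit_one_sub
    rwa [sub_sub_cancel] at this
  obtain ⟨w, hw⟩ := hu.exists_left_inv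
  let x : Fin n → B := fun i => w * X i * e
  let y : Fin n → B := fun i => e * Y i
  have hxe : ∀ i, x i * e = x i := fun i => by simp only [x, mul_assoc, he.eq]
  have hey : ∀ i, e * y i = y i := fun i => by simp only [y, ← mul_assoc, he.eq]
  have hxy : ∑ i, x i * y i = 1 := by
    rw [← hw, Finset.mul_sum]
    refine Finset.sum_congr rfl fun i _ => ?_
    simp only [x, y, mul_assoc]
    rw [← mul_assoc e e, he.eq]
  have hπw : π₀ w = 1 := by
    have h := congrArg π₀ hw
    rw [map_mul, map_one] at h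
    have h1 : π₀ (∑ i, X i * e * Y i) = 1 := by
      simp only [map_sum, map_mul, hX, hY, hπe, Matrix.single_mul_single_same, mul_one]
      ext a b
      simp [Matrix.sum_apply, Matrix.single_apply, Matrix.one_apply, Finset.sum_ite_eq', ite_and]
    rwa [h1, mul_one] at h
  have hπx : ∀ i, π₀ (x i) = Matrix.single i 0 1 := fun i => by
    simp only [x, map_mul, hπw, hX, hπe, one_mul, Matrix.single_mul_single_same, mul_one]
  have hπy : ∀ i, π₀ (y i) = Matrix.single 0 i 1 := fun i => by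
    simp only [y, map_mul, hY, hπe, Matrix.single_mul_single_same, mul_one]
  -- the corner
  let A : Submodule k B :=
    { carrier := {a | e * a = a ∧ a * e = a}
      add_mem' := fun ha hb => ⟨by rw [mul_add, ha.1, hb.1], by rw [add_mul, ha.2, hb.2]⟩
      zero_mem' := ⟨mul_zero e, zero_mul e⟩
      smul_mem' := fun c a ha => ⟨by rw [mul_smul_comm, ha.1], by rw [smul_mul_assoc, ha.2]⟩ }
  have hA : ∀ a, a ∈ A ↔ e * a = a ∧ a * e = a := fun a => Iff.rfl
  let S : Submodule k B := A ⊓ LinearMap.ker π₀.toLinearMap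
  have hS : ∀ a, a ∈ S ↔ a ∈ A ∧ π₀ a = 0 := fun a => Iff.rfl
  have hmulA : ∀ a ∈ A, ∀ b ∈ A, a * b ∈ A := fun a ha b hb =>
    ⟨by rw [← mul_assoc, ha.1], by rw [mul_assoc, hb.2]⟩
  have heA : e ∈ A := ⟨he.eq, he.eq⟩
  have hSS : S * S ≤ S := Submodule.mul_le.mpr fun a ha b hb =>
    ⟨hmulA a ha.1 b hb.1, by simp [((hS a).mp ha).2]⟩
  have hdec : ∀ a ∈ A, ∃ c : k, a - c • e ∈ S := fun a ha => by
    refine ⟨π₀ a 0 0, A.sub_mem ha (A.smul_mem _ heA), ?_⟩
    show π₀ (a - π₀ a 0 0 • e) = 0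
    have h1 : π₀ a = Matrix.single 0 0 1 * π₀ a * Matrix.single 0 0 1 := by
      rw [← hπe, ← map_mul, ← map_mul, ha.1, ha.2]
    rw [map_sub, map_smul, sub_eq_zero, hπe]
    conv_lhs => rw [h1]
    rw [Matrix.single_mul_mul_single, one_mul, mul_one, Matrix.smul_single, smul_eq_mul, mul_one]
  have hyxA : ∀ i j b, y i * b * x j ∈ A := fun i j b =>
    ⟨by rw [mul_assoc (y i), ← mul_assoc e, hey], by rw [mul_assoc _ (x j), hxe]⟩
  have hext : ∀ g : B →ₗ[k] k, (∀ a ∈ A, ∀ b ∈ A, g (a * b) = g (b * a)) →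
      ∃ c ∈ Z, ∀ a ∈ A, g a = τ (c * a) := by
    intro g hg
    let G : B →ₗ[k] k := ∑ i, g.comp ((LinearMap.mulLeft k (y i)).comp (LinearMap.mulRight k (x i)))
    have hG : ∀ b, G b = ∑ i, g (y i * b * x i) := fun b => by simp [G, mul_assoc]
    have hGt : ∀ b c, G (b * c) = G (c * b) := by
      have key : ∀ b c, G (b * c) = ∑ i, ∑ j, g ((y i * b * x j) * (y j * c * x i)) := fun b c => by
        rw [hG]
        refine Finset.sum_congr rfl fun i _ => ?_
        rw [← map_sum]
        congr 1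
        calc y i * (b * c) * x i = y i * b * (∑ j, x j * y j) * (c * x i) := by
              rw [hxy, mul_one]; simp [mul_assoc]
          _ = _ := by rw [Finset.mul_sum, Finset.sum_mul]; simp [mul_assoc]
      intro b c
      rw [key, key, Finset.sum_comm]
      exact Finset.sum_congr rfl fun i _ => Finset.sum_congr rfl fun j _ =>
        hg _ (hyxA _ _ _) _ (hyxA _ _ _)
    obtain ⟨c, hcZ, h⟩ := hform G hGt
    refine ⟨c, hcZ, fun a ha => ?_⟩
    rw [← h, hG]
    calc g a = g ((e * ∑ i, x i * y i) * e * a) := by rw [hxy, mul_one, he.eq, ha.1]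
      _ = ∑ i, g ((e * x i) * (y i * e * a)) := by
          rw [Finset.mul_sum, Finset.sum_mul, Finset.sum_mul, map_sum]; simp [mul_assoc]
      _ = _ := Finset.sum_congr rfl fun i _ => by
          have h1 : e * x i ∈ A := ⟨by rw [← mul_assoc, he.eq], by rw [mul_assoc, hxe]⟩
          have h2 : y i * e * a ∈ A :=
            ⟨by rw [← mul_assoc, ← mul_assoc, hey], by rw [mul_assoc, ha.2]⟩
          rw [hg _ h1 _ h2]
          congr 1
          rw [← mul_assoc, mul_assoc (y i * e) a e, ha.2, mul_assoc (y i) e a, ha.1]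
  -- the radical of the corner
  have hSpow : ∀ m, S ^ (m + 1) ≤ Submodule.restrictScalars k ((Ring.jacobson B) ^ (m + 1)) := fun m => by
    induction m with
    | zero => intro a ha; rw [pow_one] at ha; simpa [Submodule.pow_one, Ideal.one_eq_top] using (hker₀ a).mp ((hS a).mp ha).2
    | succ m ih =>
      rw [pow_succ, pow_succ]
      exact Submodule.mul_le.mpr fun a ha b hb =>
        Ideal.mul_mem_mul (ih ha) ((hker₀ b).mp ((hS b).mp hb).2)
  have hSN : S ^ (N + 1) = ⊥ := eq_bot_iff.mpr fun a ha => by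
    have := hSpow N ha
    have h2 := Ideal.pow_le_pow_right (Nat.le_succ N) this
    rw [hN] at h2
    simpa using h2
  have hcoord : ∀ b : B, b = ∑ i, ∑ j, x i * (y i * b * x j) * y j := fun b => by
    calc b = (∑ i, x i * y i) * b * ∑ j, x j * y j := by rw [hxy, one_mul, mul_one]
      _ = _ := by simp [Finset.mul_sum, Finset.sum_mul, mul_assoc]; rw [Finset.sum_comm]
  have hBA : Module.finrank k B ≤ n ^ 2 * Module.finrank k A := by
    let Ψ : (Fin n × Fin n → A) →ₗ[k] B :=
      ∑ ij : Fin n × Fin n, ((LinearMap.mulLeft k (x ij.1)).comp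
        ((LinearMap.mulRight k (y ij.2)).comp A.subtype)).comp (LinearMap.proj ij)
    have hΨ : Function.Surjective Ψ := fun b => ⟨fun ij => ⟨y ij.1 * b * x ij.2, hyxA _ _ _⟩, by
      simp only [Ψ, LinearMap.sum_apply, LinearMap.comp_apply, LinearMap.proj_apply, Submodule.subtype_apply,
        LinearMap.mulLeft_apply, LinearMap.mulRight_apply]
      rw [Fintype.sum_prod_type]
      conv_rhs => rw [hcoord b]
      exact Finset.sum_congr rfl fun i _ => Finset.sum_congr rfl fun j _ => by simp [mul_assoc]⟩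
    refine (LinearMap.finrank_le_finrank_of_surjective hΨ).trans ?_
    rw [Module.finrank_pi_fintype, Finset.sum_const, Finset.card_univ, Fintype.card_prod, Fintype.card_fin,
      smul_eq_mul, sq]
  refine hBA.trans (Nat.mul_le_mul_left _ ?_)
  -- the commutators
  let W : Submodule k B := Submodule.span k {w | ∃ a ∈ A, ∃ b ∈ A, a * b - b * a = w}
  have hτW : ∀ w ∈ W, τ w = 0 := fun w hw => by
    induction hw using Submodule.span_induction with
    | zero => simp
    | add a b _ _ ha hb => rw [map_add, ha, hb, add_zero]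
    | smul c a _ ha => rw [map_smul, ha, smul_zero]
    | mem w hw => obtain ⟨a, -, b, -, rfl⟩ := hw; rw [map_sub, hsymm, sub_self]
  have hcod : Module.finrank k A ≤ Module.finrank k W + Module.finrank k Z := by
    let L : A →ₗ[k] Module.Dual k Z := (LinearMap.mk₂ k (fun (a : A) (c : Z) => τ (c * a))
      (fun a b c => by simp [mul_add]) (fun r a c => by simp)
      (fun a c d => by simp [add_mul]) (fun r a c => by simp))
    have h1 := LinearMap.finrank_range_add_finrank_ker L
    have h2 : Module.finrank k (LinearMap.range L) ≤ Module.finrank k Z :=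
      (Submodule.finrank_le _).trans Subspace.dual_finrank_eq.le
    have h3 : (LinearMap.ker L).map A.subtype ≤ W := by
      rintro _ ⟨⟨a, ha⟩, hker, rfl⟩
      by_contra haW
      obtain ⟨g, hga, hgW⟩ := Submodule.exists_dual_map_eq_bot_of_notMem haW inferInstance
      obtain ⟨c, hcZ, hgc⟩ := hext g fun u hu v hv => sub_eq_zero.mp (by
        rw [← map_sub]
        have : g (u * v - v * u) ∈ W.map g :=
          Submodule.mem_map_of_mem (Submodule.subset_span ⟨u, hu, v, hv, rfl⟩)
        rw [hgW] at this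
        exact (Submodule.mem_bot k).mp this)
      apply hga
      rw [Submodule.subtype_apply, hgc a ha]
      exact LinearMap.congr_fun (LinearMap.mem_ker.mp hker) ⟨c, hcZ⟩
    have h4 := Submodule.finrank_mono h3
    rw [Submodule.finrank_map_subtype_eq] at h4
    omega
  suffices hcomm : ∀ s ∈ S, ∀ t ∈ S, s * t = t * s by
    have hW : W = ⊥ := by
      rw [eq_bot_iff, Submodule.span_le]
      rintro _ ⟨a, ha, b, hb, rfl⟩
      obtain ⟨c, hc⟩ := hdec a ha
      obtain ⟨c', hc'⟩ := hdec b hb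
      have h := hcomm _ hc _ hc'
      simp only [sub_mul, mul_sub, smul_mul_assoc, mul_smul_comm, smul_smul, ha.1, ha.2, hb.1, hb.2,
        he.eq] at h
      show a * b - b * a ∈ (⊥ : Submodule k B)
      rw [Submodule.mem_bot, sub_eq_zero, ← sub_eq_zero]
      linear_combination (norm := module) sub_eq_zero.mpr h
    rw [hW, finrank_bot, zero_add] at hcod
    exact hcod
  refine comm_radical τ hnd he.eq hsymm A S W heA inf_le_left hA hdec (fun h => ?_) hSS hSN
    (fun a ha b hb => Submodule.subset_span ⟨a, ha, b, hb, rfl⟩) le_rfl hτW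
    (hcod.trans (Nat.add_le_add_left hdim _))
  have h0 := ((hS e).mp h).2
  rw [hπe] at h0
  simpa using congrFun (congrFun h0 0) 0

end CfsgLib.Blocks.SymAlgFour
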